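import Cfsg.Prelude.Def_PLocal
import Cfsg.Agent.Components.CharP
import Cfsg.Agent.Transfer.IndexPrimeTo
import Cfsg.Agent.PGroups.Basic

/-!
Kieler's lemma: centralizers of `Ω₁(Z(T))` in subnormal subgroups of groups of characteristic `p`.
-/

set_option linter.style.haveILetI false
set_option linter.unusedSectionVars false

namespace Cfsg.Lib.Kieler

open Subgroup Cfsg.Lib.Components

universe u

variable {G : Type u} [Group G] [Finite G] {p : ℕ} [hp : Fact p.Prime]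

/-- the elements of order dividing `p` of `Z(X)` -/
def Zp (p : ℕ) (X : Subgroup G) : Set G := {x | x ∈ X ⊓ centralizer (X : Set G) ∧ x ^ p = 1}

/-- the transfer of `w` from `S` to `D` in the abelian normal subgroup `A` -/
theorem exists_trace (A : Subgroup G) [hA : A.Normal] (hAc : ∀ a ∈ A, ∀ b ∈ A, a * b = b * a)
    (hAp : ∀ a ∈ A, a ^ p = 1) (S D : Subgroup G) (hidx : ¬ p ∣ S.relIndex D) :
    ∃ tr : G → G, (∀ a ∈ A, tr a ∈ A) ∧ (∀ a ∈ A, ∀ b ∈ A, tr (a * b) = tr a * tr b) ∧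
      (∀ a ∈ A, (∀ d ∈ D, d * a * d⁻¹ = a) → tr a = a) ∧
      (∀ a ∈ A, (∀ s ∈ S, s * a * s⁻¹ = a) → ∀ d ∈ D, d * tr a * d⁻¹ = tr a) ∧
      (∀ a ∈ A, (∀ s ∈ S, s * a * s⁻¹ = a) → ∀ (N : Subgroup G), N ≤ A →
        (∀ d ∈ D, d * a * d⁻¹ * a⁻¹ ∈ N) → tr a * a⁻¹ ∈ N) ∧
      (∀ t : G, (∀ x, x ∈ D ↔ t * x * t⁻¹ ∈ D) → (∀ x, x ∈ S ↔ t * x * t⁻¹ ∈ S) →
        ∀ a ∈ A, (∀ s ∈ S, s * a * s⁻¹ = a) → t * tr a * t⁻¹ = tr (t * a * t⁻¹)) := by
  classical
  letI : CommGroup A := { (inferInstance : Group A) with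
    mul_comm := fun a b => Subtype.ext (hAc a a.2 b b.2) }
  set S' := S.subgroupOf D
  haveI : Fintype (D ⧸ S') := Fintype.ofFinite _
  set k := Fintype.card (D ⧸ S') with hk
  obtain ⟨e, he⟩ : ∃ e, ∀ a ∈ A, (a ^ k) ^ e = a := by
    have hkp : k.Coprime p := by
      rw [hk, ← Nat.card_eq_fintype_card, ← Subgroup.index_eq_card]
      exact (hp.out.coprime_iff_not_dvd.2 hidx).symm
    obtain ⟨e, -, he⟩ := Nat.exists_mul_mod_eq_one_of_coprime hkp hp.out.one_lt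
    refine ⟨e, fun a ha => ?_⟩
    rw [← pow_mul, pow_eq_pow_mod _ (hAp a ha), he, pow_one]
  let cj : G → A → A := fun x a => ⟨x * a * x⁻¹, hA.conj_mem _ a.2 x⟩
  let T0 : A → A := fun a => (∏ q : D ⧸ S', cj (q.out : D) a) ^ e
  have hcm : ∀ x (a b : A), cj x (a * b) = cj x a * cj x b := fun x a b =>
    Subtype.ext (show x * ((a : G) * b) * x⁻¹ = x * a * x⁻¹ * (x * b * x⁻¹) by group)
  have hout : ∀ (a : A), (∀ s ∈ S, s * (a : G) * s⁻¹ = a) → ∀ d : D, cj ((d : D ⧸ S').out : D) a = cj (d : D) a := by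
    intro a ha d
    have h : d⁻¹ * (d : D ⧸ S').out ∈ S' := QuotientGroup.eq.1 (QuotientGroup.out_eq' (d : D ⧸ S')).symm
    have h1 := ha _ h
    refine Subtype.ext (?_ : ((d : D ⧸ S').out : G) * a * ((d : D ⧸ S').out : G)⁻¹ = (d : G) * a * (d : G)⁻¹)
    change (d : G)⁻¹ * ((d : D ⧸ S').out : G) * a * ((d : G)⁻¹ * ((d : D ⧸ S').out : G))⁻¹ = a at h1
    calc ((d : D ⧸ S').out : G) * a * ((d : D ⧸ S').out : G)⁻¹
        = (d : G) * (((d : G)⁻¹ * ((d : D ⧸ S').out : G)) * a * ((d : G)⁻¹ * ((d : D ⧸ S').out : G))⁻¹) * (d : G)⁻¹ := by group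
      _ = (d : G) * a * (d : G)⁻¹ := by rw [h1]
  refine ⟨fun a => if h : a ∈ A then (T0 ⟨a, h⟩ : G) else 1, fun a ha => ?_, fun a ha b hb => ?_, fun a ha hfix => ?_,
    fun a ha hS d hd => ?_, fun a ha hS N hN hmod => ?_, fun t htD htS a ha hS => ?_⟩
  · simp only [dif_pos ha]; exact SetLike.coe_mem _
  · simp only [dif_pos ha, dif_pos hb, dif_pos (mul_mem ha hb)]
    rw [← Subgroup.coe_mul]
    refine congrArg Subtype.val ?_
    show T0 (⟨a, ha⟩ * ⟨b, hb⟩) = _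
    simp only [T0, hcm, Finset.prod_mul_distrib, mul_pow]
  · simp only [dif_pos ha]
    have : ∀ q : D ⧸ S', cj (q.out : D) ⟨a, ha⟩ = ⟨a, ha⟩ := fun q => Subtype.ext (hfix _ (q.out : D).2)
    simp only [T0, this, Finset.prod_const, Finset.card_univ, SubgroupClass.coe_pow]
    exact he a ha
  · simp only [dif_pos ha]
    have : cj d (T0 ⟨a, ha⟩) = T0 ⟨a, ha⟩ := by
      let φ : A →* A := MonoidHom.mk' (cj d) (hcm d)
      show φ (T0 ⟨a, ha⟩) = T0 ⟨a, ha⟩
      simp only [T0, map_pow, map_prod]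
      congr 1
      refine Fintype.prod_equiv (MulAction.toPerm (⟨d, hd⟩ : D)) _ _ fun q => ?_
      induction q using QuotientGroup.induction_on with
      | H g =>
        show cj d (cj ((g : D ⧸ S').out : D) ⟨a, ha⟩) = cj (((⟨d, hd⟩ * g : D) : D ⧸ S').out : D) ⟨a, ha⟩
        rw [hout _ hS, hout _ hS]
        exact Subtype.ext (show d * ((g : G) * a * (g : G)⁻¹) * d⁻¹ = d * (g : G) * a * (d * (g : G))⁻¹ by group)
    exact congrArg Subtype.val this
  · simp only [dif_pos ha]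
    let π := QuotientGroup.mk' (N.subgroupOf A)
    have h1 : π (T0 ⟨a, ha⟩) = π ⟨a, ha⟩ := by
      have : ∀ q : D ⧸ S', π (cj (q.out : D) ⟨a, ha⟩) = π ⟨a, ha⟩ := fun q => by
        rw [← mul_inv_eq_one, ← map_inv, ← map_mul]
        exact (QuotientGroup.eq_one_iff _).2 (hmod _ (q.out : D).2)
      simp only [T0, map_pow, map_prod, this, Finset.prod_const, Finset.card_univ]
      rw [← map_pow, ← map_pow]
      exact congrArg π (Subtype.ext (by simpa using he a ha))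
    have h2 : π (T0 ⟨a, ha⟩ * (⟨a, ha⟩ : A)⁻¹) = 1 := by rw [map_mul, map_inv, h1, mul_inv_cancel]
    exact ((QuotientGroup.eq_one_iff _).1 h2 :)
  · simp only [dif_pos ha, dif_pos (hA.conj_mem a ha t)]
    have hS' : ∀ s ∈ S, s * (t * a * t⁻¹) * s⁻¹ = t * a * t⁻¹ := fun s hs => by
      have h1 : t⁻¹ * s * t ∈ S := (htS _).2 (by simpa [mul_assoc] using hs)
      have h2 := hS _ h1
      calc s * (t * a * t⁻¹) * s⁻¹ = t * ((t⁻¹ * s * t) * a * (t⁻¹ * s * t)⁻¹) * t⁻¹ := by group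
        _ = t * a * t⁻¹ := by rw [h2]
    let ε : D → D := fun d => ⟨t * d * t⁻¹, (htD _).1 d.2⟩
    let σ : D ⧸ S' → D ⧸ S' := fun q => (ε q.out : D ⧸ S')
    have hσ : Function.Bijective σ := by
      refine Finite.injective_iff_bijective.1 fun q q' h => ?_
      rw [← QuotientGroup.out_eq' q, ← QuotientGroup.out_eq' q', QuotientGroup.eq]
      have h1 : (ε q.out)⁻¹ * ε q'.out ∈ S' := QuotientGroup.eq.1 h
      refine (htS _).2 ?_
      have h2 : ((ε q.out : D) : G)⁻¹ * (ε q'.out : D) ∈ S := h1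
      change t * ((q.out : G)⁻¹ * (q'.out : G)) * t⁻¹ ∈ S
      rw [show t * ((q.out : G)⁻¹ * (q'.out : G)) * t⁻¹ = (t * (q.out : G) * t⁻¹)⁻¹ * (t * (q'.out : G) * t⁻¹) by group]
      exact h2
    let φ : A →* A := MonoidHom.mk' (cj t) (hcm t)
    have : φ (T0 ⟨a, ha⟩) = T0 ⟨t * a * t⁻¹, hA.conj_mem a ha t⟩ := by
      simp only [T0, map_pow, map_prod]
      congr 1
      refine Fintype.prod_bijective σ hσ _ _ fun q => ?_
      show cj t (cj (q.out : D) ⟨a, ha⟩) = cj (((ε q.out : D) : D ⧸ S').out : D) ⟨t * a * t⁻¹, _⟩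
      rw [hout ⟨t * a * t⁻¹, _⟩ hS']
      exact Subtype.ext (show t * ((q.out : G) * a * (q.out : G)⁻¹) * t⁻¹
        = t * (q.out : G) * t⁻¹ * (t * a * t⁻¹) * (t * (q.out : G) * t⁻¹)⁻¹ by group)
    exact congrArg Subtype.val this

theorem centralizer_Zp_normal (hc : CharPGroup p G) (T : Sylow p G) (L : Subgroup G) [hL : L.Normal] (l : G)
    (hl : l ∈ L) :
    (∀ z ∈ Zp p (T : Subgroup G), z * l = l * z) ↔ ∀ z ∈ Zp p ((T : Subgroup G) ⊓ L), z * l = l * z := by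
  set P := pCore p G with hP
  haveI : P.Normal := pCore_normal' p
  have hPT : P ≤ (T : Subgroup G) := by
    obtain ⟨Q, hQ⟩ := (isPGroup_pCore (G := G) p).exists_le_sylow
    obtain ⟨g, rfl⟩ := MulAction.exists_smul_eq G Q T
    intro x hx
    exact ⟨g⁻¹ * x * g, hQ (by simpa using (inferInstance : P.Normal).conj_mem x hx g⁻¹), by simp [MulAut.conj_apply, mul_assoc]⟩
  set S := (T : Subgroup G) ⊓ L with hS
  have hidx : ∀ D : Subgroup G, S ≤ D → D ≤ L → ¬ p ∣ S.relIndex D := by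
    intro D hSD hDL hd
    have h1 : ¬ p ∣ (T : Subgroup G).relIndex L := by
      rw [Cfsg.Lib.Transfer.relIndex_eq_relIndex_sup_of_normal _ L]
      exact fun hd => T.not_dvd_index (hd.trans (Dvd.intro _ (relIndex_mul_index le_sup_left)))
    apply h1
    rw [← inf_relIndex_right, ← relIndex_mul_relIndex _ _ _ hSD hDL]
    exact hd.mul_right _
  -- the two abelian normal subgroups
  have mk : ∀ X : Subgroup G, X.Normal → ∃ A : Subgroup G, A.Normal ∧ (∀ a, a ∈ A ↔ a ∈ Zp p X) ∧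
      (∀ a ∈ A, ∀ b ∈ A, a * b = b * a) := by
    intro X hX
    have hcm : ∀ a ∈ Zp p X, ∀ b ∈ Zp p X, a * b = b * a := fun a ha b hb =>
      mem_centralizer_iff.1 (mem_inf.1 hb.1).2 a (mem_inf.1 ha.1).1
    let A : Subgroup G :=
      { carrier := Zp p X
        one_mem' := ⟨one_mem _, one_pow p⟩
        mul_mem' := fun {a b} ha hb => ⟨mul_mem ha.1 hb.1,
          by rw [Commute.mul_pow (hcm a ha b hb), ha.2, hb.2, one_mul]⟩
        inv_mem' := fun {a} ha => ⟨inv_mem ha.1, by rw [inv_pow, ha.2, inv_one]⟩ }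
    refine ⟨A, ⟨fun a ha g => ⟨mem_inf.mpr ⟨hX.conj_mem a (mem_inf.1 ha.1).1 g,
      (inferInstance : (centralizer (X : Set G)).Normal).conj_mem a (mem_inf.1 ha.1).2 g⟩,
        by rw [conj_pow, ha.2]; group⟩⟩, fun a => Iff.rfl, hcm⟩
  have hcP : centralizer (P : Set G) ≤ P := hc
  constructor
  · -- `Z_L` is centralized by `C_L(Z)`
    intro hz
    set D := L ⊓ centralizer (Zp p (T : Subgroup G)) with hD
    have hSD : S ≤ D := le_inf inf_le_right fun s hs => mem_centralizer_iff.2 fun z hz =>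
      (mem_centralizer_iff.1 (mem_inf.1 hz.1).2 s (mem_inf.1 hs).1).symm
    obtain ⟨A, hAn, hA, hAc⟩ := mk (P ⊓ L) inferInstance
    haveI := hAn
    have hAp : ∀ a ∈ A, a ^ p = 1 := fun a ha => ((hA a).1 ha).2
    have hcL : CharPGroup p L := charP_subnormal hc hL.isSubnormal
    have hZA : ∀ w ∈ Zp p S, w ∈ A := by
      intro w hw
      obtain ⟨h1, h2⟩ := mem_inf.1 hw.1
      have hPS : P ⊓ L ≤ S := inf_le_inf_right L hPT
      have hmap : (pCore p L).map L.subtype ≤ P ⊓ L := by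
        refine le_inf ?_ (map_subtype_le _)
        haveI : ((pCore p L).map L.subtype).Normal := by
          haveI := pCore_characteristic (G := L) (p := p)
          infer_instance
        exact le_pCore ((isPGroup_pCore p).map _)
      have hwP : w ∈ P ⊓ L := by
        refine hmap ⟨⟨w, (mem_inf.1 h1).2⟩, hcL (mem_centralizer_iff.2 fun x hx => ?_), rfl⟩
        exact Subtype.ext (mem_centralizer_iff.1 h2 x (hPS (hmap ⟨x, hx, rfl⟩)))
      exact (hA w).2 ⟨mem_inf.mpr ⟨hwP, centralizer_le (SetLike.coe_subset_coe.mpr hPS) h2⟩, hw.2⟩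
    obtain ⟨tr, htA, htm, htfix, htD, -, hteq⟩ := exists_trace A hAc hAp S D (hidx D hSD inf_le_left)
    have hfixS : ∀ w ∈ Zp p S, ∀ s ∈ S, s * w * s⁻¹ = w := fun w hw s hs => by
      rw [mem_centralizer_iff.1 (mem_inf.1 hw.1).2 s hs, mul_inv_cancel_right]
    have hTS : ∀ t ∈ (T : Subgroup G), ∀ x, x ∈ S ↔ t * x * t⁻¹ ∈ S := fun t ht x => by
      have hT : t ∈ normalizer ((T : Subgroup G) : Set G) := le_normalizer ht
      have hL' : t ∈ normalizer (L : Set G) := (normalizer_eq_top_iff.2 hL).ge (mem_top t)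
      simp only [hS, mem_inf]
      exact and_congr (mem_normalizer_iff.1 hT x) (mem_normalizer_iff.1 hL' x)
    have hconjZ : ∀ t ∈ (T : Subgroup G), ∀ z ∈ Zp p (T : Subgroup G), t * z * t⁻¹ = z := fun t ht z hz => by
      rw [mem_centralizer_iff.1 (mem_inf.1 hz.1).2 t ht, mul_inv_cancel_right]
    have hTD : ∀ t ∈ (T : Subgroup G), ∀ x, x ∈ D ↔ t * x * t⁻¹ ∈ D := by
      suffices h : ∀ t ∈ (T : Subgroup G), ∀ x ∈ D, t * x * t⁻¹ ∈ D by
        intro t ht x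
        refine ⟨h t ht x, fun hx => ?_⟩
        simpa [mul_assoc] using h t⁻¹ ((T : Subgroup G).inv_mem ht) _ hx
      intro t ht x hx
      refine mem_inf.mpr ⟨hL.conj_mem _ (mem_inf.1 hx).1 t, mem_centralizer_iff.2 fun z hz => ?_⟩
      have h1 := mem_centralizer_iff.1 (mem_inf.1 hx).2 z hz
      calc z * (t * x * t⁻¹) = (t * z * t⁻¹) * (t * x * t⁻¹) := by rw [hconjZ t ht z hz]
        _ = t * (z * x) * t⁻¹ := by group
        _ = t * x * t⁻¹ * (t * z * t⁻¹) := by rw [h1]; group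
        _ = t * x * t⁻¹ * z := by rw [hconjZ t ht z hz]
    let K0 : Subgroup G :=
      { carrier := {w | w ∈ A ∧ (∀ s ∈ S, s * w * s⁻¹ = w) ∧ tr w = 1}
        one_mem' := ⟨one_mem _, fun s _ => by group, htfix 1 (one_mem _) fun d _ => by group⟩
        mul_mem' := fun {a b} ha hb => ⟨mul_mem ha.1 hb.1, fun s hs => by
          calc s * (a * b) * s⁻¹ = (s * a * s⁻¹) * (s * b * s⁻¹) := by group
            _ = a * b := by rw [ha.2.1 s hs, hb.2.1 s hs], by rw [htm a ha.1 b hb.1, ha.2.2, hb.2.2, one_mul]⟩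
        inv_mem' := fun {a} ha => ⟨inv_mem ha.1, fun s hs => by
          calc s * a⁻¹ * s⁻¹ = (s * a * s⁻¹)⁻¹ := by group
            _ = a⁻¹ := by rw [ha.2.1 s hs], by
          have h := htm a ha.1 a⁻¹ (inv_mem ha.1)
          rw [mul_inv_cancel, htfix 1 (one_mem _) (fun d _ => by group), ha.2.2, one_mul] at h
          exact h.symm⟩ }
    have hAT : A ≤ (T : Subgroup G) := fun a ha => hPT (mem_inf.1 (mem_inf.1 ((hA a).1 ha).1).1).1
    have hK0 : K0 = ⊥ := by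
      by_contra hne
      haveI : (K0.subgroupOf (T : Subgroup G)).Normal := ⟨fun a ha t => by
        have ha1 : (a : G) ∈ A := ha.1
        have ha2 : ∀ s ∈ S, s * (a : G) * s⁻¹ = a := ha.2.1
        have ha3 : tr (a : G) = 1 := ha.2.2
        refine ⟨hAn.conj_mem _ ha1 _, fun s hs => ?_, ?_⟩
        · have h1 : (t : G)⁻¹ * s * t ∈ S := (hTS t t.2 _).2 (by simpa [mul_assoc] using hs)
          have h2 := ha2 _ h1
          calc s * ((t : G) * a * (t : G)⁻¹) * s⁻¹ = t * (((t : G)⁻¹ * s * t) * a * ((t : G)⁻¹ * s * t)⁻¹) * (t : G)⁻¹ := by group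
            _ = t * a * (t : G)⁻¹ := by rw [h2]
        · show tr ((t : G) * a * (t : G)⁻¹) = 1
          rw [← hteq t (hTD t t.2) (hTS t t.2) _ ha1 ha2, ha3]
          group⟩
      have hne' : K0.subgroupOf (T : Subgroup G) ≠ ⊥ := fun h =>
        hne (eq_bot_iff.2 fun a ha => mem_bot.2 (congrArg Subtype.val
          (mem_bot.1 (h.le (show (⟨a, hAT ha.1⟩ : (T : Subgroup G)) ∈ K0.subgroupOf _ from ha)))))
      obtain ⟨w, hwK, hwc, hwo⟩ := Cfsg.Lib.PGroups.exists_mem_center_of_normal_ne_bot T.2 hne'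
      have hwK' : (w : G) ∈ K0 := hwK
      have hwZ : (w : G) ∈ Zp p (T : Subgroup G) := ⟨mem_inf.mpr ⟨w.2, mem_centralizer_iff.2 fun y hy =>
        congrArg Subtype.val (mem_center_iff.1 hwc ⟨y, hy⟩)⟩, hAp _ hwK'.1⟩
      have h1 : tr w = (w : G) := htfix _ hwK'.1 fun d hd => by
        rw [← mem_centralizer_iff.1 (mem_inf.1 hd).2 w hwZ, mul_inv_cancel_right]
      rw [hwK'.2.2] at h1
      rw [← Subgroup.orderOf_coe, ← h1, orderOf_one] at hwo
      exact hp.out.one_lt.ne hwo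
    intro w hw
    have hwA := hZA w hw
    have hπ : tr w ∈ A := htA w hwA
    have hπD := htD w hwA (hfixS w hw)
    have hw' : w * (tr w)⁻¹ ∈ K0 := by
      refine ⟨mul_mem hwA (inv_mem hπ), fun s hs => ?_, ?_⟩
      · calc s * (w * (tr w)⁻¹) * s⁻¹ = (s * w * s⁻¹) * (s * tr w * s⁻¹)⁻¹ := by group
          _ = w * (tr w)⁻¹ := by rw [hfixS w hw s hs, hπD s (hSD hs)]
      · rw [htm w hwA _ (inv_mem hπ), htfix (tr w)⁻¹ (inv_mem hπ) fun d hd => ?_, mul_inv_cancel]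
        calc d * (tr w)⁻¹ * d⁻¹ = (d * tr w * d⁻¹)⁻¹ := by group
          _ = (tr w)⁻¹ := by rw [hπD d hd]
    rw [hK0, mem_bot, mul_inv_eq_one] at hw'
    have hlD : l ∈ D := mem_inf.mpr ⟨hl, mem_centralizer_iff.2 hz⟩
    have := hπD l hlD
    rw [← hw'] at this
    exact (mul_inv_eq_iff_eq_mul.1 this).symm
  · -- `Z` is centralized by `C_L(Z_L)`
    intro hz z hzZ
    set C := L ⊓ centralizer (Zp p S) with hC
    have hSC : S ≤ C := le_inf inf_le_right fun s hs => mem_centralizer_iff.2 fun w hw =>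
      (mem_centralizer_iff.1 (mem_inf.1 hw.1).2 s hs).symm
    obtain ⟨A, hAn, hA, hAc⟩ := mk P inferInstance
    haveI := hAn
    have hAp : ∀ a ∈ A, a ^ p = 1 := fun a ha => ((hA a).1 ha).2
    obtain ⟨h1, h2⟩ := mem_inf.1 hzZ.1
    have hzc : z ∈ centralizer (P : Set G) := centralizer_le (SetLike.coe_subset_coe.mpr hPT) h2
    have hzA : z ∈ A := (hA z).2 ⟨mem_inf.mpr ⟨hcP hzc, hzc⟩, hzZ.2⟩
    have hzS : ∀ s ∈ S, s * z * s⁻¹ = z := fun s hs => by
      rw [mem_centralizer_iff.1 h2 s (mem_inf.1 hs).1, mul_inv_cancel_right]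
    obtain ⟨tr, htA, -, -, htD, htmod, -⟩ := exists_trace A hAc hAp S C (hidx C hSC inf_le_left)
    have hn : tr z * z⁻¹ ∈ A ⊓ L := htmod z hzA hzS _ inf_le_left fun d hd => by
      refine mem_inf.mpr ⟨mul_mem (hAn.conj_mem _ hzA d) (inv_mem hzA), ?_⟩
      rw [show d * z * d⁻¹ * z⁻¹ = d * (z * d⁻¹ * z⁻¹) by group]
      exact mul_mem (mem_inf.1 hd).1 (hL.conj_mem _ (inv_mem (mem_inf.1 hd).1) z)
    have hnZ : tr z * z⁻¹ ∈ Zp p S := by
      refine ⟨mem_inf.mpr ⟨mem_inf.mpr ⟨hPT (mem_inf.1 ((hA _).1 (mem_inf.1 hn).1).1).1, (mem_inf.1 hn).2⟩,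
        mem_centralizer_iff.2 fun s hs => mul_inv_eq_iff_eq_mul.1 ?_⟩, hAp _ (mem_inf.1 hn).1⟩
      calc s * (tr z * z⁻¹) * s⁻¹ = (s * tr z * s⁻¹) * (s * z * s⁻¹)⁻¹ := by group
        _ = tr z * z⁻¹ := by rw [htD z hzA hzS s (hSC hs), hzS s hs]
    have h3 := mul_inv_eq_iff_eq_mul.2 (hz _ hnZ).symm
    have h4 := htD z hzA hzS l (mem_inf.mpr ⟨hl, mem_centralizer_iff.2 hz⟩)
    refine (mul_inv_eq_iff_eq_mul.1 (?_ : l * z * l⁻¹ = z)).symm
    calc l * z * l⁻¹ = (l * (tr z * z⁻¹) * l⁻¹)⁻¹ * (l * tr z * l⁻¹) := by group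
      _ = z := by rw [h3, h4]; group

theorem centralizer_omega_iff (X : Subgroup G) (l : G) :
    l ∈ centralizer (Cfsg.omegaOne p (X ⊓ centralizer (X : Set G)) : Set G) ↔ ∀ z ∈ Zp p X, z * l = l * z := by
  rw [Cfsg.omegaOne, centralizer_closure, mem_centralizer_iff]
  exact Iff.rfl

theorem exists_sylow_of_subnormal (T : Sylow p G) {L : Subgroup G} (hL : L.IsSubnormal) :
    ∃ TL : Sylow p L, (TL : Subgroup L) = (T : Subgroup G).subgroupOf L := by
  suffices h : ¬ p ∣ (T : Subgroup G).relIndex L by exact ⟨(T.2.comap_of_injective L.subtype L.subtype_injective).toSylow h, rfl⟩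
  induction hL with
  | top => rw [relIndex_top_right]; exact T.not_dvd_index
  | step H K hle hK hN ih =>
    haveI := hN
    rw [← relIndex_subgroupOf hle, Cfsg.Lib.Transfer.relIndex_eq_relIndex_sup_of_normal _ _]
    exact fun hd => ih (hd.trans (Dvd.intro _ (relIndex_mul_index le_sup_left)))

theorem kieler (hc : CharPGroup p G) (T : Sylow p G) {L : Subgroup G} (hL : L.IsSubnormal) :
    ∀ l ∈ L, ((∀ z ∈ Zp p (T : Subgroup G), z * l = l * z) ↔ ∀ z ∈ Zp p ((T : Subgroup G) ⊓ L), z * l = l * z) := by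
  induction hL with
  | top => intro l _; rw [inf_top_eq]
  | step H K hle hK hN ih =>
    intro l hl
    rw [ih l (hle hl)]
    haveI := hN
    obtain ⟨TK, hTK⟩ := exists_sylow_of_subnormal T hK
    have e := centralizer_Zp_normal (charP_subnormal hc hK) TK (H.subgroupOf K) ⟨l, hle hl⟩ hl
    have tr : ∀ (X : Subgroup K), (∀ z ∈ Zp p X, z * (⟨l, hle hl⟩ : K) = ⟨l, hle hl⟩ * z) ↔
        ∀ z ∈ Zp p (X.map K.subtype), z * l = l * z := by
      intro X
      constructor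
      · rintro h z ⟨hz, hzp⟩
        obtain ⟨⟨y, hy, rfl⟩, hzc⟩ := mem_inf.1 hz
        exact congrArg Subtype.val (h y ⟨mem_inf.mpr ⟨hy, mem_centralizer_iff.2 fun x hx =>
          Subtype.ext (mem_centralizer_iff.1 hzc x ⟨x, hx, rfl⟩)⟩, Subtype.ext hzp⟩)
      · rintro h z ⟨hz, hzp⟩
        refine Subtype.ext (h z ⟨mem_inf.mpr ⟨⟨z, (mem_inf.1 hz).1, rfl⟩, mem_centralizer_iff.2 ?_⟩,
          congrArg Subtype.val hzp⟩)
        rintro _ ⟨x, hx, rfl⟩
        exact congrArg Subtype.val (mem_centralizer_iff.1 (mem_inf.1 hz).2 x hx)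
    have e1 : (TK : Subgroup K).map K.subtype = (T : Subgroup G) ⊓ K := by
      rw [hTK, subgroupOf_map_subtype]
    have e2 : ((TK : Subgroup K) ⊓ H.subgroupOf K).map K.subtype = (T : Subgroup G) ⊓ H := by
      rw [map_inf _ _ _ K.subtype_injective, e1, map_subgroupOf_eq_of_le hle, inf_assoc, inf_eq_right.2 hle]
    rwa [tr, tr, e1, e2] at e

end Cfsg.Lib.Kieler
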