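import Cfsg.Agent.Components.Embedded.Basic
import Cfsg.Agent.Components.Structure
import Cfsg.Agent.Components.Local
import Cfsg.Agent.Components.PComponents
import Cfsg.Agent.Components.Misc.Kieler
import Cfsg.Agent.SolvStruct.AlperinClassical
import Cfsg.Agent.Coprime.Basic

/-!
Groups with a strongly `p`-embedded subgroup have simple generalized Fitting subgroup modulo `O_{p'}`.
-/

set_option linter.style.haveILetI false
set_option linter.unusedSectionVars false

namespace Cfsg.Lib.Misc.EmbeddedSimple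

open Subgroup Cfsg.Lib.Components Cfsg.Lib.Embedded
open scoped commutatorElement

universe u

variable {G : Type u} [Group G] [Finite G] {p : ℕ} [Fact p.Prime]

theorem embedded_image (H : Subgroup G) (hH : Cfsg.IsStronglyPEmbedded p H)
    (hproper : H ⊔ Cfsg.pPrimeCore p G ≠ ⊤) :
    Cfsg.IsStronglyPEmbedded p (H.map (QuotientGroup.mk' (Cfsg.pPrimeCore p G))) := by
  set N := Cfsg.pPrimeCore p G
  set π := QuotientGroup.mk' N
  have hπs : Function.Surjective π := QuotientGroup.mk'_surjective N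
  obtain ⟨hp, hne, P, hP⟩ := hH
  obtain ⟨hPH, hN⟩ := normCond_of_core P hp hP
  refine ⟨?_, fun h => hproper ?_, P.mapSurjective hπs, ?_⟩
  · have h1 := N.card_mul_index
    rw [Subgroup.index_eq_card] at h1
    refine ((Fact.out : p.Prime).dvd_mul.1 (h1 ▸ hp)).resolve_left fun hd => ?_
    exact ((Fact.out : p.Prime).coprime_iff_not_dvd.1 (coprime_card_pPrimeCore p).symm) hd
  · rw [← QuotientGroup.ker_mk' N, ← comap_map_eq, h, comap_top]
  rw [core_le_iff]
  intro Qb hQP hQne x hx
  obtain ⟨g, rfl⟩ := hπs x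
  set W := Qb.comap π with hW
  set Q := (P : Subgroup G) ⊓ W
  have hQmap : Q.map π = Qb := by
    refine le_antisymm (map_le_iff_le_comap.2 inf_le_right) fun y hy => ?_
    obtain ⟨s, hs, rfl⟩ := hQP hy
    exact mem_map_of_mem π ⟨hs, hy⟩
  have hWsup : W = Q ⊔ N := by
    rw [hW, ← hQmap, comap_map_eq, QuotientGroup.ker_mk']
  have hQp : IsPGroup p Q := P.2.to_le inf_le_left
  have hQne' : Q ≠ ⊥ := fun h => hQne (by rw [← hQmap, h, Subgroup.map_bot])
  have hrel : ¬ p ∣ Q.relIndex W := by
    rw [hWsup, sup_comm]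
    intro hd
    have hdvd : Q.relIndex (N ⊔ Q) ∣ Nat.card N := by
      have h1 := Cfsg.Lib.Components.card_sup_dvd_mul N Q
      have h2 : Q.relIndex (N ⊔ Q) * Nat.card Q = Nat.card ↥(N ⊔ Q) := by
        rw [← relIndex_bot_left, ← relIndex_bot_left, mul_comm]
        exact relIndex_mul_relIndex ⊥ Q (N ⊔ Q) bot_le le_sup_right
      exact Nat.dvd_of_mul_dvd_mul_right Nat.card_pos (h2 ▸ h1)
    exact ((Fact.out : p.Prime).coprime_iff_not_dvd.1 (coprime_card_pPrimeCore p).symm) (hd.trans hdvd)
  have hconjW : ∀ q ∈ Q, g * q * g⁻¹ ∈ W := by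
    intro q hq
    show π (g * q * g⁻¹) ∈ Qb
    rw [map_mul, map_mul, map_inv]
    exact (mem_normalizer_iff.1 hx (π q)).1 (hQmap ▸ mem_map_of_mem π hq)
  set L := Q.map (MulAut.conj g).toMonoidHom
  have hLW : L ≤ W := by
    rintro _ ⟨q, hq, rfl⟩
    exact hconjW q hq
  obtain ⟨c, hc, hcQ⟩ := Cfsg.Lib.SolvStruct.Alperin.exists_conj_le (inf_le_right : Q ≤ W) hQp hrel hLW (hQp.map _)
  have hg' : c⁻¹ * g ∈ normalizer (Q : Set G) := by
    have hmaps : ∀ q ∈ Q, c⁻¹ * g * q * (c⁻¹ * g)⁻¹ ∈ Q := fun q hq => by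
      have h1 : c⁻¹ * (g * q * g⁻¹) * c ∈ Q := hcQ ⟨_, mem_map_of_mem _ hq, rfl⟩
      simpa [mul_assoc] using h1
    refine mem_normalizer_iff.2 fun y => ⟨hmaps y, fun hy => ?_⟩
    let f : Q → Q := fun q => ⟨_, hmaps q q.2⟩
    have hf : Function.Injective f := fun a b h =>
      Subtype.ext (mul_left_cancel (mul_right_cancel (congrArg Subtype.val h)))
    obtain ⟨z, hz⟩ := Finite.surjective_of_injective hf ⟨_, hy⟩
    have : (z : G) = y := mul_left_cancel (mul_right_cancel (congrArg Subtype.val hz))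
    exact this ▸ z.2
  have h2 : g ∈ H ⊔ N := by
    have hcHN : c ∈ H ⊔ N := by
      rw [hWsup] at hc
      exact (sup_le_sup_right (inf_le_left.trans hPH) N) hc
    have h3 : c⁻¹ * g ∈ H := hN Q (inf_le_left.trans hPH) hQp hQne' hg'
    simpa using mul_mem hcHN (mem_sup_left h3 : c⁻¹ * g ∈ H ⊔ N)
  have h4 := mem_map_of_mem π h2
  rwa [Subgroup.map_sup, QuotientGroup.map_mk'_self, sup_bot_eq] at h4

theorem genFitting_simple (hO : Cfsg.pPrimeCore p G = ⊥) (M : Subgroup G)
    (hM : Cfsg.IsStronglyPEmbedded p M) :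
    IsSimpleGroup ↥(Cfsg.generalizedFittingSubgroup G) ∧
      ¬ IsMulCommutative ↥(Cfsg.generalizedFittingSubgroup G) := by
  obtain ⟨hp, hne, P, hP⟩ := hM
  obtain ⟨hPM, hN⟩ := normCond_of_core P hp hP
  have hcore : Cfsg.pCore p G = ⊥ := by
    by_contra hb
    haveI : (Cfsg.pCore p G).Normal := inferInstance
    have hle : Cfsg.pCore p G ≤ (P : Subgroup G) := by
      have hs := IsPGroup.to_sup_of_normal_left (isPGroup_pCore (G := G) p) P.2
      exact (le_sup_left : _ ≤ Cfsg.pCore p G ⊔ (P : Subgroup G)).trans (P.3 hs le_sup_right).le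
    refine hne (top_le_iff.1 ?_)
    rw [← normalizer_eq_top (Cfsg.pCore p G)]
    exact hN _ (hle.trans hPM) (isPGroup_pCore p) hb
  have hF : Cfsg.generalizedFittingSubgroup G = Cfsg.layer G := by
    rw [Cfsg.generalizedFittingSubgroup, fitting_eq_pCore hO, hcore, sup_bot_eq]
  have hsyl : ∀ L : Subgroup G, IsComponent L →
      (P : Subgroup G) ⊓ L ≠ ⊥ := by
    intro L hL hb
    obtain ⟨TL, hTL⟩ := Cfsg.Lib.Kieler.exists_sylow_of_subnormal P hL.1
    have h1 : p ∣ Nat.card (TL : Subgroup L) := TL.dvd_card_of_dvd_card (comp_dvd_card hO hL)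
    rw [hTL, show (P : Subgroup G).subgroupOf L = ⊥ by rwa [subgroupOf_eq_bot, disjoint_iff],
      Subgroup.card_bot] at h1
    exact (Fact.out : p.Prime).ne_one (Nat.dvd_one.1 h1)
  have hnle : ¬ Cfsg.layer G ≤ M := by
    intro hle
    by_cases hl : Cfsg.layer G = ⊥
    · have hc := centralizer_genFitting_le (G := G)
      rw [hF, hl] at hc
      have : Subsingleton G := ⟨fun a b => by
        have ha := hc (show a ∈ centralizer ((⊥ : Subgroup G) : Set G) from mem_centralizer_iff.2 (by simp))
        have hb := hc (show b ∈ centralizer ((⊥ : Subgroup G) : Set G) from mem_centralizer_iff.2 (by simp))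
        rw [mem_bot] at ha hb
        rw [ha, hb]⟩
      rw [Nat.card_unique, Nat.dvd_one] at hp
      exact (Fact.out : p.Prime).ne_one hp
    · obtain ⟨S⟩ : Nonempty (Sylow p (Cfsg.layer G)) := inferInstance
      have hLp : p ∣ Nat.card (Cfsg.layer G) := by
        obtain ⟨L, hL⟩ : ∃ L, IsComponent (G := G) L := by
          by_contra hc
          push Not at hc
          exact hl (sSup_eq_bot.2 fun L hL => absurd hL (hc L))
        exact (comp_dvd_card hO hL).trans (card_dvd_of_le (comp_le_layer hL))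
      set T := (S : Subgroup (Cfsg.layer G)).map (Cfsg.layer G).subtype with hT
      have hTne : T ≠ ⊥ := by
        refine ne_bot_of_dvd (p := p) ?_
        rw [hT, card_map_of_injective (Cfsg.layer G).subtype_injective]
        exact S.dvd_card_of_dvd_card hLp
      have h := Sylow.normalizer_sup_eq_top S
      refine hne (top_le_iff.1 (h.ge.trans (sup_le ?_ hle)))
      exact hN T ((map_subtype_le _).trans hle) (S.2.map _) hTne
  obtain ⟨L, hL, hLM⟩ : ∃ L, IsComponent L ∧ ¬ L ≤ M := by
    by_contra hc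
    push Not at hc
    exact hnle (sSup_le fun L hL => hc L hL)
  have huniq : ∀ K : Subgroup G, IsComponent K → K = L := by
    intro K hK
    by_contra hne'
    refine hLM ?_
    have hc : L ≤ centralizer (((P : Subgroup G) ⊓ K : Subgroup G) : Set G) :=
      (commutator_eq_bot_iff_le_centralizer.1 (comp_commute hL hK (fun h => hne' h.symm))).trans
        (centralizer_le (SetLike.coe_subset_coe.mpr inf_le_right))
    exact (hc.trans (centralizer_le_normalizer _)).trans
      (hN _ (inf_le_left.trans hPM) (P.2.to_le inf_le_left) (hsyl K hK))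
  have hlayer : Cfsg.layer G = L := le_antisymm (sSup_le fun K hK => (huniq K hK).le) (comp_le_layer hL)
  have hZ : Subgroup.center L = ⊥ := by
    apply Subgroup.map_injective L.subtype_injective
    rw [center_map_eq, Subgroup.map_bot, ← hlayer, ← le_bot_iff, ← hcore]
    exact le_pCore (center_layer_isPGroup hO)
  have hsimple : IsSimpleGroup L := by
    have hs := hL.2.2
    haveI := hs
    haveI : Nontrivial L := qs_nontrivial hL.2
    let e := ((QuotientGroup.quotientMulEquivOfEq hZ).trans QuotientGroup.quotientBot)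
    exact IsSimpleGroup.isSimpleGroup_of_surjective e.toMonoidHom e.surjective
  rw [hF, hlayer]
  exact ⟨hsimple, comp_not_isMulCommutative hL⟩

end Cfsg.Lib.Misc.EmbeddedSimple
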