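import Mathlib
import Cfsg.Prelude.Def_CaseTheorems
import Cfsg.Prelude.Def_EvenType

/-!
The commuting graph of four-subgroups and the `2`-generated core.
-/

set_option linter.style.haveILetI false
set_option linter.unusedSectionVars false

namespace Cfsg.Lib.Misc.FourConnected

open Subgroup

universe u

variable {G : Type u} [Group G]

/-- commuting four-subgroups -/
def Adj (A B : Subgroup G) : Prop :=
  IsKleinFour A ∧ IsKleinFour B ∧ ∀ a ∈ A, ∀ b ∈ B, a * b = b * a

theorem sq_of_klein {A : Subgroup G} [IsKleinFour A] {a : G} (ha : a ∈ A) : a * a = 1 :=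
  congrArg Subtype.val (IsKleinFour.mul_self (⟨a, ha⟩ : A))

theorem comm_of_klein {A : Subgroup G} [IsKleinFour A] : ∀ a ∈ A, ∀ b ∈ A, a * b = b * a := by
  intro a ha b hb
  have h := inv_eq_of_mul_eq_one_right (sq_of_klein (mul_mem ha hb))
  rw [mul_inv_rev, inv_eq_of_mul_eq_one_right (sq_of_klein ha), inv_eq_of_mul_eq_one_right (sq_of_klein hb)] at h
  exact h.symm

theorem exists_klein {a b : G} (ha : a * a = 1) (hb : b * b = 1) (ha1 : a ≠ 1) (hb1 : b ≠ 1)
    (hab : a ≠ b) (hc : a * b = b * a) :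
    ∃ V : Subgroup G, IsKleinFour V ∧ a ∈ V ∧ b ∈ V ∧ ∀ (H : Subgroup G), a ∈ H → b ∈ H → V ≤ H := by
  classical
  let V : Subgroup G :=
    { carrier := {1, a, b, a * b}
      one_mem' := Or.inl rfl
      mul_mem' := by
        have e1 : a * (a * b) = b := by rw [← mul_assoc, ha, one_mul]
        have e2 : b * (a * b) = a := by rw [hc, ← mul_assoc, hb, one_mul]
        have e3 : a * b * a = b := by rw [hc, mul_assoc, ha, mul_one]
        have e4 : a * b * b = a := by rw [mul_assoc, hb, mul_one]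
        have e5 : a * b * (a * b) = 1 := by rw [mul_assoc, e2, ha]
        intro x y hx hy
        simp only [Set.mem_insert_iff, Set.mem_singleton_iff] at hx hy ⊢
        rcases hx with hx | hx | hx | hx <;> rcases hy with hy | hy | hy | hy <;> rw [hx, hy] <;>
          simp only [one_mul, mul_one, ha, hb, e1, e2, e3, e4, e5, ← hc, true_or, or_true]
      inv_mem' := by
        have hai : a⁻¹ = a := inv_eq_of_mul_eq_one_right ha
        have hbi : b⁻¹ = b := inv_eq_of_mul_eq_one_right hb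
        intro x hx
        simp only [Set.mem_insert_iff, Set.mem_singleton_iff] at hx ⊢
        rcases hx with hx | hx | hx | hx <;> rw [hx] <;>
          simp only [inv_one, hai, hbi, mul_inv_rev, ← hc, true_or, or_true] }
  have hv1 : a * b ≠ 1 := fun h => hab (mul_right_cancel (h.trans hb.symm))
  have hva : a * b ≠ a := fun h => hb1 (mul_eq_left.mp h)
  have hvb : a * b ≠ b := fun h => ha1 (mul_eq_right.mp h)
  have h4 : Nat.card V = 4 := by
    show Nat.card ({1, a, b, a * b} : Set G) = 4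
    rw [Nat.card_coe_set_eq, Set.ncard_insert_of_notMem (by simp [ha1.symm, hb1.symm, hv1.symm]),
      Set.ncard_insert_of_notMem (by simp [hab, hva.symm]), Set.ncard_pair hvb.symm]
  have hsq : ∀ x : V, x ^ 2 = 1 := by
    rintro ⟨x, hx⟩
    refine Subtype.ext ?_
    show x ^ 2 = 1
    rw [pow_two]
    rcases hx with rfl | rfl | rfl | rfl
    · exact one_mul 1
    · exact ha
    · exact hb
    · rw [mul_assoc, hc, ← mul_assoc b, hb, one_mul, ha]
  haveI : Nontrivial V := ⟨⟨⟨a, Or.inr (Or.inl rfl)⟩, 1, fun h => ha1 (congrArg Subtype.val h)⟩⟩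
  refine ⟨V, ⟨h4, (Nat.prime_two.eq_one_or_self_of_dvd _ (Monoid.exponent_dvd_of_forall_pow_eq_one hsq)).resolve_left
    fun h => not_subsingleton V (Monoid.exp_eq_one_iff.mp h)⟩, Or.inr (Or.inl rfl), Or.inr (Or.inr (Or.inl rfl)), ?_⟩
  intro H haH hbH x hx
  rcases hx with rfl | rfl | rfl | rfl
  · exact one_mem H
  · exact haH
  · exact hbH
  · exact mul_mem haH hbH

theorem adj_refl {A : Subgroup G} (hA : IsKleinFour A) : Adj A A :=
  haveI := hA; ⟨hA, hA, comm_of_klein⟩

theorem adj_symm {A B : Subgroup G} (h : Adj A B) : Adj B A :=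
  ⟨h.2.1, h.1, fun b hb a ha => (h.2.2 a ha b hb).symm⟩

theorem chain_symm {A B : Subgroup G} (h : Relation.ReflTransGen Adj A B) :
    Relation.ReflTransGen Adj B A := by
  induction h with
  | refl => exact Relation.ReflTransGen.refl
  | tail _ h ih => exact Relation.ReflTransGen.head (adj_symm h) ih

theorem klein_map {H : Type*} [Group H] {f : G →* H} (hf : Function.Injective f) {A : Subgroup G}
    (hA : IsKleinFour A) : IsKleinFour (A.map f) :=
  haveI := hA
  ⟨by rw [card_map_of_injective hf]; exact IsKleinFour.card_four,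
    (Monoid.exponent_eq_of_mulEquiv (A.equivMapOfInjective f hf)).symm.trans IsKleinFour.exponent_two⟩

theorem klein_conj (g : G) {A : Subgroup G} (hA : IsKleinFour A) :
    IsKleinFour (A.map (MulAut.conj g).toMonoidHom) :=
  klein_map (f := (MulAut.conj g).toMonoidHom) (MulAut.conj g).injective hA

theorem chain_map {H : Type u} [Group H] {f : G →* H} (hf : Function.Injective f) {A B : Subgroup G}
    (h : Relation.ReflTransGen Adj A B) : Relation.ReflTransGen Adj (A.map f) (B.map f) := by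
  induction h with
  | refl => exact Relation.ReflTransGen.refl
  | tail _ h ih =>
  refine ih.tail ?_
  obtain ⟨hX, hY, hc⟩ := h
  refine ⟨klein_map hf hX, klein_map hf hY, ?_⟩
  rintro _ ⟨x, hx, rfl⟩ _ ⟨y, hy, rfl⟩
  rw [← map_mul, ← map_mul, hc x hx y hy]

variable [Finite G]

theorem exists_klein_of_card {H : Subgroup G} (hsq : ∀ x ∈ H, x * x = 1) (hcomm : ∀ x ∈ H, ∀ y ∈ H, x * y = y * x)
    (h : 2 < Nat.card H) : ∃ V : Subgroup G, IsKleinFour V ∧ V ≤ H := by
  classical
  haveI := Fintype.ofFinite H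
  rw [Nat.card_eq_fintype_card] at h
  obtain ⟨a, ha⟩ := Fintype.exists_ne_of_one_lt_card (by omega) (1 : H)
  obtain ⟨b, hb⟩ := Finset.exists_mem_notMem_of_card_lt_card (s := ({1, a} : Finset H)) (t := Finset.univ)
    (lt_of_le_of_lt Finset.card_le_two (by rwa [Finset.card_univ]))
  simp only [Finset.mem_univ, Finset.mem_insert, Finset.mem_singleton, true_and, not_or] at hb
  obtain ⟨V, hV, -, -, hle⟩ := exists_klein (hsq a a.2) (hsq b b.2) (fun h => ha (Subtype.ext h))
    (fun h => hb.1 (Subtype.ext h)) (fun h => hb.2 (Subtype.ext h).symm) (hcomm a a.2 b b.2)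
  exact ⟨V, hV, hle H a.2 b.2⟩

theorem not_prankLE_iff (Q : Subgroup G) :
    ¬ Cfsg.PRankLE 2 1 Q ↔ ∃ V : Subgroup G, IsKleinFour V ∧ V ≤ Q := by
  constructor
  · intro h
    rw [Cfsg.PRankLE] at h
    push Not at h
    obtain ⟨A, hA, hA2, hcard⟩ := h
    rw [pow_one, ← card_map_of_injective (K := A) Q.subtype_injective] at hcard
    obtain ⟨V, hV, hVA⟩ := exists_klein_of_card (H := A.map Q.subtype)
      (by rintro _ ⟨x, hx, rfl⟩; rw [← map_mul, ← pow_two, hA2 x hx, map_one])
      (by rintro _ ⟨x, hx, rfl⟩ _ ⟨y, hy, rfl⟩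
          rw [← map_mul, ← map_mul, show x * y = y * x from congrArg Subtype.val (mul_comm' (⟨x, hx⟩ : A) ⟨y, hy⟩)])
      hcard
    exact ⟨V, hV, hVA.trans (map_subtype_le _)⟩
  · rintro ⟨V, hV, hVQ⟩ hle
    haveI := hV
    have h := hle (V.subgroupOf Q) ⟨⟨fun x y => Subtype.ext (Subtype.ext (comm_of_klein (A := V) _ (mem_subgroupOf.mp x.2) _ (mem_subgroupOf.mp y.2)))⟩⟩
      fun x hx => Subtype.ext (by rw [SubgroupClass.coe_pow, pow_two]; exact sq_of_klein hx)
    rw [Nat.card_congr (subgroupOfEquivOfLe hVQ).toEquiv, IsKleinFour.card_four] at h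
    norm_num at h

theorem connected_of_normal (hP : IsPGroup 2 G) (E : Subgroup G) [E.Normal] (hE : IsMulCommutative E)
    (hE2 : ∀ e ∈ E, e ^ 2 = 1) (hE8 : 8 ≤ Nat.card E) : Cfsg.IsFourConnected G := by
  have hsq : ∀ e ∈ E, e * e = 1 := fun e he => by rw [← pow_two, hE2 e he]
  have hcomm : ∀ x ∈ E, ∀ y ∈ E, x * y = y * x := fun x hx y hy =>
    congrArg Subtype.val (mul_comm' (⟨x, hx⟩ : E) ⟨y, hy⟩)
  obtain ⟨z, hzE, hzc, hz1⟩ : ∃ z ∈ E, z ∈ center G ∧ z ≠ 1 := by
    have hconj : IsPGroup 2 (ConjAct G) := hP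
    have hfix : (1 : E) ∈ MulAction.fixedPoints (ConjAct G) E := fun g => smul_one g
    obtain ⟨k, hk⟩ := IsPGroup.iff_card.mp (hP.to_subgroup E)
    obtain ⟨z, hz, hz1⟩ := hconj.exists_fixed_point_of_prime_dvd_card_of_fixed_point E
      (by rw [hk]; refine dvd_pow_self 2 fun h0 => ?_; rw [hk, h0] at hE8; norm_num at hE8) hfix
    refine ⟨z, z.2, mem_center_iff.mpr fun g => ?_, fun h => hz1 (Subtype.ext h).symm⟩
    have h := congrArg Subtype.val (hz (ConjAct.toConjAct g))
    exact mul_inv_eq_iff_eq_mul.mp h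
  have hzz : ∀ g : G, g * z = z * g := mem_center_iff.mp hzc
  have key : ∀ U : Subgroup G, IsKleinFour U →
      ∃ W : Subgroup G, IsKleinFour W ∧ W ≤ E ∧ Relation.ReflTransGen Adj U W := by
    intro U hU
    haveI := hU
    obtain ⟨u, hu, hu1, huz⟩ : ∃ u ∈ U, u ≠ 1 ∧ u ≠ z := by
      by_contra h
      push Not at h
      have hsub : (U : Set G) ⊆ {1, z} := fun x hx => by
        by_cases hx1 : x = 1
        · exact Or.inl hx1
        · exact Or.inr (h x hx hx1)
      have h4 : Nat.card U = 4 := IsKleinFour.card_four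
      have := Set.ncard_le_ncard hsub (by simp)
      rw [← Nat.card_coe_set_eq, SetLike.coe_sort_coe, h4, Set.ncard_pair (Ne.symm hz1)] at this
      omega
    have huu := sq_of_klein hu
    have hui : u⁻¹ = u := inv_eq_of_mul_eq_one_right huu
    obtain ⟨P, hP', huP, hzP, hPle⟩ := exists_klein huu (hsq z hzE) hu1 hz1 huz (hzz u)
    have hUP : Adj U P := ⟨hU, hP', fun a ha b hb => by
      refine (mem_centralizer_singleton_iff.mp (hPle (centralizer ({a} : Set G)) ?_ ?_ hb)).symm
      · exact mem_centralizer_singleton_iff.mpr (comm_of_klein u hu a ha)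
      · exact mem_centralizer_singleton_iff.mpr (hzz a).symm⟩
    let T : E →* E := MonoidHom.mk'
      (fun e => ⟨(e : G) * (u * e * u⁻¹), mul_mem e.2 ((inferInstance : E.Normal).conj_mem e e.2 u)⟩)
      fun a b => Subtype.ext (by
        show (a : G) * b * (u * ((a : G) * b) * u⁻¹) = (a : G) * (u * a * u⁻¹) * ((b : G) * (u * b * u⁻¹))
        rw [show u * ((a : G) * b) * u⁻¹ = (u * a * u⁻¹) * (u * b * u⁻¹) by group, mul_assoc, ← mul_assoc (b : G),
          hcomm b b.2 _ ((inferInstance : E.Normal).conj_mem a a.2 u), mul_assoc (u * (a : G) * u⁻¹), ← mul_assoc])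
    have hker : ∀ e : E, e ∈ T.ker → u * (e : G) * u⁻¹ = e := fun e he => by
      have h : (e : G) * (u * e * u⁻¹) = 1 := congrArg Subtype.val he
      rw [mul_eq_one_iff_inv_eq, inv_eq_of_mul_eq_one_right (hsq e e.2)] at h
      exact h.symm
    have hrange : T.range ≤ T.ker := by
      rintro _ ⟨e, rfl⟩
      refine Subtype.ext ?_
      have h1 := (inferInstance : E.Normal).conj_mem (e : G) e.2 u
      show (e : G) * (u * e * u⁻¹) * (u * ((e : G) * (u * e * u⁻¹)) * u⁻¹) = 1
      rw [show u * ((e : G) * (u * e * u⁻¹)) * u⁻¹ = (u * e * u⁻¹) * (u * u * (e : G) * (u * u)⁻¹) by group, huu,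
        one_mul, inv_one, mul_one, hcomm _ h1 _ e.2, hsq _ (mul_mem e.2 h1)]
    have hbig : 2 < Nat.card T.ker := by
      have h1 := T.ker.card_mul_index
      rw [index_ker] at h1
      have h2 := card_le_of_le hrange
      by_contra h
      push Not at h
      have := Nat.mul_le_mul h (h2.trans h)
      omega
    obtain ⟨W, hW, hWle⟩ := exists_klein_of_card (H := T.ker.map E.subtype)
      (fun x hx => hsq x (map_subtype_le _ hx))
      (fun x hx y hy => hcomm x (map_subtype_le _ hx) y (map_subtype_le _ hy))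
      (by rwa [card_map_of_injective E.subtype_injective])
    refine ⟨W, hW, hWle.trans (map_subtype_le _), (Relation.ReflTransGen.single hUP).tail ⟨hP', hW, fun a ha b hb => ?_⟩⟩
    refine (mem_centralizer_singleton_iff.mp (hPle (centralizer ({b} : Set G)) ?_ ?_ ha)).symm.symm
    · obtain ⟨e, he, rfl⟩ := hWle hb
      exact mem_centralizer_singleton_iff.mpr (mul_inv_eq_iff_eq_mul.mp (hker e he))
    · exact mem_centralizer_singleton_iff.mpr (hzz b).symm
  intro U V hU hV
  obtain ⟨W, hW, hWE, h1⟩ := key U hU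
  obtain ⟨W', hW', hWE', h2⟩ := key V hV
  exact (h1.tail ⟨hW, hW', fun a ha b hb => hcomm a (hWE ha) b (hWE' hb)⟩).trans (chain_symm h2)

open scoped Pointwise in
theorem connected_iff_core (h2 : ¬ Cfsg.PRankLE 2 1 G) (S : Sylow 2 G)
    (hS : Cfsg.IsFourConnected (S : Subgroup G)) :
    ¬ Cfsg.IsFourConnected G ↔
      (⨆ Q : {Q : Subgroup G // Q ≤ (S : Subgroup G) ∧ ¬ Cfsg.PRankLE 2 1 Q},
          normalizer ((Q : Subgroup G) : Set G)) ≠ ⊤ := by
  rw [not_iff_not]
  set Γ := ⨆ Q : {Q : Subgroup G // Q ≤ (S : Subgroup G) ∧ ¬ Cfsg.PRankLE 2 1 Q},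
          normalizer ((Q : Subgroup G) : Set G) with hΓdef
  have hΓ : ∀ Q : Subgroup G, Q ≤ (S : Subgroup G) → (∃ V : Subgroup G, IsKleinFour V ∧ V ≤ Q) →
      normalizer (Q : Set G) ≤ Γ := fun Q hQ hV =>
    le_iSup (fun Q : {Q : Subgroup G // Q ≤ (S : Subgroup G) ∧ ¬ Cfsg.PRankLE 2 1 Q} =>
      normalizer ((Q : Subgroup G) : Set G)) ⟨Q, hQ, (not_prankLE_iff Q).mpr hV⟩
  -- every four-subgroup has a conjugate in `S`
  have hconjS : ∀ V : Subgroup G, IsKleinFour V →
      ∃ g : G, V ≤ ((g • S : Sylow 2 G) : Subgroup G) := by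
    intro V hV
    haveI := hV
    have hp : IsPGroup 2 V := IsPGroup.of_card (n := 2) (IsKleinFour.card_four)
    obtain ⟨R, hR⟩ := hp.exists_le_sylow
    obtain ⟨g, rfl⟩ := MulAction.exists_smul_eq G S R
    exact ⟨g, hR⟩
  have hsmul : ∀ (g : G) (R : Sylow 2 G),
      ((g • R : Sylow 2 G) : Subgroup G) = (R : Subgroup G).map (MulAut.conj g).toMonoidHom := fun _ _ => rfl
  obtain ⟨U₀, hU₀, hU₀S⟩ : ∃ V : Subgroup G, IsKleinFour V ∧ V ≤ (S : Subgroup G) := by
    rw [Cfsg.PRankLE] at h2
    push Not at h2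
    obtain ⟨A, hA, hA2, hcard⟩ := h2
    obtain ⟨V, hV, -⟩ := exists_klein_of_card (H := A) (fun x hx => by rw [← pow_two, hA2 x hx])
      (fun x hx y hy => congrArg Subtype.val (mul_comm' (⟨x, hx⟩ : A) ⟨y, hy⟩)) (by rwa [pow_one] at hcard)
    obtain ⟨g, hg⟩ := hconjS V hV
    refine ⟨V.map (MulAut.conj g⁻¹).toMonoidHom, klein_conj g⁻¹ hV, ?_⟩
    rintro _ ⟨x, hx, rfl⟩
    obtain ⟨y, hy, hyx⟩ := hg hx
    rw [← hyx]
    exact Set.mem_of_eq_of_mem (by simp [mul_assoc]) hy
  have hinS : ∀ V W : Subgroup G, IsKleinFour V → IsKleinFour W → V ≤ (S : Subgroup G) → W ≤ (S : Subgroup G) →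
      Relation.ReflTransGen Adj V W := by
    intro V W hV hW hVS hWS
    haveI := hV
    haveI := hW
    have h1 : ∀ X : Subgroup G, IsKleinFour X → X ≤ (S : Subgroup G) → IsKleinFour (X.subgroupOf (S : Subgroup G)) :=
      fun X hX h => haveI := hX
        ⟨by rw [Nat.card_congr (subgroupOfEquivOfLe h).toEquiv]; exact IsKleinFour.card_four,
          (Monoid.exponent_eq_of_mulEquiv (subgroupOfEquivOfLe h)).trans IsKleinFour.exponent_two⟩
    have h := chain_map (S : Subgroup G).subtype_injective (hS _ _ (h1 V hV hVS) (h1 W hW hWS))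
    rwa [map_subgroupOf_eq_of_le hVS, map_subgroupOf_eq_of_le hWS] at h
  have hconj : ∀ (g : G) {V W : Subgroup G}, Relation.ReflTransGen Adj V W →
      Relation.ReflTransGen Adj (V.map (MulAut.conj g).toMonoidHom) (W.map (MulAut.conj g).toMonoidHom) :=
    fun g _ _ h => chain_map (f := (MulAut.conj g).toMonoidHom) (MulAut.conj g).injective h
  have hmapmap : ∀ (g h : G) (V : Subgroup G), (V.map (MulAut.conj h).toMonoidHom).map (MulAut.conj g).toMonoidHom =
      V.map (MulAut.conj (g * h)).toMonoidHom := fun g h V => by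
    rw [map_map]; congr 1; ext x; simp [mul_assoc]
  constructor
  · -- connected implies that the core is everything
    intro hG
    let P : Sylow 2 G → Prop := fun R => ∃ γ ∈ Γ, R = γ • S
    have hP : ∀ (γ : G), γ ∈ Γ → ∀ R : Sylow 2 G, P R → P (γ • R) := by
      rintro γ hγ R ⟨δ, hδ, rfl⟩
      exact ⟨γ * δ, mul_mem hγ hδ, (mul_smul γ δ S).symm⟩
    have hmain : ∀ (m : ℕ) (R : Sylow 2 G), Nat.card (S : Subgroup G) - Nat.card ↥((R : Subgroup G) ⊓ S) = m →
        (∃ V : Subgroup G, IsKleinFour V ∧ V ≤ (R : Subgroup G) ⊓ S) → P R := by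
      intro m
      induction m using Nat.strong_induction_on with
      | _ m ih =>
      intro R hm hVex
      set D := (R : Subgroup G) ⊓ S with hD
      by_cases hDS : D = S
      · refine ⟨1, one_mem _, ?_⟩
        rw [one_smul]
        exact (Sylow.ext (S.is_maximal' R.2 (hDS ▸ inf_le_left))).trans rfl
      have grow : ∀ T : Sylow 2 G, D ≤ (T : Subgroup G) → D ≠ T → D < normalizer (D : Set G) ⊓ T := by
        intro T hDT hne
        refine lt_of_le_of_ne (le_inf le_normalizer hDT) fun e => ?_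
        haveI : Group.IsNilpotent (T : Subgroup G) := T.2.isNilpotent
        have hlt : D.subgroupOf (T : Subgroup G) < ⊤ :=
          lt_top_iff_ne_top.2 fun h => hne (le_antisymm hDT (subgroupOf_eq_top.1 h))
        obtain ⟨x, hxN, hxD⟩ := SetLike.exists_of_lt (Group.normalizerCondition_of_isNilpotent _ hlt)
        refine hxD (mem_subgroupOf.mpr (e.symm ▸ mem_inf.mpr ⟨mem_normalizer_iff.mpr fun y => ⟨fun hy => ?_, fun hy => ?_⟩, x.2⟩))
        · exact (mem_normalizer_iff.1 hxN ⟨y, hDT hy⟩).1 hy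
        · have hyT : y ∈ (T : Subgroup G) := by
            have := mul_mem (mul_mem (inv_mem x.2) (hDT hy)) x.2
            simpa [mul_assoc] using this
          exact (mem_normalizer_iff.1 hxN ⟨y, hyT⟩).2 hy
      have hN : normalizer (D : Set G) ≤ Γ := hΓ D inf_le_right hVex
      set N := normalizer (D : Set G)
      have hp1 : IsPGroup 2 (((S : Subgroup G) ⊓ N).subgroupOf N) := (S.2.to_le inf_le_left).comap_subtype
      obtain ⟨P1, hP1⟩ := hp1.exists_le_sylow
      have hp2 : IsPGroup 2 (((R : Subgroup G) ⊓ N).subgroupOf N) := (R.2.to_le inf_le_left).comap_subtype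
      obtain ⟨P2, hP2⟩ := hp2.exists_le_sylow
      obtain ⟨x, hx⟩ := MulAction.exists_smul_eq N P2 P1
      obtain ⟨R1, hR1⟩ := (P1.2.map N.subtype).exists_le_sylow
      have hDR : D ≠ R := fun e => hDS (inf_le_right.antisymm (by
        have h := S.is_maximal' (Q := (S : Subgroup G)) S.2 le_rfl
        exact (R.is_maximal' S.2 (e ▸ inf_le_right)).le.trans e.ge))
      have hgS := grow S inf_le_right hDS
      have hgR := grow R inf_le_left hDR
      obtain ⟨V, hV, hVD⟩ := hVex
      have hlow : Nat.card D < Nat.card (S : Subgroup G) :=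
        lt_of_le_of_ne (card_le_of_le inf_le_right) fun e => hDS (eq_of_le_of_card_ge inf_le_right e.ge)
      have hR1le : normalizer (D : Set G) ⊓ S ≤ (R1 : Subgroup G) ⊓ S := by
        refine le_inf (fun y hy => ?_) inf_le_right
        exact hR1 ⟨⟨y, (mem_inf.1 hy).1⟩, hP1 (mem_subgroupOf.mpr ⟨(mem_inf.1 hy).2, (mem_inf.1 hy).1⟩), rfl⟩
      have hcard1 : Nat.card D < Nat.card ↥((R1 : Subgroup G) ⊓ S) :=
        lt_of_lt_of_le (Set.Finite.card_lt_card (Set.toFinite _) hgS) (card_le_of_le hR1le)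
      have hPR1 : P R1 := ih _ (by omega) R1 rfl ⟨V, hV, hVD.trans (hgS.le.trans hR1le)⟩
      obtain ⟨γ, hγ, hR1e⟩ := hPR1
      set R' : Sylow 2 G := (γ⁻¹ * (x : G)) • R with hR'
      have hle : (normalizer (D : Set G) ⊓ (R : Subgroup G)).map (MulAut.conj (γ⁻¹ * (x : G))).toMonoidHom ≤
          (R' : Subgroup G) ⊓ S := by
        rintro _ ⟨y, hy, rfl⟩
        refine mem_inf.mpr ⟨⟨y, (mem_inf.1 hy).2, rfl⟩, ?_⟩
        have h1 : (x * ⟨y, (mem_inf.1 hy).1⟩ * x⁻¹ : N) ∈ (P1 : Subgroup N) := by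
          rw [← hx]
          exact ⟨⟨y, (mem_inf.1 hy).1⟩, hP2 (mem_subgroupOf.mpr ⟨(mem_inf.1 hy).2, (mem_inf.1 hy).1⟩), rfl⟩
        have h3 : (x : G) * y * (x : G)⁻¹ ∈ (R1 : Subgroup G) := hR1 ⟨_, h1, rfl⟩
        rw [hR1e, hsmul] at h3
        obtain ⟨w, hw, hwe⟩ := h3
        have : (MulAut.conj (γ⁻¹ * (x : G))).toMonoidHom y = w := by
          have hwe' : γ * w * γ⁻¹ = (x : G) * y * (x : G)⁻¹ := hwe
          show γ⁻¹ * (x : G) * y * (γ⁻¹ * (x : G))⁻¹ = w
          calc γ⁻¹ * (x : G) * y * (γ⁻¹ * (x : G))⁻¹ = γ⁻¹ * ((x : G) * y * (x : G)⁻¹) * γ := by group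
            _ = w := by rw [← hwe']; group
        rw [this]; exact hw
      have hcard2 : Nat.card D < Nat.card ↥((R' : Subgroup G) ⊓ S) := by
        refine lt_of_lt_of_le (Set.Finite.card_lt_card (Set.toFinite _) hgR) (le_trans ?_ (card_le_of_le hle))
        exact (card_map_of_injective (MulAut.conj _).injective).ge
      have hPR' : P R' := ih _ (by omega) R' rfl
        ⟨_, klein_conj (γ⁻¹ * (x : G)) hV, (map_mono (hVD.trans hgR.le)).trans hle⟩
      have h := hP (γ⁻¹ * (x : G))⁻¹ (inv_mem (mul_mem (inv_mem hγ) (hN x.2))) R' hPR'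
      rwa [hR', inv_smul_smul] at h
    have hgood : ∀ {A B : Subgroup G}, Relation.ReflTransGen Adj A B →
        (∃ T, P T ∧ A ≤ (T : Subgroup G)) → ∀ R : Sylow 2 G, B ≤ (R : Subgroup G) → IsKleinFour B → P R := by
      intro A B hAB hA
      have hsame : ∀ (X : Subgroup G), IsKleinFour X → (∃ T, P T ∧ X ≤ (T : Subgroup G)) →
          ∀ R : Sylow 2 G, X ≤ (R : Subgroup G) → P R := by
        rintro X hX ⟨T, ⟨γ, hγ, rfl⟩, hXT⟩ R hXR
        have h : P (γ⁻¹ • R) := hmain _ (γ⁻¹ • R) rfl ⟨_, klein_map (MulAut.conj γ⁻¹).injective hX, by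
          refine le_inf (map_mono hXR) ?_
          rintro _ ⟨y, hy, rfl⟩
          obtain ⟨w, hw, rfl⟩ := hXT hy
          exact Set.mem_of_eq_of_mem (by simp [mul_assoc]) hw⟩
        have := hP γ hγ _ h
        rwa [smul_inv_smul] at this
      induction hAB with
      | refl => intro R hR hAK; exact hsame A hAK hA R hR
      | tail _ hBC ih =>
        rename_i B C _
        intro R hCR hCK
        obtain ⟨hB, hC, hc⟩ := hBC
        haveI := hB
        haveI := hC
        have hnorm : B ≤ normalizer (C : Set G) := fun b hb =>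
          centralizer_le_normalizer _ (mem_centralizer_iff.mpr fun c hc' => (hc b hb c hc').symm)
        have hBp : IsPGroup 2 B := IsPGroup.of_card (n := 2) IsKleinFour.card_four
        have hCp : IsPGroup 2 C := IsPGroup.of_card (n := 2) IsKleinFour.card_four
        obtain ⟨T, hT⟩ := (hBp.to_sup_of_normal_right' hCp hnorm).exists_le_sylow
        exact hsame C hCK ⟨T, ih T (le_sup_left.trans hT) hB, le_sup_right.trans hT⟩ R hCR
    rw [eq_top_iff]
    intro g _
    obtain ⟨γ, hγ, he⟩ := hgood (hG U₀ _ hU₀ (klein_conj g hU₀))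
      ⟨S, ⟨1, one_mem _, (one_smul G S).symm⟩, hU₀S⟩ (g • S) (map_mono hU₀S) (klein_conj g hU₀)
    have h1 : (γ⁻¹ * g) • S = S := by rw [mul_smul, he, inv_smul_smul]
    have h3 := hΓ S le_rfl ⟨U₀, hU₀, hU₀S⟩ (Sylow.smul_eq_iff_mem_normalizer.mp h1)
    have := mul_mem hγ h3
    rwa [mul_inv_cancel_left] at this
  · intro hΓtop
    let H : Subgroup G :=
      { carrier := {g | Relation.ReflTransGen Adj U₀ (U₀.map (MulAut.conj g).toMonoidHom)}
        one_mem' := by
          show Relation.ReflTransGen Adj U₀ _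
          have : U₀.map (MulAut.conj (1 : G)).toMonoidHom = U₀ := by
            ext x; simp
          rw [this]
        mul_mem' := fun {a b} ha hb => by
          show Relation.ReflTransGen Adj U₀ _
          rw [← hmapmap]
          exact ha.trans (hconj a hb)
        inv_mem' := fun {a} ha => by
          show Relation.ReflTransGen Adj U₀ _
          have h := chain_symm (hconj a⁻¹ ha)
          rw [hmapmap, inv_mul_cancel] at h
          have : U₀.map (MulAut.conj (1 : G)).toMonoidHom = U₀ := by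
            ext x; simp
          rwa [this] at h }
    have hle : Γ ≤ H := by
      refine iSup_le fun Q => ?_
      intro g hg
      obtain ⟨V, hV, hVQ⟩ := (not_prankLE_iff Q.1).mp Q.2.2
      show Relation.ReflTransGen Adj U₀ _
      have hVg : V.map (MulAut.conj g).toMonoidHom ≤ (S : Subgroup G) := by
        rintro _ ⟨v, hv, rfl⟩
        exact Q.2.1 ((mem_normalizer_iff.mp hg v).mp (hVQ hv))
      exact (hinS _ _ hU₀ (klein_conj g hV) hU₀S hVg).trans
        (hconj g (hinS V U₀ hV hU₀ (hVQ.trans Q.2.1) hU₀S))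
    have hall : ∀ V : Subgroup G, IsKleinFour V → Relation.ReflTransGen Adj U₀ V := by
      intro V hV
      obtain ⟨g, hg⟩ := hconjS V hV
      set V' := V.map (MulAut.conj g⁻¹).toMonoidHom
      have hV' : V' ≤ (S : Subgroup G) := by
        rintro _ ⟨x, hx, rfl⟩
        obtain ⟨y, hy, hyx⟩ := hg hx
        rw [← hyx]
        exact Set.mem_of_eq_of_mem (by simp [mul_assoc]) hy
      have hV'K : IsKleinFour V' := klein_conj g⁻¹ hV
      have h1 : Relation.ReflTransGen Adj U₀ (U₀.map (MulAut.conj g).toMonoidHom) :=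
        hle (hΓtop ▸ mem_top g)
      have h2 := h1.trans (hconj g (hinS U₀ V' hU₀ hV'K hU₀S hV'))
      have : V'.map (MulAut.conj g).toMonoidHom = V := by
        rw [hmapmap, mul_inv_cancel]
        ext x; simp
      rwa [this] at h2
    exact fun U V hU hV => (chain_symm (hall U hU)).trans (hall V hV)

end Cfsg.Lib.Misc.FourConnected
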