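import Cfsg.Agent.Components.Signalizer.Sft.Equivariant
import Cfsg.Agent.Components.Misc.FourConnected
import Cfsg.Agent.S1327
import Cfsg.Agent.Components.BalanceDelta

/-!
The odd cores of the centralizers generate one odd subgroup when all `2`-locals are `2`-constrained and
a Sylow `2`-subgroup has a normal elementary abelian subgroup of order at least eight.
The solvability of groups of odd order enters as a hypothesis.
-/

set_option linter.style.haveILetI false
set_option linter.unusedSectionVars false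

namespace Cfsg.Lib.Misc.ConstrainedCores

open Subgroup Cfsg.Lib.Components Cfsg.Lib.Sft Cfsg.Lib.Misc.FourConnected

universe u

variable {G : Type u} [Group G] [Finite G]

/-- balance for an element of prime power order -/
theorem core_balance_zpowers {p : ℕ} [Fact p.Prime] {a b : G} (hb : IsPGroup p ↥(zpowers b)) (hb1 : b ≠ 1)
    (hab : a * b = b * a) (hL : Cfsg.pLayer p ↥(centralizer ({a} : Set G)) = ⊥) :
    Cfsg.centralizerPPrimeCore p b ⊓ centralizer {a} ≤ Cfsg.centralizerPPrimeCore p a := by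
  set C := centralizer ({a} : Set G) with hC
  have hbC : b ∈ C := mem_centralizer_singleton_iff.mpr hab.symm
  set P : Subgroup C := zpowers ⟨b, hbC⟩ with hP
  have hPp : IsPGroup p P := by
    have hbp : IsPGroup p ↥((zpowers b).subgroupOf C) := hb.comap_subtype
    refine hbp.to_le ?_
    rw [hP, zpowers_le]
    exact mem_subgroupOf.mpr (mem_zpowers b)
  have hP1 : P ≠ ⊥ := fun e => hb1 (by rw [hP, zpowers_eq_bot] at e; exact congrArg Subtype.val e)
  have key := (Cfsg.Agent.S1293.result p hL P hPp hP1).2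
  set N := normalizer (P : Set C)
  have h1 : centralizerPPrimeCore p b ⊓ C ≤
      (centralizerPPrimeCore p (⟨b, hbC⟩ : ↥C)).map C.subtype := centralizerPPrimeCore_inf_le C hbC
  refine h1.trans (Subgroup.map_mono (le_trans ?_ key))
  set D := centralizerPPrimeCore p (⟨b, hbC⟩ : ↥C)
  have hcent : ∀ x : ↥C, x ∈ centralizer ({(⟨b, hbC⟩ : ↥C)} : Set ↥C) → x ∈ centralizer (P : Set C) := by
    intro x hx
    refine mem_centralizer_iff.mpr fun y hy => ?_
    obtain ⟨k, rfl⟩ := mem_zpowers_iff.mp hy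
    exact ((Commute.symm (mem_centralizer_singleton_iff.mp hx : Commute x ⟨b, hbC⟩)).zpow_left k).eq
  have hDN : D ≤ N := fun x hx =>
    centralizer_le_normalizer _ (hcent x (centralizerPPrimeCore_le_centralizer _ hx))
  haveI : (D.subgroupOf N).Normal := by
    refine ⟨fun x hx g => ?_⟩
    have hgb : ∀ y ∈ centralizer ({(⟨b, hbC⟩ : ↥C)} : Set ↥C),
        (g : C) * y * (g : C)⁻¹ ∈ centralizer ({(⟨b, hbC⟩ : ↥C)} : Set ↥C) := by
      intro y hy
      refine mem_centralizer_singleton_iff.mpr ?_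
      have hPy := mem_centralizer_iff.mp (hcent y hy)
      have hm := (mem_normalizer_iff''.mp g.2 _).mp (mem_zpowers (⟨b, hbC⟩ : C))
      have h2 := hPy _ hm
      calc (g : C) * y * (g : C)⁻¹ * (⟨b, hbC⟩ : C)
          = (g : C) * (y * ((g : C)⁻¹ * ⟨b, hbC⟩ * g)) * (g : C)⁻¹ := by group
        _ = (g : C) * (((g : C)⁻¹ * ⟨b, hbC⟩ * g) * y) * (g : C)⁻¹ := by rw [h2]
        _ = (⟨b, hbC⟩ : C) * ((g : C) * y * (g : C)⁻¹) := by group
    have hgC : (g : C) ∈ normalizer (centralizer ({(⟨b, hbC⟩ : ↥C)} : Set ↥C) : Set ↥C) :=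
      Cfsg.Lib.Sft.mem_normalizer_of_conj hgb
    exact (mem_normalizer_iff.mp (Cfsg.Lib.Sft.le_normalizer_map_char _ (Cfsg.pPrimeCore p _) hgC) _).mp hx
  have hcop : (Nat.card (D.subgroupOf N)).Coprime p := by
    rw [Nat.card_congr (subgroupOfEquivOfLe hDN).toEquiv]
    exact centralizerPPrimeCore_card_coprime _
  rw [← map_subgroupOf_eq_of_le hDN]
  exact Subgroup.map_mono (le_pPrimeCore hcop)

section

variable (h2c : ∀ T : Subgroup G, IsPGroup 2 T → T ≠ ⊥ →
    Cfsg.IsPConstrained 2 ↥(normalizer (T : Set G)))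

include h2c

theorem pLayer_centralizer {a : G} (ha : orderOf a = 2) :
    Cfsg.pLayer 2 ↥(centralizer ({a} : Set G)) = ⊥ := by
  haveI : Fact (Nat.Prime 2) := ⟨Nat.prime_two⟩
  have hp : IsPGroup 2 ↥(zpowers a) := IsPGroup.of_card (n := 1) (by rw [pow_one, Nat.card_zpowers, ha])
  have h1 : zpowers a ≠ ⊥ := fun e => by
    rw [zpowers_eq_bot] at e
    rw [e, orderOf_one] at ha
    exact absurd ha (by norm_num)
  have heq : normalizer (zpowers a : Set G) = centralizer ({a} : Set G) := by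
    refine le_antisymm (fun g hg => ?_) fun g hg => ?_
    · refine mem_centralizer_singleton_iff.mpr ?_
      obtain ⟨k, hk⟩ := mem_zpowers_iff.mp ((mem_normalizer_iff.mp hg a).mp (mem_zpowers a))
      have hk2 : a ^ k = 1 ∨ a ^ k = a := by
        rw [← zpow_mod_orderOf, ha]
        rcases Int.emod_two_eq_zero_or_one k with h | h <;> simp [h]
      rcases hk2 with h | h
      · rw [h] at hk
        have ha1 : a = 1 := by
          have := congrArg (fun y => g⁻¹ * y * g) hk
          simpa [mul_assoc] using this.symm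
        rw [ha1, orderOf_one] at ha
        exact absurd ha (by norm_num)
      · rw [h] at hk
        exact (mul_inv_eq_iff_eq_mul.mp hk.symm)
    · refine centralizer_le_normalizer _ (mem_centralizer_iff.mpr fun y hy => ?_)
      obtain ⟨k, rfl⟩ := mem_zpowers_iff.mp hy
      exact ((Commute.symm (mem_centralizer_singleton_iff.mp hg : Commute g a)).zpow_left k).eq
  rw [← heq]
  exact (Cfsg.Agent.S1327.result 2).mp (h2c _ hp h1)

theorem balance {a b : G} (ha : orderOf a = 2) (hb : orderOf b = 2) (hab : a * b = b * a) :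
    centralizerPPrimeCore 2 a ⊓ centralizer {b} ≤ centralizerPPrimeCore 2 b := by
  haveI : Fact (Nat.Prime 2) := ⟨Nat.prime_two⟩
  exact core_balance ha hab.symm (pLayer_centralizer h2c hb)

/-- the core at a `2`-element lies in the core at the involution in its cyclic group -/
theorem core_le_involution {b : G} (hb : IsPGroup 2 ↥(zpowers b)) (hb1 : b ≠ 1) :
    ∃ i ∈ zpowers b, orderOf i = 2 ∧ centralizerPPrimeCore 2 b ≤ centralizerPPrimeCore 2 i := by
  haveI : Fact (Nat.Prime 2) := ⟨Nat.prime_two⟩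
  haveI : Nontrivial ↥(zpowers b) :=
    ⟨⟨⟨b, mem_zpowers b⟩, 1, fun h => hb1 (congrArg Subtype.val h)⟩⟩
  have hdvd : 2 ∣ Nat.card ↥(zpowers b) := by
    obtain ⟨n, hn⟩ := IsPGroup.iff_card.mp hb
    rw [hn]
    refine dvd_pow_self 2 fun h => ?_
    rw [h, pow_zero] at hn
    exact absurd hn Finite.one_lt_card.ne'
  obtain ⟨i, hi⟩ := exists_prime_orderOf_dvd_card' (p := 2) hdvd
  have hio : orderOf (i : G) = 2 := by rw [orderOf_coe, hi]
  refine ⟨i, i.2, hio, ?_⟩
  obtain ⟨k, hk⟩ := mem_zpowers_iff.mp i.2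
  have hle : centralizer ({b} : Set G) ≤ centralizer ({(i : G)} : Set G) := fun x hx => by
    refine mem_centralizer_singleton_iff.mpr ?_
    rw [← hk]
    exact (Commute.zpow_right (mem_centralizer_singleton_iff.mp hx) k)
  have h := core_balance_zpowers hb hb1 (mem_centralizer_singleton_iff.mp
    (hle (mem_centralizer_singleton_iff.mpr rfl))).symm (pLayer_centralizer h2c hio)
  refine le_trans (le_inf le_rfl ?_) h
  exact (centralizerPPrimeCore_le_centralizer b).trans hle

variable (hFT : ∀ Y : Subgroup G, Odd (Nat.card Y) → Group.IsSolvable ↥Y)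

include hFT

theorem core_conditions (a : G) :
    centralizerPPrimeCore 2 a ≤ centralizer ({a} : Set G) ∧
      ¬ 2 ∣ Nat.card ↥(centralizerPPrimeCore 2 a) ∧ Group.IsSolvable ↥(centralizerPPrimeCore 2 a) := by
  haveI : Fact (Nat.Prime 2) := ⟨Nat.prime_two⟩
  have hodd := Nat.coprime_two_right.mp (centralizerPPrimeCore_card_coprime (p := 2) a)
  exact ⟨centralizerPPrimeCore_le_centralizer a, hodd.not_two_dvd_nat, hFT _ hodd⟩

theorem closure_eq_of_le {A E : Subgroup G} (hA : Cfsg.IsElementaryAbelian 2 A) (hA3 : 8 ≤ Nat.card A)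
    (hEA : E ≤ A) (hE2 : 4 ≤ Nat.card E) :
    closureOf (centralizerPPrimeCore 2) E = closureOf (centralizerPPrimeCore 2) A := by
  haveI : Fact (Nat.Prime 2) := ⟨Nat.prime_two⟩
  exact closureOf_eq (fun a _ => core_conditions h2c hFT a)
    (fun a g _ => (centralizerPPrimeCore_map_equiv (MulAut.conj g) a).symm)
    (fun a b ha hb hab => balance h2c ha.1 hb.1 hab) hA hA3 hEA hE2

theorem closure_adj {U V : Subgroup G} (h : Adj U V) :
    closureOf (centralizerPPrimeCore 2) U = closureOf (centralizerPPrimeCore 2) V := by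
  haveI : Fact (Nat.Prime 2) := ⟨Nat.prime_two⟩
  obtain ⟨hU, hV, hc⟩ := h
  haveI := hU
  haveI := hV
  have hel : ∀ X : Subgroup G, IsKleinFour X → Cfsg.IsElementaryAbelian 2 X := fun X hX =>
    haveI := hX
    ⟨⟨⟨fun x y => Subtype.ext (comm_of_klein (A := X) _ x.2 _ y.2)⟩⟩,
      fun x hx => by rw [pow_two]; exact sq_of_klein hx⟩
  have hA : Cfsg.IsElementaryAbelian 2 (U ⊔ V) := elementary_sup (hel U hU) (hel V hV) hc
  by_cases h8 : 8 ≤ Nat.card ↥(U ⊔ V)
  · rw [closure_eq_of_le h2c hFT hA h8 le_sup_left IsKleinFour.card_four.ge,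
      closure_eq_of_le h2c hFT hA h8 le_sup_right IsKleinFour.card_four.ge]
  · obtain ⟨k, hk⟩ := IsPGroup.iff_card.mp
      (show IsPGroup 2 ↥(U ⊔ V) from fun x => ⟨1, Subtype.ext (by rw [pow_one]; exact hA.2 x x.2)⟩)
    have h4 : Nat.card ↥(U ⊔ V) ≤ 4 := by
      rw [hk] at h8 ⊢
      have hk2 : k ≤ 2 := by
        by_contra hk'
        exact h8 ((show (8 : ℕ) = 2 ^ 3 by norm_num).le.trans (Nat.pow_le_pow_right (by norm_num) (show 3 ≤ k by omega)))
      exact Nat.pow_le_pow_right (by norm_num) hk2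
    have h1 : U = U ⊔ V := eq_of_le_of_card_ge le_sup_left (h4.trans IsKleinFour.card_four.ge)
    have h2 : V = U ⊔ V := eq_of_le_of_card_ge le_sup_right (h4.trans IsKleinFour.card_four.ge)
    rw [h1.trans h2.symm]

theorem closure_chain {U V : Subgroup G} (h : Relation.ReflTransGen Adj U V) :
    closureOf (centralizerPPrimeCore 2) U = closureOf (centralizerPPrimeCore 2) V := by
  induction h with
  | refl => rfl
  | tail _ h ih => exact ih.trans (closure_adj h2c hFT h)

theorem closure_odd {A : Subgroup G} (hA : Cfsg.IsElementaryAbelian 2 A) (hA3 : 8 ≤ Nat.card A) :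
    Odd (Nat.card ↥(closureOf (centralizerPPrimeCore 2) A)) := by
  haveI : Fact (Nat.Prime 2) := ⟨Nat.prime_two⟩
  obtain ⟨W, hW, hle⟩ := exists_member hA hA3 (functor_of_equivariant
    (θ := centralizerPPrimeCore 2) (fun a _ => core_conditions h2c hFT a)
    (fun a g _ => (centralizerPPrimeCore_map_equiv (MulAut.conj g) a).symm)
    (fun a b ha hb hab => balance h2c ha.1 hb.1 hab) hA hA3)
  refine Nat.not_even_iff_odd.mp fun he => hW.2.1 ((even_iff_two_dvd.mp he).trans ?_)
  exact card_dvd_of_le (iSup_le fun e => hle e.1 e.2.1 e.2.2)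

theorem exists_common (S' : Sylow 2 G) (hconn : Cfsg.IsFourConnected (S' : Subgroup G))
    {E : Subgroup G} (hES : E ≤ (S' : Subgroup G)) (hE : Cfsg.IsElementaryAbelian 2 E) (hE8 : 8 ≤ Nat.card E) :
    ∃ W : Subgroup G, Odd (Nat.card ↥W) ∧
      ∀ B : Subgroup G, B ≤ (S' : Subgroup G) → ¬ Cfsg.PRankLE 2 1 ↥B →
        W = (⨆ b : {b : G // b ∈ B ∧ b ≠ 1}, Cfsg.centralizerPPrimeCore 2 (b : G)) ∧
        normalizer (B : Set G) ≤ normalizer (W : Set G) := by
  haveI : Fact (Nat.Prime 2) := ⟨Nat.prime_two⟩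
  haveI := hE.1
  obtain ⟨V₀, hV₀, hV₀E⟩ := exists_klein_of_card (H := E)
    (fun x hx => by rw [← pow_two]; exact hE.2 x hx)
    (fun x hx y hy => congrArg Subtype.val (mul_comm' (⟨x, hx⟩ : E) ⟨y, hy⟩))
    (lt_of_lt_of_le (by norm_num) hE8)
  set W := closureOf (centralizerPPrimeCore 2) E with hWdef
  have hW₀ : closureOf (centralizerPPrimeCore 2) V₀ = W :=
    closure_eq_of_le h2c hFT hE hE8 hV₀E (by haveI := hV₀; exact IsKleinFour.card_four.ge)
  -- all four-subgroups of `S'` have the same closure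
  have hall : ∀ V : Subgroup G, IsKleinFour V → V ≤ (S' : Subgroup G) →
      closureOf (centralizerPPrimeCore 2) V = W := by
    intro V hV hVS
    have h1 : ∀ X : Subgroup G, IsKleinFour X → X ≤ (S' : Subgroup G) →
        IsKleinFour (X.subgroupOf (S' : Subgroup G)) := fun X hX h => haveI := hX
      ⟨by rw [Nat.card_congr (subgroupOfEquivOfLe h).toEquiv]; exact IsKleinFour.card_four,
        (Monoid.exponent_eq_of_mulEquiv (subgroupOfEquivOfLe h)).trans IsKleinFour.exponent_two⟩
    have h := chain_map (S' : Subgroup G).subtype_injective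
      (hconn _ _ (h1 V hV hVS) (h1 V₀ hV₀ (hV₀E.trans hES)))
    rw [map_subgroupOf_eq_of_le hVS, map_subgroupOf_eq_of_le (hV₀E.trans hES)] at h
    rw [closure_chain h2c hFT h, hW₀]
  refine ⟨W, closure_odd h2c hFT hE hE8, fun B hB hB2 => ?_⟩
  obtain ⟨U, hU, hUB⟩ := (not_prankLE_iff B).mp hB2
  have hBp : IsPGroup 2 ↥B := S'.2.to_le hB
  have hlow : closureOf (centralizerPPrimeCore 2) U ≤ closureOf (centralizerPPrimeCore 2) B :=
    closureOf_mono _ hUB
  -- every involution of `B` lies in a four-subgroup of `B`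
  have hinv : ∀ i ∈ B, orderOf i = 2 → centralizerPPrimeCore 2 i ≤ W := by
    intro i hi hio
    haveI := hU
    haveI : Nontrivial ↥B := ⟨⟨⟨i, hi⟩, 1, fun h => by
      rw [show i = 1 from congrArg Subtype.val h, orderOf_one] at hio
      exact absurd hio (by norm_num)⟩⟩
    haveI := hBp.center_nontrivial
    have hdvd : 2 ∣ Nat.card ↥(center ↥B) := by
      obtain ⟨n, hn⟩ := IsPGroup.iff_card.mp (hBp.to_subgroup (center ↥B))
      rw [hn]
      refine dvd_pow_self 2 fun h => ?_
      rw [h, pow_zero] at hn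
      exact absurd hn Finite.one_lt_card.ne'
    obtain ⟨z, hz⟩ := exists_prime_orderOf_dvd_card' (p := 2) hdvd
    have hzo : orderOf ((z : ↥B) : G) = 2 := by rw [orderOf_coe, orderOf_coe, hz]
    have hzc : ∀ x ∈ B, x * ((z : ↥B) : G) = ((z : ↥B) : G) * x := fun x hx =>
      congrArg Subtype.val (mem_center_iff.mp z.2 ⟨x, hx⟩)
    have hsq : ∀ x : G, orderOf x = 2 → x * x = 1 := fun x hx => by
      rw [← pow_two, ← hx, pow_orderOf_eq_one]
    have hne : ∀ x : G, orderOf x = 2 → x ≠ 1 := fun x hx h => by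
      rw [h, orderOf_one] at hx
      exact absurd hx (by norm_num)
    obtain ⟨y, hyB, hyo, hyi, hyc⟩ : ∃ y ∈ B, orderOf y = 2 ∧ y ≠ i ∧ i * y = y * i := by
      by_cases hiz : i = ((z : ↥B) : G)
      · obtain ⟨u, hu, hu1, hui⟩ : ∃ u ∈ U, u ≠ 1 ∧ u ≠ i := by
          by_contra h
          push Not at h
          have hsub : (U : Set G) ⊆ {1, i} := fun x hx => by
            by_cases hx1 : x = 1
            · exact Or.inl hx1
            · exact Or.inr (h x hx hx1)
          have h4 : Nat.card U = 4 := IsKleinFour.card_four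
          have := Set.ncard_le_ncard hsub (by simp)
          rw [← Nat.card_coe_set_eq, SetLike.coe_sort_coe, h4, Set.ncard_pair (Ne.symm (hne i hio))] at this
          omega
        exact ⟨u, hUB hu, orderOf_eq_prime (by rw [pow_two]; exact sq_of_klein hu) hu1, hui, by
          rw [hiz]; exact (hzc u (hUB hu)).symm⟩
      · exact ⟨_, (z : ↥B).2, hzo, fun h => hiz h.symm, hzc i hi⟩
    obtain ⟨V, hV, hiV, -, hVle⟩ :=
      exists_klein (hsq i hio) (hsq y hyo) (hne i hio) (hne y hyo) hyi.symm hyc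
    rw [← hall V hV ((hVle B hi hyB).trans hB)]
    exact le_iSup (fun e : {e : G // e ∈ V ∧ e ≠ 1} => centralizerPPrimeCore 2 e.1) ⟨i, hiV, hne i hio⟩
  have hgen : ∀ b ∈ B, b ≠ 1 → centralizerPPrimeCore 2 b ≤ W := by
    intro b hb hb1
    obtain ⟨i, hib, hio, hle⟩ := core_le_involution h2c (hBp.to_le ((zpowers_le).mpr hb)) hb1
    exact hle.trans (hinv i ((zpowers_le).mpr hb hib) hio)
  have heq : W = closureOf (centralizerPPrimeCore 2) B :=
    le_antisymm ((hall U hU (hUB.trans hB)).ge.trans hlow) (iSup_le fun b => hgen b.1 b.2.1 b.2.2)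
  refine ⟨heq, fun n hn => ?_⟩
  refine Cfsg.Lib.Sft.mem_normalizer_of_conj fun x hx => ?_
  have hle : W.map (MulAut.conj n).toMonoidHom ≤ W := by
    conv_lhs => rw [heq]
    rw [closureOf, Subgroup.map_iSup]
    refine iSup_le fun b => ?_
    rw [centralizerPPrimeCore_map_equiv (MulAut.conj n) b.1]
    refine hgen _ ((mem_normalizer_iff.mp hn _).mp b.2.1) fun h => b.2.2 ?_
    exact (MulAut.conj n).injective (by rw [h, map_one])
  exact hle ⟨x, hx, rfl⟩

/-- the normal elementary subgroup supplied by an abelian normal subgroup of rank three -/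
theorem exists_common_of_normal_abelian (S : Sylow 2 G) (A : Subgroup ↥(S : Subgroup G)) (hAn : A.Normal)
    (hAab : IsMulCommutative ↥A) (hA3 : ¬ Cfsg.PRankLE 2 2 ↥A) (S' : Sylow 2 G) :
    ∃ W : Subgroup G, Odd (Nat.card ↥W) ∧
      ∀ B : Subgroup G, B ≤ (S' : Subgroup G) → ¬ Cfsg.PRankLE 2 1 ↥B →
        W = (⨆ b : {b : G // b ∈ B ∧ b ≠ 1}, Cfsg.centralizerPPrimeCore 2 (b : G)) ∧
        normalizer (B : Set G) ≤ normalizer (W : Set G) := by
  haveI : Fact (Nat.Prime 2) := ⟨Nat.prime_two⟩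
  haveI := hAn
  obtain ⟨B, hBA, hB, hB8⟩ := exists_elementary_of_not_pRankLE hA3
  set e : ↥(S : Subgroup G) ≃* ↥(S' : Subgroup G) := S.equiv S'
  have hcomm : ∀ x ∈ A, ∀ y ∈ A, x * y = y * x := fun x hx y hy =>
    congrArg Subtype.val (mul_comm' (⟨x, hx⟩ : A) ⟨y, hy⟩)
  let Om : Subgroup ↥(S : Subgroup G) :=
    { carrier := {a | a ∈ A ∧ a ^ 2 = 1}
      one_mem' := ⟨one_mem A, one_pow 2⟩
      mul_mem' := fun {a b} ha hb => ⟨mul_mem ha.1 hb.1, by
        rw [(show Commute a b from hcomm a ha.1 b hb.1).mul_pow, ha.2, hb.2, one_mul]⟩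
      inv_mem' := fun {a} ha => ⟨inv_mem ha.1, by rw [inv_pow, ha.2, inv_one]⟩ }
  have hOmB : B ≤ Om := fun b hb => ⟨hBA hb, hB.2 b hb⟩
  haveI : Om.Normal := ⟨fun a ha g => ⟨hAn.conj_mem a ha.1 g, by rw [conj_pow, ha.2, mul_one, mul_inv_cancel]⟩⟩
  set E := Om.map e.toMonoidHom with hEdef
  haveI : E.Normal := Subgroup.Normal.map inferInstance _ e.surjective
  have hEc : IsMulCommutative ↥E := by
    refine ⟨⟨?_⟩⟩
    rintro ⟨_, x, hx, rfl⟩ ⟨_, y, hy, rfl⟩
    refine Subtype.ext ?_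
    show e.toMonoidHom x * e.toMonoidHom y = e.toMonoidHom y * e.toMonoidHom x
    rw [← map_mul, ← map_mul, hcomm x hx.1 y hy.1]
  have hE2 : ∀ x ∈ E, x ^ 2 = 1 := by
    rintro _ ⟨x, hx, rfl⟩
    rw [← map_pow, hx.2, map_one]
  have hE8 : 8 ≤ Nat.card E := by
    rw [hEdef, card_map_of_injective e.injective]
    exact le_trans (by simpa using hB8) (Nat.le_of_dvd Nat.card_pos (card_dvd_of_le hOmB))
  have hconn : Cfsg.IsFourConnected (S' : Subgroup G) := connected_of_normal S'.2 E hEc hE2 hE8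
  refine exists_common h2c hFT S' hconn (E := E.map (S' : Subgroup G).subtype) (map_subtype_le _) ⟨?_, ?_⟩ ?_
  · refine ⟨⟨?_⟩⟩
    rintro ⟨_, x, hx, rfl⟩ ⟨_, y, hy, rfl⟩
    refine Subtype.ext ?_
    show (x : G) * (y : G) = (y : G) * (x : G)
    exact congrArg Subtype.val (congrArg Subtype.val (hEc.is_comm.comm ⟨x, hx⟩ ⟨y, hy⟩))
  · rintro _ ⟨x, hx, rfl⟩
    rw [← map_pow, hE2 x hx, map_one]
  · rwa [card_map_of_injective (S' : Subgroup G).subtype_injective]

end

end Cfsg.Lib.Misc.ConstrainedCores
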