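import Mathlib.RingTheory.Polynomial.Cyclotomic.Eval
import Mathlib.RingTheory.Polynomial.Cyclotomic.Expand
import Mathlib.NumberTheory.Multiplicity

/-!
Primitive prime divisors of `a ^ n - 1`.
-/

set_option linter.style.haveILetI false
set_option linter.unusedSectionVars false

namespace Cfsg.Lib.Zsigmondy

open Polynomial

theorem cyc_lower {n x : ℕ} (hn : 2 ≤ n) (hx : 2 ≤ x) :
    ((x : ℤ) - 1) ^ n.totient < (cyclotomic n ℤ).eval (x : ℤ) := by
  have h := sub_one_pow_totient_lt_natAbs_cyclotomic_eval (q := x) (n := n) (by omega) (by omega)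
  have hpos := cyclotomic_pos' n (x := (x : ℤ)) (by exact_mod_cast (by omega : 1 < x))
  have h' : (((x - 1) ^ n.totient : ℕ) : ℤ) < (((cyclotomic n ℤ).eval (x : ℤ)).natAbs : ℤ) := by exact_mod_cast h
  rw [Int.natAbs_of_nonneg hpos.le, Nat.cast_pow, Nat.cast_sub (by omega)] at h'
  simpa using h'

theorem cyc_upper {n x : ℕ} (hn : 3 ≤ n) (hx : 2 ≤ x) :
    (cyclotomic n ℤ).eval (x : ℤ) < ((x : ℤ) + 1) ^ n.totient := by
  have h := cyclotomic_eval_lt_add_one_pow_totient (q := (x : ℝ)) hn (by exact_mod_cast (by omega : 1 < x))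
  have e : (cyclotomic n ℝ).eval (x : ℝ) = (((cyclotomic n ℤ).eval (x : ℤ) : ℤ) : ℝ) := by
    have := cyclotomic.eval_apply (x : ℤ) n (algebraMap ℤ ℝ)
    simpa using this
  rw [e] at h
  exact_mod_cast h

theorem eval_mul_pow {R : Type*} [CommRing R] {m r : ℕ} (hr : r.Prime) (hrm : r ∣ m) (x : R) :
    ∀ i : ℕ, (cyclotomic (m * r ^ i) R).eval x = (cyclotomic m R).eval (x ^ r ^ i)
  | 0 => by simp
  | i + 1 => by
    rw [pow_succ r i, ← mul_assoc, ← cyclotomic_expand_eq_cyclotomic hr (Dvd.dvd.mul_right hrm _) R, expand_eval,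
      eval_mul_pow hr hrm (x ^ r) i, ← pow_mul, mul_comm r]

theorem zsigmondy (a n : ℕ) (ha : 1 < a) (hn : 1 < n) (h6 : ¬ (a = 2 ∧ n = 6))
    (h2 : ¬ (n = 2 ∧ ∃ m : ℕ, a + 1 = 2 ^ m)) :
    ∃ r : ℕ, r.Prime ∧ r ∣ a ^ n - 1 ∧ ∀ k : ℕ, 0 < k → k < n → ¬ r ∣ a ^ k - 1 := by
  by_contra hno
  set q := ((cyclotomic n ℤ).eval (a : ℤ)).natAbs with hq
  have hpos := cyclotomic_pos' n (x := (a : ℤ)) (by exact_mod_cast ha)
  have hqe : (q : ℤ) = (cyclotomic n ℤ).eval (a : ℤ) := by rw [hq, Int.natAbs_of_nonneg hpos.le]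
  have hq1 : 1 < q := by
    have := sub_one_lt_natAbs_cyclotomic_eval (q := a) hn (by omega)
    rw [← hq] at this
    omega
  -- every prime divisor of `Φ_n(a)` divides `n`
  have hprimes : ∀ r : ℕ, r.Prime → r ∣ q → ∃ k m : ℕ, n = r ^ (k + 1) * m ∧ ¬ r ∣ m ∧ m ∣ r - 1 ∧
      IsPrimitiveRoot (a : ZMod r) m := by
    intro r hr hrq
    haveI := Fact.mk hr
    obtain ⟨k, m, hrm, hnm⟩ := Nat.exists_eq_pow_mul_and_not_dvd (by omega : n ≠ 0) r hr.ne_one
    haveI : NeZero (m : ZMod r) := ⟨fun h => hrm ((ZMod.natCast_eq_zero_iff _ _).1 h)⟩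
    have hroot : (cyclotomic n (ZMod r)).IsRoot (a : ZMod r) := by
      have h := cyclotomic.eval_apply (a : ℤ) n (Int.castRingHom (ZMod r))
      simp only [eq_intCast, Int.cast_natCast] at h
      rw [IsRoot.def, h, ← hqe, Int.cast_natCast, ZMod.natCast_eq_zero_iff]
      exact hrq
    rw [hnm, isRoot_cyclotomic_prime_pow_mul_iff_of_charP] at hroot
    have hmn : m ∣ n := hnm ▸ dvd_mul_left m _
    have hm0 : 0 < m := Nat.pos_of_dvd_of_pos hmn (by omega)
    rcases k with _ | k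
    · exfalso
      rw [pow_zero, one_mul] at hnm
      subst hnm
      refine hno ⟨r, hr, ?_, fun i hi0 hi hd => ?_⟩
      · rw [← ZMod.natCast_eq_zero_iff, Nat.cast_sub (Nat.one_le_pow _ _ (by omega)), Nat.cast_pow,
          hroot.pow_eq_one, Nat.cast_one, sub_self]
      · rw [← ZMod.natCast_eq_zero_iff, Nat.cast_sub (Nat.one_le_pow _ _ (by omega)), Nat.cast_pow,
          Nat.cast_one, sub_eq_zero] at hd
        exact hroot.pow_ne_one_of_pos_of_lt hi0.ne' hi hd
    refine ⟨k, m, hnm, hrm, ?_, hroot⟩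
    have hne : (a : ZMod r) ≠ 0 := fun h => by
      rw [h] at hroot
      have := hroot.pow_eq_one
      rw [zero_pow hm0.ne'] at this
      exact zero_ne_one this
    exact hroot.dvd_of_pow_eq_one _ (ZMod.pow_card_sub_one_eq_one hne)
  obtain ⟨r, hr, hrq⟩ := Nat.exists_prime_and_dvd hq1.ne'
  haveI := Fact.mk hr
  obtain ⟨k, m, hnm, hrm, hmr, hroot⟩ := hprimes r hr hrq
  have hrn : r ∣ n := hnm ▸ Dvd.dvd.mul_right (dvd_pow_self r k.succ_ne_zero) m
  have huniq : ∀ s : ℕ, s.Prime → s ∣ q → s = r := by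
    intro s hs hsq
    by_contra hne
    obtain ⟨k', m', hnm', hsm', hmr', -⟩ := hprimes s hs hsq
    have h1 : s ∣ m := ((Nat.Coprime.pow_right (k + 1) ((Nat.coprime_primes hs hr).2 hne))).dvd_of_dvd_mul_left
      (hnm ▸ (hnm' ▸ Dvd.dvd.mul_right (dvd_pow_self s k'.succ_ne_zero) m' : s ∣ n))
    have h2 : r ∣ m' := ((Nat.Coprime.pow_right (k' + 1) ((Nat.coprime_primes hr hs).2 (Ne.symm hne)))).dvd_of_dvd_mul_left
      (hnm' ▸ hrn)
    have h3 := Nat.le_of_dvd (by have := hr.two_le; omega) (h1.trans hmr)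
    have h4 := Nat.le_of_dvd (by have := hs.two_le; omega) (h2.trans hmr')
    have := hr.two_le
    omega
  obtain ⟨e, he⟩ : ∃ e, q = r ^ e := by
    refine ⟨q.factorization r, ?_⟩
    refine Nat.eq_of_factorization_eq (by omega) (pow_ne_zero _ hr.pos.ne') fun s => ?_
    rw [hr.factorization_pow, Finsupp.single_apply]
    split_ifs with hs
    · rw [hs]
    · by_cases hsp : s.Prime
      · exact Nat.factorization_eq_zero_of_not_dvd fun h => hs (huniq s hsp h).symm
      · exact Nat.factorization_eq_zero_of_not_prime _ hsp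
  have he0 : e ≠ 0 := fun h => by rw [h, pow_zero] at he; omega
  have h2case : r = 2 → 2 ≤ k + 1 := by
    intro h
    by_contra hk
    obtain rfl : k = 0 := by omega
    subst h
    have hm : m = 1 := Nat.dvd_one.1 hmr
    rw [hm] at hnm
    refine h2 ⟨by simpa using hnm, e, ?_⟩
    rw [← he]
    have e2 : n = 2 := by simpa using hnm
    rw [hq, e2, cyclotomic_two, eval_add, eval_X, eval_one]
    omega
  -- `r² ∤ Φ_n(a)`
  have he1 : e = 1 := by
    by_contra he1
    have hsq : (r : ℤ) ^ 2 ∣ (cyclotomic n ℤ).eval (a : ℤ) := by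
      rw [← hqe, he, Nat.cast_pow]
      exact pow_dvd_pow _ (by omega)
    set b : ℤ := (a : ℤ) ^ (r ^ k * m) with hb
    have hd : r ^ k * m ∈ n.properDivisors := by
      refine Nat.mem_properDivisors.2 ⟨⟨r, by rw [hnm, pow_succ]; ring⟩, ?_⟩
      rw [hnm, pow_succ]
      have h1 : 0 < r ^ k * m := Nat.mul_pos (pow_pos hr.pos _) (Nat.pos_of_ne_zero fun h => hrm (h ▸ dvd_zero r))
      nlinarith [hr.two_le]
    have hdiv := Polynomial.eval_dvd (x := (a : ℤ)) (X_pow_sub_one_mul_cyclotomic_dvd_X_pow_sub_one_of_dvd ℤ hd)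
    simp only [eval_mul, eval_sub, eval_pow, eval_X, eval_one] at hdiv
    rw [show (a : ℤ) ^ n = b ^ r by rw [hb, ← pow_mul]; congr 1; rw [hnm, pow_succ]; ring, ← hb,
      ← mul_geom_sum b r] at hdiv
    have hb1 : b - 1 ≠ 0 := by
      have : 1 < b := one_lt_pow₀ (by exact_mod_cast ha)
        (Nat.mul_ne_zero (pow_ne_zero _ hr.pos.ne') fun h => hrm (h ▸ dvd_zero r))
      omega
    have hS : (r : ℤ) ^ 2 ∣ ∑ i ∈ Finset.range r, b ^ i := hsq.trans ((mul_dvd_mul_iff_left hb1).1 hdiv)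
    obtain ⟨t, ht⟩ : (r : ℤ) ∣ b - 1 := by
      rw [← ZMod.intCast_zmod_eq_zero_iff_dvd, hb]
      push_cast
      rw [mul_comm, pow_mul, hroot.pow_eq_one, one_pow, sub_self]
    by_cases hr2 : r = 2
    · subst hr2
      rw [Finset.sum_range_succ, Finset.sum_range_one, pow_zero, pow_one] at hS
      have hk := h2case rfl
      obtain ⟨k', rfl⟩ : ∃ k', k = k' + 1 := ⟨k - 1, by omega⟩
      set c : ℤ := (a : ℤ) ^ (2 ^ k' * m)
      have hc : b = c * c := by rw [hb, ← pow_add]; congr 1; rw [pow_succ]; ring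
      obtain ⟨j, hj⟩ : ∃ j, c = 2 * j + 1 := by
        rcases Int.even_or_odd c with ⟨j, hj⟩ | ⟨j, hj⟩
        · exfalso
          rw [hc, hj] at ht
          obtain ⟨u, hu⟩ : (2 : ℤ) ∣ (j + j) * (j + j) := ⟨j * (j + j), by ring⟩
          push_cast at ht
          omega
        · exact ⟨j, hj⟩
      obtain ⟨u, hu⟩ := hS
      rw [hc, hj] at hu
      push_cast at hu
      have : (1 : ℤ) + (2 * j + 1) * (2 * j + 1) = 2 + 4 * (j * j + j) := by ring
      omega
    · have hodd : Odd r := hr.odd_of_ne_two hr2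
      have h := odd_sq_dvd_geom_sum₂_sub (R := ℤ) (p := r) 1 t hodd
      simp only [one_pow, mul_one] at h
      rw [show (1 : ℤ) + r * t = b by rw [← ht]; ring] at h
      have h5 : (r : ℤ) ^ 2 ∣ (r : ℤ) := by
        have := dvd_sub hS h
        simpa using this
      have h6 := Int.le_of_dvd (by exact_mod_cast hr.pos) h5
      nlinarith [hr.two_le]
  subst he1
  rw [pow_one] at he
  have hval : (cyclotomic n ℤ).eval (a : ℤ) = r := by rw [← hqe, he]
  have hbig : ∀ N x : ℕ, r ∣ N → 2 ≤ N → 3 ≤ x → (r : ℤ) < (cyclotomic N ℤ).eval (x : ℤ) := by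
    intro N x hN hN2 hx
    refine lt_of_le_of_lt ?_ (cyc_lower hN2 (by omega : 2 ≤ x))
    have h1 : r - 1 ≤ N.totient := by
      rw [← Nat.totient_prime hr]
      exact Nat.le_of_dvd (Nat.totient_pos.2 (by omega)) (Nat.totient_dvd_of_dvd hN)
    calc (r : ℤ) ≤ ((2 ^ (r - 1) : ℕ) : ℤ) := by
          exact_mod_cast (by have := @Nat.lt_two_pow_self (r - 1); have := hr.two_le; omega : r ≤ 2 ^ (r - 1))
      _ ≤ (2 : ℤ) ^ N.totient := by push_cast; exact pow_le_pow_right₀ (by norm_num) h1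
      _ ≤ ((x : ℤ) - 1) ^ N.totient := pow_le_pow_left₀ (by norm_num) (by omega) _
  by_cases ha3 : 3 ≤ a
  · exact (hbig n a hrn (by omega) ha3).ne' hval
  obtain rfl : a = 2 := by omega
  have hr2 : r ≠ 2 := fun h => by
    subst h
    have hm : m = 1 := Nat.dvd_one.1 hmr
    rw [hm] at hroot
    have h0 := hroot.pow_eq_one
    rw [pow_one, show ((2 : ℕ) : ZMod 2) = 0 from ZMod.natCast_self 2] at h0
    exact zero_ne_one h0
  have hr3 : 3 ≤ r := by have := hr.two_le; omega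
  have hm0 : 0 < m := Nat.pos_of_ne_zero fun h => hrm (h ▸ dvd_zero r)
  rcases k with _ | k
  swap
  · have hN : n = m * r * r ^ (k + 1) := by rw [hnm, pow_succ _ (k + 1)]; ring
    rw [hN, eval_mul_pow hr (dvd_mul_left r m)] at hval
    have h := hbig (m * r) (2 ^ r ^ (k + 1)) (dvd_mul_left r m) (by nlinarith) (by
      have : 2 ^ 2 ≤ 2 ^ r ^ (k + 1) := Nat.pow_le_pow_right (by norm_num)
        (le_trans (by omega : 2 ≤ r) (Nat.le_self_pow k.succ_ne_zero r))
      omega)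
    push_cast at h
    push_cast at hval
    exact h.ne' hval
  rw [zero_add, pow_one] at hnm
  have hexp := congrArg (Polynomial.eval ((2 : ℕ) : ℤ)) (cyclotomic_expand_eq_cyclotomic_mul hr hrm ℤ)
  rw [expand_eval, eval_mul, mul_comm m r, ← hnm, hval] at hexp
  push_cast at hexp
  have h2r : 2 * r ≤ 2 ^ r - 1 := by
    have h1 : r - 3 < 2 ^ (r - 3) := Nat.lt_two_pow_self
    have h2' : 2 ^ r = 8 * 2 ^ (r - 3) := by
      conv_lhs => rw [show r = 3 + (r - 3) by omega, pow_add]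
      norm_num
    omega
  by_cases hm1 : m = 1
  · subst hm1
    simp only [cyclotomic_one, eval_sub, eval_X, eval_one] at hexp
    have : ((2 ^ r - 1 : ℕ) : ℤ) = r := by
      rw [Nat.cast_sub Nat.one_le_two_pow]
      push_cast
      linarith
    norm_cast at this
    omega
  by_cases hm2 : m = 2
  · subst hm2
    simp only [cyclotomic_two, eval_add, eval_X, eval_one] at hexp
    have hr5 : r ≠ 3 := fun h => h6 ⟨rfl, by rw [hnm, h]⟩
    have h1 : r - 4 < 2 ^ (r - 4) := Nat.lt_two_pow_self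
    have h4 : r ≠ 4 := fun h => by rw [h] at hr; exact (by decide : ¬ Nat.Prime 4) hr
    have h2' : 2 ^ r = 16 * 2 ^ (r - 4) := by
      conv_lhs => rw [show r = 4 + (r - 4) by omega, pow_add]
      norm_num
    have : ((2 ^ r + 1 : ℕ) : ℤ) = ((3 * r : ℕ) : ℤ) := by push_cast; linarith
    norm_cast at this
    omega
  have hm3 : 3 ≤ m := by omega
  have hr5 : 5 ≤ r := by
    have := Nat.le_of_dvd (by omega) hmr
    have : r ≠ 4 := fun h => by rw [h] at hr; exact (by decide : ¬ Nat.Prime 4) hr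
    omega
  have h3r : 3 * r ≤ 2 ^ r - 1 := by
    have h1 : r - 4 < 2 ^ (r - 4) := Nat.lt_two_pow_self
    have h2' : 2 ^ r = 16 * 2 ^ (r - 4) := by
      conv_lhs => rw [show r = 4 + (r - 4) by omega, pow_add]
      norm_num
    omega
  have hlow := cyc_lower (x := 2 ^ r) (by omega : 2 ≤ m)
    (le_trans (le_of_eq (pow_one 2).symm) (Nat.pow_le_pow_right (by norm_num) (by omega)))
  have hup := cyc_upper (x := 2) hm3 le_rfl
  push_cast at hlow hup
  rw [hexp] at hlow
  have hphi : 1 ≤ m.totient := Nat.totient_pos.2 hm0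
  have hA : (r : ℤ) * 3 ^ m.totient ≤ ((2 : ℤ) ^ r - 1) ^ m.totient := by
    have h' : ((3 * r : ℕ) : ℤ) ≤ ((2 ^ r - 1 : ℕ) : ℤ) := by exact_mod_cast h3r
    rw [Nat.cast_sub Nat.one_le_two_pow] at h'
    push_cast at h'
    refine le_trans ?_ (pow_le_pow_left₀ (by positivity) h' _)
    rw [mul_pow, mul_comm]
    refine mul_le_mul_of_nonneg_left ?_ (by positivity)
    exact le_self_pow₀ (by exact_mod_cast hr.one_le) (by omega)
  have hB : (r : ℤ) * (cyclotomic m ℤ).eval 2 < (r : ℤ) * (2 + 1) ^ m.totient :=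
    mul_lt_mul_of_pos_left hup (by exact_mod_cast hr.pos)
  norm_num at hB
  linarith

end Cfsg.Lib.Zsigmondy
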