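import Cfsg.Agent.Components.Balance
import Cfsg.Agent.Coprime.SolvableBasics

/-!
Known simple groups under isomorphism, components of centralizer quotients in K-proper groups.
-/

set_option linter.style.haveILetI false
set_option linter.unusedSectionVars false

namespace Cfsg.Lib.KSections

open Subgroup

universe u v

theorem isKnown_congr {G : Type u} {G' : Type v} [Group G] [Group G'] (e : G ≃* G') :
    Cfsg.IsKnownSimple' G ↔ Cfsg.IsKnownSimple' G' := by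
  have h1 : ∀ (X : Type) [Group X], Nonempty (G ≃* X) ↔ Nonempty (G' ≃* X) := fun X _ =>
    ⟨fun ⟨f⟩ => ⟨e.symm.trans f⟩, fun ⟨f⟩ => ⟨e.trans f⟩⟩
  simp only [Cfsg.IsKnownSimple', Cfsg.IsPrimeCyclic, Cfsg.IsAlternating, Cfsg.IsPSL, Cfsg.IsPSp, Cfsg.IsPSU,
    Cfsg.IsPOmegaOdd, Cfsg.IsPOmegaPlus, Cfsg.IsPOmegaMinus, Cfsg.IsExceptionalLieType, Cfsg.IsSporadicGroup,
    Cfsg.Lie.IsoChevG2, Cfsg.Lie.IsoF4, Cfsg.Lie.IsoChevE6, Cfsg.Lie.IsoE7, Cfsg.Lie.IsoE8,
    Cfsg.Lie.ChevalleyDatum.IsGroupOver, Cfsg.Lie.Iso2E6, Cfsg.Lie.Iso3D4, Cfsg.Lie.IsoSuzuki, Cfsg.Lie.IsoRee,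
    Cfsg.Lie.Iso2F4, Cfsg.Lie.IsoTits,
    Cfsg.Spor.IsoM11, Cfsg.Spor.IsoM12, Cfsg.Spor.IsoM22, Cfsg.Spor.IsoM23, Cfsg.Spor.IsoM24,
    Cfsg.Spor.IsoJ1, Cfsg.Spor.IsoJ2, Cfsg.Spor.IsoJ3, Cfsg.Spor.IsoJ4,
    Cfsg.Spor.IsoCo1, Cfsg.Spor.IsoCo2, Cfsg.Spor.IsoCo3, Cfsg.Spor.IsoMcL, Cfsg.Spor.IsoHS, Cfsg.Spor.IsoSuz,
    Cfsg.Spor.IsoHe, Cfsg.Spor.IsoRu, Cfsg.Spor.IsoON, Cfsg.Spor.IsoLy, Cfsg.Spor.IsoFi22, Cfsg.Spor.IsoFi23,
    Cfsg.Spor.IsoFi24', Cfsg.Spor.IsoHN, Cfsg.Spor.IsoTh, Cfsg.Spor.IsoB, Cfsg.Spor.IsoM,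
    h1, Nat.card_congr e.toEquiv]

/-- a simple non-abelian quotient of a subgroup of a proper subgroup is known -/
theorem known_of_surjective {G : Type u} [Group G] (hK : Cfsg.IsKProper G) {C : Subgroup G} (hC : C ≠ ⊤)
    {X : Type u} [Group X] (hX : IsSimpleGroup X) (hnc : ¬ IsMulCommutative X) (H : Subgroup ↥C) (f : ↥H →* X)
    (hf : Function.Surjective f) : Cfsg.IsKnownSimple' X := by
  let e : ↥H ⧸ f.ker ≃* X := QuotientGroup.quotientKerEquivOfSurjective f hf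
  refine (isKnown_congr e).1 (hK C hC H f.ker ?_ ?_)
  · haveI : Nontrivial (↥H ⧸ f.ker) := e.toEquiv.nontrivial
    exact IsSimpleGroup.isSimpleGroup_of_surjective e.symm.toMonoidHom e.symm.surjective
  · intro h
    refine hnc ⟨⟨fun a b => e.symm.injective ?_⟩⟩
    rw [map_mul, map_mul]
    exact h.is_comm.comm _ _

variable {G : Type u} [Group G] [Finite G] [IsSimpleGroup G]

theorem centralizer_singleton_ne_top (hG : ¬ IsMulCommutative G) {x : G} (hx : x ≠ 1) :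
    Subgroup.centralizer ({x} : Set G) ≠ ⊤ := by
  intro h
  have hz : x ∈ center G := mem_center_iff.2 fun g =>
    (mem_centralizer_iff.1 (h.ge (mem_top g)) x rfl).symm
  rcases (inferInstance : (center G).Normal).eq_bot_or_eq_top with hb | ht
  · exact hx (by rwa [hb, mem_bot] at hz)
  · exact hG ⟨⟨fun a b => (mem_center_iff.1 (ht ▸ mem_top a) b).symm⟩⟩

/-- components of `C_G(x)/O_{p'}(C_G(x))` in a K-proper simple group -/
theorem component_props (hG : ¬ IsMulCommutative G) (hK : Cfsg.IsKProper G) {p : ℕ} [Fact p.Prime] {x : G}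
    (hx : x ≠ 1)
    {K : Subgroup (↥(Subgroup.centralizer ({x} : Set G)) ⧸ pPrimeCore p ↥(Subgroup.centralizer ({x} : Set G)))}
    (hc : Cfsg.IsComponent K) :
    Cfsg.IsQuasisimple K ∧ IsPGroup p ↥(Subgroup.center K) ∧ Cfsg.IsKnownSimple' (↥K ⧸ Subgroup.center K) := by
  refine ⟨hc.2, ?_, ?_⟩
  · have hO := Cfsg.Lib.Coprime.pPrimeCore_quotient_eq_bot (G := ↥(Subgroup.centralizer ({x} : Set G))) (p := p)
    have h1 := Cfsg.Lib.Components.center_component_le_pCore hO hc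
    intro z
    have hz : z.1.1 ∈ K ⊓ centralizer (K : Set _) := by
      refine mem_inf.2 ⟨(z : ↥K).2, mem_centralizer_iff.2 fun k hk => ?_⟩
      exact congrArg Subtype.val (mem_center_iff.1 z.2 ⟨k, hk⟩)
    obtain ⟨n, hn⟩ := Cfsg.Lib.Components.isPGroup_pCore (p := p) ⟨_, h1 hz⟩
    exact ⟨n, Subtype.ext (Subtype.ext (congrArg Subtype.val hn :))⟩
  · have hcomm : ¬ IsMulCommutative (↥K ⧸ Subgroup.center ↥K) := by
      intro h
      haveI := hc.2.2
      have h2 : ⁅(⊤ : Subgroup ↥K), (⊤ : Subgroup ↥K)⁆ ≤ center ↥K := by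
        refine commutator_le.2 fun a _ b _ => (QuotientGroup.eq_one_iff _).1 ?_
        rw [← QuotientGroup.mk'_apply, map_commutatorElement, commutatorElement_eq_one_iff_mul_comm]
        exact h.is_comm.comm _ _
      rw [Cfsg.Lib.Components.qs_commutator_top hc.2] at h2
      exact Cfsg.Lib.Components.qs_center_ne_top hc.2 (top_le_iff.1 h2)
    let π := QuotientGroup.mk' (pPrimeCore p ↥(Subgroup.centralizer ({x} : Set G)))
    refine known_of_surjective hK (centralizer_singleton_ne_top hG hx) hc.2.2 hcomm (K.comap π)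
      ((QuotientGroup.mk' (Subgroup.center ↥K)).comp (π.subgroupComap K)) ?_
    exact (QuotientGroup.mk'_surjective _).comp
      (MonoidHom.subgroupComap_surjective_of_surjective π K (QuotientGroup.mk'_surjective _))

end Cfsg.Lib.KSections
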