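import Cfsg.Agent.Components.Structure
import Cfsg.Agent.Components.Supplement
import Cfsg.Agent.Coprime.Action
import Cfsg.Agent.Transfer.Basic

/-!
Action of a `p`-group on a subgroup that is its own generalized Fitting subgroup and has trivial `O_p`.
-/

set_option linter.style.haveILetI false
set_option linter.unusedSectionVars false

namespace Cfsg.Lib.GenFittingAction

open Subgroup Cfsg.Lib.Components
open scoped commutatorElement

universe u

theorem not_dvd_card_fitting {X : Type u} [Group X] [Finite X] {p : ℕ} [hp : Fact p.Prime]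
    (hO : Cfsg.pCore p X = ⊥) : ¬ p ∣ Nat.card (Cfsg.fittingSubgroup X) := by
  intro hd
  set F := Cfsg.fittingSubgroup X
  haveI := isNilpotent_fitting (G := X)
  obtain ⟨P⟩ := (inferInstance : Nonempty (Sylow p F))
  haveI : (P : Subgroup F).Normal := P.normal_of_normalizerCondition Group.normalizerCondition_of_isNilpotent
  haveI := Sylow.characteristic_of_normal P inferInstance
  haveI : ((P : Subgroup F).map F.subtype).Normal := ConjAct.normal_of_characteristic_of_normal
  have h1 : (P : Subgroup F).map F.subtype ≤ ⊥ := hO ▸ le_pCore (P.2.map _)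
  have h2 : (P : Subgroup F) = ⊥ := (map_eq_bot_iff_of_injective _ F.subtype_injective).1 (le_bot_iff.1 h1)
  have h3 := P.dvd_card_of_dvd_card hd
  rw [h2, Subgroup.card_bot] at h3
  exact hp.out.ne_one (Nat.dvd_one.1 h3)

variable {G : Type u} [Group G] [Finite G] {p : ℕ} [hp : Fact p.Prime]

theorem le_normalizer_map_char (X : Subgroup G) (C : Subgroup X) [hC : C.Characteristic] :
    normalizer (X : Set G) ≤ normalizer ((C.map X.subtype : Subgroup G) : Set G) := by
  intro g hg
  have key : ∀ a ∈ normalizer (X : Set G), ∀ x ∈ C.map X.subtype, a * x * a⁻¹ ∈ C.map X.subtype := by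
    rintro a ha _ ⟨s, hs, rfl⟩
    let φ : MulAut X :=
      { toFun := fun t => ⟨a * t * a⁻¹, (mem_normalizer_iff.1 ha t).1 t.2⟩
        invFun := fun t => ⟨a⁻¹ * t * a, by
          have := (mem_normalizer_iff.1 (inv_mem ha) t).1 t.2
          simpa using this⟩
        left_inv := fun t => Subtype.ext (by simp [mul_assoc])
        right_inv := fun t => Subtype.ext (by simp [mul_assoc])
        map_mul' := fun b c => Subtype.ext (by simp [mul_assoc]) }
    exact ⟨φ s, (characteristic_iff_map_eq.1 hC φ).le ⟨s, hs, rfl⟩, rfl⟩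
  exact Cfsg.Lib.Coprime.mem_normalizer_of_conj_mem (key g hg)
    (fun x hx => by simpa using key g⁻¹ (inv_mem hg) x hx)

theorem le_normalizer_commutator {X Y : Subgroup G} : X ≤ normalizer ((⁅X, Y⁆ : Subgroup G) : Set G) :=
  Cfsg.Lib.Coprime.le_normalizer_commutator_left Y X

/-- a component of `X` is centralized by `Y` or lies in `[Z, Y]` -/
theorem comp_le_commutator (X Y : Subgroup G) (K : Subgroup X) (hK : Cfsg.IsComponent K) (Z : Subgroup G)
    (hYX : Y ≤ normalizer (X : Set G)) (hZX : Z ≤ X) (hKZ : K.map X.subtype ≤ Z) :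
    K.map X.subtype ≤ ⁅Z, Y⁆ ∨ K.map X.subtype ≤ centralizer (Y : Set G) := by
  set K' := K.map X.subtype
  set T := ⁅Z, Y⁆
  have hTX : T ≤ X := (commutator_mono hZX le_rfl).trans (Cfsg.Lib.Coprime.commutator_le_of_le_normalizer hYX)
  have hKn : K ≤ normalizer ((T.subgroupOf X : Subgroup X) : Set X) := by
    intro k hk
    rw [← subgroupOf_normalizer_eq hTX]
    exact le_normalizer_commutator (hKZ ⟨k, hk, rfl⟩)
  rcases comp_le_or_commute_of_normalizes hK hKn with h | h
  · exact Or.inl ((map_mono h).trans (by rw [map_subgroupOf_eq_of_le hTX]))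
  right
  have hfix : ∀ k ∈ K, ∀ a ∈ T, (k : G) * a = a * k := fun k hk a ha =>
    congrArg Subtype.val (commute_of_commutator_eq_bot h hk (show (⟨a, hTX ha⟩ : X) ∈ T.subgroupOf X from ha))
  have hKp := comp_perfect hK
  have hconj : ∀ y ∈ Y, ∀ k ∈ K, ∀ l ∈ K,
      y * (⁅k, l⁆ : X) * y⁻¹ = ((⁅k, l⁆ : X) : G) := by
    intro y hy k hk l hl
    -- `c_k = [k, y]` centralizes `K`
    have hc : ∀ w ∈ K, (w : G)⁻¹ * (y * w * y⁻¹) ∈ T := fun w hw => by
      rw [show (w : G)⁻¹ * (y * w * y⁻¹) = ⁅(w : G)⁻¹, y⁆ by rw [commutatorElement_def]; group]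
      exact commutator_mem_commutator (inv_mem (hKZ ⟨w, hw, rfl⟩)) hy
    set ck := (k : G)⁻¹ * (y * k * y⁻¹) with hck
    set cl := (l : G)⁻¹ * (y * l * y⁻¹) with hcl
    have ek : y * (k : G) * y⁻¹ = k * ck := by rw [hck]; group
    have el : y * (l : G) * y⁻¹ = l * cl := by rw [hcl]; group
    have h1 : Commute (k : G) ck := hfix k hk _ (hc k hk)
    have h2 : Commute (k : G) cl := hfix k hk _ (hc l hl)
    have h3 : Commute (l : G) ck := hfix l hl _ (hc k hk)
    have h4 : Commute (l : G) cl := hfix l hl _ (hc l hl)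
    have e0 : y * ((⁅k, l⁆ : X) : G) * y⁻¹ = ⁅(k : G) * ck, (l : G) * cl⁆ := by
      rw [← ek, ← el]
      show y * ⁅(k : G), (l : G)⁆ * y⁻¹ = _
      simp only [commutatorElement_def]; group
    rw [e0]
    have h5 : ck * cl = cl * ck := by
      -- `cl` is a product of a conjugate of an element of `K` and an element of `K`
      have hk1 : Commute (y * (k : G) * y⁻¹) (y * cl * y⁻¹) := (h2.conj y)
      have hcy : cl ∈ T := hc l hl
      have hcy' : y⁻¹ * cl * y ∈ T := by
        have := (mem_normalizer_iff.1 (Cfsg.Lib.Coprime.le_normalizer_commutator_right Y Z (inv_mem hy)) cl).1 hcy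
        simpa using this
      have hk2 : Commute (k : G) (y⁻¹ * cl * y) := hfix k hk _ hcy'
      have hk3 : Commute (y * (k : G) * y⁻¹) cl := by simpa [mul_assoc] using hk2.conj y
      have := (h2.inv_left).mul_left hk3
      exact this.eq
    show ⁅(k : G) * ck, (l : G) * cl⁆ = ⁅(k : G), (l : G)⁆
    simp only [commutatorElement_def, mul_inv_rev]
    calc (k : G) * ck * (↑l * cl) * (ck⁻¹ * (↑k)⁻¹) * (cl⁻¹ * (↑l)⁻¹)
        = k * (ck * l) * (cl * ck⁻¹) * ((k : G)⁻¹ * cl⁻¹) * (l : G)⁻¹ := by group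
      _ = k * (l * ck) * (ck⁻¹ * cl) * (cl⁻¹ * (k : G)⁻¹) * (l : G)⁻¹ := by
          rw [h3.eq, (show Commute cl ck from h5.symm).inv_right.eq, (h2.inv_left.inv_right).eq]
      _ = _ := by group
  intro x hx
  refine mem_centralizer_iff.2 fun y hy => ?_
  have hS : K ≤ (centralizer ({y} : Set G)).comap X.subtype := by
    conv_lhs => rw [← hKp]
    rw [commutator_le]
    intro k hk l hl
    refine mem_centralizer_singleton_iff.2 ?_
    show ((⁅k, l⁆ : X) : G) * y = y * (⁅k, l⁆ : X)
    exact (mul_inv_eq_iff_eq_mul.1 (hconj y hy k hk l hl)).symm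
  obtain ⟨w, hw, rfl⟩ := hx
  exact (mem_centralizer_singleton_iff.1 (hS hw)).symm

/-- `X = [X, Y] C_X(Y)` and `[X, Y, Y] = [X, Y]` -/
theorem action_decomp (X Y : Subgroup G) (hYX : Y ≤ normalizer (X : Set G)) (hY : IsPGroup p Y)
    (hO : Cfsg.pCore p X = ⊥) (hgf : Cfsg.generalizedFittingSubgroup X = ⊤) :
    ⁅X, Y⁆ ⊔ (X ⊓ centralizer (Y : Set G)) = X ∧ ⁅X, Y⁆ = ⁅⁅X, Y⁆, Y⁆ := by
  set C := X ⊓ centralizer (Y : Set G)
  set W := ⁅X, Y⁆
  have hWX : W ≤ X := Cfsg.Lib.Coprime.commutator_le_of_le_normalizer hYX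
  set E := (Cfsg.layer X).map X.subtype
  set F := (Cfsg.fittingSubgroup X).map X.subtype
  haveI : (Cfsg.fittingSubgroup X).Characteristic := characteristic_iff_map_eq.mpr fun e => fitting_map_equiv e
  have hFY : Y ≤ normalizer (F : Set G) := hYX.trans (le_normalizer_map_char X _)
  have hFX : F ≤ X := map_subtype_le _
  have hXEF : X ≤ E ⊔ F := by
    intro x hx
    have := mem_map_of_mem X.subtype (hgf.ge (mem_top (⟨x, hx⟩ : X)))
    rwa [Cfsg.generalizedFittingSubgroup, Subgroup.map_sup] at this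
  obtain ⟨k, hk⟩ := IsPGroup.iff_card.1 hY
  have hcop : (Nat.card Y).Coprime (Nat.card F) := by
    rw [hk, card_map_of_injective X.subtype_injective]
    exact Nat.Coprime.pow_left k (hp.out.coprime_iff_not_dvd.2 (not_dvd_card_fitting hO))
  haveI := hY.isNilpotent
  have hsol : Group.IsSolvable Y := inferInstance
  have hF1 := Cfsg.Lib.Coprime.commutator_sup_centralizer hFY hcop (Or.inl hsol)
  have hF2 := Cfsg.Lib.Coprime.commutator_commutator_eq hFY hcop (Or.inl hsol)
  have hcomp : ∀ K : Subgroup X, Cfsg.IsComponent K →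
      K.map X.subtype ≤ ⁅W, Y⁆ ∨ K.map X.subtype ≤ C := by
    intro K hK
    rcases comp_le_commutator X Y K hK X hYX le_rfl (map_subtype_le _) with h | h
    · rcases comp_le_commutator X Y K hK W hYX hWX h with h' | h'
      · exact Or.inl h'
      · exact Or.inr (le_inf (map_subtype_le _) h')
    · exact Or.inr (le_inf (map_subtype_le _) h)
  have hWW : ⁅W, Y⁆ ≤ W :=
    Cfsg.Lib.Coprime.commutator_le_of_le_normalizer (Cfsg.Lib.Coprime.le_normalizer_commutator_right Y X)
  have hgen : X ≤ ⁅W, Y⁆ ⊔ C := by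
    refine hXEF.trans (sup_le ?_ ?_)
    · rw [show E = (Cfsg.layer X).map X.subtype from rfl, Cfsg.layer, sSup_eq_iSup, Subgroup.map_iSup]
      refine iSup_le fun K => ?_
      rw [Subgroup.map_iSup]
      exact iSup_le fun hK => (hcomp K hK).elim le_sup_of_le_left le_sup_of_le_right
    · rw [← hF1, ← hF2]
      exact sup_le_sup (commutator_mono (commutator_mono hFX le_rfl) le_rfl) (inf_le_inf_right _ hFX)
  have hCW : C ≤ normalizer ((⁅W, Y⁆ : Subgroup G) : Set G) := by
    intro c hc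
    rw [mem_normalizer_iff_map_conj_eq]
    have h1 : Y.map (MulAut.conj c).toMonoidHom = Y :=
      mem_normalizer_iff_map_conj_eq.1 (centralizer_le_normalizer _ (mem_inf.1 hc).2)
    have h2 : X.map (MulAut.conj c).toMonoidHom = X :=
      mem_normalizer_iff_map_conj_eq.1 (le_normalizer (mem_inf.1 hc).1)
    show (⁅W, Y⁆).map (MulAut.conj c).toMonoidHom = ⁅W, Y⁆
    rw [Subgroup.map_commutator, Subgroup.map_commutator, h1, h2]
  refine ⟨le_antisymm (sup_le hWX inf_le_left) (hgen.trans (sup_le_sup_right hWW C)), le_antisymm ?_ hWW⟩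
  rw [commutator_le]
  intro x hx y hy
  obtain ⟨w, hw, c, hc, rfl⟩ := (Cfsg.Lib.Coprime.mem_sup_of_le_normalizer hCW).1 (hgen hx)
  have hcy : y * c⁻¹ = c⁻¹ * y := mem_centralizer_iff.1 (inv_mem (mem_inf.1 hc).2) y hy
  have e : ⁅w * c, y⁆ = ⁅w, y⁆ := by
    rw [commutatorElement_def, commutatorElement_def, mul_inv_rev]
    calc w * c * y * (c⁻¹ * w⁻¹) * y⁻¹ = w * c * (y * c⁻¹) * w⁻¹ * y⁻¹ := by group
      _ = w * y * w⁻¹ * y⁻¹ := by rw [hcy]; group
  rw [e]
  exact commutator_mem_commutator (hWW hw) hy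

theorem pCore_eq_bot_of_subnormal {H : Type u} [Group H] [Finite H] (hO : Cfsg.pCore p H = ⊥) {L : Subgroup H}
    (hL : L.IsSubnormal) : Cfsg.pCore p L = ⊥ := by
  refine (map_eq_bot_iff_of_injective _ L.subtype_injective).1 (le_bot_iff.1 ?_)
  rw [← hO]
  exact le_pCore_of_subnormal ((Normal.isSubnormal (pCore_normal' p)).trans' hL) ((isPGroup_pCore p).map _)

theorem genFitting_eq_top {H : Type u} [Group H] [Finite H] {L : Subgroup H}
    (hL : L.IsSubnormal) (hLF : L ≤ Cfsg.generalizedFittingSubgroup H) : Cfsg.generalizedFittingSubgroup L = ⊤ := by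
  refine map_injective L.subtype_injective ?_
  rw [genFitting_map_subtype_eq hL, inf_eq_right.2 hLF, ← MonoidHom.range_eq_map, range_subtype]

theorem subnormal_decomp (H : Subgroup G) (hO : Cfsg.pCore p ↥H = ⊥) (Y : Subgroup G) (hY : IsPGroup p ↥Y)
    (L : Subgroup G) (hLF : L ≤ (Cfsg.generalizedFittingSubgroup ↥H).map H.subtype)
    (hLsn : (L.subgroupOf H).IsSubnormal) (hYL : Y ≤ normalizer (L : Set G)) :
    ⁅L, Y⁆ ⊔ (L ⊓ centralizer (Y : Set G)) = L ∧ ⁅L, Y⁆ = ⁅⁅L, Y⁆, Y⁆ := by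
  have hLH : L ≤ H := hLF.trans (map_subtype_le _)
  have hLF' : L.subgroupOf H ≤ Cfsg.generalizedFittingSubgroup H := by
    intro x hx
    obtain ⟨y, hy, e⟩ := hLF hx
    rwa [← Subtype.ext (a1 := y) (a2 := x) e]
  let e : ↥(L.subgroupOf H) ≃* L := subgroupOfEquivOfLe hLH
  refine action_decomp L Y hYL hY ?_ ?_
  · have h := pCore_eq_bot_of_subnormal hO hLsn
    haveI := Cfsg.Lib.Components.pCore_normal' (G := L) p
    haveI : ((Cfsg.pCore p L).map e.symm.toMonoidHom).Normal := Normal.map inferInstance _ e.symm.surjective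
    refine (map_eq_bot_iff_of_injective _ (f := e.symm.toMonoidHom) e.symm.injective).1 (le_bot_iff.1 ?_)
    rw [← h]
    exact le_pCore ((isPGroup_pCore p).map _)
  · rw [← genFitting_map_equiv e, genFitting_eq_top hLsn hLF', map_top_of_surjective _ e.surjective]

/-- a `p`-group centralizing the generalized Fitting subgroup is trivial when `O_p = 1` -/
theorem eq_bot_of_centralizes {H : Type u} [Group H] [Finite H] (hO : Cfsg.pCore p H = ⊥) (Y : Subgroup H)
    (hY : IsPGroup p Y) (hc : Y ≤ centralizer (Cfsg.generalizedFittingSubgroup H : Set H)) : Y = ⊥ := by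
  set Fs := Cfsg.generalizedFittingSubgroup H
  set Zc := centralizer (Fs : Set H)
  haveI : Zc.Normal := inferInstance
  have hab : ∀ a ∈ Zc, ∀ b ∈ Zc, a * b = b * a := fun a ha b hb =>
    mem_centralizer_iff.1 hb a (centralizer_genFitting_le ha)
  haveI : (Y.subgroupOf Zc).Normal := ⟨fun n hn g => by
    have : g * n = n * g := Subtype.ext (hab g g.2 n n.2)
    rwa [this, mul_inv_cancel_right]⟩
  refine le_bot_iff.1 ?_
  rw [← hO]
  refine le_pCore_of_subnormal ?_ hY
  exact IsSubnormal.trans hc (Normal.isSubnormal inferInstance) (Normal.isSubnormal inferInstance)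

theorem commutator_le_of_subnormal {H : Type u} [Group H] {W Y K : Subgroup H}
    (hK : K.IsSubnormal) (hYK : Y ≤ K) (hW : W = ⁅W, Y⁆) : W ≤ K := by
  induction hK with
  | top => exact le_top
  | step A B hAB hB hn ih =>
    have h1 : W ≤ B := ih (hYK.trans hAB)
    rw [normal_subgroupOf_iff_le_normalizer hAB] at hn
    rw [hW, commutator_comm]
    exact (commutator_mono hYK le_rfl).trans (Cfsg.Lib.Coprime.commutator_le_of_le_normalizer (h1.trans hn))

theorem genFitting_commutator {H : Type u} [Group H] [Finite H] (hO : Cfsg.pCore p H = ⊥) (Y : Subgroup H)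
    (hY : IsPGroup p ↥Y) :
    (∀ K : Subgroup H, K.IsSubnormal → Y ≤ K →
      ⁅Cfsg.generalizedFittingSubgroup H, Y⁆ = ⁅(Cfsg.generalizedFittingSubgroup ↥K).map K.subtype, Y⁆ ∧
      ⁅(Cfsg.generalizedFittingSubgroup ↥K).map K.subtype, Y⁆ =
        ⁅⁅(Cfsg.generalizedFittingSubgroup ↥K).map K.subtype, Y⁆, Y⁆) ∧
      (∀ Y₀ : Subgroup H, Y₀ ≤ Y → ⁅⁅Cfsg.generalizedFittingSubgroup H, Y⁆, Y₀⁆ = ⊥ → Y₀ = ⊥) := by
  set Fs := Cfsg.generalizedFittingSubgroup H
  have hFn : (⊤ : Subgroup H) ≤ normalizer (Fs : Set H) := (normalizer_eq_top_iff.2 inferInstance).ge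
  obtain ⟨h1, h2⟩ := action_decomp Fs Y (le_top.trans hFn) hY
    (pCore_eq_bot_of_subnormal hO (Normal.isSubnormal inferInstance))
    (genFitting_eq_top (Normal.isSubnormal inferInstance) le_rfl)
  refine ⟨fun K hK hYK => ?_, fun Y₀ hY₀ hc => ?_⟩
  · rw [genFitting_map_subtype_eq hK]
    have hW : ⁅Fs, Y⁆ ≤ Fs ⊓ K := le_inf (Cfsg.Lib.Coprime.commutator_le_of_le_normalizer (le_top.trans hFn))
      (commutator_le_of_subnormal hK hYK h2)
    have e : ⁅Fs, Y⁆ = ⁅Fs ⊓ K, Y⁆ :=
      le_antisymm (h2.le.trans (commutator_mono hW le_rfl)) (commutator_mono inf_le_left le_rfl)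
    exact ⟨e, by rw [← e]; exact h2⟩
  · refine eq_bot_of_centralizes hO Y₀ (hY.to_le hY₀) ?_
    rw [← commutator_eq_bot_iff_le_centralizer, commutator_comm, commutator_eq_bot_iff_le_centralizer]
    refine h1.ge.trans ?_
    exact sup_le (commutator_eq_bot_iff_le_centralizer.1 hc) (inf_le_right.trans (centralizer_le (SetLike.coe_subset_coe.mpr hY₀)))

end Cfsg.Lib.GenFittingAction
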