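import Cfsg.Agent.Components.BalanceHalf
import Cfsg.Agent.S1324
import Cfsg.Agent.Components.Misc.GenFittingAction

/-!
The functor of a `k`-balanced group: a solvable group generated by a consistent family of normal subgroups
of centralizers of large subgroups of an elementary abelian group contains nothing else in these centralizers.
-/

set_option linter.style.haveILetI false
set_option linter.unusedSectionVars false

namespace Cfsg.Lib.KBal

open Subgroup Cfsg Cfsg.Lib.Components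
open scoped commutatorElement

universe u

variable {G : Type u} [Group G] [Finite G] {p : ℕ} [hp : Fact p.Prime]

/-- the large subgroups of `A` -/
def Big (p k : ℕ) (A B : Subgroup G) : Prop := B ≤ A ∧ p ^ k ≤ Nat.card B

theorem elemAb_of_le {A B : Subgroup G} (hA : IsElementaryAbelian p A) (h : B ≤ A) : IsElementaryAbelian p B := by
  haveI := hA.1
  exact ⟨⟨⟨fun x y => Subtype.ext (by simpa using congrArg Subtype.val (IsMulCommutative.is_comm.comm
    (⟨(x : G), h x.2⟩ : ↥A) ⟨(y : G), h y.2⟩))⟩⟩, fun x hx => hA.2 x (h hx)⟩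

theorem le_centralizer_of_mem {A : Subgroup G} (hA : IsElementaryAbelian p A) {a : G} (ha : a ∈ A) :
    A ≤ centralizer ({a} : Set G) := fun x hx => by
  haveI := hA.1
  exact mem_centralizer_singleton_iff.mpr (congrArg Subtype.val (IsMulCommutative.is_comm.comm
    (⟨x, hx⟩ : ↥A) ⟨a, ha⟩))

theorem card_mul_relIndex' {A B : Subgroup G} (h : B ≤ A) : Nat.card B * B.relIndex A = Nat.card A := by
  have := relIndex_mul_relIndex ⊥ B A bot_le h
  rwa [relIndex_bot_left, relIndex_bot_left] at this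

theorem big_of_relIndex_le {A B : Subgroup G} {k j : ℕ} (hAk : p ^ (k + j) ≤ Nat.card A) (hB : B ≤ A)
    (hr : B.relIndex A ≤ p ^ j) : Big p k A B := by
  refine ⟨hB, Nat.le_of_mul_le_mul_right ?_ (pow_pos hp.out.pos j)⟩
  calc p ^ k * p ^ j = p ^ (k + j) := (pow_add p k j).symm
    _ ≤ Nat.card A := hAk
    _ = Nat.card B * B.relIndex A := (card_mul_relIndex' hB).symm
    _ ≤ Nat.card B * p ^ j := Nat.mul_le_mul_left _ hr

theorem sq_le {A : Subgroup G} {k : ℕ} (hAk : p ^ (k + 2) ≤ Nat.card A) : p ^ 2 ≤ Nat.card A :=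
  (Nat.pow_le_pow_right hp.out.pos (Nat.le_add_left 2 k)).trans hAk

/-- the sum over a finite group of the conjugates, in the abelianization -/
noncomputable def norm {H K : Subgroup G} (hH : H ≤ normalizer (K : Set G)) :
    ↥K →* Abelianization ↥K :=
  letI := Fintype.ofFinite ↥H
  MonoidHom.mk' (fun x => ∏ h : ↥H, Abelianization.of (K.normalizerMonoidHom (Subgroup.inclusion hH h) x))
    fun x y => by simp [Finset.prod_mul_distrib]

theorem norm_mem {H K L : Subgroup G} (hH : H ≤ normalizer (K : Set G)) (hHL : H ≤ normalizer (L : Set G))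
    (hLK : L ≤ K) (hcop : (Nat.card H).Coprime (Nat.card K)) (hsol : Group.IsSolvable H)
    {x : ↥K} (hx : (x : G) ∈ L) :
    ∃ y : ↥K, (y : G) ∈ L ⊓ centralizer (H : Set G) ∧ Abelianization.of y = norm hH x := by
  classical
  letI := Fintype.ofFinite ↥H
  set S : Subgroup (Abelianization ↥K) := (L.subgroupOf K).map Abelianization.of
  have hzS : norm hH x ∈ S := by
    show ∏ h : ↥H, _ ∈ S
    refine prod_mem fun h _ => ⟨_, ?_, rfl⟩
    show ((h : G) * x * (h : G)⁻¹) ∈ L
    exact (mem_normalizer_iff.mp (hHL h.2) _).mp hx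
  obtain ⟨z, hzL, hz⟩ := hzS
  replace hzL : (z : G) ∈ L := hzL
  set D : Subgroup G := ((commutator ↥K).map K.subtype) ⊓ L
  have hDn : H ≤ normalizer (D : Set G) := Cfsg.Lib.Coprime.le_normalizer_inf
    (hH.trans (Cfsg.Lib.GenFittingAction.le_normalizer_map_char K (commutator ↥K))) hHL
  have hinv : ∀ h : ↥H, Abelianization.of (K.normalizerMonoidHom (Subgroup.inclusion hH h) z) =
      Abelianization.of z := by
    intro h
    let f : Abelianization ↥K →* Abelianization ↥K := Abelianization.map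
      (K.normalizerMonoidHom (Subgroup.inclusion hH h)).toMonoidHom
    have : f (norm hH x) = norm hH x := by
      show f (∏ g : ↥H, _) = ∏ g : ↥H, _
      rw [map_prod]
      refine Fintype.prod_equiv (Equiv.mulLeft h) _ _ fun g => ?_
      show f (Abelianization.of _) = _
      rw [Abelianization.map_of]
      congr 1
      refine Subtype.ext ?_
      show (h : G) * ((g : G) * x * (g : G)⁻¹) * (h : G)⁻¹ =
        ((h * g : ↥H) : G) * x * ((h * g : ↥H) : G)⁻¹
      rw [Subgroup.coe_mul]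
      group
    rw [← hz] at this
    rwa [Abelianization.map_of] at this
  obtain ⟨d, hd, hc⟩ := Cfsg.Lib.Coprime.exists_fixed_of_commutator_mem hDn
    (hcop.coprime_dvd_right (card_dvd_of_le (inf_le_left.trans (map_subtype_le _)))) (Or.inl hsol)
    (show (z : G) ∈ normalizer (D : Set G) from Cfsg.Lib.Coprime.le_normalizer_inf
      (inf_le_right.trans
        (le_normalizer.trans (Cfsg.Lib.GenFittingAction.le_normalizer_map_char K (commutator ↥K))))
      (inf_le_left.trans le_normalizer) (mem_inf.mpr ⟨hzL, z.2⟩ : (z : G) ∈ L ⊓ K))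
    (fun a ha => ⟨⟨K.normalizerMonoidHom (Subgroup.inclusion hH ⟨a, ha⟩) z * z⁻¹, by
        rw [← Abelianization.ker_of, SetLike.mem_coe, MonoidHom.mem_ker, map_mul, map_inv, hinv, mul_inv_cancel], rfl⟩,
      L.mul_mem ((mem_normalizer_iff.mp (hHL ha) _).mp hzL) (L.inv_mem hzL)⟩)
  obtain ⟨⟨d', hd', rfl⟩, hdL⟩ := hd
  refine ⟨z * d', ⟨mul_mem hzL hdL, hc⟩, ?_⟩
  rw [map_mul, hz, show Abelianization.of d' = 1 from (by rwa [← MonoidHom.mem_ker, Abelianization.ker_of]),
    mul_one]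

/-- the consistent family determines the centralizers -/
theorem inf_centralizer_le {A : Subgroup G} (hA : IsElementaryAbelian p A) {k : ℕ}
    (hAk : p ^ (k + 2) ≤ Nat.card A) :
    ∀ n : ℕ, ∀ K : Subgroup G, Nat.card K = n → Group.IsSolvable ↥K → ¬ p ∣ Nat.card K →
      A ≤ normalizer (K : Set G) → ∀ L : Subgroup G → Subgroup G,
      (∀ B, Big p k A B → L B ≤ K ⊓ centralizer (B : Set G)) →
      (∀ B, Big p k A B → A ⊔ (K ⊓ centralizer (B : Set G)) ≤ normalizer (L B : Set G)) →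
      (∀ B B', Big p k A B → Big p k A B' → L B ⊓ centralizer (B' : Set G) ≤ L B') →
      K ≤ ⨆ B : {B // Big p k A B}, L B →
      ∀ B, Big p k A B → K ⊓ centralizer (B : Set G) ≤ L B := by
  classical
  intro n
  induction n using Nat.strong_induction_on with
  | _ n ih =>
  intro K hn hKs hKp hAK L hLK hLn hLc hgen
  by_cases hK1 : K = ⊥
  · intro B _
    rw [hK1, bot_inf_eq]
    exact bot_le
  haveI := hKs
  haveI : Nontrivial ↥K := (nontrivial_iff_ne_bot K).mpr hK1
  set K' : Subgroup G := (commutator ↥K).map K.subtype with hK'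
  have hK'K : K' ≤ K := map_subtype_le _
  have hlt : Nat.card K' < n := by
    rw [← hn]
    refine lt_of_le_of_ne (Nat.le_of_dvd Nat.card_pos (card_dvd_of_le hK'K)) fun e => ?_
    have h1 := eq_of_le_of_card_ge hK'K e.ge
    refine (Group.IsSolvable.commutator_lt_top_of_nontrivial ↥K).ne (map_injective K.subtype_injective ?_)
    rw [← hK', h1, ← MonoidHom.range_eq_map, range_subtype]
  -- the hyperplanes
  have hhyp : ∀ H : {H : Subgroup G // H ≤ A ∧ H.relIndex A ≤ p}, Big p k A H := fun H =>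
    big_of_relIndex_le (j := 1) ((Nat.pow_le_pow_right hp.out.pos (by omega)).trans hAk) H.2.1
      (by simpa using H.2.2)
  have hbig2 : ∀ H₁ H₂ : {H : Subgroup G // H ≤ A ∧ H.relIndex A ≤ p}, Big p k A (H₁.1 ⊓ H₂.1) :=
    fun H₁ H₂ => big_of_relIndex_le (j := 2) hAk (inf_le_left.trans H₁.2.1)
      (relIndex_inf_le.trans (by rw [pow_two]; exact Nat.mul_le_mul H₁.2.2 H₂.2.2))
  have hsplit : ∀ M : Subgroup G, A ≤ normalizer (M : Set G) → ∀ B, Big p k A B →
      L B ⊓ M ≤ ⨆ H : {H : Subgroup G // H ≤ A ∧ H.relIndex A ≤ p}, L H.1 ⊓ M := by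
    intro M hAM B hB
    have hX : ¬ p ∣ Nat.card ↥(L B ⊓ M) := fun h =>
      hKp (h.trans (card_dvd_of_le (inf_le_left.trans ((hLK B hB).trans inf_le_left))))
    refine (Cfsg.Agent.S1324.result p A (L B ⊓ M) hA (sq_le hAk) hX
      (Cfsg.Lib.Coprime.le_normalizer_inf ((le_sup_left).trans (hLn B hB)) hAM)).trans_le ?_
    exact iSup_mono fun H => le_inf (fun x hx => hLc B H hB (hhyp H) ⟨hx.1.1, hx.2⟩)
      (fun x hx => hx.1.2)
  have hgenH : K ≤ ⨆ H : {H : Subgroup G // H ≤ A ∧ H.relIndex A ≤ p}, L H.1 :=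
    hgen.trans (iSup_le fun B => by simpa using hsplit ⊤ (fun a _ => mem_normalizer_iff.mpr (by simp)) B B.2)
  -- the derived subgroup is generated by the family
  set J := ⨆ H : {H : Subgroup G // H ≤ A ∧ H.relIndex A ≤ p}, L H.1 ⊓ K' with hJ
  have hAK' : A ≤ normalizer (K' : Set G) :=
    hAK.trans (Cfsg.Lib.GenFittingAction.le_normalizer_map_char K (commutator ↥K))
  have hcomK : ∀ x ∈ K, ∀ y ∈ K, ⁅x, y⁆ ∈ K' := fun x hx y hy =>
    ⟨⁅(⟨x, hx⟩ : ↥K), ⟨y, hy⟩⁆, commutator_mem_commutator (mem_top _) (mem_top _), by simp⟩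
  have hpair : ∀ (H₁ H₂ : {H : Subgroup G // H ≤ A ∧ H.relIndex A ≤ p}) (x y : G), x ∈ L H₁.1 →
      y ∈ L H₂.1 → ⁅x, y⁆ ∈ J := by
    intro H₁ H₂ x y hx hy
    have hB := hbig2 H₁ H₂
    have hx' : x ∈ L (H₁.1 ⊓ H₂.1) :=
      hLc _ _ (hhyp H₁) hB ⟨hx, centralizer_le inf_le_left (hLK _ (hhyp H₁) hx).2⟩
    have hy' : y ∈ L (H₁.1 ⊓ H₂.1) :=
      hLc _ _ (hhyp H₂) hB ⟨hy, centralizer_le inf_le_right (hLK _ (hhyp H₂) hy).2⟩
    refine hsplit K' hAK' _ hB ⟨?_, hcomK x (hLK _ (hhyp H₁) hx).1 y (hLK _ (hhyp H₂) hy).1⟩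
    exact (L _).mul_mem ((L _).mul_mem ((L _).mul_mem hx' hy') ((L _).inv_mem hx')) ((L _).inv_mem hy')
  have hJn : K ≤ normalizer (J : Set G) := by
    refine hgenH.trans (iSup_le fun H₂ => fun y hy => ?_)
    have key : ∀ y ∈ L H₂.1, ∀ z ∈ J, y * z * y⁻¹ ∈ J := by
      intro y hy z hz
      refine (iSup_le (fun H₁ => ?_) : J ≤ J.comap (MulAut.conj y).toMonoidHom) hz
      intro x hx
      show y * x * y⁻¹ ∈ J
      rw [show y * x * y⁻¹ = ⁅y, x⁆ * x by group]
      exact mul_mem (hpair H₂ H₁ y x hy hx.1) (le_iSup (fun H : {H : Subgroup G // H ≤ A ∧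
        H.relIndex A ≤ p} => L H.1 ⊓ K') H₁ hx)
    refine mem_normalizer_iff.mpr fun z => ⟨key y hy z, fun h => ?_⟩
    have := key y⁻¹ (inv_mem hy) _ h
    simpa [mul_assoc] using this
  have hK'J : K' ≤ J := by
    set N := normalizer (J : Set G)
    set J₀ := J.subgroupOf N
    haveI : J₀.Normal := Subgroup.normal_in_normalizer
    set π := QuotientGroup.mk' J₀
    have hcent : ∀ (H₁ H₂ : {H : Subgroup G // H ≤ A ∧ H.relIndex A ≤ p}) (x y : ↥N),
        (x : G) ∈ L H₁.1 → (y : G) ∈ L H₂.1 → π x * π y = π y * π x := fun H₁ H₂ x y hx hy => by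
      refine commutatorElement_eq_one_iff_mul_comm.mp ?_
      rw [← map_commutatorElement]
      exact (QuotientGroup.eq_one_iff _).mpr (hpair H₁ H₂ x y hx hy)
    have hall : ∀ x y : ↥N, (x : G) ∈ K → (y : G) ∈ K → π x * π y = π y * π x := by
      have h1 : ∀ (H₂ : {H : Subgroup G // H ≤ A ∧ H.relIndex A ≤ p}) (x y : ↥N),
          (x : G) ∈ K → (y : G) ∈ L H₂.1 → π x * π y = π y * π x := by
        intro H₂ x y hx hy
        let S : Subgroup G := ((centralizer ({π y} : Set (↥N ⧸ J₀))).comap π).map N.subtype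
        have hS : K ≤ S := hgenH.trans (iSup_le fun H₁ x hx =>
          ⟨⟨x, hJn (hLK _ (hhyp H₁) hx).1⟩, mem_centralizer_singleton_iff.mpr
            (hcent H₁ H₂ ⟨x, _⟩ y hx hy), rfl⟩)
        obtain ⟨x', hx', e⟩ := hS hx
        obtain rfl : x' = x := Subtype.ext e
        exact mem_centralizer_singleton_iff.mp hx'
      intro x y hx hy
      let S : Subgroup G := ((centralizer ({π x} : Set (↥N ⧸ J₀))).comap π).map N.subtype
      have hS : K ≤ S := hgenH.trans (iSup_le fun H₂ y hy =>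
        ⟨⟨y, hJn (hLK _ (hhyp H₂) hy).1⟩, mem_centralizer_singleton_iff.mpr
          (h1 H₂ x ⟨y, _⟩ hx hy).symm, rfl⟩)
      obtain ⟨y', hy', e⟩ := hS hy
      obtain rfl : y' = y := Subtype.ext e
      exact (mem_centralizer_singleton_iff.mp hy').symm
    rw [hK', map_subtype_commutator, commutator_le]
    intro x hx y hy
    have := (QuotientGroup.eq_one_iff _).mp (show π ⁅(⟨x, hJn hx⟩ : ↥N), ⟨y, hJn hy⟩⁆ = 1 by
      rw [map_commutatorElement]
      exact commutatorElement_eq_one_iff_mul_comm.mpr (hall _ _ hx hy))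
    exact this
  -- induction
  have hind : ∀ B, Big p k A B → K' ⊓ centralizer (B : Set G) ≤ L B := fun B hB =>
    (ih _ hlt K' rfl (Cfsg.Lib.Coprime.isSolvable_of_le hK'K hKs)
      (fun h => hKp (h.trans (card_dvd_of_le hK'K))) hAK' (fun B => L B ⊓ K')
      (fun B hB => le_inf inf_le_right (inf_le_left.trans ((hLK B hB).trans inf_le_right)))
      (fun B hB => Cfsg.Lib.Coprime.le_normalizer_inf
        ((sup_le_sup_left (inf_le_inf_right _ hK'K) A).trans (hLn B hB))
        (sup_le hAK' (inf_le_left.trans le_normalizer)))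
      (fun B B' hB hB' x hx => ⟨hLc B B' hB hB' ⟨hx.1.1, hx.2⟩, hx.1.2⟩)
      (hK'J.trans (iSup_le fun H => le_iSup (fun B : {B // Big p k A B} => L B.1 ⊓ K') ⟨H.1, hhyp H⟩))
      B hB).trans inf_le_left
  -- the abelianization
  intro B hB x hx
  have hBK : B ≤ normalizer (K : Set G) := hB.1.trans hAK
  have hcopB : (Nat.card B).Coprime (Nat.card K) := by
    obtain ⟨m, hm⟩ := IsPGroup.iff_card.mp (show IsPGroup p ↥A from
      fun g => ⟨1, Subtype.ext (by simpa using hA.2 _ g.2)⟩)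
    exact (hm ▸ (hp.out.coprime_iff_not_dvd.mpr hKp).pow_left m).coprime_dvd_left (card_dvd_of_le hB.1)
  have hBs : Group.IsSolvable ↥B := by
    haveI := (elemAb_of_le hA hB.1).1
    exact Group.isSolvable_of_comm fun a b => mul_comm' a b
  set T : Subgroup (Abelianization ↥K) := ((L B).subgroupOf K).map Abelianization.of
  have hφ : ∀ y : ↥K, norm hBK y ∈ T := by
    intro y
    have hle : K ≤ (T.comap (norm hBK)).map K.subtype := by
      refine hgen.trans (iSup_le fun B' => ?_)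
      intro z hz
      have hzK : z ∈ K := (hLK _ B'.2 hz).1
      obtain ⟨w, ⟨hw1, hw2⟩, hw⟩ := norm_mem hBK (hB.1.trans (le_sup_left.trans (hLn _ B'.2)))
        ((hLK _ B'.2).trans inf_le_left) hcopB hBs (x := ⟨z, hzK⟩) hz
      exact ⟨⟨z, hzK⟩, ⟨w, hLc _ _ B'.2 hB ⟨hw1, hw2⟩, hw⟩, rfl⟩
    obtain ⟨y', hy', e⟩ := hle y.2
    obtain rfl : y' = y := Subtype.ext e
    exact hy'
  have hxT : Abelianization.of (⟨x, hx.1⟩ : ↥K) ∈ T := by
    set v := Abelianization.of (⟨x, hx.1⟩ : ↥K)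
    have h1 : norm hBK ⟨x, hx.1⟩ = v ^ Nat.card B := by
      letI := Fintype.ofFinite ↥B
      show ∏ h : ↥B, _ = _
      rw [Nat.card_eq_fintype_card, ← Finset.card_univ, ← Finset.prod_const]
      refine Finset.prod_congr rfl fun h _ => congrArg Abelianization.of (Subtype.ext ?_)
      show (h : G) * x * (h : G)⁻¹ = x
      rw [mem_centralizer_iff.mp hx.2 h h.2, mul_inv_cancel_right]
    have h2 : v ∈ zpowers (v ^ Nat.card B) := mem_zpowers_pow_iff.mpr
      (((hcopB.coprime_dvd_right (card_quotient_dvd_card _)).coprime_dvd_right (orderOf_dvd_natCard v)))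
    exact zpowers_le.mpr (h1 ▸ hφ ⟨x, hx.1⟩) h2
  obtain ⟨l, hl, hle⟩ := hxT
  have h3 : (l : G)⁻¹ * x ∈ L B := hind B hB ⟨⟨l⁻¹ * ⟨x, hx.1⟩, by
      rw [← Abelianization.ker_of, SetLike.mem_coe, MonoidHom.mem_ker, map_mul, map_inv, hle, inv_mul_cancel], rfl⟩,
    (centralizer (B : Set G)).mul_mem ((centralizer (B : Set G)).inv_mem (hLK B hB hl).2) hx.2⟩
  simpa using mul_mem (show (l : G) ∈ L B from hl) h3

/-- the functor of a `k`-balanced group -/
theorem functor (k : ℕ) (hk : 1 ≤ k) (hbal : IsKBalanced p k G) {A : Subgroup G}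
    (hA : IsElementaryAbelian p A) (hAk : p ^ (k + 2) ≤ Nat.card A)
    (hsolv : ∀ a ∈ A, a ≠ 1 → Group.IsSolvable ↥(centralizerPPrimeCore p a)) :
    IsSignalizerFunctor p A (fun a => ⨆ D : {D : Subgroup G // D ≤ A ∧ Nat.card ↥D = p ^ k},
      signalizerDelta p (D : Subgroup G) ⊓ centralizer {a}) := by
  set θ := fun a : G => ⨆ D : {D : Subgroup G // D ≤ A ∧ Nat.card ↥D = p ^ k},
      signalizerDelta p (D : Subgroup G) ⊓ centralizer {a} with hθ
  show IsSignalizerFunctor p A θ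
  have hord : ∀ a ∈ A, a ≠ 1 → orderOf a = p := fun a ha ha1 => orderOf_eq_prime (hA.2 a ha) ha1
  have hbalA : ∀ D : Subgroup G, D ≤ A → Nat.card D = p ^ k → ∀ a ∈ A, a ≠ 1 →
      signalizerDelta p D ⊓ centralizer {a} ≤ centralizerPPrimeCore p a := fun D hDA hDk a ha ha1 =>
    hbal D (elemAb_of_le hA hDA) hDk a (hord a ha ha1) fun d hd =>
      mem_centralizer_singleton_iff.mp (le_centralizer_of_mem hA ha (hDA hd))
  have hne : ∀ B : Subgroup G, Big p k A B → B ≠ ⊥ := fun B hB e => by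
    have := hB.2
    rw [e, card_bot] at this
    exact absurd (Nat.one_lt_pow (by omega) hp.out.one_lt) this.not_gt
  have hbalB : ∀ B, Big p k A B → ∀ a ∈ A, a ≠ 1 →
      signalizerDelta p B ⊓ centralizer {a} ≤ centralizerPPrimeCore p a := fun B hB a ha ha1 => by
    obtain ⟨D, hDB, -, hDk⟩ := exists_card_pow_le hA hB.1 hB.2
    exact (inf_le_inf_right _ (signalizerDelta_anti hDB)).trans (hbalA D (hDB.trans hB.1) hDk a ha ha1)
  have hcore : ∀ a ∈ A, a ≠ 1 → θ a ≤ centralizerPPrimeCore p a := fun a ha ha1 =>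
    iSup_le fun D => hbalA D D.2.1 D.2.2 a ha ha1
  have hLθ : ∀ a, ∀ B, Big p k A B → signalizerDelta p B ⊓ centralizer {a} ≤ θ a := fun a B hB => by
    obtain ⟨D, hDB, -, hDk⟩ := exists_card_pow_le hA hB.1 hB.2
    exact (inf_le_inf_right _ (signalizerDelta_anti hDB)).trans
      (le_iSup (fun D : {D : Subgroup G // D ≤ A ∧ Nat.card ↥D = p ^ k} =>
        signalizerDelta p (D : Subgroup G) ⊓ centralizer {a}) ⟨D, hDB.trans hB.1, hDk⟩)
  have hAC : ∀ B, Big p k A B → A ≤ normalizer (signalizerDelta p B : Set G) := fun B hB a ha =>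
    delta_normalized (mem_centralizer_iff.mpr fun b hb =>
      (mem_centralizer_singleton_iff.mp (le_centralizer_of_mem hA ha (hB.1 hb))))
  have hinv : ∀ a ∈ A, A ≤ normalizer (θ a : Set G) := fun a ha b hb => by
    have key : ∀ b ∈ A, ∀ x ∈ θ a, b * x * b⁻¹ ∈ θ a := by
      intro b hb x hx
      refine (iSup_le (fun D => ?_) : θ a ≤ (θ a).comap (MulAut.conj b).toMonoidHom) hx
      intro y hy
      refine le_iSup (fun D : {D : Subgroup G // D ≤ A ∧ Nat.card ↥D = p ^ k} =>
        signalizerDelta p (D : Subgroup G) ⊓ centralizer {a}) D ⟨?_, ?_⟩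
      · exact (mem_normalizer_iff.mp (hAC D ⟨D.2.1, D.2.2.ge⟩ hb) y).mp hy.1
      · exact (centralizer ({a} : Set G)).mul_mem ((centralizer ({a} : Set G)).mul_mem
          (le_centralizer_of_mem hA ha hb) hy.2)
          ((centralizer ({a} : Set G)).inv_mem (le_centralizer_of_mem hA ha hb))
    refine mem_normalizer_iff.mpr fun x => ⟨key b hb x, fun h => ?_⟩
    have := key b⁻¹ (inv_mem hb) _ h
    simpa [mul_assoc] using this
  have hnp : ∀ a ∈ A, a ≠ 1 → ¬ p ∣ Nat.card (θ a) := fun a ha ha1 =>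
    hp.out.coprime_iff_not_dvd.mp
      ((centralizerPPrimeCore_card_coprime a).coprime_dvd_left (card_dvd_of_le (hcore a ha ha1))).symm
  refine ⟨fun a _ _ => iSup_le fun D => inf_le_right, hnp,
    fun a ha _ b hb x hx => (mem_normalizer_iff.mp (hinv a ha hb) x).mp hx, fun a ha ha1 b hb hb1 => ?_⟩
  have hmain : ∀ B, Big p k A B → θ a ⊓ centralizer (B : Set G) ≤ signalizerDelta p B ⊓ centralizer {a} := by
    refine inf_centralizer_le hA hAk _ (θ a) rfl
      (Cfsg.Lib.Coprime.isSolvable_of_le (hcore a ha ha1) (hsolv a ha ha1)) (hnp a ha ha1) (hinv a ha)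
      (fun B => signalizerDelta p B ⊓ centralizer {a}) (fun B hB => le_inf (hLθ a B hB) ?_) ?_ ?_ ?_
    · intro x hx
      refine mem_centralizer_iff.mpr fun c hc => ?_
      by_cases hc1 : c = 1
      · subst hc1; simp
      · exact (mem_centralizer_singleton_iff.mp (centralizerPPrimeCore_le_centralizer c
          (signalizerDelta_le hc hc1 hx.1))).symm
    · intro B hB
      refine Cfsg.Lib.Coprime.le_normalizer_inf
        (sup_le (hAC B hB) (fun x hx => delta_normalized hx.2))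
        (sup_le ((le_centralizer_of_mem hA ha).trans le_normalizer) ?_)
      exact (inf_le_left.trans (iSup_le fun D => inf_le_right)).trans le_normalizer
    · intro B B' hB hB' x hx
      refine ⟨mem_signalizerDelta.mpr fun c hc hc1 => hbalB B hB c (hB'.1 hc) hc1 ⟨hx.1.1, ?_⟩, hx.1.2⟩
      exact centralizer_le (Set.singleton_subset_iff.mpr hc) hx.2
    · exact iSup_le fun D => le_iSup (fun B : {B // Big p k A B} =>
        signalizerDelta p B.1 ⊓ centralizer {a}) ⟨D.1, D.2.1, D.2.2.ge⟩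
  have hX : ¬ p ∣ Nat.card ↥(θ a ⊓ centralizer {b}) := fun h =>
    hnp a ha ha1 (h.trans (card_dvd_of_le inf_le_left))
  rw [Cfsg.Agent.S1324.result p A (θ a ⊓ centralizer {b}) hA (sq_le hAk) hX
    (Cfsg.Lib.Coprime.le_normalizer_inf (hinv a ha) ((le_centralizer_of_mem hA hb).trans le_normalizer))]
  refine iSup_le fun H x hx => hLθ b H ?_ ⟨(hmain H ?_ ⟨hx.1.1, hx.2⟩).1, hx.1.2⟩ <;>
    exact big_of_relIndex_le (j := 1) ((Nat.pow_le_pow_right hp.out.pos (by omega)).trans hAk) H.2.1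
      (by simpa using H.2.2)

/-- the closure of the functor of a group `k`-balanced with respect to `A` -/
theorem closure_eq (k : ℕ) (hk : 1 ≤ k) {A : Subgroup G} (hA : IsElementaryAbelian p A)
    (hAk : p ^ (k + 2) ≤ Nat.card A) (hbal : IsKBalancedWrt p k A) :
    signalizerClosure A (kBalancedTheta p k A) =
        ⨆ B : {B : Subgroup G // B ≤ A ∧ IsElementaryAbelian p B ∧ p ^ k ≤ Nat.card ↥B},
          signalizerDelta p (B : Subgroup G) ∧
      ∀ E : Subgroup G, E ≤ A → p ^ (k + 1) ≤ Nat.card ↥E →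
        signalizerClosure A (kBalancedTheta p k A) =
          ⨆ B : {B : Subgroup G // B ≤ E ∧ IsElementaryAbelian p B ∧ p ^ k ≤ Nat.card ↥B},
            signalizerDelta p (B : Subgroup G) := by
  have hne : ∀ B : Subgroup G, p ^ k ≤ Nat.card B → B ≠ ⊥ := fun B hB e => by
    rw [e, card_bot] at hB
    exact absurd (Nat.one_lt_pow (by omega) hp.out.one_lt) hB.not_gt
  have hsplit : ∀ E B : Subgroup G, E ≤ A → p ^ 2 ≤ Nat.card E → B ≤ A → p ^ k ≤ Nat.card B →
      signalizerDelta p B ≤ ⨆ H : {H : Subgroup G // H ≤ E ∧ H.relIndex E ≤ p},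
        signalizerDelta p B ⊓ centralizer ((H : Subgroup G) : Set G) := by
    intro E B hE hE2 hB hBk
    refine le_of_eq (Cfsg.Agent.S1324.result p E _ (elemAb_of_le hA hE) hE2
      (hp.out.coprime_iff_not_dvd.mp (signalizerDelta_coprime (hne B hBk)).symm) fun a ha => ?_)
    exact delta_normalized (mem_centralizer_iff.mpr fun b hb =>
      (mem_centralizer_singleton_iff.mp (le_centralizer_of_mem hA (hE ha) (hB hb))))
  have h1 : signalizerClosure A (kBalancedTheta p k A) =
      ⨆ B : {B : Subgroup G // B ≤ A ∧ IsElementaryAbelian p B ∧ p ^ k ≤ Nat.card ↥B},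
        signalizerDelta p (B : Subgroup G) := by
    refine le_antisymm (iSup_le fun a => iSup_le fun B => le_iSup_of_le B inf_le_left)
      (iSup_le fun B => (hsplit A B le_rfl (sq_le hAk) B.2.1 B.2.2.2).trans (iSup_le fun H => ?_))
    have hH : p ^ k ≤ Nat.card (H : Subgroup G) := (big_of_relIndex_le (j := 1)
      ((Nat.pow_le_pow_right hp.out.pos (by omega)).trans hAk) H.2.1 (by simpa using H.2.2)).2
    obtain ⟨a, ha, ha1⟩ := SetLike.exists_of_lt (bot_lt_iff_ne_bot.mpr (hne _ hH))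
    refine le_iSup_of_le ⟨a, H.2.1 ha, fun e => ha1 (e ▸ mem_bot.mpr rfl)⟩ (le_iSup_of_le B ?_)
    exact inf_le_inf_left _ (centralizer_le (Set.singleton_subset_iff.mpr ha))
  refine ⟨h1, fun E hE hEk => h1.trans (le_antisymm (iSup_le fun B => ?_)
    (iSup_le fun B => le_iSup_of_le ⟨B.1, B.2.1.trans hE, B.2.2⟩ le_rfl))⟩
  refine (hsplit E B hE ((Nat.pow_le_pow_right hp.out.pos (by omega)).trans hEk) B.2.1 B.2.2.2).trans
    (iSup_le fun H => le_iSup_of_le ⟨H.1, H.2.1, elemAb_of_le hA (H.2.1.trans hE),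
      (big_of_relIndex_le (j := 1) hEk H.2.1 (by simpa using H.2.2)).2⟩ ?_)
  intro x hx
  exact mem_signalizerDelta.mpr fun c hc hc1 => hbal B B.2.1 B.2.2.1 B.2.2.2 c (hE (H.2.1 hc)) hc1
    ⟨hx.1, centralizer_le (Set.singleton_subset_iff.mpr hc) hx.2⟩

end Cfsg.Lib.KBal
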