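import Cfsg.Agent.Components.Signalizer.Sft.Tools
import Cfsg.Agent.Components.CharP
import Cfsg.Agent.Components.Layer
import Cfsg.Agent.SolvStruct.SplitResidual
import Cfsg.Agent.S2820
import Cfsg.Prelude.Def_BaumannBlocks

/-!
The Thompson–Wielandt theorem for two conjugate maximal subgroups with trivial core, with the resulting
bound on the order of a point stabiliser of a primitive group.
-/

set_option linter.style.haveILetI false
set_option linter.unusedSectionVars false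

namespace Cfsg.Lib.ThompsonWielandt

open Subgroup Cfsg.Lib.Sft Cfsg.Lib.Components
open scoped Pointwise

universe u

variable {G : Type u} [Group G] [Finite G]

/-! ### the relative core -/

/-- the largest subgroup of `X` normalised by `M` -/
def kern (M X : Subgroup G) : Subgroup G := (X.subgroupOf M).normalCore.map M.subtype

theorem kern_le_left (M X : Subgroup G) : kern M X ≤ M := map_subtype_le _

theorem kern_le_right (M X : Subgroup G) : kern M X ≤ X := by
  rintro _ ⟨y, hy, rfl⟩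
  exact mem_subgroupOf.mp (normalCore_le _ hy)

theorem le_normalizer_kern (M X : Subgroup G) : M ≤ normalizer (kern M X : Set G) := by
  intro m hm
  refine mem_normalizer_of_conj ?_
  rintro _ ⟨y, hy, rfl⟩
  exact ⟨⟨m, hm⟩ * y * ⟨m, hm⟩⁻¹, Subgroup.Normal.conj_mem inferInstance y hy ⟨m, hm⟩, rfl⟩

theorem le_kern {M X Y : Subgroup G} (hYM : Y ≤ M) (hn : M ≤ normalizer (Y : Set G)) (hYX : Y ≤ X) :
    Y ≤ kern M X := by
  haveI := normal_subgroupOf_of_le_normalizer hn
  have h : Y.subgroupOf M ≤ (X.subgroupOf M).normalCore :=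
    normal_le_normalCore.mpr fun y hy => mem_subgroupOf.mpr (hYX (mem_subgroupOf.mp hy))
  have h' := map_mono (f := M.subtype) h
  rwa [map_subgroupOf_eq_of_le hYM] at h'

theorem kern_subgroupOf (M X : Subgroup G) : (kern M X).subgroupOf M = (X.subgroupOf M).normalCore :=
  comap_map_eq_self_of_injective M.subtype_injective _

/-- relative index of a normalised subgroup -/
theorem relIndex_dvd_of_normalized {Y K L : Subgroup G} (hKL : K ≤ L) (hn : L ≤ normalizer (Y : Set G)) :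
    Y.relIndex K ∣ Y.relIndex L := by
  haveI := normal_subgroupOf_of_le_normalizer hn
  rw [← relIndex_subgroupOf hKL]
  exact relIndex_dvd_index_of_normal _ _

theorem relIndex_kern_dvd {M X : Subgroup G} :
    (kern M X).relIndex M ∣ (X.relIndex M).factorial := by
  classical
  rw [relIndex, kern_subgroupOf, normalCore_eq_ker, index_ker]
  refine (card_subgroup_dvd_card _).trans ?_
  rw [Nat.card_perm]
  rfl

theorem relIndex_kern_dvd_pred {M X H : Subgroup G} (hXM : X ≤ M) (hHX : H ≤ X) :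
    (kern M X).relIndex H ∣ (X.relIndex M - 1).factorial := by
  classical
  rw [← relIndex_subgroupOf (hHX.trans hXM), kern_subgroupOf, normalCore_eq_ker]
  set f := MulAction.toPermHom M (M ⧸ X.subgroupOf M)
  set Hs := H.subgroupOf M
  rw [show f.ker.relIndex Hs = (f.domRestrict Hs).ker.index from by
    rw [relIndex, MonoidHom.ker_domRestrict], index_ker]
  have hle : (f.domRestrict Hs).range ≤ MulAction.stabilizer (Equiv.Perm (M ⧸ X.subgroupOf M))
      (QuotientGroup.mk (1 : M) : M ⧸ X.subgroupOf M) := by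
    rintro _ ⟨h, rfl⟩
    rw [MulAction.mem_stabilizer_iff]
    show ((h : M) • (QuotientGroup.mk (1 : M) : M ⧸ X.subgroupOf M)) = _
    rw [MulAction.Quotient.smul_mk, smul_eq_mul, mul_one, eq_comm, QuotientGroup.eq, inv_one, one_mul]
    exact mem_subgroupOf.mpr (hHX (mem_subgroupOf.mp h.2))
  refine (card_dvd_of_le hle).trans (dvd_of_eq ?_)
  have h1 := (MulAction.stabilizer (Equiv.Perm (M ⧸ X.subgroupOf M))
    (QuotientGroup.mk (1 : M) : M ⧸ X.subgroupOf M)).card_mul_index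
  rw [MulAction.index_stabilizer_of_transitive, Nat.card_perm] at h1
  have hpos : 0 < Nat.card (M ⧸ X.subgroupOf M) := Nat.card_pos
  refine Nat.eq_of_mul_eq_mul_left hpos ?_
  rw [mul_comm, h1]
  exact (Nat.mul_factorial_pred hpos.ne').symm

/-! ### residuals -/

theorem le_normalizer_pResidualOf {q : ℕ} (A : Subgroup G) :
    normalizer (A : Set G) ≤ normalizer (Cfsg.pResidualOf q A : Set G) :=
  le_normalizer_map_char A _

theorem pResidualOf_le {q : ℕ} (A : Subgroup G) : Cfsg.pResidualOf q A ≤ A := map_subtype_le _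

theorem isPGroup_of_pResidualOf_eq_bot {q : ℕ} [Fact q.Prime] {A : Subgroup G}
    (h : Cfsg.pResidualOf q A = ⊥) : IsPGroup q A := by
  have h' : Cfsg.pResidual q ↥A = ⊥ := (map_eq_bot_iff_of_injective _ A.subtype_injective).mp h
  exact (Cfsg.Lib.Transfer.isPGroup_quotient_pResidual (p := q) (G := ↥A)).of_equiv
    ((QuotientGroup.quotientMulEquivOfEq h').trans QuotientGroup.quotientBot)

theorem pResidual_map_equiv {q : ℕ} {H K : Type u} [Group H] [Group K] (e : H ≃* K) :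
    (Cfsg.pResidual q H).map e.toMonoidHom = Cfsg.pResidual q K := by
  refine le_antisymm (Cfsg.Lib.Transfer.pResidual_map_le _) fun k hk => ?_
  exact ⟨e.symm k, Cfsg.Lib.Transfer.pResidual_map_le e.symm.toMonoidHom ⟨k, hk, rfl⟩,
    e.apply_symm_apply k⟩

/-- `O_q` normalises the `q`-residual of a subnormal subgroup -/
theorem qcore_le_normalizer_residual {q : ℕ} [Fact q.Prime] {A M : Subgroup G} (hAM : A ≤ M)
    (hsn : (A.subgroupOf M).IsSubnormal) :
    qcore q M ≤ normalizer (Cfsg.pResidualOf q A : Set G) := by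
  set A' := A.subgroupOf M
  set B := (Cfsg.pResidual q ↥A').map A'.subtype with hB
  have hBsn : B.IsSubnormal :=
    isSubnormal_map_subtype hsn (Subgroup.Normal.isSubnormal inferInstance)
  have hres : (Cfsg.pResidual q ↥B).map B.subtype = B := by
    have e := (Cfsg.pResidual q ↥A').equivMapOfInjective A'.subtype A'.subtype_injective
    have h1 := pResidual_map_equiv (q := q) e
    rw [Cfsg.Lib.SolvStruct.pResidual_pResidual_eq_top, map_top_of_surjective _ e.surjective] at h1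
    rw [← h1, ← MonoidHom.range_eq_map, range_subtype]
  obtain ⟨hn, -⟩ := Cfsg.Agent.S2820.result (Cfsg.pCore q ↥M) B
    (Subgroup.Normal.isSubnormal inferInstance) hBsn (isPGroup_pCore q) hres
  have hmap : B.map M.subtype = Cfsg.pResidualOf q A := by
    rw [Cfsg.pResidualOf, ← pResidual_map_equiv (subgroupOfEquivOfLe hAM), map_map, map_map]
    rfl
  intro x hx
  obtain ⟨y, hy, rfl⟩ := hx
  rw [← hmap]
  exact le_normalizer_map M.subtype ⟨y, hn hy, rfl⟩

/-- cores of conjugate subgroups have equal orders -/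
theorem card_qcore_le_of_conj (q : ℕ) {M M' : Subgroup G} (g : G)
    (h : M' = M.map (MulAut.conj g).toMonoidHom) : Nat.card (qcore q M) ≤ Nat.card (qcore q M') := by
  rw [← card_map_of_injective (K := qcore q M) (f := (MulAut.conj g).toMonoidHom) (MulAut.conj g).injective]
  refine card_le_of_le (le_qcore (h ▸ map_mono qcore_le) ?_ ((isPGroup_qcore).map _))
  rintro x hx
  rw [h] at hx
  obtain ⟨y, hy, rfl⟩ := hx
  refine mem_normalizer_of_conj ?_
  rintro _ ⟨z, hz, rfl⟩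
  refine ⟨y * z * y⁻¹, (mem_normalizer_iff.mp (le_normalizer_qcore (le_normalizer hy)) z).mp hz, ?_⟩
  show g * (y * z * y⁻¹) * g⁻¹ = g * y * g⁻¹ * (g * z * g⁻¹) * (g * y * g⁻¹)⁻¹
  group

/-- a `q`-subgroup growing argument -/
theorem le_of_self_normalizing {q : ℕ} [Fact q.Prime] {R P M : Subgroup G} (hR : IsPGroup q R)
    (hP : IsPGroup q P) (hRP : R ≤ normalizer (P : Set G)) (hN : normalizer (R : Set G) ≤ M)
    (hPM : P ⊓ M ≤ R) : P ≤ R := by
  by_contra hle
  set X := R ⊔ P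
  have hX : IsPGroup q X := hR.to_sup_of_normal_right' hP hRP
  haveI := hX.isNilpotent
  have hlt : R.subgroupOf X < ⊤ := lt_top_iff_ne_top.mpr fun h => hle
    (le_sup_right.trans (subgroupOf_eq_top.mp h))
  have h := Group.normalizerCondition_of_isNilpotent (G := X) _ hlt
  refine h.not_ge fun x hx => ?_
  have hxN : (x : G) ∈ normalizer (R : Set G) := by
    rw [← subgroupOf_normalizer_eq le_sup_left] at hx
    exact mem_subgroupOf.mp hx
  obtain ⟨r, hr, s, hs, hrs⟩ : (x : G) ∈ (R : Set G) * (P : Set G) := by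
    have hx2 : (x : G) ∈ (↑(R ⊔ P) : Set G) := x.2
    rwa [Subgroup.coe_mul_of_left_le_normalizer_right R P hRP] at hx2
  replace hrs : r * s = (x : G) := hrs
  have hsM : s ∈ M := by
    have h1 : r⁻¹ * (x : G) ∈ M := mul_mem (inv_mem (hN (le_normalizer hr))) (hN hxN)
    rwa [← hrs, inv_mul_cancel_left] at h1
  rw [mem_subgroupOf, ← hrs]
  exact mul_mem hr (hPM ⟨hs, hsM⟩)

/-! ### the theorem -/

/-- two conjugate subgroups, each the normalizer of all its non-trivial normal subgroups -/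
structure Setting (M₁ M₂ : Subgroup G) : Prop where
  norm₁ : ∀ X : Subgroup G, X ≠ ⊥ → X ≤ M₁ → M₁ ≤ normalizer (X : Set G) → normalizer (X : Set G) = M₁
  norm₂ : ∀ X : Subgroup G, X ≠ ⊥ → X ≤ M₂ → M₂ ≤ normalizer (X : Set G) → normalizer (X : Set G) = M₂
  conj : ∃ g : G, M₂ = M₁.map (MulAut.conj g).toMonoidHom
  ne : M₁ ≠ M₂

variable {M₁ M₂ : Subgroup G}

theorem Setting.symm (S : Setting M₁ M₂) : Setting M₂ M₁ := by
  obtain ⟨g, hg⟩ := S.conj
  refine ⟨S.norm₂, S.norm₁, ⟨g⁻¹, ?_⟩, S.ne.symm⟩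
  rw [hg, map_map]
  convert (map_id M₁).symm using 2
  ext x
  show g⁻¹ * (g * x * g⁻¹) * g⁻¹⁻¹ = x
  group

/-- the first core of `M₁` -/
abbrev firstCore (M₁ M₂ : Subgroup G) : Subgroup G := kern M₁ (M₁ ⊓ M₂)

/-- the second core of `M₁` -/
abbrev secondCore (M₁ M₂ : Subgroup G) : Subgroup G :=
  kern M₁ (firstCore M₁ M₂ ⊓ firstCore M₂ M₁)

theorem secondCore_le₁ : secondCore M₁ M₂ ≤ firstCore M₁ M₂ := (kern_le_right _ _).trans inf_le_left

theorem secondCore_le₂ : secondCore M₁ M₂ ≤ firstCore M₂ M₁ := (kern_le_right _ _).trans inf_le_right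

theorem secondCore_symm_le : secondCore M₂ M₁ ≤ firstCore M₁ M₂ := (kern_le_right _ _).trans inf_le_right

theorem firstCore_le₂ : firstCore M₁ M₂ ≤ M₂ := (kern_le_right _ _).trans inf_le_right

theorem Setting.not_normal_both (S : Setting M₁ M₂) {X : Subgroup G} (h1 : X ≤ M₁) (h2 : X ≤ M₂)
    (hn1 : M₁ ≤ normalizer (X : Set G)) (hn2 : M₂ ≤ normalizer (X : Set G)) : X = ⊥ := by
  by_contra hX
  exact S.ne ((S.norm₁ X hX h1 hn1).symm.trans (S.norm₂ X hX h2 hn2))

theorem Setting.qcore_eq_bot (S : Setting M₁ M₂) {q : ℕ} [Fact q.Prime]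
    (hT : Cfsg.pResidualOf q (secondCore M₁ M₂) ≠ ⊥) : qcore q M₂ = ⊥ ∧ qcore q M₁ = ⊥ := by
  set A := secondCore M₁ M₂
  set B₁ := firstCore M₂ M₁
  set T := Cfsg.pResidualOf q A
  have hTA : T ≤ A := pResidualOf_le A
  have hNT : normalizer (T : Set G) = M₁ := S.norm₁ T hT (hTA.trans (kern_le_left _ _))
    ((le_normalizer_kern _ _).trans (le_normalizer_pResidualOf A))
  have hAsn : (A.subgroupOf M₂).IsSubnormal := by
    refine Subgroup.IsSubnormal.trans (K := B₁.subgroupOf M₂)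
      (fun x hx => mem_subgroupOf.mpr (secondCore_le₂ (mem_subgroupOf.mp hx))) ?_
      (Subgroup.Normal.isSubnormal (normal_subgroupOf_of_le_normalizer (le_normalizer_kern _ _)))
    refine Subgroup.Normal.isSubnormal (normal_subgroupOf_of_le_normalizer ?_)
    intro x hx
    have hx1 : (x : G) ∈ B₁ := mem_subgroupOf.mp hx
    have hxM1 : (x : G) ∈ normalizer (A : Set G) := le_normalizer_kern _ _ (firstCore_le₂ hx1)
    refine mem_normalizer_of_conj fun y hy => mem_subgroupOf.mpr ?_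
    exact (mem_normalizer_iff.mp hxM1 y).mp (mem_subgroupOf.mp hy)
  set R₁ := qcore q M₁
  set R₂ := qcore q M₂
  have hR2M1 : R₂ ≤ M₁ := hNT ▸ qcore_le_normalizer_residual (secondCore_le₂.trans (kern_le_left _ _)) hAsn
  have hR2n : M₂ ≤ normalizer (R₂ : Set G) := le_normalizer.trans le_normalizer_qcore
  have hR1n : M₁ ≤ normalizer (R₁ : Set G) := le_normalizer.trans le_normalizer_qcore
  have hR2B : R₂ ≤ B₁ := le_kern qcore_le hR2n (le_inf qcore_le hR2M1)
  let C : Subgroup G :=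
    { carrier := {x | x ∈ M₂ ∧ ∀ b ∈ B₁, x * b * x⁻¹ * b⁻¹ ∈ R₂}
      one_mem' := ⟨one_mem _, fun b _ => by simp⟩
      mul_mem' := by
        rintro x y ⟨hx, hx'⟩ ⟨hy, hy'⟩
        refine ⟨mul_mem hx hy, fun b hb => ?_⟩
        have e : x * y * b * (x * y)⁻¹ * b⁻¹ =
            x * (y * b * y⁻¹ * b⁻¹) * x⁻¹ * (x * b * x⁻¹ * b⁻¹) := by group
        rw [e]
        exact mul_mem ((mem_normalizer_iff.mp (hR2n hx) _).mp (hy' b hb)) (hx' b hb)
      inv_mem' := by
        rintro x ⟨hx, hx'⟩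
        refine ⟨inv_mem hx, fun b hb => ?_⟩
        have h := (mem_normalizer_iff.mp (hR2n (inv_mem hx)) _).mp (inv_mem (hx' b hb))
        rwa [show x⁻¹ * (x * b * x⁻¹ * b⁻¹)⁻¹ * x⁻¹⁻¹ = x⁻¹ * b * x⁻¹⁻¹ * b⁻¹ by group] at h }
  have hCn : M₂ ≤ normalizer (C : Set G) := by
    intro m hm
    refine mem_normalizer_of_conj ?_
    rintro x ⟨hx, hx'⟩
    refine ⟨mul_mem (mul_mem hm hx) (inv_mem hm), fun b hb => ?_⟩
    have hb' : m⁻¹ * b * m ∈ B₁ := by
      simpa using (mem_normalizer_iff.mp (le_normalizer_kern _ _ (inv_mem hm)) b).mp hb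
    have h := (mem_normalizer_iff.mp (hR2n hm) _).mp (hx' _ hb')
    rwa [show m * (x * (m⁻¹ * b * m) * x⁻¹ * (m⁻¹ * b * m)⁻¹) * m⁻¹ =
      m * x * m⁻¹ * b * (m * x * m⁻¹)⁻¹ * b⁻¹ by group] at h
  have hCM1 : C ≤ M₁ := by
    rw [← hNT]
    rintro x ⟨hx, hx'⟩
    refine mem_normalizer_of_conj ?_
    rintro _ ⟨t, ht, rfl⟩
    have hle : Cfsg.pResidual q ↥A ≤
        T.comap ((MulAut.conj x).toMonoidHom.comp A.subtype) := by
      refine (closure_le _).mpr fun a ha => ?_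
      show x * (a : G) * x⁻¹ ∈ T
      set c := x * (a : G) * x⁻¹ * (a : G)⁻¹ with hc
      have hcR : c ∈ R₂ := hx' _ (secondCore_le₂ a.2)
      have hcN : c ∈ normalizer (T : Set G) := by rw [hNT]; exact hR2M1 hcR
      have haT : (a : G) ∈ T := ⟨a, Cfsg.Lib.Transfer.mem_pResidual_of_coprime ha, rfl⟩
      have hpow : ∀ n : ℕ, ∃ t ∈ T, (c * (a : G)) ^ n = c ^ n * t := by
        intro n
        induction n with
        | zero => exact ⟨1, one_mem T, by simp⟩
        | succ n ih =>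
          obtain ⟨t, ht, htn⟩ := ih
          refine ⟨c⁻¹ * t * c * (a : G), mul_mem ?_ haT, ?_⟩
          · simpa using (mem_normalizer_iff.mp (inv_mem hcN) t).mp ht
          · rw [pow_succ, htn, pow_succ]; group
      obtain ⟨k, hk⟩ := (IsPGroup.iff_orderOf.mp (isPGroup_qcore (q := q) (K := M₂))) ⟨c, hcR⟩
      rw [orderOf_mk] at hk
      obtain ⟨t, ht, htn⟩ := hpow (q ^ k)
      rw [← hk, pow_orderOf_eq_one, one_mul, hk] at htn
      have hy : x * (a : G) * x⁻¹ = c * (a : G) := by rw [hc]; group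
      have ho : (orderOf (x * (a : G) * x⁻¹)).Coprime (q ^ k) := by
        refine Nat.Coprime.pow_right k ?_
        rw [show x * (a : G) * x⁻¹ = (MulAut.conj x).toMonoidHom (A.subtype a) from rfl,
          orderOf_injective _ (MulAut.conj x).injective, orderOf_injective _ A.subtype_injective]
        exact ha
      obtain ⟨j, hj⟩ := exists_pow_eq_self_of_coprime ho.symm
      rw [← hj, hy, htn]
      exact pow_mem ht j
    exact hle ht
  have hCB : C ≤ B₁ := le_kern (fun _ h => h.1) hCn (le_inf (fun _ h => h.1) hCM1)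
  have hkey : R₁ ⊓ M₂ ≤ R₂ := by
    have hRB : R₁ ⊓ B₁ ≤ R₂ := by
      have h1 : R₁ ⊓ B₁ ≤ qcore q B₁ := le_qcore inf_le_right
        (Cfsg.Lib.Coprime.le_normalizer_inf (firstCore_le₂.trans hR1n) le_normalizer)
        (isPGroup_qcore.to_le inf_le_left)
      exact h1.trans (le_qcore (qcore_le.trans (kern_le_left _ _))
        ((le_normalizer_kern _ _).trans le_normalizer_qcore) isPGroup_qcore)
    rintro x ⟨hx1, hx2⟩
    have hxC : x ∈ C := by
      refine ⟨hx2, fun b hb => hRB ⟨?_, ?_⟩⟩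
      · have h := (mem_normalizer_iff.mp (hR1n (firstCore_le₂ hb)) x⁻¹).mp (inv_mem hx1)
        rw [show x * b * x⁻¹ * b⁻¹ = x * (b * x⁻¹ * b⁻¹) by group]
        exact mul_mem hx1 h
      · exact B₁.mul_mem ((mem_normalizer_iff.mp (le_normalizer_kern _ _ hx2) b).mp hb) (B₁.inv_mem hb)
    exact hRB ⟨hx1, hCB hxC⟩
  obtain ⟨g, hg⟩ := S.conj
  obtain ⟨g', hg'⟩ := S.symm.conj
  have hcard : Nat.card R₁ = Nat.card R₂ :=
    le_antisymm (card_qcore_le_of_conj q g hg) (card_qcore_le_of_conj q g' hg')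
  have h2 : R₂ = ⊥ := by
    by_contra h2
    have hN2 : normalizer (R₂ : Set G) = M₂ := S.norm₂ R₂ h2 qcore_le hR2n
    have h12 : R₁ ≤ R₂ := le_of_self_normalizing isPGroup_qcore isPGroup_qcore (hR2M1.trans hR1n)
      hN2.le hkey
    have heq : R₁ = R₂ := eq_of_le_of_card_ge h12 hcard.ge
    exact h2 (S.not_normal_both hR2M1 qcore_le (heq ▸ hR1n) hR2n)
  refine ⟨h2, card_eq_one.mp ?_⟩
  rw [hcard, h2, card_bot]

theorem Setting.layer_le (S : Setting M₁ M₂) (hA : secondCore M₁ M₂ ≠ ⊥) (hB : secondCore M₂ M₁ ≠ ⊥) :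
    (Cfsg.layer ↥M₁).map M₁.subtype ≤ (Cfsg.layer ↥M₂).map M₂.subtype := by
  set A₁ := firstCore M₁ M₂
  set B₁ := firstCore M₂ M₁
  set E := (Cfsg.layer ↥M₁).map M₁.subtype
  have hNA : normalizer (secondCore M₁ M₂ : Set G) = M₁ :=
    S.norm₁ _ hA (kern_le_left _ _) (le_normalizer_kern _ _)
  have hNB : normalizer (secondCore M₂ M₁ : Set G) = M₂ :=
    S.norm₂ _ hB (kern_le_left _ _) (le_normalizer_kern _ _)
  have hA₁n : (A₁.subgroupOf M₁).Normal := normal_subgroupOf_of_le_normalizer (le_normalizer_kern _ _)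
  have hEn : M₁ ≤ normalizer (E : Set G) := le_normalizer.trans (le_normalizer_map_char M₁ _)
  have hEA : E ≤ A₁ := by
    refine le_kern (map_subtype_le _) hEn (le_inf (map_subtype_le _) ?_)
    rintro _ ⟨x, hx, rfl⟩
    suffices h : Cfsg.layer ↥M₁ ≤ M₂.subgroupOf M₁ from mem_subgroupOf.mp (h hx)
    refine sSup_le fun L hL => ?_
    rcases comp_le_or_commute hL hA₁n.isSubnormal with h | h
    · exact fun y hy => mem_subgroupOf.mpr (firstCore_le₂ (mem_subgroupOf.mp (h hy)))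
    · intro y hy
      rw [mem_subgroupOf, ← hNB]
      refine centralizer_le_normalizer _ (mem_centralizer_iff.mpr fun b hb => ?_)
      exact congrArg Subtype.val (commute_of_commutator_eq_bot h hy
        (mem_subgroupOf.mpr (secondCore_symm_le hb) :
          (⟨b, kern_le_left _ _ (secondCore_symm_le hb)⟩ : M₁) ∈ A₁.subgroupOf M₁)).symm
  rintro _ ⟨x, hx, rfl⟩
  suffices h : Cfsg.layer ↥M₁ ≤ ((Cfsg.layer ↥M₂).map M₂.subtype).subgroupOf M₁ from
    mem_subgroupOf.mp (h hx)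
  refine sSup_le fun L hL => ?_
  have hLE : L.map M₁.subtype ≤ A₁ := (map_mono (comp_le_layer hL)).trans hEA
  have hLM2 : L.map M₁.subtype ≤ M₂ := hLE.trans firstCore_le₂
  -- `L` lies in the first core of `M₂`
  have hLn : L ≤ normalizer ((B₁.subgroupOf M₁ : Subgroup M₁) : Set M₁) := by
    intro y hy
    refine mem_normalizer_of_conj fun b hb => mem_subgroupOf.mpr ?_
    exact (mem_normalizer_iff.mp (le_normalizer_kern _ _ (hLM2 ⟨y, hy, rfl⟩)) b).mp (mem_subgroupOf.mp hb)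
  have hLB : L ≤ B₁.subgroupOf M₁ := by
    rcases comp_le_or_commute_of_normalizes hL hLn with h | h
    · exact h
    · set C := M₂ ⊓ centralizer (B₁ : Set G)
      have hCB : C ≤ B₁ := by
        refine le_kern inf_le_left ?_ (le_inf inf_le_left ?_)
        · intro m hm
          refine mem_normalizer_of_conj ?_
          rintro c ⟨hc, hcC⟩
          refine ⟨M₂.mul_mem (M₂.mul_mem hm hc) (M₂.inv_mem hm), mem_centralizer_iff.mpr fun b hb => ?_⟩
          have hb' : m⁻¹ * b * m ∈ B₁ := by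
            simpa using (mem_normalizer_iff.mp (le_normalizer_kern _ _ (inv_mem hm)) b).mp hb
          calc b * (m * c * m⁻¹) = m * ((m⁻¹ * b * m) * c) * m⁻¹ := by group
            _ = m * (c * (m⁻¹ * b * m)) * m⁻¹ := by rw [mem_centralizer_iff.mp hcC _ hb']
            _ = m * c * m⁻¹ * b := by group
        · rw [← hNA]
          exact inf_le_right.trans
            ((centralizer_le (SetLike.coe_subset_coe.mpr secondCore_le₂)).trans (centralizer_le_normalizer _))
      intro y hy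
      refine mem_subgroupOf.mpr (hCB ⟨hLM2 ⟨y, hy, rfl⟩, mem_centralizer_iff.mpr fun b hb => ?_⟩)
      exact congrArg Subtype.val (commute_of_commutator_eq_bot h hy
        (mem_subgroupOf.mpr hb : (⟨b, firstCore_le₂ hb⟩ : M₁) ∈ B₁.subgroupOf M₁)).symm
  -- so it is a component of `M₂`
  set e₁ := subgroupOfEquivOfLe (firstCore_le₂ : B₁ ≤ M₁)
  set e₂ := subgroupOfEquivOfLe (kern_le_left _ _ : B₁ ≤ M₂)
  have hc1 : IsComponent ((L.subgroupOf (B₁.subgroupOf M₁)).map (e₁.trans e₂.symm).toMonoidHom) :=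
    comp_map_equiv (comp_subgroupOf hL hLB) _
  have hB₁n : (B₁.subgroupOf M₂).Normal := normal_subgroupOf_of_le_normalizer (le_normalizer_kern _ _)
  have hc2 := (comp_map_subtype_iff hB₁n.isSubnormal).mpr hc1
  intro y hy
  refine mem_subgroupOf.mpr ⟨_, comp_le_layer hc2 ⟨_, ⟨⟨y, hLB hy⟩, hy, rfl⟩, rfl⟩, ?_⟩
  rfl

theorem Setting.layer_eq_bot (S : Setting M₁ M₂) (hA : secondCore M₁ M₂ ≠ ⊥) (hB : secondCore M₂ M₁ ≠ ⊥) :
    Cfsg.layer ↥M₁ = ⊥ := by
  have h12 := S.layer_le hA hB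
  have heq := le_antisymm h12 (S.symm.layer_le hB hA)
  refine (map_eq_bot_iff_of_injective _ M₁.subtype_injective).mp ?_
  refine S.not_normal_both (map_subtype_le _) (h12.trans (map_subtype_le _))
    (le_normalizer.trans (le_normalizer_map_char M₁ _)) ?_
  rw [heq]
  exact le_normalizer.trans (le_normalizer_map_char M₂ _)

theorem genFitting_eq_of_cores {M : Type u} [Group M] [Finite M] {p : ℕ} (hp : p.Prime)
    (hl : Cfsg.layer M = ⊥) (h : ∀ q : ℕ, q.Prime → q ≠ p → Cfsg.pCore q M = ⊥) :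
    Cfsg.generalizedFittingSubgroup M = Cfsg.pCore p M := by
  rw [Cfsg.generalizedFittingSubgroup, hl, bot_sup_eq, fitting_eq_iSup_pCore]
  refine le_antisymm (iSup_le fun q => ?_) (le_iSup (fun q : {q : ℕ // q.Prime} => Cfsg.pCore q.1 M) ⟨p, hp⟩)
  by_cases hq : q.1 = p
  · rw [hq]
  · rw [h q.1 q.2 hq]; exact bot_le

theorem pCore_eq_bot_iff_qcore {q : ℕ} {M : Subgroup G} : qcore q M = ⊥ ↔ Cfsg.pCore q ↥M = ⊥ :=
  map_eq_bot_iff_of_injective _ M.subtype_injective

/-- the theorem of Thompson and Wielandt -/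
theorem Setting.main (S : Setting M₁ M₂) (hA : secondCore M₁ M₂ ≠ ⊥) (hB : secondCore M₂ M₁ ≠ ⊥) :
    ∃ p : ℕ, p.Prime ∧ IsPGroup p ↥(secondCore M₁ M₂) ∧ IsPGroup p ↥(secondCore M₂ M₁) ∧
      Cfsg.generalizedFittingSubgroup ↥M₁ = Cfsg.pCore p ↥M₁ ∧
      Cfsg.generalizedFittingSubgroup ↥M₂ = Cfsg.pCore p ↥M₂ := by
  have hres : ∀ q : ℕ, q.Prime → Cfsg.pCore q ↥M₁ ≠ ⊥ →
      IsPGroup q ↥(secondCore M₁ M₂) ∧ IsPGroup q ↥(secondCore M₂ M₁) := by
    intro q hq hne
    haveI := Fact.mk hq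
    refine ⟨isPGroup_of_pResidualOf_eq_bot (by_contra fun h => hne ?_),
      isPGroup_of_pResidualOf_eq_bot (by_contra fun h => hne ?_)⟩
    · exact pCore_eq_bot_iff_qcore.mp (S.qcore_eq_bot h).2
    · exact pCore_eq_bot_iff_qcore.mp (S.symm.qcore_eq_bot h).1
  have hl1 := S.layer_eq_bot hA hB
  obtain ⟨p, hp, hpne⟩ : ∃ p : ℕ, p.Prime ∧ Cfsg.pCore p ↥M₁ ≠ ⊥ := by
    by_contra! h
    have hF : Cfsg.generalizedFittingSubgroup ↥M₁ = ⊥ := by
      rw [genFitting_eq_of_cores Nat.prime_two hl1 (fun q hq _ => h q hq), h 2 Nat.prime_two]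
    have hc := centralizer_genFitting_le (G := ↥M₁)
    rw [hF] at hc
    apply hA
    rw [eq_bot_iff]
    intro x hx
    have := hc (mem_centralizer_iff.mpr fun y hy => by rw [mem_bot.mp hy]; simp :
      (⟨x, kern_le_left _ _ hx⟩ : M₁) ∈ centralizer ((⊥ : Subgroup M₁) : Set M₁))
    exact congrArg Subtype.val (mem_bot.mp this)
  have hother : ∀ q : ℕ, q.Prime → q ≠ p → Cfsg.pCore q ↥M₁ = ⊥ := by
    intro q hq hqp
    by_contra hne
    haveI := Fact.mk hp
    haveI := Fact.mk hq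
    exact hA (disjoint_self.mp (IsPGroup.disjoint_of_ne p q (Ne.symm hqp) _ _ (hres p hp hpne).1
      (hres q hq hne).1))
  have hl2 := S.symm.layer_eq_bot hB hA
  obtain ⟨g', hg'⟩ := S.symm.conj
  refine ⟨p, hp, (hres p hp hpne).1, (hres p hp hpne).2, genFitting_eq_of_cores hp hl1 hother,
    genFitting_eq_of_cores hp hl2 fun q hq hqp => pCore_eq_bot_iff_qcore.mp (card_eq_one.mp ?_)⟩
  have h1 : Nat.card (qcore q M₁) = 1 := card_eq_one.mpr (pCore_eq_bot_iff_qcore.mpr (hother q hq hqp))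
  have h2 := card_qcore_le_of_conj q g' hg'
  have h3 : 0 < Nat.card (qcore q M₂) := Nat.card_pos
  omega

/-! ### the bound -/

theorem map_conj_eq_of_mem {X : Subgroup G} {h : G} (hh : h ∈ normalizer (X : Set G)) :
    X.map (MulAut.conj h).toMonoidHom = X := by
  refine eq_of_le_of_card_ge ?_ (card_map_of_injective (MulAut.conj h).injective).ge
  rintro _ ⟨x, hx, rfl⟩
  exact (mem_normalizer_iff.mp hh x).mp hx

theorem relIndex_iInf_dvd {ι : Type*} (s : Finset ι) (Y : ι → Subgroup G) {A : Subgroup G}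
    (hn : ∀ i ∈ s, A ≤ normalizer (Y i : Set G)) :
    (A ⊓ ⨅ i ∈ s, Y i).relIndex A ∣ ∏ i ∈ s, (Y i).relIndex A := by
  classical
  induction s using Finset.induction_on with
  | empty => simp
  | insert a s ha ih =>
    rw [Finset.prod_insert ha, Finset.iInf_insert, ← inf_assoc, inf_comm A, inf_assoc,
      ← relIndex_inf_mul_relIndex]
    refine Nat.mul_dvd_mul ?_ (ih fun i hi => hn i (Finset.mem_insert_of_mem hi))
    exact relIndex_dvd_of_normalized (inf_le_right) (hn a (Finset.mem_insert_self a s))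

theorem Setting.conj_data (M₁ M₂ : Subgroup G) :
    firstCore M₁ M₂ ≤ normalizer (firstCore M₂ M₁ : Set G) ∧
      M₁ ⊓ M₂ ≤ normalizer ((firstCore M₁ M₂ ⊓ firstCore M₂ M₁ : Subgroup G) : Set G) :=
  ⟨firstCore_le₂.trans (le_normalizer_kern _ _),
    Cfsg.Lib.Coprime.le_normalizer_inf (inf_le_left.trans (le_normalizer_kern _ _))
      (inf_le_right.trans (le_normalizer_kern _ _))⟩

/-- the index of the second core in the first -/
theorem relIndex_secondCore_dvd {d : ℕ} (hd₁ : (M₁ ⊓ M₂).relIndex M₁ = d) (hd₂ : (M₂ ⊓ M₁).relIndex M₂ = d) :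
    (secondCore M₁ M₂).relIndex (firstCore M₁ M₂) ∣ (d - 1).factorial ^ d := by
  classical
  set A₁ := firstCore M₁ M₂
  set D := A₁ ⊓ firstCore M₂ M₁
  obtain ⟨hAB, hDn⟩ := Setting.conj_data M₁ M₂
  set Q := M₁ ⧸ (M₁ ⊓ M₂).subgroupOf M₁
  haveI : Fintype Q := Fintype.ofFinite _
  let Y : Q → Subgroup G := fun q => D.map (MulAut.conj (Quotient.out q : M₁).1).toMonoidHom
  have hAconj : ∀ m ∈ M₁, A₁.map (MulAut.conj m).toMonoidHom = A₁ := fun m hm =>
    map_conj_eq_of_mem (le_normalizer_kern _ _ hm)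
  have hYn : ∀ q ∈ (Finset.univ : Finset Q), A₁ ≤ normalizer (Y q : Set G) := by
    intro q _
    rw [← hAconj _ (Quotient.out q : M₁).2]
    have hA : A₁ ≤ normalizer (D : Set G) :=
      (le_inf (kern_le_left _ _) firstCore_le₂).trans hDn
    exact (map_mono hA).trans (le_normalizer_map _)
  have hle : A₁ ⊓ ⨅ q ∈ (Finset.univ : Finset Q), Y q ≤ secondCore M₁ M₂ := by
    set X := A₁ ⊓ ⨅ q ∈ (Finset.univ : Finset Q), Y q
    have hXD : ∀ m ∈ M₁, X ≤ D.map (MulAut.conj m).toMonoidHom := by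
      intro m hm
      obtain ⟨h, hh⟩ := QuotientGroup.mk_out_eq_mul ((M₁ ⊓ M₂).subgroupOf M₁) (⟨m, hm⟩ : M₁)
      have hq := (inf_le_right : X ≤ _).trans (iInf₂_le (QuotientGroup.mk (⟨m, hm⟩ : M₁) : Q) (Finset.mem_univ _))
      refine hq.trans (le_of_eq ?_)
      show D.map (MulAut.conj ((Quotient.out (QuotientGroup.mk (⟨m, hm⟩ : M₁) : Q) : M₁) : G)).toMonoidHom = _
      rw [hh]
      show D.map (MulAut.conj (m * ((h : M₁) : G))).toMonoidHom = _
      rw [map_mul (MulAut.conj), show ((MulAut.conj m * MulAut.conj ((h : M₁) : G) : MulAut G)).toMonoidHom =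
        (MulAut.conj m).toMonoidHom.comp (MulAut.conj ((h : M₁) : G)).toMonoidHom from rfl,
        ← map_map, map_conj_eq_of_mem (hDn (mem_subgroupOf.mp h.2))]
    intro x hx
    have hxM : x ∈ M₁ := kern_le_left _ _ hx.1
    refine ⟨⟨x, hxM⟩, fun m => ?_, rfl⟩
    obtain ⟨y, hy, hyx⟩ := hXD _ (inv_mem m.2) hx
    show (m : G) * x * (m : G)⁻¹ ∈ D
    rw [← hyx]
    have e : (m : G) * ((m : G)⁻¹ * y * (m : G)⁻¹⁻¹) * (m : G)⁻¹ = y := by group
    show (m : G) * ((m : G)⁻¹ * y * (m : G)⁻¹⁻¹) * (m : G)⁻¹ ∈ D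
    rw [e]
    exact hy
  refine (relIndex_dvd_of_le_left _ hle).trans ((relIndex_iInf_dvd _ Y hYn).trans ?_)
  refine (Finset.prod_dvd_prod_of_dvd _ (fun _ => (d - 1).factorial) fun q _ => ?_).trans (dvd_of_eq ?_)
  · conv_lhs => rw [← hAconj _ (Quotient.out q : M₁).2]
    rw [show Y q = D.map (MulAut.conj (Quotient.out q : M₁).1).toMonoidHom from rfl,
      relIndex_map_map_of_injective _ _ (MulAut.conj (Quotient.out q : M₁).1).injective,
      show D = A₁ ⊓ firstCore M₂ M₁ from rfl, inf_relIndex_left, ← hd₂]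
    exact relIndex_kern_dvd_pred inf_le_left (le_inf firstCore_le₂ (kern_le_left _ _))
  · rw [Finset.prod_const, Finset.card_univ, ← Nat.card_eq_fintype_card]
    rw [show Nat.card Q = d from hd₁]

theorem card_dvd_of_secondCore_eq_bot {d : ℕ} (hd₁ : (M₁ ⊓ M₂).relIndex M₁ = d)
    (hd₂ : (M₂ ⊓ M₁).relIndex M₂ = d) (hd : 1 ≤ d) (h : secondCore M₂ M₁ = ⊥) :
    Nat.card M₁ ∣ d.factorial * (d - 1).factorial ^ d := by
  classical
  set A₁ := firstCore M₁ M₂
  set B₁ := firstCore M₂ M₁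
  set D := A₁ ⊓ B₁
  have hDA : D.relIndex A₁ ∣ (d - 1).factorial := by
    rw [inf_relIndex_left, ← hd₂]
    exact relIndex_kern_dvd_pred inf_le_left (le_inf firstCore_le₂ (kern_le_left _ _))
  have hAD : A₁.relIndex B₁ ∣ (d - 1).factorial := by
    rw [← hd₁]
    exact relIndex_kern_dvd_pred inf_le_left (le_inf firstCore_le₂ (kern_le_left _ _))
  set Q := M₂ ⧸ (M₂ ⊓ M₁).subgroupOf M₂
  haveI : Fintype Q := Fintype.ofFinite _
  let Y : Q → Subgroup G := fun q => D.map (MulAut.conj (Quotient.out q : M₂).1).toMonoidHom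
  have hDn : M₁ ⊓ M₂ ≤ normalizer (D : Set G) := (Setting.conj_data M₁ M₂).2
  have hBconj : ∀ m ∈ M₂, B₁.map (MulAut.conj m).toMonoidHom = B₁ := fun m hm =>
    map_conj_eq_of_mem (le_normalizer_kern _ _ hm)
  have hYnB : ∀ q, B₁ ≤ normalizer (Y q : Set G) := by
    intro q
    rw [← hBconj _ (Quotient.out q : M₂).2]
    exact (map_mono ((le_inf firstCore_le₂ (kern_le_left _ _)).trans hDn)).trans (le_normalizer_map _)
  set q₀ : Q := QuotientGroup.mk 1
  have hY0 : Y q₀ = D := by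
    obtain ⟨k, hk⟩ := QuotientGroup.mk_out_eq_mul ((M₂ ⊓ M₁).subgroupOf M₂) (1 : M₂)
    refine map_conj_eq_of_mem ?_
    rw [hk, one_mul]
    exact hDn ⟨(mem_subgroupOf.mp k.2).2, (mem_subgroupOf.mp k.2).1⟩
  have hle : D ⊓ ⨅ q ∈ (Finset.univ : Finset Q), Y q ≤ secondCore M₂ M₁ := by
    set X := D ⊓ ⨅ q ∈ (Finset.univ : Finset Q), Y q
    have hXD : ∀ m ∈ M₂, X ≤ D.map (MulAut.conj m).toMonoidHom := by
      intro m hm
      obtain ⟨h, hh⟩ := QuotientGroup.mk_out_eq_mul ((M₂ ⊓ M₁).subgroupOf M₂) (⟨m, hm⟩ : M₂)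
      have hq := (inf_le_right : X ≤ _).trans (iInf₂_le (QuotientGroup.mk (⟨m, hm⟩ : M₂) : Q) (Finset.mem_univ _))
      refine hq.trans (le_of_eq ?_)
      show D.map (MulAut.conj ((Quotient.out (QuotientGroup.mk (⟨m, hm⟩ : M₂) : Q) : M₂) : G)).toMonoidHom = _
      rw [hh]
      show D.map (MulAut.conj (m * ((h : M₂) : G))).toMonoidHom = _
      rw [map_mul (MulAut.conj), show ((MulAut.conj m * MulAut.conj ((h : M₂) : G) : MulAut G)).toMonoidHom =
        (MulAut.conj m).toMonoidHom.comp (MulAut.conj ((h : M₂) : G)).toMonoidHom from rfl,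
        ← map_map, map_conj_eq_of_mem (hDn ⟨(mem_subgroupOf.mp h.2).2, (mem_subgroupOf.mp h.2).1⟩)]
    intro x hx
    have hxM : x ∈ M₂ := kern_le_left _ _ hx.1.2
    refine ⟨⟨x, hxM⟩, fun m => ?_, rfl⟩
    obtain ⟨y, hy, hyx⟩ := hXD _ (inv_mem m.2) hx
    show (m : G) * x * (m : G)⁻¹ ∈ B₁ ⊓ A₁
    rw [inf_comm, ← hyx]
    have e : (m : G) * ((m : G)⁻¹ * y * (m : G)⁻¹⁻¹) * (m : G)⁻¹ = y := by group
    show (m : G) * ((m : G)⁻¹ * y * (m : G)⁻¹⁻¹) * (m : G)⁻¹ ∈ D
    rw [e]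
    exact hy
  have hDB : Nat.card D ∣ (d - 1).factorial ^ (d - 1) := by
    have h1 : D ⊓ ⨅ q ∈ (Finset.univ : Finset Q), Y q = ⊥ := le_bot_iff.mp (h ▸ hle)
    have h2 := relIndex_iInf_dvd (A := D) Finset.univ Y fun q _ => inf_le_right.trans (hYnB q)
    rw [h1, relIndex_bot_left, ← Finset.mul_prod_erase _ _ (Finset.mem_univ q₀), hY0, relIndex_self,
      one_mul] at h2
    refine h2.trans ((Finset.prod_dvd_prod_of_dvd _ (fun _ => (d - 1).factorial) fun q _ => ?_).trans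
      (dvd_of_eq ?_))
    · refine (relIndex_dvd_of_normalized inf_le_right (hYnB q)).trans ?_
      conv_lhs => rw [← hBconj _ (Quotient.out q : M₂).2]
      rw [show Y q = D.map (MulAut.conj (Quotient.out q : M₂).1).toMonoidHom from rfl,
        relIndex_map_map_of_injective _ _ (MulAut.conj (Quotient.out q : M₂).1).injective,
        show D = A₁ ⊓ B₁ from rfl, inf_relIndex_right]
      exact hAD
    · rw [Finset.prod_const, Finset.card_erase_of_mem (Finset.mem_univ _), Finset.card_univ,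
        ← Nat.card_eq_fintype_card, show Nat.card Q = d from hd₂]
  have h1 : Nat.card M₁ = A₁.relIndex M₁ * (D.relIndex A₁ * Nat.card D) := by
    rw [← relIndex_bot_left D, ← relIndex_bot_left M₁, mul_comm (D.relIndex A₁),
      relIndex_mul_relIndex ⊥ D A₁ bot_le inf_le_left, mul_comm,
      relIndex_mul_relIndex ⊥ A₁ M₁ bot_le (kern_le_left _ _)]
  rw [h1]
  refine Nat.mul_dvd_mul (hd₁ ▸ relIndex_kern_dvd) ((Nat.mul_dvd_mul hDA hDB).trans (dvd_of_eq ?_))
  rw [← pow_succ', Nat.sub_add_cancel hd]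

theorem relIndex_secondCore_mul (M₁ M₂ : Subgroup G) :
    (secondCore M₁ M₂).relIndex M₁ =
      (firstCore M₁ M₂).relIndex M₁ * (secondCore M₁ M₂).relIndex (firstCore M₁ M₂) := by
  rw [mul_comm, relIndex_mul_relIndex _ _ _ secondCore_le₁ (kern_le_left _ _)]

theorem relIndex_secondCore_bound {d : ℕ} (hd₁ : (M₁ ⊓ M₂).relIndex M₁ = d)
    (hd₂ : (M₂ ⊓ M₁).relIndex M₂ = d) :
    (secondCore M₁ M₂).relIndex M₁ ∣ d.factorial * (d - 1).factorial ^ d := by
  rw [relIndex_secondCore_mul]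
  exact Nat.mul_dvd_mul (hd₁ ▸ relIndex_kern_dvd) (relIndex_secondCore_dvd hd₁ hd₂)

theorem Setting.exists_pSubgroup (S : Setting M₁ M₂) {d : ℕ} (hd₁ : (M₁ ⊓ M₂).relIndex M₁ = d)
    (hd₂ : (M₂ ⊓ M₁).relIndex M₂ = d) (hd : 1 ≤ d) :
    ∃ p : ℕ, p.Prime ∧ ∃ P : Subgroup G, P ≤ M₁ ⊓ M₂ ∧ M₁ ≤ normalizer (P : Set G) ∧ IsPGroup p P ∧
      P.relIndex M₁ ∣ d.factorial * (d - 1).factorial ^ d := by
  have hle : secondCore M₁ M₂ ≤ M₁ ⊓ M₂ := secondCore_le₁.trans (kern_le_right _ _)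
  by_cases hA : secondCore M₁ M₂ = ⊥
  · exact ⟨2, Nat.prime_two, secondCore M₁ M₂, hle, le_normalizer_kern _ _, hA ▸ IsPGroup.of_bot,
      relIndex_secondCore_bound hd₁ hd₂⟩
  by_cases hB : secondCore M₂ M₁ = ⊥
  · refine ⟨2, Nat.prime_two, ⊥, bot_le, ?_, IsPGroup.of_bot, ?_⟩
    · intro x _
      exact mem_normalizer_of_conj fun y hy => by rw [mem_bot.mp hy]; simp
    · rw [relIndex_bot_left]
      exact card_dvd_of_secondCore_eq_bot hd₁ hd₂ hd hB
  obtain ⟨p, hp, hPA, -, -, -⟩ := S.main hA hB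
  exact ⟨p, hp, secondCore M₁ M₂, hle, le_normalizer_kern _ _, hPA, relIndex_secondCore_bound hd₁ hd₂⟩

theorem Setting.card_dvd_of_genFitting_ne (S : Setting M₁ M₂) {d : ℕ} (hd₁ : (M₁ ⊓ M₂).relIndex M₁ = d)
    (hd₂ : (M₂ ⊓ M₁).relIndex M₂ = d) (hd : 1 ≤ d)
    (h : ∀ p : ℕ, p.Prime → Cfsg.generalizedFittingSubgroup ↥M₁ ≠ Cfsg.pCore p ↥M₁) :
    Nat.card M₁ ∣ d.factorial * (d - 1).factorial ^ d := by
  by_cases hB : secondCore M₂ M₁ = ⊥
  · exact card_dvd_of_secondCore_eq_bot hd₁ hd₂ hd hB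
  by_cases hA : secondCore M₁ M₂ = ⊥
  · have h' := relIndex_secondCore_bound hd₁ hd₂
    rwa [hA, relIndex_bot_left] at h'
  obtain ⟨p, hp, -, -, hF, -⟩ := S.main hA hB
  exact absurd hF (h p hp)

theorem Setting.inter_cores_eq_bot (S : Setting M₁ M₂) {q : ℕ} [Fact q.Prime]
    (h : qcore q (M₁ ⊓ M₂) ≤ firstCore M₁ M₂) : qcore q (M₁ ⊓ M₂) = ⊥ := by
  set A₁ := firstCore M₁ M₂
  set R := qcore q (M₁ ⊓ M₂) with hR
  have hA12 : A₁ ≤ M₁ ⊓ M₂ := kern_le_right _ _
  have heq : R = qcore q A₁ := le_antisymm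
    (le_qcore h (hA12.trans (le_normalizer.trans le_normalizer_qcore)) isPGroup_qcore)
    (le_qcore (qcore_le.trans hA12)
      (inf_le_left.trans ((le_normalizer_kern _ _).trans le_normalizer_qcore)) isPGroup_qcore)
  have hRn : M₁ ≤ normalizer (R : Set G) := heq ▸ (le_normalizer_kern _ _).trans le_normalizer_qcore
  by_contra hne
  have hRM₁ : R ≤ M₁ := qcore_le.trans inf_le_left
  have hRM₂ : R ≤ M₂ := qcore_le.trans inf_le_right
  have hN := S.norm₁ R hne hRM₁ hRn
  have h2n : M₂ ≤ normalizer (qcore q M₂ : Set G) := le_normalizer.trans le_normalizer_qcore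
  have h1n : M₁ ≤ normalizer (qcore q M₁ : Set G) := le_normalizer.trans le_normalizer_qcore
  have hP2 : qcore q M₂ ≤ R := le_of_self_normalizing isPGroup_qcore isPGroup_qcore
    (hRM₂.trans h2n) hN.le (le_qcore (le_inf inf_le_right (inf_le_left.trans qcore_le))
      (Cfsg.Lib.Coprime.le_normalizer_inf (inf_le_right.trans h2n) (inf_le_left.trans le_normalizer))
      (isPGroup_qcore.to_le inf_le_left))
  have hR1 : R ≤ qcore q M₁ := le_qcore hRM₁ hRn isPGroup_qcore
  obtain ⟨g, hg⟩ := S.conj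
  have he : qcore q M₂ = qcore q M₁ :=
    eq_of_le_of_card_ge (hP2.trans hR1) (card_qcore_le_of_conj q g hg)
  have hbot : qcore q M₁ = ⊥ := S.not_normal_both qcore_le (he ▸ qcore_le) h1n (he ▸ h2n)
  exact hne (le_bot_iff.mp (hbot ▸ hR1))

theorem Setting.card_dvd_of_inter_cores (S : Setting M₁ M₂) {d : ℕ} (hd₁ : (M₁ ⊓ M₂).relIndex M₁ = d)
    (hd₂ : (M₂ ⊓ M₁).relIndex M₂ = d) (hd : 1 ≤ d)
    (h : ∀ q : ℕ, q.Prime → qcore q (M₁ ⊓ M₂) = ⊥) :
    Nat.card M₁ ∣ d.factorial * (d - 1).factorial ^ d := by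
  obtain ⟨p, hp, P, hPM, hPn, hPp, hdvd⟩ := S.exists_pSubgroup hd₁ hd₂ hd
  haveI := Fact.mk hp
  have hP : P = ⊥ := le_bot_iff.mp (h p hp ▸ le_qcore hPM (inf_le_left.trans hPn) hPp)
  rwa [hP, relIndex_bot_left] at hdvd

/-! ### primitive groups -/

section Action

variable {Ω : Type*} [MulAction G Ω] [FaithfulSMul G Ω]

theorem setting_of_primitive (hprim : MulAction.IsPreprimitive G Ω) (a b : Ω) (d : ℕ)
    (hd : Nat.card (MulAction.orbit (MulAction.stabilizer G a) b) = d) (h2 : 2 ≤ d) :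
    Setting (MulAction.stabilizer G a) (MulAction.stabilizer G b) ∧
      (MulAction.stabilizer G a ⊓ MulAction.stabilizer G b).relIndex (MulAction.stabilizer G a) = d ∧
      (MulAction.stabilizer G b ⊓ MulAction.stabilizer G a).relIndex (MulAction.stabilizer G b) = d := by
  classical
  haveI := hprim
  set M₁ := MulAction.stabilizer G a with hM₁
  set M₂ := MulAction.stabilizer G b with hM₂
  have hd₁ : (M₁ ⊓ M₂).relIndex M₁ = d := by
    rw [inf_relIndex_left, relIndex, ← hd, ← Nat.card_congr (MulAction.orbitEquivQuotientStabilizer M₁ b).symm,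
      Subgroup.index_eq_card]
    have e : MulAction.stabilizer M₁ b = M₂.subgroupOf M₁ := by
      ext x
      simp only [MulAction.mem_stabilizer_iff, mem_subgroupOf, hM₂]
      rfl
    rw [e]
  obtain ⟨g, hg⟩ := MulAction.exists_smul_eq G a b
  have hconj : M₂ = M₁.map (MulAut.conj g).toMonoidHom := by
    rw [hM₂, ← hg, MulAction.stabilizer_smul_eq_stabilizer_map_conj]
  have hd₂ : (M₂ ⊓ M₁).relIndex M₂ = d := by
    have e : ∀ H K : Subgroup G, H ≤ K → Nat.card H * H.relIndex K = Nat.card K := fun H K h => by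
      rw [← relIndex_bot_left, relIndex_mul_relIndex _ _ _ bot_le h, relIndex_bot_left]
    have h1 := e _ _ (inf_le_left : M₁ ⊓ M₂ ≤ M₁)
    have h2' := e _ _ (inf_le_left : M₂ ⊓ M₁ ≤ M₂)
    rw [hd₁] at h1
    have hc : Nat.card M₂ = Nat.card M₁ := by
      rw [hconj, card_map_of_injective (MulAut.conj g).injective]
    rw [hc, ← h1, inf_comm M₂ M₁] at h2'
    rw [inf_comm]
    exact Nat.eq_of_mul_eq_mul_left Nat.card_pos h2'
  have hne : M₁ ≠ M₂ := fun h => by
    rw [h, inf_idem, relIndex_self] at hd₁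
    omega
  haveI : Nontrivial Ω := ⟨a, b, fun h => hne (by rw [hM₁, hM₂, h])⟩
  have hnorm : ∀ (c : Ω) (X : Subgroup G), X ≠ ⊥ → X ≤ MulAction.stabilizer G c →
      MulAction.stabilizer G c ≤ normalizer (X : Set G) → normalizer (X : Set G) = MulAction.stabilizer G c := by
    intro c X hX hXc hn
    have hco : IsCoatom (MulAction.stabilizer G c) := hprim.isCoatom_stabilizer_of_isPreprimitive (a := c)
    rcases (hco.le_iff).mp hn with h | h
    · exfalso
      haveI : X.Normal := normalizer_eq_top_iff.mp h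
      refine hX (eq_bot_iff.mpr fun x hx => mem_bot.mpr (FaithfulSMul.eq_of_smul_eq_smul (α := Ω) fun ω => ?_))
      obtain ⟨k, rfl⟩ := MulAction.exists_smul_eq G c ω
      have hh : k⁻¹ * x * k⁻¹⁻¹ ∈ MulAction.stabilizer G c := hXc (Subgroup.Normal.conj_mem inferInstance x hx _)
      rw [MulAction.mem_stabilizer_iff, inv_inv, mul_smul, mul_smul, inv_smul_eq_iff] at hh
      rw [one_smul, hh]
    · exact h
  exact ⟨⟨hnorm a, hnorm b, ⟨g, hconj⟩, hne⟩, hd₁, hd₂⟩

end Action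

end Cfsg.Lib.ThompsonWielandt
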