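import Cfsg.Agent.Components.Cores
import Cfsg.Agent.Components.Local
import Cfsg.Agent.Transfer.IndexPrimeTo
import Cfsg.Agent.Coprime.Basic
import Cfsg.Prelude.Def_Local

/-!
`O_{p',p}` and fusion in the normalizer of its Sylow subgroup.
-/

set_option linter.style.haveILetI false
set_option linter.unusedSectionVars false

namespace Cfsg.Lib.PPrimeP

open Subgroup

universe u

variable {G : Type u} [Group G] [Finite G] {p : ℕ} [hp : Fact p.Prime]

theorem pPrimePCore_normal : (Cfsg.pPrimePCore p G).Normal := by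
  haveI : (Cfsg.pCore p (G ⧸ Cfsg.pPrimeCore p G)).Normal := Cfsg.Lib.Components.pCore_normal' p
  unfold Cfsg.pPrimePCore
  infer_instance

theorem pPrimePCore_eq (P : Sylow p G) :
    Cfsg.pPrimePCore p G = Cfsg.pPrimeCore p G ⊔ ((P : Subgroup G) ⊓ Cfsg.pPrimePCore p G) := by
  set D := Cfsg.pPrimeCore p G
  set M := Cfsg.pPrimePCore p G with hM
  haveI : M.Normal := pPrimePCore_normal
  have hDM : D ≤ M := fun x hx => by
    show QuotientGroup.mk' D x ∈ Cfsg.pCore p (G ⧸ D)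
    rw [show QuotientGroup.mk' D x = 1 from (QuotientGroup.eq_one_iff x).2 hx]
    exact one_mem _
  refine le_antisymm ?_ (sup_le hDM inf_le_right)
  obtain ⟨A, hA⟩ := Cfsg.Lib.Transfer.exists_sylow_subgroupOf P M
  obtain ⟨k, hk⟩ : ∃ k, (D.subgroupOf M).index = p ^ k := by
    obtain ⟨k, hk⟩ := IsPGroup.iff_card.1 (Cfsg.Lib.Components.isPGroup_pCore (G := G ⧸ D) p)
    refine ⟨k, ?_⟩
    have h1 : (D.subgroupOf M).index = Nat.card (Cfsg.pCore p (G ⧸ D)) := by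
      have e : D.subgroupOf M = ((QuotientGroup.mk' D).comp M.subtype).ker := by
        ext x
        simp [mem_subgroupOf, MonoidHom.mem_ker, QuotientGroup.eq_one_iff]
      have e2 : ((QuotientGroup.mk' D).comp M.subtype).range = Cfsg.pCore p (G ⧸ D) := by
        rw [MonoidHom.range_comp, range_subtype, hM, Cfsg.pPrimePCore]
        exact map_comap_eq_self_of_surjective (QuotientGroup.mk'_surjective D) _
      rw [e, index_ker, e2]
    rw [h1, hk]
  intro x hx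
  have h2 : D.subgroupOf M ⊔ (A : Subgroup M) = ⊤ := Cfsg.Lib.Transfer.sup_sylow_eq_top hk A
  have h3 := congrArg (Subgroup.map M.subtype) h2
  rw [Subgroup.map_sup, map_subgroupOf_eq_of_le hDM, hA, subgroupOf_map_subtype, ← MonoidHom.range_eq_map, range_subtype] at h3
  exact h3.ge hx

theorem conj_eq_of_mem_normalizer (P : Sylow p G) {y : G}
    (hy : y ∈ normalizer (((P : Subgroup G) ⊓ Cfsg.pPrimePCore p G : Subgroup G) : Set G))
    (hyp : ∃ k, orderOf y = p ^ k) {d : G} (hd : d ∈ Cfsg.pPrimeCore p G)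
    (hy' : d⁻¹ * y * d ∈ normalizer (((P : Subgroup G) ⊓ Cfsg.pPrimePCore p G : Subgroup G) : Set G)) :
    ∃ d₁ ∈ Cfsg.pPrimeCore p G ⊓ centralizer ({y} : Set G),
      ∃ d₂ ∈ Cfsg.pPrimeCore p G ⊓ centralizer (((P : Subgroup G) ⊓ Cfsg.pPrimePCore p G : Subgroup G) : Set G),
        d = d₁ * d₂ := by
  set D := Cfsg.pPrimeCore p G
  haveI : D.Normal := Cfsg.Lib.Components.pPrimeCore_normal' p
  set H := (P : Subgroup G) ⊓ Cfsg.pPrimePCore p G
  set N := normalizer (H : Set G)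
  have hHp : IsPGroup p H := P.2.to_le inf_le_left
  set C := D ⊓ centralizer (H : Set G) with hC
  have hDN : D ⊓ N ≤ C := fun c hc => mem_inf.mpr ⟨(mem_inf.1 hc).1, mem_centralizer_iff.2 fun h hh => by
    have h1 : h * c * h⁻¹ * c⁻¹ ∈ H ⊓ D := mem_inf.mpr ⟨by
      rw [show h * c * h⁻¹ * c⁻¹ = h * (c * h⁻¹ * c⁻¹) by group]
      exact mul_mem hh ((mem_normalizer_iff.1 (mem_inf.1 hc).2 _).1 (inv_mem hh)),
      mul_mem ((inferInstance : D.Normal).conj_mem c (mem_inf.1 hc).1 h) (inv_mem (mem_inf.1 hc).1)⟩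
    rw [Cfsg.Lib.Components.coprime_pGroup_disjoint hHp (Cfsg.Lib.Components.coprime_card_pPrimeCore p), mem_bot] at h1
    exact mul_inv_eq_iff_eq_mul.1 (mul_inv_eq_one.1 h1)⟩
  have hCN : C ≤ N := inf_le_right.trans (centralizer_le_normalizer _)
  set y' := d⁻¹ * y * d with hy'def
  have hc0 : y⁻¹ * y' ∈ C := hDN (mem_inf.mpr ⟨by
    rw [hy'def, show y⁻¹ * (d⁻¹ * y * d) = (y⁻¹ * d⁻¹ * y⁻¹⁻¹) * d by group]
    exact mul_mem ((inferInstance : D.Normal).conj_mem _ (inv_mem hd) y⁻¹) hd, mul_mem (inv_mem hy) hy'⟩)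
  -- `C⟨y⟩` and its two Sylow subgroups
  have hyC : zpowers y ≤ normalizer (C : Set G) := by
    rw [zpowers_le]
    refine mem_normalizer_iff_map_conj_eq.2 (eq_of_le_of_card_ge ?_ (card_map_of_injective (MulEquiv.injective _)).ge)
    rintro _ ⟨c, hc, rfl⟩
    exact hDN (mem_inf.mpr ⟨(inferInstance : D.Normal).conj_mem c (mem_inf.1 hc).1 y, mul_mem (mul_mem hy (hCN hc)) (inv_mem hy)⟩)
  set X := C ⊔ zpowers y
  have hy'X : y' ∈ X := by
    rw [show y' = y * (y⁻¹ * y') by group]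
    exact mul_mem (mem_sup_right (mem_zpowers y)) (mem_sup_left hc0)
  obtain ⟨k, hk⟩ := hyp
  have hyp' : IsPGroup p (zpowers y) := IsPGroup.of_card (by rw [Nat.card_zpowers, hk])
  have hy'p : IsPGroup p (zpowers y') := IsPGroup.of_card (n := k) (by
    rw [Nat.card_zpowers, hy'def, ← hk]
    have := MulEquiv.orderOf_eq (MulAut.conj d⁻¹) y
    simpa using this)
  obtain ⟨S, hS⟩ := (hyp'.comap_subtype (K := X)).exists_le_sylow
  obtain ⟨S', hS'⟩ := (hy'p.comap_subtype (K := X)).exists_le_sylow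
  obtain ⟨m, hm⟩ := MulAction.exists_smul_eq X S S'
  obtain ⟨c, hc, t, ht, hmct⟩ := (Cfsg.Lib.Coprime.mem_sup_of_le_normalizer hyC).1 m.2
  have hyS : (⟨y, mem_sup_right (mem_zpowers y)⟩ : X) ∈ (S : Subgroup X) := hS (mem_zpowers y)
  have h1 : (⟨c * y * c⁻¹, mul_mem (mul_mem (mem_sup_left hc) (mem_sup_right (mem_zpowers y))) (inv_mem (mem_sup_left hc))⟩ : X)
      ∈ (S' : Subgroup X) := by
    rw [← hm, Cfsg.Lib.Transfer.sylow_smul_coe]
    refine ⟨_, hyS, Subtype.ext ?_⟩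
    show (m : G) * y * (m : G)⁻¹ = c * y * c⁻¹
    rw [← hmct]
    obtain ⟨i, rfl⟩ := mem_zpowers_iff.1 ht
    group
  have h2 : (⟨y', hy'X⟩ : X) ∈ (S' : Subgroup X) := hS' (mem_zpowers y')
  have h3 := (S' : Subgroup X).mul_mem h1 ((S' : Subgroup X).inv_mem h2)
  have h4 : c * y * c⁻¹ * y'⁻¹ ∈ C := by
    rw [show c * y * c⁻¹ * y'⁻¹ = c * (y * c⁻¹ * y⁻¹) * (y * (y⁻¹ * y')⁻¹ * y⁻¹) by group]
    exact mul_mem (mul_mem hc ((mem_normalizer_iff.1 (hyC (mem_zpowers y)) _).1 (inv_mem hc)))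
      ((mem_normalizer_iff.1 (hyC (mem_zpowers y)) _).1 (inv_mem hc0))
  have h5 : c * y * c⁻¹ = y' := by
    refine mul_inv_eq_one.1 (mem_bot.1 ?_)
    rw [← Cfsg.Lib.Components.coprime_pGroup_disjoint (A := (S' : Subgroup X).map X.subtype) (S'.2.map _)
      ((Cfsg.Lib.Components.coprime_card_pPrimeCore (G := G) p).coprime_dvd_left (card_dvd_of_le (inf_le_left : C ≤ D)))]
    exact mem_inf.mpr ⟨⟨_, h3, rfl⟩, h4⟩
  have hcd : d * c ∈ centralizer ({y} : Set G) := mem_centralizer_singleton_iff.2 (by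
    calc d * c * y = d * (c * y * c⁻¹) * c := by group
      _ = y * (d * c) := by rw [h5, hy'def]; group)
  exact ⟨d * c, mem_inf.mpr ⟨mul_mem hd (mem_inf.1 hc).1, hcd⟩, c⁻¹, inv_mem hc, by group⟩

theorem controls_fusion (P : Sylow p G) (x y : G) (hx : x ∈ (P : Subgroup G)) (hy : y ∈ (P : Subgroup G)) (h : IsConj x y) :
    ∃ n ∈ normalizer (((P : Subgroup G) ⊓ Cfsg.pPrimePCore p G : Subgroup G) : Set G), n * x * n⁻¹ = y := by
  set D := Cfsg.pPrimeCore p G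
  haveI : D.Normal := Cfsg.Lib.Components.pPrimeCore_normal' p
  set M := Cfsg.pPrimePCore p G
  haveI : M.Normal := pPrimePCore_normal
  set H := (P : Subgroup G) ⊓ M with hH
  set N := normalizer (H : Set G)
  have hPN : (P : Subgroup G) ≤ N := by
    intro t ht
    refine mem_normalizer_iff.2 fun z => ?_
    rw [hH, mem_inf, mem_inf]
    exact and_congr (mem_normalizer_iff.1 (le_normalizer (H := (P : Subgroup G)) ht) z)
      (mem_normalizer_iff.1 ((normalizer_eq_top_iff.2 (inferInstance : M.Normal)).ge (mem_top t)) z)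
  obtain ⟨A, hA⟩ := Cfsg.Lib.Transfer.exists_sylow_subgroupOf P M
  have htop : N ⊔ M = ⊤ := by
    have h1 := Sylow.normalizer_sup_eq_top A
    rw [hA, subgroupOf_map_subtype] at h1
    exact h1
  obtain ⟨g, hg⟩ := isConj_iff.1 h
  have hgen : D ⊔ N = ⊤ := top_le_iff.1 (htop.ge.trans (sup_le le_sup_right
    ((pPrimePCore_eq P).le.trans (sup_le_sup le_rfl le_normalizer))))
  obtain ⟨d, hd, n, hn, rfl⟩ := mem_sup_of_normal_left.1 (hgen.ge (mem_top g))
  have hw : n * x * n⁻¹ ∈ N := mul_mem (mul_mem hn (hPN hx)) (inv_mem hn)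
  have e : d⁻¹ * y * d = n * x * n⁻¹ := by rw [← hg]; group
  obtain ⟨k, hk⟩ := IsPGroup.iff_orderOf.1 P.2 ⟨y, hy⟩
  rw [Subgroup.orderOf_mk] at hk
  obtain ⟨d₁, hd₁, d₂, hd₂, rfl⟩ := conj_eq_of_mem_normalizer P (hPN hy) ⟨k, hk⟩ hd (by rw [e]; exact hw)
  refine ⟨d₂ * n, mul_mem (centralizer_le_normalizer _ (mem_inf.1 hd₂).2) hn, ?_⟩
  calc d₂ * n * x * (d₂ * n)⁻¹ = d₁⁻¹ * (d₁ * d₂ * n * x * (d₁ * d₂ * n)⁻¹) * d₁ := by group
    _ = y := by rw [hg, mul_assoc, ← mem_centralizer_singleton_iff.1 (mem_inf.1 hd₁).2]; group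

end Cfsg.Lib.PPrimeP
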