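import Mathlib.GroupTheory.Sylow
import Mathlib.GroupTheory.Nilpotent
import Cfsg.Prelude.Def_IsolatedElements

/-! Isolated elements and elements weakly closed in a Sylow subgroup. -/

namespace Cfsg.Lib.Isolated

variable {G : Type*} [Group G] [Finite G] {p : ℕ} [Fact p.Prime]

theorem conj_mem_sylow (S : Sylow p G) (R : Subgroup G) (hR : IsPGroup p R) :
    ∃ h : G, ∀ r ∈ R, h * r * h⁻¹ ∈ (S : Subgroup G) := by
  obtain ⟨P, hP⟩ := hR.exists_le_sylow
  obtain ⟨h, hh⟩ := MulAction.exists_smul_eq G P S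
  refine ⟨h, fun r hr => ?_⟩
  rw [← hh]
  exact ⟨r, hP hr, rfl⟩

/-- Powers of an element weakly closed in a Sylow subgroup are weakly closed. -/
theorem pow_weaklyClosed (S : Sylow p G) (a : G) (haS : a ∈ (S : Subgroup G))
    (hwc : ∀ g : G, g * a * g⁻¹ ∈ (S : Subgroup G) → g * a * g⁻¹ = a) (n : ℕ) (g : G)
    (hg : g * a ^ n * g⁻¹ ∈ (S : Subgroup G)) : g * a ^ n * g⁻¹ = a ^ n := by
  set b : G := g * a ^ n * g⁻¹ with hb
  set C : Subgroup G := Subgroup.centralizer ({b} : Set G) with hC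
  have haC : a ∈ C := by
    rw [hC, Subgroup.mem_centralizer_singleton_iff]
    have h1 := hwc b (mul_mem (mul_mem hg haS) (inv_mem hg))
    have h2 : b * a * b⁻¹ * b = a * b := by rw [h1]
    rw [inv_mul_cancel_right] at h2
    exact h2.symm
  have ha'C : g * a * g⁻¹ ∈ C := by
    rw [hC, Subgroup.mem_centralizer_singleton_iff, hb]
    simp only [mul_assoc, inv_mul_cancel_left]
    rw [← mul_assoc a, ← mul_assoc (a ^ n), (Commute.self_pow a n).eq]
  have hp1 : IsPGroup p (Subgroup.zpowers a) :=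
    S.isPGroup'.to_le ((Subgroup.zpowers_le).2 haS)
  have hp2 : IsPGroup p (Subgroup.zpowers (⟨g * a * g⁻¹, ha'C⟩ : C)) :=
    ((hp1.map (MulAut.conj g).toMonoidHom).comap_of_injective C.subtype
      (Subgroup.subtype_injective C)).to_le
      ((Subgroup.zpowers_le).2 ⟨a, Subgroup.mem_zpowers a, rfl⟩)
  have hp1' : IsPGroup p (Subgroup.zpowers (⟨a, haC⟩ : C)) :=
    (hp1.comap_of_injective C.subtype (Subgroup.subtype_injective C)).to_le
      ((Subgroup.zpowers_le).2 (Subgroup.mem_zpowers a))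
  obtain ⟨P, hP⟩ := hp1'.exists_le_sylow
  obtain ⟨P', hP'⟩ := hp2.exists_le_sylow
  obtain ⟨c, hc⟩ := MulAction.exists_smul_eq C P' P
  obtain ⟨h, hh⟩ := conj_mem_sylow S _ (P.isPGroup'.map C.subtype)
  have hca : (c : G) * (g * a * g⁻¹) * (c : G)⁻¹ ∈ (P : Subgroup C).map C.subtype := by
    refine ⟨c * ⟨g * a * g⁻¹, ha'C⟩ * c⁻¹, ?_, rfl⟩
    rw [← hc]
    exact ⟨_, hP' (Subgroup.mem_zpowers _), rfl⟩
  have e1 : h * a * h⁻¹ = a :=
    hwc h (hh a ⟨⟨a, haC⟩, hP (Subgroup.mem_zpowers _), rfl⟩)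
  have e2 : h * ((c : G) * (g * a * g⁻¹) * (c : G)⁻¹) * h⁻¹ = a := by
    have h3 := hwc (h * (c : G) * g) (by simpa [mul_assoc] using hh _ hca)
    simpa [mul_assoc] using h3
  have e3 : (c : G) * (g * a * g⁻¹) * (c : G)⁻¹ = a := by
    have h4 : h * ((c : G) * (g * a * g⁻¹) * (c : G)⁻¹) * h⁻¹ = h * a * h⁻¹ := by rw [e1, e2]
    exact mul_left_cancel (mul_right_cancel h4)
  have e4 : (c : G) * b * (c : G)⁻¹ = a ^ n := by
    rw [hb, ← conj_pow, ← conj_pow, e3]
  have e5 : (c : G) * b * (c : G)⁻¹ = b := by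
    have h5 : (c : G) * b = b * c := (Subgroup.mem_centralizer_singleton_iff.1 c.2)
    rw [h5, mul_inv_cancel_right]
  rw [← e4, e5]

omit [Finite G] in
/-- An isolated element is central in every finite `p`-group containing it. -/
theorem commute_of_pgroup {x : G} (hiso : Cfsg.IsIsolated x) {R : Subgroup G} [Finite R]
    (hR : IsPGroup p R) (hx : x ∈ R) : ∀ r ∈ R, r * x = x * r := by
  haveI : Group.IsNilpotent R := hR.isNilpotent
  set C : Subgroup R := Subgroup.centralizer ({⟨x, hx⟩} : Set R) with hC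
  have hnc : Subgroup.normalizer (C : Set R) ≤ C := by
    intro y hy
    have h1 := (Subgroup.mem_normalizer_iff.1 hy ⟨x, hx⟩).1 (by
      rw [hC, Subgroup.mem_centralizer_singleton_iff])
    rw [hC, Subgroup.mem_centralizer_singleton_iff] at h1
    have h2 := hiso (y : G) (by
      have := congrArg Subtype.val h1
      simpa [Commute, SemiconjBy] using this.symm)
    rw [hC, Subgroup.mem_centralizer_singleton_iff]
    apply Subtype.ext
    have h3 : (y : G) * x * (y : G)⁻¹ * y = x * y := by rw [h2]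
    rw [inv_mul_cancel_right] at h3
    simpa using h3
  have htop : C = ⊤ :=
    (normalizerCondition_iff_only_full_group_self_normalizing.mp normalizerCondition_of_isNilpotent) C
      (le_antisymm hnc Subgroup.le_normalizer)
  intro r hr
  have : (⟨r, hr⟩ : R) ∈ C := htop ▸ Subgroup.mem_top _
  rw [hC, Subgroup.mem_centralizer_singleton_iff] at this
  simpa using congrArg Subtype.val this

theorem weaklyClosed {x : G} (hiso : Cfsg.IsIsolated x) (P : Sylow p G)
    (hxP : x ∈ (P : Subgroup G)) (g : G) (hg : g * x * g⁻¹ ∈ (P : Subgroup G)) :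
    g * x * g⁻¹ = x :=
  hiso g (commute_of_pgroup hiso P.isPGroup' hxP _ hg).symm

omit [Finite G] in
theorem normalizer_le_centralizer {x : G} (hiso : Cfsg.IsIsolated x) {R : Subgroup G} [Finite R]
    (hR : IsPGroup p R) (hx : x ∈ R) :
    Subgroup.normalizer (R : Set G) ≤ Subgroup.centralizer ({x} : Set G) := by
  intro g hg
  have h1 := (Subgroup.mem_normalizer_iff.1 hg x).1 hx
  have h2 := hiso g (commute_of_pgroup hiso hR hx _ h1).symm
  rw [Subgroup.mem_centralizer_singleton_iff]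
  have h3 : g * x * g⁻¹ * g = x * g := by rw [h2]
  rwa [inv_mul_cancel_right] at h3

end Cfsg.Lib.Isolated
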