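import Mathlib
import Cfsg.Agent.Components.PxQ
import Cfsg.Agent.Components.CharP
import Cfsg.Agent.Coprime.Action
import Cfsg.Agent.Coprime.Fitting
import Cfsg.Agent.Transfer.Basic
import Cfsg.Agent.Components.Misc.Isolated

/-! More short facts. -/

namespace Cfsg.Lib.Easy

open scoped commutatorElement

variable {G : Type*} [Group G]

theorem isolated_quotient [Finite G] {p : ℕ} [Fact p.Prime] {x : G}
    (hx : ∃ k : ℕ, orderOf x = p ^ k) (hiso : Cfsg.IsIsolated x) (N : Subgroup G) [N.Normal] :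
    Cfsg.IsIsolated (QuotientGroup.mk x : G ⧸ N) := by
  intro gq hcomm
  induction gq using QuotientGroup.induction_on with
  | H g =>
    set y : G := g * x * g⁻¹ with hy
    have hcomm' : Commute (x : G ⧸ N) (y : G ⧸ N) := hcomm
    show (y : G ⧸ N) = (x : G ⧸ N)
    set B : Subgroup (G ⧸ N) := Subgroup.closure {(x : G ⧸ N), (y : G ⧸ N)} with hB
    have hBab : ∀ a ∈ B, ∀ b ∈ B, a * b = b * a := by
      have h1 : ∀ a ∈ B, Commute a (x : G ⧸ N) ∧ Commute a (y : G ⧸ N) := by
        intro a ha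
        induction ha using Subgroup.closure_induction with
        | mem z hz =>
          rcases hz with rfl | rfl
          · exact ⟨Commute.refl _, hcomm'⟩
          · exact ⟨hcomm'.symm, Commute.refl _⟩
        | one => exact ⟨Commute.one_left _, Commute.one_left _⟩
        | mul a b _ _ ha hb => exact ⟨ha.1.mul_left hb.1, ha.2.mul_left hb.2⟩
        | inv a _ ha => exact ⟨ha.1.inv_left, ha.2.inv_left⟩
      intro a ha b hb
      induction hb using Subgroup.closure_induction with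
      | mem z hz =>
        rcases hz with rfl | rfl
        · exact (h1 a ha).1
        · exact (h1 a ha).2
      | one => simp
      | mul b c _ _ hb hc => exact ((Commute.mul_right (hb : Commute a b) hc))
      | inv b _ hb => exact (Commute.inv_right (hb : Commute a b))
    set Q : Subgroup G := B.comap (QuotientGroup.mk' N) with hQ
    have hxQ : x ∈ Q := Subgroup.subset_closure (Set.mem_insert _ _)
    have hyQ : y ∈ Q := Subgroup.subset_closure (Set.mem_insert_of_mem _ rfl)
    obtain ⟨k, hk⟩ := hx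
    have hp : IsPGroup p ↥(Subgroup.zpowers (⟨x, hxQ⟩ : Q)) := by
      refine IsPGroup.of_card (n := k) ?_
      rw [Nat.card_zpowers, Subgroup.orderOf_mk, hk]
    have hp' : IsPGroup p ↥(Subgroup.zpowers (⟨y, hyQ⟩ : Q)) := by
      refine IsPGroup.of_card (n := k) ?_
      rw [Nat.card_zpowers, Subgroup.orderOf_mk, hy, ← MulAut.conj_apply, MulEquiv.orderOf_eq, hk]
    obtain ⟨P, hP⟩ := hp.exists_le_sylow
    obtain ⟨P', hP'⟩ := hp'.exists_le_sylow
    obtain ⟨c, hc⟩ := MulAction.exists_smul_eq Q P' P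
    have hmem : (c : G) * y * (c : G)⁻¹ ∈ (P : Subgroup Q).map Q.subtype := by
      refine ⟨c * ⟨y, hyQ⟩ * c⁻¹, ?_, rfl⟩
      rw [← hc]
      exact ⟨_, hP' (Subgroup.mem_zpowers _), rfl⟩
    have hcc := Cfsg.Lib.Isolated.commute_of_pgroup hiso (P.isPGroup'.map Q.subtype)
      ⟨⟨x, hxQ⟩, hP (Subgroup.mem_zpowers _), rfl⟩ _ hmem
    have heq : (c : G) * y * (c : G)⁻¹ = x := by
      have h1 : (c : G) * y * (c : G)⁻¹ = ((c : G) * g) * x * ((c : G) * g)⁻¹ := by
        simp [hy, mul_assoc]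
      rw [h1]
      refine hiso _ ?_
      rw [← h1]
      exact hcc.symm
    have h2 : ((c : G) : G ⧸ N) * (y : G ⧸ N) = (y : G ⧸ N) * ((c : G) : G ⧸ N) :=
      hBab _ c.2 _ hyQ
    have h3 : ((c : G) : G ⧸ N) * (y : G ⧸ N) * ((c : G) : G ⧸ N)⁻¹ = (x : G ⧸ N) := by
      rw [← heq]; rfl
    rwa [h2, mul_inv_cancel_right] at h3

theorem normalizer_le_centralizer_cyclic [Finite G] {p : ℕ} [Fact p.Prime] (P : Sylow p G)
    [IsCyclic (P : Subgroup G)] {x : G} (hxP : x ∈ (P : Subgroup G)) (hx1 : x ≠ 1)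
    (h : Subgroup.normalizer ((P : Subgroup G) : Set G) ≤ Subgroup.centralizer ({x} : Set G)) :
    Subgroup.normalizer ((P : Subgroup G) : Set G) ≤
      Subgroup.centralizer ((P : Subgroup G) : Set G) := by
  have hp := (Fact.out : p.Prime)
  obtain ⟨a, ha⟩ := IsCyclic.exists_generator (α := (P : Subgroup G))
  obtain ⟨n, hn⟩ := IsPGroup.iff_orderOf.1 P.isPGroup' a
  intro g hg
  obtain ⟨k, hk⟩ : ∃ k : ℕ, g * (a : G) * g⁻¹ = (a : G) ^ k := by
    have h1 : g * (a : G) * g⁻¹ ∈ (P : Subgroup G) := (Subgroup.mem_normalizer_iff.1 hg _).1 a.2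
    obtain ⟨k, hk⟩ := (mem_powers_iff_mem_zpowers (y := (⟨_, h1⟩ : (P : Subgroup G))) (x := a)).2 (ha _)
    exact ⟨k, (congrArg Subtype.val hk).symm⟩
  obtain ⟨m, hm⟩ := (mem_powers_iff_mem_zpowers (y := (⟨x, hxP⟩ : (P : Subgroup G))) (x := a)).2 (ha _)
  have hxm : (a : G) ^ m = x := congrArg Subtype.val hm
  have hgx : g * x * g⁻¹ = x := by
    have := Subgroup.mem_centralizer_singleton_iff.1 (h hg)
    rw [this, mul_inv_cancel_right]
  have hfix : (a : G) ^ (k * m) = (a : G) ^ m := by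
    rw [pow_mul, ← hk, conj_pow, hxm, hgx]
  have hoa : orderOf (a : G) = p ^ n := by rw [Subgroup.orderOf_coe, hn]
  have hn0 : n ≠ 0 := by
    rintro rfl
    rw [pow_zero, orderOf_eq_one_iff] at hoa
    rw [hoa, one_pow] at hxm
    exact hx1 hxm.symm
  rw [pow_eq_pow_iff_modEq, hoa] at hfix
  have hk1 : k ≡ 1 [MOD p] := by
    have hmne : ¬ p ^ n ∣ m := by
      intro hd
      apply hx1
      rw [← hxm, ← orderOf_dvd_iff_pow_eq_one, hoa]
      exact hd
    have h1 : p ^ n / Nat.gcd (p ^ n) m ≠ 1 := by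
      intro h2
      apply hmne
      have h3 := Nat.div_mul_cancel (Nat.gcd_dvd_left (p ^ n) m)
      rw [h2, one_mul] at h3
      rw [← h3]
      exact Nat.gcd_dvd_right _ _
    have h2 : k ≡ 1 [MOD p ^ n / Nat.gcd (p ^ n) m] := by
      refine Nat.ModEq.cancel_right_div_gcd (pow_pos hp.pos n) ?_
      rwa [one_mul]
    refine h2.of_dvd ?_
    obtain ⟨j, -, hj⟩ := (Nat.dvd_prime_pow hp).1 (Nat.div_dvd_of_dvd (Nat.gcd_dvd_left (p ^ n) m))
    have hj0 : j ≠ 0 := by
      rintro rfl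
      exact h1 (by rw [hj, pow_zero])
    rw [hj]
    exact dvd_pow_self p hj0
  have hpow : ∀ i, g ^ i * (a : G) * (g ^ i)⁻¹ = (a : G) ^ (k ^ i) := by
    intro i
    induction i with
    | zero => simp
    | succ i ih =>
      calc g ^ (i + 1) * (a : G) * (g ^ (i + 1))⁻¹ = g * (g ^ i * (a : G) * (g ^ i)⁻¹) * g⁻¹ := by
            rw [pow_succ', mul_inv_rev]; simp [mul_assoc]
        _ = g * (a : G) ^ (k ^ i) * g⁻¹ := by rw [ih]
        _ = (g * (a : G) * g⁻¹) ^ (k ^ i) := conj_pow.symm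
        _ = (a : G) ^ (k ^ (i + 1)) := by rw [hk, ← pow_mul, pow_succ']
  have hcentral : ∀ t : G, t * (a : G) * t⁻¹ = a →
      t ∈ Subgroup.centralizer ((P : Subgroup G) : Set G) := by
    intro t ht
    rw [Subgroup.mem_centralizer_iff]
    intro y hy
    obtain ⟨j, hj⟩ := ha ⟨y, hy⟩
    have hya : (a : G) ^ j = y := congrArg Subtype.val hj
    have hcomm : Commute t (a : G) := by
      have h5 : t * (a : G) * t⁻¹ * t = (a : G) * t := by rw [ht]
      rw [inv_mul_cancel_right] at h5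
      exact h5
    rw [← hya]
    exact ((hcomm.zpow_right j).eq).symm
  have hgp : g ^ p ^ n ∈ Subgroup.centralizer ((P : Subgroup G) : Set G) := by
    refine hcentral _ ?_
    have hz : (k : ℤ) ≡ 1 [ZMOD p] := by exact_mod_cast Int.natCast_modEq_iff.2 hk1
    have hd : ((p : ℤ) ^ (n + 1)) ∣ (k : ℤ) ^ p ^ n - 1 ^ p ^ n :=
      dvd_sub_pow_of_dvd_sub (Int.modEq_iff_dvd.1 hz.symm) n
    have hmod : k ^ p ^ n ≡ 1 [MOD p ^ n] := by
      rw [← Int.natCast_modEq_iff]
      push_cast
      refine (Int.modEq_iff_dvd.2 ?_).symm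
      rw [one_pow] at hd
      exact (pow_dvd_pow (p : ℤ) (Nat.le_succ n)).trans hd
    calc g ^ p ^ n * (a : G) * (g ^ p ^ n)⁻¹ = (a : G) ^ (k ^ p ^ n) := hpow _
      _ = (a : G) ^ 1 := by rw [pow_eq_pow_iff_modEq, hoa]; exact hmod
      _ = a := pow_one _
  -- the automizer of a cyclic Sylow subgroup has order prime to `p`
  haveI : ((Subgroup.centralizer ((P : Subgroup G) : Set G)).subgroupOf
      (Subgroup.normalizer ((P : Subgroup G) : Set G))).Normal :=
    ⟨fun y hy z => by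
      refine Subgroup.mem_centralizer_iff.2 fun t ht => ?_
      have h6 := Subgroup.mem_centralizer_iff.1 hy _
        ((Subgroup.mem_normalizer_iff''.1 z.2 t).1 ht)
      have h7 := congrArg (fun u => (z : G) * u * (z : G)⁻¹) h6
      simpa [mul_assoc] using h7⟩
  set C := (Subgroup.centralizer ((P : Subgroup G) : Set G)).subgroupOf
      (Subgroup.normalizer ((P : Subgroup G) : Set G)) with hC
  have hPC : (P.subtype Subgroup.le_normalizer : Subgroup _) ≤ C := by
    intro y hy
    exact Subgroup.le_centralizer (P : Subgroup G) hy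
  have hcop : ¬ p ∣ C.index := fun hd =>
    (P.subtype Subgroup.le_normalizer).not_dvd_index
      (hd.trans (Subgroup.index_dvd_of_le hPC))
  have hq : orderOf (QuotientGroup.mk (⟨g, hg⟩ : Subgroup.normalizer ((P : Subgroup G) : Set G)) :
      _ ⧸ C) = 1 := by
    refine Nat.eq_one_of_dvd_coprimes (a := p ^ n) (b := C.index) ?_ ?_ ?_
    · exact Nat.Coprime.pow_left n ((hp.coprime_iff_not_dvd).2 hcop)
    · rw [orderOf_dvd_iff_pow_eq_one, ← QuotientGroup.mk_pow, QuotientGroup.eq_one_iff]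
      exact hgp
    · rw [Subgroup.index_eq_card]
      exact orderOf_dvd_natCard _
  rw [orderOf_eq_one_iff, QuotientGroup.eq_one_iff] at hq
  exact hq

end Cfsg.Lib.Easy
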