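import Mathlib
import Cfsg.Agent.Components.Misc.EasyTwo
import Cfsg.Agent.Components.PComponents
import Cfsg.Prelude.Def_LocalStructure
import Cfsg.Prelude.Def_SubgroupEmbedding
import Cfsg.Prelude.Def_Balance
import Cfsg.Prelude.Def_TwoFusion
import Cfsg.Prelude.Def_SylowControl

/-! More short facts: series stabilisers, socles, extremely closed subgroups. -/

namespace Cfsg.Lib.Easy

open scoped commutatorElement

variable {G : Type*} [Group G]

theorem isPGroup_of_coprime_trivial [Finite G] {p : ℕ} [Fact p.Prime] (K : Subgroup G)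
    (h : ∀ x ∈ K, (orderOf x).Coprime p → x = 1) : IsPGroup p K := by
  intro x
  obtain ⟨m, n, hn, hmn⟩ := Nat.exists_eq_pow_mul_and_not_dvd
    (orderOf_pos (x : G)).ne' p (Fact.out : p.Prime).ne_one
  refine ⟨m, Subtype.ext ?_⟩
  have hord : orderOf ((x : G) ^ p ^ m) = n := by
    rw [orderOf_pow_of_dvd (pow_ne_zero _ (Fact.out : p.Prime).ne_zero) (hmn ▸ dvd_mul_right _ _),
      hmn, Nat.mul_div_cancel_left _ (pow_pos (Fact.out : p.Prime).pos m)]
  have := h _ (pow_mem x.2 (p ^ m))
    (by rw [hord]; exact (((Fact.out : p.Prime).coprime_iff_not_dvd).2 hn).symm)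
  simpa using this

theorem isPGroup_of_iterCommutator [Finite G] {p : ℕ} [Fact p.Prime] (R L : Subgroup G)
    (hR : IsPGroup p R) (hC : Subgroup.centralizer (R : Set G) ≤ R)
    (hL : L ≤ Subgroup.normalizer (R : Set G)) (hnil : ∃ n, Cfsg.iterCommutator R L n = ⊥) :
    IsPGroup p L := by
  obtain ⟨n, hn⟩ := hnil
  have hnorm : ∀ i, L ≤ Subgroup.normalizer (Cfsg.iterCommutator R L i : Set G) ∧
      Cfsg.iterCommutator R L i ≤ R := by
    intro i
    induction i with
    | zero => exact ⟨hL, le_rfl⟩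
    | succ i ih =>
      constructor
      · intro g hg
        rw [Subgroup.mem_normalizer_iff]
        intro x
        refine ⟨fun hx => Cfsg.Lib.Coprime.conj_commutator_mem hg hx, fun hx => ?_⟩
        have := Cfsg.Lib.Coprime.conj_commutator_mem (inv_mem hg) hx
        simpa [Cfsg.iterCommutator, mul_assoc] using this
      · refine le_trans ?_ ih.2
        exact Subgroup.le_normalizer_iff_commutator_le_left.mp ih.1
  refine isPGroup_of_coprime_trivial L fun x hx hcop => ?_
  have key : ∀ i, i ≤ n → ∀ w ∈ Cfsg.iterCommutator R L (n - i), x * w = w * x := by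
    intro i
    induction i with
    | zero =>
      intro _ w hw
      rw [Nat.sub_zero, hn, Subgroup.mem_bot] at hw
      simp [hw]
    | succ i ih =>
      intro hi w hw
      refine Cfsg.Lib.Components.centralize_of_commutator_fixed (hR.to_le (hnorm _).2) hcop
        ((hnorm _).1 hx) hw ?_
      have hmem : ⁅x, w⁆ ∈ Cfsg.iterCommutator R L (n - i) := by
        have e : n - i = (n - (i + 1)) + 1 := by omega
        rw [e, Cfsg.iterCommutator, Subgroup.commutator_comm]
        exact Subgroup.commutator_mem_commutator hx hw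
      have := ih (by omega) _ hmem
      rw [this, mul_inv_cancel_right]
  have hxC : x ∈ Subgroup.centralizer (R : Set G) := by
    rw [Subgroup.mem_centralizer_iff]
    intro w hw
    have hw' : w ∈ Cfsg.iterCommutator R L (n - n) := by rw [Nat.sub_self]; exact hw
    exact (key n le_rfl w hw').symm
  obtain ⟨k, hk⟩ := IsPGroup.iff_orderOf.1 hR ⟨x, hC hxC⟩
  rw [Subgroup.orderOf_mk] at hk
  rcases Nat.eq_zero_or_pos k with rfl | hk0
  · rwa [pow_zero, orderOf_eq_one_iff] at hk
  · rw [hk, Nat.coprime_pow_left_iff hk0, Nat.coprime_self] at hcop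
    exact absurd hcop (Fact.out : p.Prime).ne_one

theorem le_pCore_of_series [Finite G] {p : ℕ} [Fact p.Prime]
    (hchar : Subgroup.centralizer (Cfsg.pCore p G : Set G) ≤ Cfsg.pCore p G) (L : Subgroup G)
    (n : ℕ) (A : Fin (n + 1) → Subgroup G) (h0 : A 0 = ⊥) (hn : A (Fin.last n) = Cfsg.pCore p G)
    (hmono : Monotone A) (hnorm : ∀ i, (A i).Normal)
    (hcent : ∀ i : Fin n, ⁅A i.succ, L⁆ ≤ A i.castSucc) : L ≤ Cfsg.pCore p G := by
  haveI := hnorm
  have hA : ∀ i, IsPGroup p (A i) := fun i =>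
    (Cfsg.Lib.Components.isPGroup_pCore p).to_le (hn ▸ hmono (Fin.le_last i))
  set N := Subgroup.normalClosure (L : Set G) with hN
  have hcent' : ∀ i : Fin n, ⁅A i.succ, N⁆ ≤ A i.castSucc := by
    intro i
    let q := QuotientGroup.mk' (A i.castSucc)
    haveI : ((A i.succ).map q).Normal :=
      (hnorm i.succ).map q (QuotientGroup.mk'_surjective _)
    haveI hCn : ((Subgroup.centralizer ((A i.succ).map q : Set (G ⧸ A i.castSucc))).comap q).Normal :=
      Subgroup.Normal.comap inferInstance q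
    have hiff : ∀ M : Subgroup G, ⁅A i.succ, M⁆ ≤ A i.castSucc ↔
        M ≤ (Subgroup.centralizer ((A i.succ).map q : Set (G ⧸ A i.castSucc))).comap q := by
      intro M
      rw [← Subgroup.map_le_iff_le_comap, ← Subgroup.commutator_eq_bot_iff_le_centralizer,
        Subgroup.commutator_comm, ← Subgroup.map_commutator, Subgroup.map_eq_bot_iff,
        QuotientGroup.ker_mk']
    rw [hiff]
    exact Subgroup.normalClosure_le_normal (SetLike.coe_subset_coe.mpr ((hiff L).1 (hcent i)))
  have hNp : IsPGroup p N := by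
    refine isPGroup_of_coprime_trivial N fun x hx hcop => ?_
    have key : ∀ i : Fin (n + 1), ∀ w ∈ A i, x * w = w * x := by
      intro i
      induction i using Fin.induction with
      | zero => intro w hw; rw [h0, Subgroup.mem_bot] at hw; simp [hw]
      | succ i ih =>
        intro w hw
        refine Cfsg.Lib.Components.centralize_of_commutator_fixed (hA _) hcop
          (by rw [Subgroup.normalizer_eq_top]; trivial) hw ?_
        have hmem : ⁅x, w⁆ ∈ A i.castSucc := hcent' i (by
          rw [Subgroup.commutator_comm]; exact Subgroup.commutator_mem_commutator hx hw)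
        have := ih _ hmem
        rw [this, mul_inv_cancel_right]
    have hxC : x ∈ Subgroup.centralizer (Cfsg.pCore p G : Set G) := by
      rw [Subgroup.mem_centralizer_iff]
      intro w hw
      exact (key (Fin.last n) w (hn ▸ hw)).symm
    obtain ⟨k, hk⟩ := IsPGroup.iff_orderOf.1 (Cfsg.Lib.Components.isPGroup_pCore p)
      (⟨x, hchar hxC⟩ : Cfsg.pCore p G)
    rw [Subgroup.orderOf_mk] at hk
    rcases Nat.eq_zero_or_pos k with rfl | hk0
    · rwa [pow_zero, orderOf_eq_one_iff] at hk
    · rw [hk, Nat.coprime_pow_left_iff hk0, Nat.coprime_self] at hcop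
      exact absurd hcop (Fact.out : p.Prime).ne_one
  exact Subgroup.subset_normalClosure.trans (SetLike.coe_subset_coe.mpr
    (le_sSup (show N ∈ {M : Subgroup G | M.Normal ∧ IsPGroup p M} from
      ⟨Subgroup.normalClosure_normal, hNp⟩)))

theorem stronglyPIrreducible_to_irreducible [Finite G] {p : ℕ} [Fact p.Prime]
    (h : Cfsg.IsStronglyPIrreducible p G) : Cfsg.IsPIrreducible p G := by
  refine ⟨h.1, fun N hN hNc => h.2 N hN fun hle => hNc fun P => ?_⟩
  haveI := hN
  haveI : ((Cfsg.pCore p G).subgroupOf N).Normal := Subgroup.normal_subgroupOf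
  have hNp : IsPGroup p ↥((Cfsg.pCore p G).subgroupOf N) :=
    (Cfsg.Lib.Components.isPGroup_pCore p).comap_of_injective N.subtype
      (Subgroup.subtype_injective N)
  have hle' : (Cfsg.pCore p G).subgroupOf N ≤ (P : Subgroup N) :=
    le_trans (le_sSup (show (Cfsg.pCore p G).subgroupOf N ∈
        {M : Subgroup N | M.Normal ∧ IsPGroup p M} from ⟨inferInstance, hNp⟩))
      (Cfsg.Lib.Coprime.pCore_le_sylow p P)
  refine ⟨fun a ha b => ?_⟩
  have hc : ⁅b, a⁆ ∈ (P : Subgroup N) := hle' (by
    show ((⁅b, a⁆ : N) : G) ∈ Cfsg.pCore p G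
    exact hle (Subgroup.commutator_mem_commutator b.2 (Subgroup.mem_top (a : G))))
  have : b * a * b⁻¹ = ⁅b, a⁆ * a := by simp [commutatorElement_def, mul_assoc]
  rw [this]
  exact mul_mem hc ha

theorem exists_socle [Finite G] :
    ∃ (n : ℕ) (V : Fin n → Subgroup G),
      (∀ i, (V i).Normal ∧ V i ≠ ⊥ ∧ ∀ N : Subgroup G, N.Normal → N ≤ V i → N = ⊥ ∨ N = V i) ∧
      iSupIndep V ∧
      (⨆ i, V i) = sSup {V : Subgroup G | V.Normal ∧ V ≠ ⊥ ∧
        ∀ N : Subgroup G, N.Normal → N ≤ V → N = ⊥ ∨ N = V} := by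
  classical
  set S : Set (Subgroup G) := {V : Subgroup G | V.Normal ∧ V ≠ ⊥ ∧
    ∀ N : Subgroup G, N.Normal → N ≤ V → N = ⊥ ∨ N = V} with hS
  let F : Set (Finset (Subgroup G)) :=
    {s | (∀ V ∈ s, V ∈ S) ∧ ∀ V ∈ s, V ⊓ (⨆ W ∈ s.erase V, W) = ⊥}
  obtain ⟨s, hs, hmax⟩ := Set.Finite.exists_maximalFor Finset.card F (Set.toFinite F)
    ⟨∅, by simp [F]⟩
  have hnorm : ∀ t : Finset (Subgroup G), (∀ V ∈ t, V ∈ S) → (⨆ W ∈ t, W : Subgroup G).Normal := by
    intro t ht
    have he : (⨆ W ∈ t, W : Subgroup G) = sSup (t : Set (Subgroup G)) := by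
      rw [sSup_eq_iSup]; rfl
    rw [he]
    exact Subgroup.sSup_normal _ fun W hW => (ht W hW).1
  have hJ : ∀ V ∈ S, V ≤ ⨆ W ∈ s, W := by
    intro V hV
    by_contra hVle
    haveI := hV.1
    haveI := hnorm s hs.1
    have hVJ : V ⊓ (⨆ W ∈ s, W) = ⊥ := by
      rcases hV.2.2 _ inferInstance (inf_le_left : V ⊓ (⨆ W ∈ s, W) ≤ V) with h | h
      · exact h
      · exact absurd (inf_eq_left.1 h) hVle
    have hVs : V ∉ s := fun hm => hVle (le_iSup₂ (f := fun W _ => W) V hm)
    have hnew : insert V s ∈ F := by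
      refine ⟨fun W hW => ?_, fun W hW => ?_⟩
      · rcases Finset.mem_insert.1 hW with rfl | hW
        · exact hV
        · exact hs.1 W hW
      · rcases Finset.mem_insert.1 hW with rfl | hWs
        · rwa [Finset.erase_insert hVs]
        · have hne : V ≠ W := fun h => hVs (h ▸ hWs)
          rw [Finset.erase_insert_of_ne hne, Finset.iSup_insert]
          rw [eq_bot_iff]
          rintro x ⟨hxW, hx⟩
          haveI := hnorm (s.erase W) fun U hU => hs.1 U (Finset.mem_of_mem_erase hU)
          obtain ⟨v, hv, j, hj, rfl⟩ := Subgroup.mem_sup_of_normal_left.1 hx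
          have hjJ : j ∈ ⨆ U ∈ s, U :=
            (iSup₂_le fun U hU => le_iSup₂ (f := fun U _ => U) U (Finset.mem_of_mem_erase hU) :
              (⨆ U ∈ s.erase W, U : Subgroup G) ≤ ⨆ U ∈ s, U) hj
          have hxJ : v * j ∈ ⨆ U ∈ s, U := le_iSup₂ (f := fun U _ => U) W hWs hxW
          have hv1 : v = 1 := by
            have h1 : v ∈ V ⊓ (⨆ U ∈ s, U) :=
              ⟨hv, by simpa using mul_mem hxJ (inv_mem hjJ)⟩
            rw [hVJ] at h1
            exact h1
          have h2 : v * j ∈ W ⊓ (⨆ U ∈ s.erase W, U) :=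
            ⟨hxW, by rw [hv1, one_mul]; exact hj⟩
          rw [hs.2 W hWs] at h2
          exact h2
    have := hmax hnew (Finset.card_le_card (Finset.subset_insert V s))
    rw [Finset.card_insert_of_notMem hVs] at this
    omega
  refine ⟨s.card, fun i => (s.equivFin.symm i : Subgroup G), fun i => hs.1 _ (s.equivFin.symm i).2,
    ?_, ?_⟩
  · intro i
    rw [disjoint_iff, eq_bot_iff, ← hs.2 _ (s.equivFin.symm i).2]
    refine inf_le_inf_left _ (iSup₂_le fun j hj => ?_)
    refine le_iSup₂ (f := fun U _ => U) (s.equivFin.symm j : Subgroup G) ?_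
    rw [Finset.mem_erase]
    exact ⟨fun h => hj (s.equivFin.symm.injective (Subtype.ext h)), (s.equivFin.symm j).2⟩
  · refine le_antisymm (iSup_le fun i => le_sSup (hs.1 _ (s.equivFin.symm i).2))
      (sSup_le fun V hV => (hJ V hV).trans (iSup₂_le fun W hW => ?_))
    refine le_iSup_of_le (s.equivFin ⟨W, hW⟩) ?_
    simp

theorem extremelyClosed_basic [Finite G] {p : ℕ} [Fact p.Prime] (H : Subgroup G)
    (hcl : Cfsg.IsExtremelyClosed H) :
    (∀ Q : Subgroup G, IsPGroup p Q → H ≤ Q →
      Subgroup.normalizer (Q : Set G) ≤ Subgroup.normalizer (H : Set G)) ∧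
    ∀ P : Sylow p G, H ≤ (P : Subgroup G) →
      (P : Subgroup G) ≤ Subgroup.normalizer (H : Set G) ∧
        Cfsg.IsStronglyClosed H (P : Subgroup G) := by
  have h1 : ∀ Q : Subgroup G, IsPGroup p Q → H ≤ Q →
      Subgroup.normalizer (Q : Set G) ≤ Subgroup.normalizer (H : Set G) := by
    intro Q hQ hHQ g hg
    set T : Subgroup G := H ⊔ H.map (MulAut.conj g).toMonoidHom with hT
    have hTQ : T ≤ Q := by
      refine sup_le hHQ ?_
      rintro _ ⟨h, hh, rfl⟩
      exact (Subgroup.mem_normalizer_iff.1 hg h).1 (hHQ hh)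
    haveI : Group.IsNilpotent T := (hQ.to_le hTQ).isNilpotent
    have hHT : H ≤ T := le_sup_left
    have hself : Subgroup.normalizer ((H.subgroupOf T : Subgroup T) : Set T) = H.subgroupOf T := by
      refine le_antisymm (fun t ht => ?_) Subgroup.le_normalizer
      have : (t : G) ∈ T ⊓ Subgroup.normalizer (H : Set G) := by
        refine ⟨t.2, Subgroup.mem_normalizer_iff.2 fun x => ⟨fun hx => ?_, fun hx => ?_⟩⟩
        · exact (Subgroup.mem_normalizer_iff.1 ht ⟨x, hHT hx⟩).1 hx
        · have hxT : x ∈ T := by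
            have := mul_mem (mul_mem (inv_mem t.2) (hHT hx)) t.2
            simpa [mul_assoc] using this
          exact (Subgroup.mem_normalizer_iff.1 ht ⟨x, hxT⟩).2 hx
      have h2 : T ⊓ Subgroup.normalizer (H : Set G) = H := hcl g
      exact h2.le this
    have htop := (normalizerCondition_iff_only_full_group_self_normalizing.mp
      Group.normalizerCondition_of_isNilpotent) _ hself
    rw [Subgroup.subgroupOf_eq_top] at htop
    have hle : H.map (MulAut.conj g).toMonoidHom ≤ H := le_sup_right.trans htop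
    have heq : H.map (MulAut.conj g).toMonoidHom = H :=
      Subgroup.eq_of_le_of_card_ge hle (le_of_eq
        (Nat.card_congr (H.equivMapOfInjective _ (MulAut.conj g).injective).toEquiv))
    rw [Subgroup.mem_normalizer_iff]
    intro x
    refine ⟨fun hx => heq ▸ ⟨x, hx, rfl⟩, fun hx => ?_⟩
    rw [← heq] at hx
    obtain ⟨y, hy, hyx⟩ := hx
    have hxy : y = x := (MulAut.conj g).injective hyx
    rw [← hxy]
    exact hy
  refine ⟨h1, fun P hP => ?_⟩
  have hPN : (P : Subgroup G) ≤ Subgroup.normalizer (H : Set G) :=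
    Subgroup.le_normalizer.trans (h1 _ P.isPGroup' hP)
  refine ⟨hPN, hP, fun x hx g hg => ?_⟩
  have : g * x * g⁻¹ ∈ (H ⊔ H.map (MulAut.conj g).toMonoidHom) ⊓
      Subgroup.normalizer (H : Set G) :=
    ⟨Subgroup.mem_sup_right ⟨x, hx, rfl⟩, hPN hg⟩
  rwa [hcl g] at this

theorem exists_common_sylow [Finite G] {p : ℕ} [Fact p.Prime] (S : Sylow p G)
    (G₁ G₂ : Subgroup G) (h1 : (S : Subgroup G) ≤ G₁) (h2 : (S : Subgroup G) ≤ G₂)
    (hfact : ∀ g : G, ∃ g₁ ∈ G₁, ∃ g₂ ∈ G₂, g = g₁ * g₂) (g : G) :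
    ∃ U : Sylow p G, (S : Subgroup G) ⊓ Cfsg.subgroupConjRight g (S : Subgroup G) ≤
      (U : Subgroup G) ∧ (U : Subgroup G) ≤ G₁ ⊓ Cfsg.subgroupConjRight g G₂ := by
  obtain ⟨a', ha', b', hb', hg⟩ := hfact g⁻¹
  set K : Subgroup G := G₁ ⊓ Cfsg.subgroupConjRight g G₂ with hK
  set S' : Subgroup G := (S : Subgroup G).map (MulAut.conj a').toMonoidHom with hS'
  have hS'K : S' ≤ K := by
    rintro _ ⟨s, hs, rfl⟩
    refine Subgroup.mem_inf.2 ⟨mul_mem (mul_mem ha' (h1 hs)) (inv_mem ha'), ?_⟩
    refine ⟨b'⁻¹ * s * b', mul_mem (mul_mem (inv_mem hb') (h2 hs)) hb', ?_⟩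
    simp [hg, mul_assoc]
  have hle : (S : Subgroup G) ⊓ Cfsg.subgroupConjRight g (S : Subgroup G) ≤ K :=
    inf_le_inf h1 (Subgroup.map_mono h2)
  obtain ⟨Q, hQ⟩ := ((S.isPGroup'.to_le inf_le_left).comap_of_injective K.subtype
    (Subgroup.subtype_injective K) :
      IsPGroup p ↥(((S : Subgroup G) ⊓ Cfsg.subgroupConjRight g (S : Subgroup G)).subgroupOf K)
    ).exists_le_sylow
  obtain ⟨P, hP⟩ := (Q.isPGroup'.map K.subtype).exists_le_sylow
  have hcard : Nat.card ↥(P : Subgroup G) ≤ Nat.card ↥((Q : Subgroup K).map K.subtype) := by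
    obtain ⟨Q', hQ'⟩ := ((S.isPGroup'.map (MulAut.conj a').toMonoidHom).comap_of_injective K.subtype
      (Subgroup.subtype_injective K) : IsPGroup p ↥(S'.subgroupOf K)).exists_le_sylow
    calc Nat.card ↥(P : Subgroup G) = Nat.card ↥(S : Subgroup G) := by
          rw [Sylow.card_eq_multiplicity, Sylow.card_eq_multiplicity]
      _ = Nat.card S' :=
          Nat.card_congr ((S : Subgroup G).equivMapOfInjective _ (MulAut.conj a').injective).toEquiv
      _ = Nat.card ↥(S'.subgroupOf K) :=
          (Nat.card_congr (Subgroup.subgroupOfEquivOfLe hS'K).toEquiv).symm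
      _ ≤ Nat.card ↥(Q' : Subgroup K) := Subgroup.card_le_of_le hQ'
      _ = Nat.card ↥(Q : Subgroup K) := by
          rw [Sylow.card_eq_multiplicity, Sylow.card_eq_multiplicity]
      _ = _ := Nat.card_congr
          ((Q : Subgroup K).equivMapOfInjective _ (Subgroup.subtype_injective K)).toEquiv
  have hPQ := Subgroup.eq_of_le_of_card_ge hP hcard
  refine ⟨P, ?_, ?_⟩
  · rw [← hPQ]
    intro x hx
    exact ⟨⟨x, hle hx⟩, hQ hx, rfl⟩
  · rw [← hPQ]
    exact Subgroup.map_subtype_le _

/-- If all local normalizers centralise `x`, then so they do in every quotient. -/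
theorem localControl_quotient [Finite G] {p : ℕ} [Fact p.Prime] (P : Sylow p G) (x : G)
    (hlc : ∀ R : Subgroup G, R ≤ (P : Subgroup G) → R ≠ ⊥ →
      Subgroup.normalizer (R : Set G) ≤ Subgroup.centralizer ({x} : Set G))
    (N : Subgroup G) [N.Normal] (R : Subgroup (G ⧸ N))
    (hR : R ≤ (P : Subgroup G).map (QuotientGroup.mk' N)) (hR1 : R ≠ ⊥) :
    Subgroup.normalizer (R : Set (G ⧸ N)) ≤
      Subgroup.centralizer ({(QuotientGroup.mk x : G ⧸ N)} : Set (G ⧸ N)) := by
  set q := QuotientGroup.mk' N with hq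
  set H : Subgroup G := R.comap q with hH
  set R0 : Subgroup G := (P : Subgroup G) ⊓ H with hR0
  have hR0map : R0.map q = R := by
    refine le_antisymm ((Subgroup.map_mono inf_le_right).trans (Subgroup.map_comap_le _ _)) ?_
    intro r hr
    obtain ⟨u, hu, rfl⟩ := hR hr
    exact ⟨u, ⟨hu, hr⟩, rfl⟩
  have hR0ne : R0 ≠ ⊥ := by
    intro h
    rw [h, Subgroup.map_bot] at hR0map
    exact hR1 hR0map.symm
  intro gq hgq
  induction gq using QuotientGroup.induction_on with
  | H g =>
    have hgH : g ∈ Subgroup.normalizer (H : Set G) := by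
      rw [Subgroup.mem_normalizer_iff]
      intro y
      exact Subgroup.mem_normalizer_iff.1 hgq (q y)
    set M : Subgroup G := Subgroup.normalizer (H : Set G) with hM
    -- `R0` is a Sylow subgroup of `H`
    have hsyl : ∀ Q : Subgroup G, IsPGroup p Q → Q ≤ H → R0 ≤ Q → Q = R0 := by
      intro Q hQ hQH hle
      refine le_antisymm (fun y hy => ?_) hle
      obtain ⟨u, hu, hqu⟩ := (hR0map ▸ (show q y ∈ R from hQH hy) : q y ∈ R0.map q)
      have hd : u⁻¹ * y ∈ N := QuotientGroup.eq.1 hqu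
      have hdQ : u⁻¹ * y ∈ Q := mul_mem (inv_mem (hle hu)) hy
      -- `u⁻¹ * y` lies in the normal `p`-subgroup chain `P ⊓ N`
      haveI : (N.subgroupOf Q).Normal := Subgroup.normal_subgroupOf
      obtain ⟨PN, hPN⟩ : ∃ PN : Sylow p N, (PN : Subgroup N) = (P : Subgroup G).subgroupOf N := by
        obtain ⟨PN, hPN⟩ := ((P.isPGroup').comap_of_injective N.subtype
          (Subgroup.subtype_injective N) :
            IsPGroup p ↥((P : Subgroup G).subgroupOf N)).exists_le_sylow
        refine ⟨PN, le_antisymm ?_ hPN⟩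
        have hsup : IsPGroup p ↥((PN : Subgroup N).map N.subtype) := PN.isPGroup'.map _
        obtain ⟨P', hP'⟩ := hsup.exists_le_sylow
        obtain ⟨c, hc⟩ := MulAction.exists_smul_eq G P' P
        refine (Subgroup.eq_of_le_of_card_ge hPN ?_).ge
        have h1 : ((PN : Subgroup N).map N.subtype).map (MulAut.conj c).toMonoidHom ≤
            ((P : Subgroup G).subgroupOf N).map N.subtype := by
          rintro _ ⟨z, hz, rfl⟩
          have hzN : z ∈ N := Subgroup.map_subtype_le _ hz
          refine ⟨⟨_, (inferInstance : N.Normal).conj_mem z hzN c⟩, ?_, rfl⟩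
          show c * z * c⁻¹ ∈ (P : Subgroup G)
          rw [← hc]
          exact ⟨z, hP' hz, rfl⟩
        have h2 := Subgroup.card_le_of_le h1
        rwa [← Nat.card_congr (Subgroup.equivMapOfInjective _ _ (MulAut.conj c).injective).toEquiv,
          ← Nat.card_congr (Subgroup.equivMapOfInjective _ _
            (Subgroup.subtype_injective N)).toEquiv,
          ← Nat.card_congr (Subgroup.equivMapOfInjective _ _
            (Subgroup.subtype_injective N)).toEquiv] at h2
      obtain ⟨QN, hQN⟩ := ((hQ.comap_of_injective N.subtype (Subgroup.subtype_injective N)) :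
        IsPGroup p ↥(Q.subgroupOf N)).exists_le_sylow
      have hle2 : (PN : Subgroup N) ≤ Q.subgroupOf N := by
        intro z hz
        rw [hPN] at hz
        exact hle ⟨hz, show q (z : G) ∈ R by
          rw [show q (z : G) = 1 from (QuotientGroup.eq_one_iff _).2 z.2]; exact one_mem _⟩
      have hQeq : Q.subgroupOf N = (PN : Subgroup N) := PN.is_maximal'
        ((hQ.comap_of_injective N.subtype (Subgroup.subtype_injective N))) hle2
      have hdP : u⁻¹ * y ∈ (P : Subgroup G) := by
        have h3 : (⟨_, hd⟩ : N) ∈ Q.subgroupOf N := hdQ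
        rw [hQeq, hPN] at h3
        exact h3
      have hyP : y ∈ (P : Subgroup G) := by
        have := mul_mem hu.1 hdP
        simpa using this
      exact ⟨hyP, hQH hy⟩
    obtain ⟨RS, hRS⟩ : ∃ RS : Sylow p H, (RS : Subgroup H).map H.subtype = R0 := by
      obtain ⟨RS, hRS⟩ := ((P.isPGroup'.to_le inf_le_left).comap_of_injective H.subtype
        (Subgroup.subtype_injective H) : IsPGroup p ↥(R0.subgroupOf H)).exists_le_sylow
      refine ⟨RS, hsyl _ (RS.isPGroup'.map _) (Subgroup.map_subtype_le _) fun z hz => ?_⟩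
      exact ⟨⟨z, hz.2⟩, hRS hz, rfl⟩
    haveI : (H.subgroupOf M).Normal := Subgroup.normal_in_normalizer
    have hg' : IsPGroup p ↥((R0.map (MulAut.conj g).toMonoidHom).subgroupOf H) :=
      ((P.isPGroup'.to_le inf_le_left).map _).comap_of_injective H.subtype
        (Subgroup.subtype_injective H)
    obtain ⟨RS', hRS'⟩ := hg'.exists_le_sylow
    obtain ⟨h, hh⟩ := MulAction.exists_smul_eq H RS' RS
    have hnorm : (h : G) * g ∈ Subgroup.normalizer (R0 : Set G) := by
      have hle3 : R0.map (MulAut.conj ((h : G) * g)).toMonoidHom ≤ R0 := by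
        rintro _ ⟨z, hz, rfl⟩
        have hzH : g * z * g⁻¹ ∈ H := (Subgroup.mem_normalizer_iff.1 hgH z).1 hz.2
        rw [← hRS]
        refine ⟨h * ⟨g * z * g⁻¹, hzH⟩ * h⁻¹, ?_, by simp [mul_assoc]⟩
        rw [← hh]
        exact ⟨_, hRS' ⟨z, hz, rfl⟩, rfl⟩
      have heq := Subgroup.eq_of_le_of_card_ge hle3 (le_of_eq (Nat.card_congr
        (Subgroup.equivMapOfInjective _ _ (MulAut.conj ((h : G) * g)).injective).toEquiv))
      rw [Subgroup.mem_normalizer_iff]
      intro z
      refine ⟨fun hz => heq ▸ ⟨z, hz, rfl⟩, fun hz => ?_⟩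
      rw [← heq] at hz
      obtain ⟨w, hw, hwz⟩ := hz
      have hwz' : w = z := (MulAut.conj ((h : G) * g)).injective hwz
      rw [← hwz']
      exact hw
    have hc1 := hlc R0 inf_le_left hR0ne hnorm
    rw [Subgroup.mem_centralizer_singleton_iff] at hc1 ⊢
    have hh0 : q (h : G) ∈ R := h.2
    rw [← hR0map] at hh0
    obtain ⟨r, hr, hrq⟩ := hh0
    have hrc := hlc R0 inf_le_left hR0ne (Subgroup.le_normalizer hr)
    rw [Subgroup.mem_centralizer_singleton_iff] at hrc
    have hqe : ((h : G) : G ⧸ N) * (x : G ⧸ N) = (x : G ⧸ N) * ((h : G) : G ⧸ N) := by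
      have e := congrArg q hrc
      rw [map_mul, map_mul, hrq] at e
      exact e
    have hc2 : ((h : G) : G ⧸ N) * (g : G ⧸ N) * (x : G ⧸ N) =
        (x : G ⧸ N) * (((h : G) : G ⧸ N) * (g : G ⧸ N)) := by
      have e := congrArg q hc1
      rw [map_mul, map_mul, map_mul] at e
      exact e
    rw [← mul_assoc, ← hqe, mul_assoc, mul_assoc] at hc2
    exact mul_left_cancel hc2

theorem localControl_basic [Finite G] {p : ℕ} [Fact p.Prime] (P : Sylow p G) (x : G)
    (hxP : x ∈ (P : Subgroup G))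
    (hlc : ∀ R : Subgroup G, R ≤ (P : Subgroup G) → R ≠ ⊥ →
      Subgroup.normalizer (R : Set G) ≤ Subgroup.centralizer ({x} : Set G)) :
    (P : Subgroup G) ≤ Subgroup.centralizer ({x} : Set G) ∧
      ∀ g : G, g * x * g⁻¹ ∈ (P : Subgroup G) → g * x * g⁻¹ = x := by
  by_cases hx1 : x = 1
  · subst hx1
    exact ⟨fun y _ => Subgroup.mem_centralizer_singleton_iff.2 (by simp), fun g _ => by simp⟩
  have hPne : (P : Subgroup G) ≠ ⊥ := fun h => hx1 (Subgroup.mem_bot.1 (h ▸ hxP))
  have hPC : (P : Subgroup G) ≤ Subgroup.centralizer ({x} : Set G) :=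
    Subgroup.le_normalizer.trans (hlc _ le_rfl hPne)
  refine ⟨hPC, fun g hg => ?_⟩
  set y := g * x * g⁻¹ with hy
  have hy1 : y ≠ 1 := fun h => hx1 (by simpa [hy] using h)
  set C : Subgroup G := Subgroup.centralizer ({x} : Set G) with hC
  have hyC : Subgroup.centralizer ({y} : Set G) ≤ C := by
    refine le_trans ?_ (hlc (Subgroup.zpowers y) ((Subgroup.zpowers_le).2 hg)
      (by rwa [ne_eq, Subgroup.zpowers_eq_bot]))
    refine le_trans ?_ (Subgroup.centralizer_le_normalizer _)
    intro c hc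
    rw [Subgroup.mem_centralizer_singleton_iff] at hc
    refine Subgroup.mem_centralizer_iff.2 fun t ht => ?_
    obtain ⟨i, rfl⟩ := ht
    exact ((show Commute c y from hc).zpow_right i).eq.symm
  have hgP : ((g • P : Sylow p G) : Subgroup G) ≤ C := by
    refine le_trans ?_ hyC
    rintro _ ⟨z, hz, rfl⟩
    rw [Subgroup.mem_centralizer_singleton_iff]
    have hzx := Subgroup.mem_centralizer_singleton_iff.1 (hPC hz)
    show g * z * g⁻¹ * (g * x * g⁻¹) = g * x * g⁻¹ * (g * z * g⁻¹)
    simp only [mul_assoc, inv_mul_cancel_left]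
    rw [← mul_assoc z, hzx, mul_assoc]
  obtain ⟨c, hc⟩ := MulAction.exists_smul_eq C ((g • P).subtype hgP) (P.subtype hPC)
  have hcg : ((c : G) * g) • P = P := by
    have h5 : (c • (g • P)).subtype (Sylow.smul_le hgP c) = P.subtype hPC := by
      rw [← Sylow.smul_subtype]; exact hc
    have h6 := Sylow.subtype_injective h5
    rw [mul_smul]
    exact h6
  rw [Sylow.smul_eq_iff_mem_normalizer] at hcg
  have hcgC := hlc _ le_rfl hPne hcg
  have hgC : g ∈ C := by
    have := mul_mem (inv_mem c.2) hcgC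
    simpa using this
  rw [hy, Subgroup.mem_centralizer_singleton_iff.1 hgC, mul_inv_cancel_right]

end Cfsg.Lib.Easy
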