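import Cfsg.Agent.Transfer.Frobenius
import Cfsg.Agent.PGroups.Basic

/-!
Normal `p`-complements from the elements of order `p` (and `4`).
-/

set_option linter.style.haveILetI false
set_option linter.unusedSectionVars false

namespace Cfsg.Lib.SmallOrder

open Subgroup
open scoped commutatorElement

universe u

variable {G : Type u} [Group G]

theorem pow_mul_comm_central {x y c : G} (hcx : Commute c x) (hcy : Commute c y) (h : y * x = c * (x * y)) :
    ∀ n : ℕ, y ^ n * x = c ^ n * (x * y ^ n) := by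
  intro n
  induction n with
  | zero => simp
  | succ n ih =>
    calc y ^ (n + 1) * x = y ^ n * (y * x) := by rw [pow_succ, mul_assoc]
      _ = (y ^ n * c) * (x * y) := by rw [h, mul_assoc]
      _ = c * (y ^ n * x) * y := by rw [← (hcy.pow_right n).eq]; group
      _ = c ^ (n + 1) * (x * y ^ (n + 1)) := by rw [ih, pow_succ' c, pow_succ y]; group

theorem mul_pow_central {x y c : G} (hcx : Commute c x) (hcy : Commute c y) (h : y * x = c * (x * y)) :
    ∀ n : ℕ, (x * y) ^ n = c ^ n.choose 2 * (x ^ n * y ^ n) := by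
  intro n
  induction n with
  | zero => simp
  | succ n ih =>
    have e := pow_mul_comm_central hcx hcy h n
    have hc1 : Commute (c ^ n) (x ^ n) := hcx.pow_pow n n
    calc (x * y) ^ (n + 1) = (x * y) ^ n * (x * y) := pow_succ _ _
      _ = c ^ n.choose 2 * x ^ n * (y ^ n * x) * y := by rw [ih]; group
      _ = c ^ n.choose 2 * (x ^ n * c ^ n) * (x * y ^ n) * y := by rw [e]; group
      _ = c ^ n.choose 2 * c ^ n * (x ^ (n + 1) * y ^ (n + 1)) := by
          rw [← hc1.eq, pow_succ, pow_succ]; group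
      _ = c ^ (n + 1).choose 2 * (x ^ (n + 1) * y ^ (n + 1)) := by
          rw [← pow_add]
          congr 2
          rw [Nat.choose_succ_succ' n 1, Nat.choose_one_right]; ring

theorem fixed_of_shift {g z : G} {t : G} (h1 : g * z * g⁻¹ = t * z) (h2 : g * t * g⁻¹ = t)
    (hco : (orderOf g).Coprime (orderOf t)) : g * z * g⁻¹ = z := by
  have key : ∀ n : ℕ, g ^ n * z * (g ^ n)⁻¹ = t ^ n * z := by
    intro n
    induction n with
    | zero => simp
    | succ n ih =>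
      calc g ^ (n + 1) * z * (g ^ (n + 1))⁻¹ = g * (g ^ n * z * (g ^ n)⁻¹) * g⁻¹ := by rw [pow_succ']; group
        _ = (g * t * g⁻¹) ^ n * (g * z * g⁻¹) := by rw [ih, conj_pow]; group
        _ = t ^ (n + 1) * z := by rw [h1, h2, pow_succ]; group
  have h3 := key (orderOf g)
  rw [pow_orderOf_eq_one] at h3
  simp only [one_mul, inv_one, mul_one] at h3
  rw [h1, orderOf_eq_one_iff.1 (Nat.eq_one_of_dvd_coprimes hco
    (orderOf_dvd_of_pow_eq_one (mul_eq_right.1 h3.symm)) dvd_rfl), one_mul]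

/-- a minimal `p`-subgroup not centralized by a `p'`-element has small exponent -/
theorem small_exponent [Finite G] {p : ℕ} [Fact p.Prime] {Q : Subgroup G} (hQ : IsPGroup p Q) {g : G}
    (hg : g ∈ normalizer (Q : Set G)) (hco : (orderOf g).Coprime p)
    (hmin : ∀ R : Subgroup G, R < Q → g ∈ normalizer (R : Set G) → g ∈ centralizer (R : Set G))
    (hnc : g ∉ centralizer (Q : Set G)) : ∀ x ∈ Q, x ^ p = 1 ∨ (p = 2 ∧ x ^ 4 = 1) := by
  have hne : Q ≠ ⊥ := fun h => hnc (mem_centralizer_iff.2 fun q hq => by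
    rw [h, SetLike.mem_coe, mem_bot] at hq; simp [hq])
  haveI : Nontrivial Q := (nontrivial_iff_ne_bot _).2 hne
  have hcop : ∀ t ∈ Q, (orderOf g).Coprime (orderOf t) := fun t ht => by
    obtain ⟨k, hk⟩ := hQ ⟨t, ht⟩
    exact (hco.pow_right k).coprime_dvd_right (orderOf_dvd_of_pow_eq_one (congrArg Subtype.val hk))
  have hgQ : ∀ x ∈ Q, g * x * g⁻¹ ∈ Q := fun x hx => (mem_normalizer_iff.1 hg x).1 hx
  have fix_of : ∀ R : Subgroup G, R < Q → (∀ x ∈ R, g * x * g⁻¹ ∈ R) → ∀ x ∈ R, g * x * g⁻¹ = x := by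
    intro R hR hinv x hx
    have hgR : g ∈ normalizer (R : Set G) := mem_normalizer_iff_map_conj_eq.2
      (eq_of_le_of_card_ge (by rintro _ ⟨y, hy, rfl⟩; exact hinv y hy)
        (card_map_of_injective (MulEquiv.injective _)).ge)
    exact mul_inv_eq_iff_eq_mul.2 (mem_centralizer_iff.1 (hmin R hR hgR) x hx).symm
  set Φ : Subgroup G := (frattini Q).map Q.subtype with hΦ
  have hΦlt : Φ < Q := lt_of_le_of_ne (map_subtype_le _) fun h => by
    have htop : frattini Q = ⊤ := map_injective Q.subtype_injective (by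
      rw [← hΦ, h, ← MonoidHom.range_eq_map, range_subtype])
    obtain ⟨M, hM⟩ := (eq_top_or_exists_le_coatom (⊥ : Subgroup Q)).resolve_left bot_ne_top
    exact hM.1.1 (top_le_iff.1 (htop ▸ Order.radical_le_coatom hM.1))
  have hΦg : ∀ x ∈ Φ, g * x * g⁻¹ = x := by
    refine fix_of Φ hΦlt ?_
    rintro _ ⟨x, hx, rfl⟩
    let e : Q ≃* Q := normalizerMonoidHom Q ⟨g, hg⟩
    refine ⟨e x, ?_, rfl⟩
    exact (characteristic_iff_map_eq.1 frattini_characteristic e).le ⟨x, hx, rfl⟩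
  set T : Set G := (fun x => g * x * g⁻¹ * x⁻¹) '' (Q : Set G) with hT
  have hTQ : closure T ≤ Q := by
    rw [closure_le]
    rintro _ ⟨x, hx, rfl⟩
    exact mul_mem (hgQ x hx) (inv_mem hx)
  have hgen : closure T = Q := by
    by_contra hne'
    refine hnc (mem_centralizer_iff.2 fun x hx => ?_)
    have hinv : ∀ y ∈ closure T, g * y * g⁻¹ ∈ closure T := by
      intro y hy
      induction hy using closure_induction with
      | mem y hy =>
        obtain ⟨x, hx, rfl⟩ := hy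
        refine subset_closure ⟨g * x * g⁻¹, hgQ x hx, ?_⟩
        group
      | one => simp [one_mem]
      | mul a b _ _ iha ihb =>
        rw [show g * (a * b) * g⁻¹ = (g * a * g⁻¹) * (g * b * g⁻¹) by group]
        exact mul_mem iha ihb
      | inv a _ iha =>
        rw [show g * a⁻¹ * g⁻¹ = (g * a * g⁻¹)⁻¹ by group]
        exact inv_mem iha
    have ht : g * x * g⁻¹ * x⁻¹ ∈ closure T := subset_closure ⟨x, hx, rfl⟩
    have := fixed_of_shift (g := g) (z := x) (t := g * x * g⁻¹ * x⁻¹) (by group)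
      (fix_of _ (lt_of_le_of_ne hTQ hne') hinv _ ht) (hcop _ (hTQ ht))
    exact (mul_inv_eq_iff_eq_mul.1 this).symm
  have hΦn : ∀ z ∈ Φ, ∀ x ∈ Q, x * z * x⁻¹ ∈ Φ := by
    rintro _ ⟨z, hz, rfl⟩ x hx
    exact ⟨(⟨x, hx⟩ : Q) * z * (⟨x, hx⟩ : Q)⁻¹, Normal.conj_mem inferInstance z hz _, rfl⟩
  have hΦc : ∀ z ∈ Φ, ∀ x ∈ Q, Commute z x := by
    intro z hz x hx
    rw [← hgen] at hx
    induction hx using closure_induction with
    | mem x hx =>
      obtain ⟨x, hx, rfl⟩ := hx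
      have h1 : x⁻¹ * z * x ∈ Φ := by
        have := hΦn z hz x⁻¹ (inv_mem hx)
        rwa [inv_inv] at this
      have h2 : (g * x * g⁻¹) * (x⁻¹ * z * x) * (g * x * g⁻¹)⁻¹ = z := by
        calc (g * x * g⁻¹) * (x⁻¹ * z * x) * (g * x * g⁻¹)⁻¹
            = (g * x * g⁻¹) * (g * (x⁻¹ * z * x) * g⁻¹) * (g * x * g⁻¹)⁻¹ := by rw [hΦg _ h1]
          _ = g * z * g⁻¹ := by group
          _ = z := hΦg z hz
      refine Commute.symm ?_
      show g * x * g⁻¹ * x⁻¹ * z = z * (g * x * g⁻¹ * x⁻¹)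
      calc g * x * g⁻¹ * x⁻¹ * z
          = (g * x * g⁻¹) * (x⁻¹ * z * x) * (g * x * g⁻¹)⁻¹ * (g * x * g⁻¹ * x⁻¹) := by group
        _ = z * (g * x * g⁻¹ * x⁻¹) := by rw [h2]
    | one => exact Commute.one_right z
    | mul a b _ _ iha ihb => exact iha.mul_right ihb
    | inv a _ iha => exact iha.inv_right
  have hpΦ : ∀ x ∈ Q, x ^ p ∈ Φ := fun x hx => ⟨⟨x, hx⟩ ^ p, Cfsg.Lib.PGroups.pow_mem_frattini hQ _, rfl⟩
  have hcomm : ∀ x ∈ Q, ∀ y ∈ Q, y * x * y⁻¹ * x⁻¹ ∈ Φ := fun x hx y hy =>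
    ⟨⁅(⟨y, hy⟩ : Q), ⟨x, hx⟩⁆, Cfsg.Lib.PGroups.commutator_le_frattini hQ
      (commutator_mem_commutator (mem_top _) (mem_top _)), rfl⟩
  have hcp : ∀ x ∈ Q, ∀ y ∈ Q, (y * x * y⁻¹ * x⁻¹) ^ p = 1 := by
    intro x hx y hy
    have hc := hΦc _ (hcomm x hx y hy)
    have e := pow_mul_comm_central (hc x hx) (hc y hy) (by group) p
    rw [(hΦc _ (hpΦ y hy) x hx).eq] at e
    exact mul_eq_right.1 e.symm
  obtain ⟨n, hn, hnp⟩ : ∃ n : ℕ, (∀ x ∈ Q, x ^ n ∈ Φ ∧ ∀ y ∈ Q, (y * x * y⁻¹ * x⁻¹) ^ n.choose 2 = 1) ∧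
      ((n = p ∧ p ≠ 2) ∨ (n = 4 ∧ p = 2)) := by
    by_cases h2 : p = 2
    · refine ⟨4, fun x hx => ⟨?_, fun y hy => ?_⟩, Or.inr ⟨rfl, h2⟩⟩
      · have h := pow_mem (hpΦ x hx) 2
        rwa [← pow_mul, h2] at h
      · have h := hcp x hx y hy
        rw [h2] at h
        rw [show Nat.choose 4 2 = 2 * 3 by decide, pow_mul, h, one_pow]
    · refine ⟨p, fun x hx => ⟨hpΦ x hx, fun y hy => ?_⟩, Or.inl ⟨rfl, h2⟩⟩
      obtain ⟨k, hk⟩ : p ∣ p.choose 2 := (Fact.out : p.Prime).dvd_choose_self two_ne_zero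
        (lt_of_le_of_ne (Fact.out : p.Prime).two_le (Ne.symm h2))
      rw [hk, pow_mul, hcp x hx y hy, one_pow]
  have hmulpow : ∀ x ∈ Q, ∀ y ∈ Q, (x * y) ^ n = x ^ n * y ^ n := by
    intro x hx y hy
    have hc := hΦc _ (hcomm x hx y hy)
    rw [mul_pow_central (hc x hx) (hc y hy) (by group) n, (hn x hx).2 y hy, one_mul]
  intro x hx
  suffices hxn : x ^ n = 1 by
    rcases hnp with ⟨rfl, -⟩ | ⟨rfl, h2⟩
    · exact Or.inl hxn
    · exact Or.inr ⟨h2, hxn⟩
  rw [← hgen] at hx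
  induction hx using closure_induction with
  | mem x hx =>
    obtain ⟨x, hx, rfl⟩ := hx
    show (g * x * g⁻¹ * x⁻¹) ^ n = 1
    rw [hmulpow _ (hgQ x hx) _ (inv_mem hx), conj_pow, hΦg _ (hn x hx).1, inv_pow, mul_inv_cancel]
  | one => exact one_pow n
  | mul a b ha hb iha ihb => rw [hmulpow a (hgen ▸ ha) b (hgen ▸ hb), iha, ihb, one_mul]
  | inv a _ iha => rw [inv_pow, iha, inv_one]

/-- Frobenius' criterion, checked on the subgroups of small exponent -/
theorem complement_of_small [Finite G] {p : ℕ} [Fact p.Prime] (P : Sylow p G)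
    (h : ∀ Q : Subgroup G, Q ≤ (P : Subgroup G) → (∀ x ∈ Q, x ^ p = 1 ∨ (p = 2 ∧ x ^ 4 = 1)) →
      ∀ g ∈ normalizer (Q : Set G), (orderOf g).Coprime p → g ∈ centralizer (Q : Set G)) :
    Cfsg.HasNormalPComplement p G := by
  have key : ∀ n : ℕ, ∀ Q : Subgroup G, Nat.card Q = n → Q ≤ (P : Subgroup G) → ∀ g ∈ normalizer (Q : Set G),
      (orderOf g).Coprime p → g ∈ centralizer (Q : Set G) := by
    intro n
    induction n using Nat.strong_induction_on with
    | _ n ih =>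
    intro Q hn hQP g hg hco
    by_contra hnc
    refine hnc (h Q hQP (small_exponent (P.2.to_le hQP) hg hco (fun R hR hgR => ?_) hnc) g hg hco)
    refine ih (Nat.card R) ?_ R rfl (hR.le.trans hQP) g hgR hco
    rw [← hn]
    exact lt_of_not_ge fun hge => hR.ne (eq_of_le_of_card_ge hR.le hge)
  refine Cfsg.Lib.Transfer.hasNormalPComplement_of_frobenius fun Q hQ g hg hco => ?_
  obtain ⟨R, hR⟩ := hQ.exists_le_sylow
  obtain ⟨a, ha⟩ := MulAction.exists_smul_eq G R P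
  set Q' := Q.map (MulAut.conj a).toMonoidHom
  have hQ' : Q' ≤ (P : Subgroup G) := by
    rw [← ha, Cfsg.Lib.Transfer.sylow_smul_coe]; exact map_mono hR
  have := key _ Q' rfl hQ' (a * g * a⁻¹) (le_normalizer_map _ ⟨g, hg, rfl⟩)
    (by rwa [show orderOf (a * g * a⁻¹) = orderOf g from MulEquiv.orderOf_eq (MulAut.conj a) g])
  refine mem_centralizer_iff.2 fun q hq => ?_
  have h1 := mem_centralizer_iff.1 this (a * q * a⁻¹) ⟨q, hq, rfl⟩
  calc q * g = a⁻¹ * ((a * q * a⁻¹) * (a * g * a⁻¹)) * a := by group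
    _ = a⁻¹ * ((a * g * a⁻¹) * (a * q * a⁻¹)) * a := by rw [h1]
    _ = g * q := by group

end Cfsg.Lib.SmallOrder
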