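import Cfsg.Agent.Components.Cores
import Cfsg.Agent.Components.Misc.SmallOrder
import Cfsg.Agent.Coprime.Fitting
import Cfsg.Agent.Components.Misc.EasyThree
import Cfsg.Agent.Transfer.Basic
import Cfsg.Agent.PGroups.Basic
import Cfsg.Prelude.Def_LocalStructure

/-!
Large subgroups.
-/

set_option linter.style.haveILetI false
set_option linter.unusedSectionVars false

namespace Cfsg.Lib.Large

open Subgroup
open scoped commutatorElement

universe u

variable {G : Type u} [Group G] [Finite G] {p : ℕ} [hp : Fact p.Prime] {Q : Subgroup G}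

theorem normalizer_le_center (X : Subgroup G) :
    normalizer (X : Set G) ≤ normalizer ((X ⊓ centralizer (X : Set G) : Subgroup G) : Set G) := by
  have h : ∀ g ∈ normalizer (X : Set G), ∀ y ∈ X ⊓ centralizer (X : Set G),
      g * y * g⁻¹ ∈ X ⊓ centralizer (X : Set G) := by
    intro g hg y hy
    obtain ⟨h1, h2⟩ := mem_inf.1 hy
    refine mem_inf.mpr ⟨(mem_normalizer_iff.1 hg y).1 h1, mem_centralizer_iff.2 fun x hx => ?_⟩
    have h3 := mem_centralizer_iff.1 h2 (g⁻¹ * x * g) ((mem_normalizer_iff.1 hg _).2 (by simpa [mul_assoc] using hx))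
    calc x * (g * y * g⁻¹) = g * ((g⁻¹ * x * g) * y) * g⁻¹ := by group
      _ = g * y * g⁻¹ * x := by rw [h3]; group
  intro g hg
  refine mem_normalizer_iff.2 fun y => ⟨h g hg y, fun hy => ?_⟩
  simpa [mul_assoc] using h g⁻¹ (inv_mem hg) _ hy

/-- the Sylow subgroups over a large subgroup, and their normalizers, normalize it -/
theorem sylow_normalizes (hQ : IsPGroup p Q) (hQ1 : Q ≠ ⊥) (hL : Cfsg.IsLarge Q) (T : Sylow p G)
    (hQT : Q ≤ (T : Subgroup G)) :
    normalizer ((T : Subgroup G) : Set G) ≤ normalizer (Q : Set G) := by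
  set Z := (T : Subgroup G) ⊓ centralizer ((T : Subgroup G) : Set G)
  refine (normalizer_le_center _).trans (hL.2 Z (inf_le_right.trans (centralizer_le (SetLike.coe_subset_coe.mpr hQT))) ?_)
  intro h
  have hT1 : (⊤ : Subgroup (T : Subgroup G)) ≠ ⊥ := fun h' => hQ1 (eq_bot_iff.2 fun x hx => mem_bot.2
    (congrArg Subtype.val (mem_bot.1 (h'.le (mem_top (⟨x, hQT hx⟩ : (T : Subgroup G)))))))
  obtain ⟨w, -, hwc, hwo⟩ := Cfsg.Lib.PGroups.exists_mem_center_of_normal_ne_bot T.2 hT1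
  have : (w : G) ∈ Z := mem_inf.mpr ⟨w.2, mem_centralizer_iff.2 fun y hy =>
    congrArg Subtype.val (mem_center_iff.1 hwc ⟨y, hy⟩)⟩
  rw [h, mem_bot] at this
  rw [← Subgroup.orderOf_coe, this, orderOf_one] at hwo
  exact hp.out.one_lt.ne hwo

/-- a large subgroup is weakly closed -/
theorem eq_of_conj_le_sylow (hQ : IsPGroup p Q) (hQ1 : Q ≠ ⊥) (hL : Cfsg.IsLarge Q) (T : Sylow p G)
    (hQT : Q ≤ (T : Subgroup G)) (g : G) (hg : Q.map (MulAut.conj g).toMonoidHom ≤ (T : Subgroup G)) :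
    g ∈ normalizer (Q : Set G) := by
  have h1 : Q ≤ ((g⁻¹ • T : Sylow p G) : Subgroup G) := by
    intro x hx
    rw [Cfsg.Lib.Transfer.sylow_smul_coe]
    exact ⟨g * x * g⁻¹, hg ⟨x, hx, rfl⟩, by simp [mul_assoc]⟩
  have hT := le_normalizer.trans (sylow_normalizes hQ hQ1 hL T hQT)
  have hT' := le_normalizer.trans (sylow_normalizes hQ hQ1 hL _ h1)
  obtain ⟨h, hh⟩ := MulAction.exists_smul_eq ↥(normalizer (Q : Set G)) (T.subtype hT) ((g⁻¹ • T : Sylow p G).subtype hT')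
  have he : ((h : G) • T : Sylow p G) = g⁻¹ • T := by
    apply Sylow.ext
    have := congrArg (fun S : Sylow p ↥(normalizer (Q : Set G)) => (S : Subgroup _).map (normalizer (Q : Set G)).subtype) hh
    simp only [Cfsg.Lib.Transfer.sylow_smul_coe, Sylow.coe_subtype] at this ⊢
    rw [map_subgroupOf_eq_of_le (by rw [← Cfsg.Lib.Transfer.sylow_smul_coe]; exact hT')] at this
    rw [← this, map_map]
    ext x
    constructor
    · rintro ⟨y, hy, rfl⟩
      exact ⟨⟨y, hT hy⟩, hy, rfl⟩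
    · rintro ⟨y, hy, rfl⟩
      exact ⟨y, hy, rfl⟩
  have hn : g * (h : G) ∈ normalizer ((T : Subgroup G) : Set G) :=
    Sylow.smul_eq_iff_mem_normalizer.1 (by rw [mul_smul, he, smul_inv_smul])
  have := mul_mem (sylow_normalizes hQ hQ1 hL T hQT hn) (inv_mem h.2)
  rwa [mul_inv_cancel_right] at this

theorem inf_conj_eq_bot (hQ : IsPGroup p Q) (hQ1 : Q ≠ ⊥) (hL : Cfsg.IsLarge Q) (g : G)
    (hg : g ∉ normalizer (Q : Set G)) :
    centralizer (Q : Set G) ⊓ centralizer ((Q.map (MulAut.conj g).toMonoidHom : Subgroup G) : Set G) = ⊥ ∧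
      (Q ⊓ centralizer (Q : Set G)) ⊓ (Q.map (MulAut.conj g).toMonoidHom ⊓
        centralizer ((Q.map (MulAut.conj g).toMonoidHom : Subgroup G) : Set G)) = ⊥ := by
  set R := Q.map (MulAut.conj g).toMonoidHom
  have h : centralizer (Q : Set G) ⊓ centralizer (R : Set G) = ⊥ := by
    by_contra hne
    set U := centralizer (Q : Set G) ⊓ centralizer (R : Set G)
    have hR : R ≤ normalizer (Q : Set G) := by
      refine le_trans (le_trans ?_ (centralizer_le_normalizer _)) (hL.2 U inf_le_left hne)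
      intro x hx
      exact mem_centralizer_iff.2 fun u hu => (mem_centralizer_iff.1 (mem_inf.1 hu).2 x hx).symm
    obtain ⟨T, hT⟩ := (hQ.to_sup_of_normal_left' (hQ.map _) hR).exists_le_sylow
    exact hg (eq_of_conj_le_sylow hQ hQ1 hL T (le_sup_left.trans hT) g (le_sup_right.trans hT))
  exact ⟨h, le_bot_iff.1 ((inf_le_inf inf_le_right inf_le_right).trans h.le)⟩

theorem bullet_props (hQ : IsPGroup p Q) (hQ1 : Q ≠ ⊥) (hL : Cfsg.IsLarge Q) :
    Q ≤ Cfsg.largeBullet p Q ∧ IsPGroup p (Cfsg.largeBullet p Q) ∧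
      normalizer (Q : Set G) = normalizer ((Cfsg.largeBullet p Q : Subgroup G) : Set G) ∧
      Cfsg.IsLarge (Cfsg.largeBullet p Q) := by
  set B := Cfsg.largeBullet p Q with hB
  set N := normalizer (Q : Set G)
  have hQB : Q ≤ B := by
    intro x hx
    refine ⟨⟨x, le_normalizer hx⟩, ?_, rfl⟩
    haveI : (Q.subgroupOf N).Normal := normal_subgroupOf_of_le_normalizer le_rfl
    exact le_sSup (show Q.subgroupOf N ∈ {M : Subgroup N | M.Normal ∧ IsPGroup p M} from
      ⟨inferInstance, hQ.comap_subtype⟩) hx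
  have hBp : IsPGroup p B := (Cfsg.Lib.Components.isPGroup_pCore p).map _
  have hNB : N ≤ normalizer (B : Set G) := by
    haveI : (Cfsg.pCore p N).Normal := Cfsg.Lib.Components.pCore_normal' p
    intro x hx
    refine mem_normalizer_iff.2 fun y => ⟨?_, ?_⟩
    · rintro ⟨z, hz, rfl⟩
      exact ⟨⟨x, hx⟩ * z * ⟨x, hx⟩⁻¹, (inferInstance : (Cfsg.pCore p N).Normal).conj_mem z hz _, rfl⟩
    · rintro ⟨z, hz, hzy⟩
      refine ⟨⟨x, hx⟩⁻¹ * z * ⟨x, hx⟩, (inferInstance : (Cfsg.pCore p N).Normal).conj_mem' z hz _, ?_⟩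
      have hzy' : (z : G) = x * y * x⁻¹ := hzy
      show x⁻¹ * (z : G) * x = y
      rw [hzy']; group
  have hCB : centralizer (B : Set G) ≤ centralizer (Q : Set G) := centralizer_le (SetLike.coe_subset_coe.mpr hQB)
  have hB1 : (⊤ : Subgroup B) ≠ ⊥ := fun h' => hQ1 (eq_bot_iff.2 fun x hx => mem_bot.2
    (congrArg Subtype.val (mem_bot.1 (h'.le (mem_top (⟨x, hQB hx⟩ : B))))))
  have hBN : normalizer (B : Set G) ≤ N := by
    refine (normalizer_le_center B).trans (hL.2 _ (inf_le_right.trans hCB) fun h => ?_)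
    obtain ⟨w, -, hwc, hwo⟩ := Cfsg.Lib.PGroups.exists_mem_center_of_normal_ne_bot hBp hB1
    have : (w : G) ∈ B ⊓ centralizer (B : Set G) := mem_inf.mpr ⟨w.2, mem_centralizer_iff.2 fun y hy =>
      congrArg Subtype.val (mem_center_iff.1 hwc ⟨y, hy⟩)⟩
    rw [h, mem_bot] at this
    rw [← Subgroup.orderOf_coe, this, orderOf_one] at hwo
    exact hp.out.one_lt.ne hwo
  exact ⟨hQB, hBp, le_antisymm hNB hBN, (hCB.trans hL.1).trans hQB,
    fun U hU hU1 => (hL.2 U (hU.trans hCB) hU1).trans hNB⟩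

theorem conj_mem' (N : Subgroup G) {g x : G} (hg : g ∈ normalizer (N : Set G)) (hx : x ∈ N) : g * x * g⁻¹ ∈ N :=
  (mem_normalizer_iff.1 hg x).1 hx

theorem mem_normalizer_of_le (N : Subgroup G) {g : G} (h : ∀ x ∈ N, g * x * g⁻¹ ∈ N) : g ∈ normalizer (N : Set G) :=
  mem_normalizer_iff_map_conj_eq.2 (eq_of_le_of_card_ge (by rintro _ ⟨x, hx, rfl⟩; exact h x hx)
    (card_map_of_injective (MulEquiv.injective _)).ge)

theorem conj_large (hQ : IsPGroup p Q) (hQ1 : Q ≠ ⊥) (hL : Cfsg.IsLarge Q) (g : G) :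
    IsPGroup p ↥(Q.map (MulAut.conj g).toMonoidHom) ∧ Q.map (MulAut.conj g).toMonoidHom ≠ ⊥ ∧
      Cfsg.IsLarge (Q.map (MulAut.conj g).toMonoidHom) := by
  refine ⟨hQ.map _, fun h => hQ1 ((map_eq_bot_iff_of_injective _ (MulEquiv.injective _)).1 h), ?_⟩
  set R := Q.map (MulAut.conj g).toMonoidHom
  have hback : ∀ x, x ∈ centralizer (R : Set G) → g⁻¹ * x * g ∈ centralizer (Q : Set G) := fun x hx => by
    refine mem_centralizer_iff.2 fun q hq => ?_
    have h1 : (g * q * g⁻¹) * x = x * (g * q * g⁻¹) := mem_centralizer_iff.1 hx _ ⟨q, hq, rfl⟩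
    calc q * (g⁻¹ * x * g) = g⁻¹ * ((g * q * g⁻¹) * x) * g := by group
      _ = g⁻¹ * x * g * q := by rw [h1]; group
  refine ⟨fun x hx => ⟨g⁻¹ * x * g, hL.1 (hback x hx), by simp [mul_assoc]⟩, fun U hU hU1 => ?_⟩
  set U' := U.map (MulAut.conj g⁻¹).toMonoidHom
  have h2 : normalizer (U' : Set G) ≤ normalizer (Q : Set G) := by
    refine hL.2 U' ?_ fun h => hU1 ((map_eq_bot_iff_of_injective _ (MulEquiv.injective _)).1 h)
    rintro _ ⟨u, hu, rfl⟩
    have := hback u (hU hu)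
    simpa using this
  intro x hx
  have h3 : g⁻¹ * x * g ∈ normalizer (U' : Set G) := mem_normalizer_of_le U' (by
    rintro _ ⟨u, hu, rfl⟩
    exact ⟨x * u * x⁻¹, conj_mem' U hx hu, by simp [mul_assoc]⟩)
  refine mem_normalizer_of_le R ?_
  rintro _ ⟨q, hq, rfl⟩
  exact ⟨(g⁻¹ * x * g) * q * (g⁻¹ * x * g)⁻¹, conj_mem' Q (h2 h3) hq, by simp [mul_assoc]⟩

/-- for a nontrivial `p`-group `Y` normalized by the large subgroup `Q`, `C(Y)` normalizes `Q` -/
theorem centralizer_normalizes (hQ : IsPGroup p Q) (hL : Cfsg.IsLarge Q) (Y : Subgroup G) (hY : IsPGroup p Y)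
    (hY1 : Y ≠ ⊥) (hQY : Q ≤ normalizer (Y : Set G)) : centralizer (Y : Set G) ≤ normalizer (Q : Set G) := by
  have hP : IsPGroup p ↥(Y ⊔ Q) := hY.to_sup_of_normal_left' hQ hQY
  haveI : (Y.subgroupOf (Y ⊔ Q)).Normal := normal_subgroupOf_of_le_normalizer (sup_le le_normalizer hQY)
  have hne : Y.subgroupOf (Y ⊔ Q) ≠ ⊥ := fun h => hY1 (eq_bot_iff.2 fun y hy => mem_bot.2
    (congrArg Subtype.val (mem_bot.1 (h.le (show (⟨y, mem_sup_left hy⟩ : ↥(Y ⊔ Q)) ∈ Y.subgroupOf (Y ⊔ Q) from hy)))))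
  obtain ⟨w, hwY, hwc, hwo⟩ := Cfsg.Lib.PGroups.exists_mem_center_of_normal_ne_bot hP hne
  have hwQ : zpowers (w : G) ≤ centralizer (Q : Set G) := zpowers_le.2 (mem_centralizer_iff.2 fun q hq =>
    congrArg Subtype.val (mem_center_iff.1 hwc ⟨q, mem_sup_right hq⟩))
  have hw1 : zpowers (w : G) ≠ ⊥ := fun h => by
    rw [zpowers_eq_bot] at h
    rw [← Subgroup.orderOf_coe, h, orderOf_one] at hwo
    exact hp.out.one_lt.ne hwo
  refine le_trans ?_ (hL.2 _ hwQ hw1)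
  refine le_trans (fun x hx => ?_) (centralizer_le_normalizer _)
  refine mem_centralizer_iff.2 fun u hu => ?_
  obtain ⟨k, rfl⟩ := mem_zpowers_iff.1 hu
  exact ((Commute.zpow_right (show Commute x (w : G) from (mem_centralizer_iff.1 hx _ hwY).symm) k).eq).symm

theorem normalizer_centralizer_le (Y : Subgroup G) :
    normalizer (Y : Set G) ≤ normalizer ((centralizer (Y : Set G) : Subgroup G) : Set G) := fun g hg =>
  mem_normalizer_of_le _ fun x hx => mem_centralizer_iff.2 fun y hy => by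
    have h1 := mem_centralizer_iff.1 hx (g⁻¹ * y * g) ((mem_normalizer_iff.1 hg _).2 (by simpa [mul_assoc] using hy))
    calc y * (g * x * g⁻¹) = g * ((g⁻¹ * y * g) * x) * g⁻¹ := by group
      _ = g * x * g⁻¹ * y := by rw [h1]; group

/-- `O_p` of a subgroup is normalized by its normalizer -/
theorem normalizer_pCoreOf_le (L : Subgroup G) :
    normalizer (L : Set G) ≤ normalizer ((Cfsg.pCoreOf p L : Subgroup G) : Set G) := fun g hg => by
  refine mem_normalizer_of_le _ ?_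
  rintro _ ⟨x, hx, rfl⟩
  let e : L ≃* L := normalizerMonoidHom L ⟨g, hg⟩
  refine ⟨e x, ?_, rfl⟩
  haveI : ((Cfsg.pCore p L).map e.toMonoidHom).Normal :=
    Normal.map (Cfsg.Lib.Components.pCore_normal' p) _ e.surjective
  exact le_sSup (show (Cfsg.pCore p L).map e.toMonoidHom ∈ {M : Subgroup L | M.Normal ∧ IsPGroup p M} from
    ⟨inferInstance, (Cfsg.Lib.Components.isPGroup_pCore p).map _⟩) ⟨x, hx, rfl⟩

/-- a `p`-subgroup of `L` normalized by `L` lies in `O_p(L)` -/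
theorem le_pCoreOf {N L : Subgroup G} (hNL : N ≤ L) (hN : IsPGroup p N) (hLN : L ≤ normalizer (N : Set G)) :
    N ≤ Cfsg.pCoreOf p L := by
  haveI : (N.subgroupOf L).Normal := normal_subgroupOf_of_le_normalizer hLN
  intro x hx
  exact ⟨⟨x, hNL hx⟩, le_sSup (show N.subgroupOf L ∈ {M : Subgroup L | M.Normal ∧ IsPGroup p M} from
    ⟨inferInstance, hN.comap_subtype⟩) hx, rfl⟩

theorem inf_centralizer_le (hQ : IsPGroup p Q) (hL : Cfsg.IsLarge Q) (Y : Subgroup G) (hY : IsPGroup p Y)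
    (hY1 : Y ≠ ⊥) (hQY : Q ≤ normalizer (Y : Set G)) :
    Q ⊓ centralizer (Y : Set G) ≤ Cfsg.pCoreOf p (centralizer (Y : Set G)) := by
  refine le_pCoreOf inf_le_right (hQ.to_le inf_le_left) fun c hc => mem_normalizer_of_le _ fun x hx => ?_
  exact mem_inf.mpr ⟨conj_mem' Q (centralizer_normalizes hQ hL Y hY hY1 hQY hc) (mem_inf.1 hx).1,
    mul_mem (mul_mem hc (mem_inf.1 hx).2) (inv_mem hc)⟩

/-- `C(O_p(L))` is a `p`-group and `L` has characteristic `p`, for `L ≥ Q` -/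
theorem core_props (hQ : IsPGroup p Q) (hL : Cfsg.IsLarge Q) (L : Subgroup G) (hQL : Q ≤ L)
    (hne : Cfsg.pCore p L ≠ ⊥) :
    IsPGroup p ↥(centralizer ((Cfsg.pCoreOf p L : Subgroup G) : Set G)) ∧
      centralizer (Cfsg.pCore p L : Set L) ≤ Cfsg.pCore p L := by
  set P := Cfsg.pCoreOf p L with hPdef
  have hPp : IsPGroup p P := (Cfsg.Lib.Components.isPGroup_pCore p).map _
  have hP1 : P ≠ ⊥ := fun h => hne ((map_eq_bot_iff_of_injective _ L.subtype_injective).1 h)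
  have hLP : L ≤ normalizer (P : Set G) := le_normalizer.trans (normalizer_pCoreOf_le L)
  have hQP := hQL.trans hLP
  set C := centralizer (P : Set G)
  have hD : Q ⊓ C ≤ P := by
    have h1 : Cfsg.pCoreOf p C ⊓ L ≤ P := by
      refine le_pCoreOf inf_le_right (((Cfsg.Lib.Components.isPGroup_pCore p).map _).to_le inf_le_left) ?_
      intro l hl
      refine mem_normalizer_of_le _ fun x hx => mem_inf.mpr ⟨?_, mul_mem (mul_mem hl (mem_inf.1 hx).2) (inv_mem hl)⟩
      exact conj_mem' _ (normalizer_pCoreOf_le C (normalizer_centralizer_le P (hLP hl))) (mem_inf.1 hx).1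
    exact fun x hx => h1 (mem_inf.mpr ⟨inf_centralizer_le hQ hL P hPp hP1 hQP hx, hQL (mem_inf.1 hx).1⟩)
  have hC : IsPGroup p C := by
    refine Cfsg.Lib.Easy.isPGroup_of_coprime_trivial C fun x hx hco => ?_
    have hxQ : x ∈ centralizer (Q : Set G) := mem_centralizer_iff.2 fun q hq => by
      have hxN := centralizer_normalizes hQ hL P hPp hP1 hQP hx
      have ht : x * q * x⁻¹ * q⁻¹ ∈ Q ⊓ C := mem_inf.mpr ⟨mul_mem (conj_mem' Q hxN hq) (inv_mem hq), by
        rw [show x * q * x⁻¹ * q⁻¹ = x * (q * x⁻¹ * q⁻¹) by group]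
        exact mul_mem hx (conj_mem' C (normalizer_centralizer_le P (hQP hq)) (inv_mem hx))⟩
      obtain ⟨k, hk⟩ := hQ ⟨_, (mem_inf.1 ht).1⟩
      exact (mul_inv_eq_iff_eq_mul.1 (Cfsg.Lib.SmallOrder.fixed_of_shift (by group)
        (mul_inv_eq_iff_eq_mul.2 (mem_centralizer_iff.1 hx _ (hD ht)).symm)
        ((hco.pow_right k).coprime_dvd_right (orderOf_dvd_of_pow_eq_one (congrArg Subtype.val hk))))).symm
    obtain ⟨k, hk⟩ := hQ ⟨x, hL.1 hxQ⟩
    exact orderOf_eq_one_iff.1 (Nat.eq_one_of_dvd_coprimes (hco.pow_right k) dvd_rfl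
      (orderOf_dvd_of_pow_eq_one (congrArg Subtype.val hk)))
  refine ⟨hC, ?_⟩
  intro x hx
  have h2 : C ⊓ L ≤ P := le_pCoreOf inf_le_right (hC.to_le inf_le_left) fun l hl =>
    mem_normalizer_of_le _ fun y hy => mem_inf.mpr ⟨conj_mem' C (normalizer_centralizer_le P (hLP hl)) (mem_inf.1 hy).1,
      mul_mem (mul_mem hl (mem_inf.1 hy).2) (inv_mem hl)⟩
  obtain ⟨y, hy, hyx⟩ := h2 (show (x : G) ∈ C ⊓ L from mem_inf.mpr ⟨mem_centralizer_iff.2 (by
    rintro _ ⟨z, hz, rfl⟩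
    exact congrArg Subtype.val (mem_centralizer_iff.1 hx z hz)), x.2⟩)
  rwa [← L.subtype_injective hyx]

theorem parabolic_props (hQ : IsPGroup p Q) (hQ1 : Q ≠ ⊥) (hL : Cfsg.IsLarge Q) (R : Subgroup G)
    (hR : Cfsg.IsParabolic p R) (hne : Cfsg.pCore p R ≠ ⊥) :
    centralizer (Cfsg.pCore p R : Set R) ≤ Cfsg.pCore p R ∧
      centralizer ((Cfsg.pCoreOf p R : Subgroup G) : Set G) ≤ Cfsg.pCoreOf p R := by
  obtain ⟨T, hT⟩ := hR
  obtain ⟨T0, hT0⟩ := hQ.exists_le_sylow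
  obtain ⟨g, rfl⟩ := MulAction.exists_smul_eq G T0 T
  obtain ⟨hQ', -, hL'⟩ := conj_large hQ hQ1 hL g
  have hQR : Q.map (MulAut.conj g).toMonoidHom ≤ R := by
    refine le_trans ?_ hT
    rw [Cfsg.Lib.Transfer.sylow_smul_coe]; exact map_mono hT0
  obtain ⟨hC, hchar⟩ := core_props hQ' hL' R hQR hne
  refine ⟨hchar, fun x hx => ?_⟩
  have hN : ((g • T0 : Sylow p G) : Subgroup G) ≤ normalizer ((centralizer ((Cfsg.pCoreOf p R : Subgroup G) : Set G) : Subgroup G) : Set G) :=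
    (hT.trans (le_normalizer.trans (normalizer_pCoreOf_le R))).trans (normalizer_centralizer_le _)
  have h1 := (g • T0 : Sylow p G).3 (hC.to_sup_of_normal_left' (g • T0 : Sylow p G).2 hN) le_sup_right
  have hxR : x ∈ R := hT (h1.le (mem_sup_left hx))
  exact ⟨⟨x, hxR⟩, hchar (mem_centralizer_iff.2 fun z hz =>
    Subtype.ext (mem_centralizer_iff.1 hx _ ⟨z, hz, rfl⟩)), rfl⟩

theorem weakClosure_eq_or (hQ : IsPGroup p Q) (hQ1 : Q ≠ ⊥) (hL : Cfsg.IsLarge Q) (L : Subgroup G) (hQL : Q ≤ L) :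
    Cfsg.weakClosure Q L = Q ∨ centralizer ((Cfsg.weakClosure Q L : Subgroup G) : Set G) = ⊥ := by
  have hQW : Q ≤ Cfsg.weakClosure Q L := by
    refine le_trans ?_ (le_iSup _ ⟨1, by rintro _ ⟨x, hx, rfl⟩; simpa using hQL hx⟩)
    intro x hx
    exact ⟨x, hx, by simp⟩
  by_cases h : ∀ g : G, Q.map (MulAut.conj g).toMonoidHom ≤ L → g ∈ normalizer (Q : Set G)
  · exact Or.inl (le_antisymm (iSup_le fun g => (mem_normalizer_iff_map_conj_eq.1 (h g g.2)).le) hQW)
  · push Not at h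
    obtain ⟨g, hgL, hg⟩ := h
    exact Or.inr (le_bot_iff.1 ((le_inf (centralizer_le (SetLike.coe_subset_coe.mpr hQW))
      (centralizer_le (SetLike.coe_subset_coe.mpr (le_iSup (fun g : {g : G // Q.map (MulAut.conj g).toMonoidHom ≤ L} =>
        Q.map (MulAut.conj (g : G)).toMonoidHom) ⟨g, hgL⟩)))).trans (inf_conj_eq_bot hQ hQ1 hL g hg).1.le))

theorem weakClosure_local (hQ : IsPGroup p Q) (hQ1 : Q ≠ ⊥) (hL : Cfsg.IsLarge Q) (L : Subgroup G) (hQL : Q ≤ L)
    (Y : Subgroup G) (hY : IsPGroup p Y) (hY1 : Y ≠ ⊥) (hLY : L ≤ normalizer (Y : Set G)) :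
    Cfsg.weakClosure Q L = Cfsg.weakClosure Q (L ⊔ centralizer (Y : Set G)) ∧
      ⁅Cfsg.weakClosure Q L, centralizer (Y : Set G)⁆ ≤ Cfsg.pCoreOf p (Cfsg.weakClosure Q L) ∧
      centralizer (Y : Set G) ≤ normalizer ((Cfsg.weakClosure Q L : Subgroup G) : Set G) := by
  set W := Cfsg.weakClosure Q L with hW
  set C := centralizer (Y : Set G) with hC
  have hWL : W ≤ L := iSup_le fun g => g.2
  have hQ' : ∀ g : {g : G // Q.map (MulAut.conj g).toMonoidHom ≤ L}, Q.map (MulAut.conj (g : G)).toMonoidHom ≤ W :=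
    fun g => le_iSup (fun g : {g : G // Q.map (MulAut.conj g).toMonoidHom ≤ L} => Q.map (MulAut.conj (g : G)).toMonoidHom) g
  have hQW : Q ≤ W := by
    refine le_trans ?_ (hQ' ⟨1, by rintro _ ⟨x, hx, rfl⟩; simpa using hQL hx⟩)
    intro x hx
    exact ⟨x, hx, by simp⟩
  have hgen : ∀ g : {g : G // Q.map (MulAut.conj g).toMonoidHom ≤ L},
      C ≤ normalizer ((Q.map (MulAut.conj (g : G)).toMonoidHom : Subgroup G) : Set G) ∧
      Q.map (MulAut.conj (g : G)).toMonoidHom ⊓ C ≤ Cfsg.pCoreOf p C := fun g => by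
    obtain ⟨h1, -, h3⟩ := conj_large hQ hQ1 hL g
    exact ⟨centralizer_normalizes h1 h3 Y hY hY1 (g.2.trans hLY), inf_centralizer_le h1 h3 Y hY hY1 (g.2.trans hLY)⟩
  have hCW : C ≤ normalizer (W : Set G) := fun c hc => mem_normalizer_of_le W fun x hx => by
    refine (show W ≤ W.comap (MulAut.conj c).toMonoidHom from iSup_le fun g y hy => ?_) hx
    exact hQ' g (conj_mem' _ ((hgen g).1 hc) hy)
  have hLW : L ≤ normalizer (W : Set G) := fun l hl => mem_normalizer_of_le W fun x hx => by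
    refine (show W ≤ W.comap (MulAut.conj l).toMonoidHom from iSup_le fun g => ?_) hx
    rintro _ ⟨q, hq, rfl⟩
    refine hQ' ⟨l * g, ?_⟩ ⟨q, hq, by simp [mul_assoc]⟩
    rintro _ ⟨r, hr, rfl⟩
    have := mul_mem (mul_mem hl (g.2 ⟨r, hr, rfl⟩)) (inv_mem hl)
    simpa [mul_assoc] using this
  have hLC : L ≤ normalizer (C : Set G) := hLY.trans (normalizer_centralizer_le Y)
  set K := Cfsg.pCoreOf p C with hK
  have hLK : L ≤ normalizer (K : Set G) := hLC.trans (normalizer_pCoreOf_le C)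
  refine ⟨le_antisymm ?_ ?_, ?_, hCW⟩
  · exact iSup_le fun g => le_iSup_of_le (⟨(g : G), g.2.trans le_sup_left⟩ :
      {g : G // Q.map (MulAut.conj g).toMonoidHom ≤ L ⊔ C}) le_rfl
  · refine iSup_le fun g => ?_
    let M : Subgroup G := L ⊔ C
    set Q1 := Q.map (MulAut.conj (g : G)).toMonoidHom
    have hQM : Q ≤ M := hQL.trans le_sup_left
    obtain ⟨S, hS⟩ := (hQ.comap_subtype (K := M)).exists_le_sylow
    obtain ⟨S1, hS1⟩ := ((hQ.map (MulAut.conj (g : G)).toMonoidHom).comap_subtype (K := M)).exists_le_sylow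
    obtain ⟨m, hm⟩ := MulAction.exists_smul_eq M S1 S
    obtain ⟨T, hT⟩ := (S.2.map M.subtype).exists_le_sylow
    have h1 : Q ≤ (T : Subgroup G) := fun x hx => hT ⟨⟨x, hQM hx⟩, hS hx, rfl⟩
    have h2 : Q.map (MulAut.conj ((m : G) * g)).toMonoidHom ≤ (T : Subgroup G) := by
      rintro _ ⟨q, hq, rfl⟩
      refine hT ⟨m * ⟨_, g.2 ⟨q, hq, rfl⟩⟩ * m⁻¹, ?_, by simp [mul_assoc]⟩
      rw [← hm, Cfsg.Lib.Transfer.sylow_smul_coe]
      exact ⟨_, hS1 (show (g : G) * q * (g : G)⁻¹ ∈ Q1 from ⟨q, hq, rfl⟩), rfl⟩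
    have hn := eq_of_conj_le_sylow hQ hQ1 hL T h1 _ h2
    have hMW : M ≤ normalizer (W : Set G) := sup_le hLW hCW
    rintro _ ⟨q, hq, rfl⟩
    have h3 : (m : G)⁻¹ * (((m : G) * g) * q * ((m : G) * g)⁻¹) * m ∈ W := by
      have := conj_mem' W (inv_mem (hMW m.2)) (hQW (conj_mem' Q hn hq))
      rwa [inv_inv] at this
    show (g : G) * q * (g : G)⁻¹ ∈ W
    convert h3 using 1
    group
  · have hfin : ∀ w ∈ W, ∀ c ∈ C, ⁅w, c⁆ ∈ K ⊓ W := by
      intro w hw
      induction hw using Subgroup.iSup_induction' with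
      | hp g q hq =>
        intro c hc
        have h1 : ⁅q, c⁆ ∈ Q.map (MulAut.conj (g : G)).toMonoidHom := by
          rw [show ⁅q, c⁆ = q * (c * q⁻¹ * c⁻¹) by rw [commutatorElement_def]; group]
          exact mul_mem hq (conj_mem' _ ((hgen g).1 hc) (inv_mem hq))
        have h2 : ⁅q, c⁆ ∈ C := by
          rw [commutatorElement_def]
          exact mul_mem (conj_mem' C (hLC (g.2 hq)) hc) (inv_mem hc)
        exact mem_inf.mpr ⟨(hgen g).2 (mem_inf.mpr ⟨h1, h2⟩), hQ' g h1⟩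
      | h1 => intro c _; rw [commutatorElement_one_left]; exact one_mem _
      | hmul a b ha _ iha ihb =>
        intro c hc
        rw [show ⁅a * b, c⁆ = (a * ⁅b, c⁆ * a⁻¹) * ⁅a, c⁆ by simp only [commutatorElement_def]; group]
        refine mul_mem (mem_inf.mpr ⟨conj_mem' K (hLK (hWL ha)) (mem_inf.1 (ihb c hc)).1,
          mul_mem (mul_mem ha (mem_inf.1 (ihb c hc)).2) (inv_mem ha)⟩) (iha c hc)
    refine commutator_le.2 fun w hw c hc => le_pCoreOf inf_le_right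
      (((Cfsg.Lib.Components.isPGroup_pCore p).map _).to_le inf_le_left) (fun x hx => mem_normalizer_of_le _ fun y hy => ?_) (hfin w hw c hc)
    exact mem_inf.mpr ⟨conj_mem' K (hLK (hWL hx)) (mem_inf.1 hy).1, mul_mem (mul_mem hx (mem_inf.1 hy).2) (inv_mem hx)⟩

end Cfsg.Lib.Large
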