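import Cfsg.Agent.Components.Misc.EasyThree
import Cfsg.Agent.Transfer.Basic
import Cfsg.Agent.Coprime.Fitting

/-!
p-closed normal subgroups and p-irreducible groups.
-/

set_option linter.style.haveILetI false
set_option linter.unusedSectionVars false

namespace Cfsg.Lib.PIrr

open Subgroup
open scoped commutatorElement

universe u

variable {G : Type u} [Group G] [Finite G] {p : ℕ} [hp : Fact p.Prime]

theorem le_pCore' {M : Subgroup G} [hM : M.Normal] (h : IsPGroup p M) : M ≤ Cfsg.pCore p G := le_sSup ⟨hM, h⟩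

theorem inf_le_pCore_all {N : Subgroup G} [N.Normal] {T : Sylow p G} (h : (T : Subgroup G) ⊓ N ≤ Cfsg.pCore p G)
    (S : Sylow p G) : (S : Subgroup G) ⊓ N ≤ Cfsg.pCore p G := by
  haveI : (Cfsg.pCore p G).Normal := Cfsg.Lib.Components.pCore_normal' p
  obtain ⟨g, rfl⟩ := MulAction.exists_smul_eq G T S
  intro x hx
  obtain ⟨hxS, hxN⟩ := mem_inf.1 hx
  rw [Cfsg.Lib.Transfer.sylow_smul_coe] at hxS
  obtain ⟨y, hy, rfl⟩ := hxS
  refine (inferInstance : (Cfsg.pCore p G).Normal).conj_mem y (h (mem_inf.mpr ⟨hy, ?_⟩)) g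
  simpa [mul_assoc] using (inferInstance : N.Normal).conj_mem _ hxN g⁻¹

/-- a normal subgroup is `p`-closed iff its intersection with a Sylow subgroup lies in `O_p` -/
theorem isPClosed_iff {N : Subgroup G} [hN : N.Normal] (T : Sylow p G) :
    Cfsg.IsPClosed p N ↔ (T : Subgroup G) ⊓ N ≤ Cfsg.pCore p G := by
  constructor
  · intro h
    obtain ⟨S, hS⟩ := (T.2.comap_subtype (K := N)).exists_le_sylow
    haveI := Sylow.characteristic_of_normal S (h S)
    haveI : ((S : Subgroup N).map N.subtype).Normal := ConjAct.normal_of_characteristic_of_normal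
    exact fun x hx => le_pCore' (S.2.map N.subtype) ⟨⟨x, (mem_inf.1 hx).2⟩, hS (mem_inf.1 hx).1, rfl⟩
  · intro h S
    haveI : (Cfsg.pCore p G).Normal := Cfsg.Lib.Components.pCore_normal' p
    obtain ⟨T', hT'⟩ := (S.2.map N.subtype).exists_le_sylow
    have h1 : (S : Subgroup N) = (Cfsg.pCore p G).subgroupOf N :=
      (S.3 ((Cfsg.Lib.Components.isPGroup_pCore p).comap_subtype) fun s hs =>
        inf_le_pCore_all h T' (mem_inf.mpr ⟨hT' ⟨s, hs, rfl⟩, s.2⟩)).symm
    rw [h1]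
    exact normal_subgroupOf

theorem isPClosed_top_iff (T : Sylow p G) : Cfsg.IsPClosed p G ↔ (T : Subgroup G) ≤ Cfsg.pCore p G := by
  constructor
  · intro h
    haveI := h T
    exact le_pCore' T.2
  · intro h S
    haveI : (Cfsg.pCore p G).Normal := Cfsg.Lib.Components.pCore_normal' p
    have h1 := inf_le_pCore_all (N := (⊤ : Subgroup G)) (by rwa [inf_top_eq]) S
    rw [inf_top_eq] at h1
    rw [le_antisymm h1 (Cfsg.Lib.Coprime.pCore_le_sylow p S)]
    infer_instance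

/-- a `p'`-element of `C ⊔ Y`, `Y` a `p`-group normalizing `C`, lies in `C` -/
theorem coprime_mem {C Y : Subgroup G} (hY : IsPGroup p Y) (hYC : Y ≤ normalizer (C : Set G)) {x : G}
    (hx : x ∈ C ⊔ Y) (hco : (orderOf x).Coprime p) : x ∈ C := by
  have hCM : C ≤ C ⊔ Y := le_sup_left
  haveI : (C.subgroupOf (C ⊔ Y)).Normal := normal_subgroupOf_of_le_normalizer (sup_le le_normalizer hYC)
  refine (Cfsg.Lib.Transfer.mem_of_isPGroup_quotient_of_coprime (p := p) (C.subgroupOf (C ⊔ Y)) ?_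
    (x := ⟨x, hx⟩) (by rwa [← Subgroup.orderOf_coe]) :)
  have h : (Y.subgroupOf (C ⊔ Y)).map (QuotientGroup.mk' (C.subgroupOf (C ⊔ Y))) = ⊤ := by
    rw [eq_top_iff]
    rintro q -
    obtain ⟨⟨m, hm⟩, rfl⟩ := QuotientGroup.mk'_surjective _ q
    obtain ⟨c, hc, y, hy, rfl⟩ := (Cfsg.Lib.Coprime.mem_sup_of_le_normalizer hYC).1 hm
    refine ⟨⟨y, mem_sup_right hy⟩, hy, ?_⟩
    show QuotientGroup.mk' (C.subgroupOf (C ⊔ Y)) ⟨y, mem_sup_right hy⟩ =
      QuotientGroup.mk' (C.subgroupOf (C ⊔ Y)) ((⟨c, mem_sup_left hc⟩ : ↥(C ⊔ Y)) * ⟨y, mem_sup_right hy⟩)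
    rw [map_mul, show QuotientGroup.mk' (C.subgroupOf (C ⊔ Y)) ⟨c, mem_sup_left hc⟩ = 1 from
      (QuotientGroup.eq_one_iff _).2 hc, one_mul]
  intro q
  obtain ⟨k, hk⟩ := (hY.comap_subtype (K := C ⊔ Y)).map (QuotientGroup.mk' (C.subgroupOf (C ⊔ Y))) ⟨q, h.ge (mem_top q)⟩
  exact ⟨k, congrArg Subtype.val hk⟩

theorem pResidual_le_of_le_sup {N Y : Subgroup G} [N.Normal] (hY : IsPGroup p Y)
    (h : Cfsg.pResidual p G ≤ N ⊔ Y) : Cfsg.pResidual p G ≤ N :=
  (closure_le N).2 fun _ hx => coprime_mem hY ((normalizer_eq_top_iff.2 inferInstance).ge.trans' le_top)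
    (h (Cfsg.Lib.Transfer.mem_pResidual_of_coprime hx)) hx

theorem map_pCore_quotient (D : Subgroup G) [D.Normal] (hD : IsPGroup p D) :
    (Cfsg.pCore p G).map (QuotientGroup.mk' D) = Cfsg.pCore p (G ⧸ D) := by
  haveI : (Cfsg.pCore p G).Normal := Cfsg.Lib.Components.pCore_normal' p
  haveI : (Cfsg.pCore p (G ⧸ D)).Normal := Cfsg.Lib.Components.pCore_normal' p
  refine le_antisymm ?_ ?_
  · haveI : ((Cfsg.pCore p G).map (QuotientGroup.mk' D)).Normal :=
      Normal.map inferInstance _ (QuotientGroup.mk'_surjective D)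
    exact le_pCore' ((Cfsg.Lib.Components.isPGroup_pCore p).map _)
  · rw [← map_comap_eq_self_of_surjective (QuotientGroup.mk'_surjective D) (Cfsg.pCore p (G ⧸ D))]
    refine map_mono (le_pCore' ?_)
    exact (Cfsg.Lib.Components.isPGroup_pCore p).comap_of_ker_isPGroup _ (by rwa [QuotientGroup.ker_mk'])

theorem map_pResidual_quotient (D : Subgroup G) [D.Normal] :
    (Cfsg.pResidual p G).map (QuotientGroup.mk' D) = Cfsg.pResidual p (G ⧸ D) := by
  refine le_antisymm (Cfsg.Lib.Transfer.pResidual_map_le _) ?_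
  set R := Cfsg.pResidual p G
  set M := R.map (QuotientGroup.mk' D)
  haveI : M.Normal := Normal.map inferInstance _ (QuotientGroup.mk'_surjective D)
  refine Cfsg.Lib.Transfer.pResidual_le (p := p) ?_
  intro q
  obtain ⟨y, rfl⟩ := QuotientGroup.mk'_surjective M q
  obtain ⟨g, rfl⟩ := QuotientGroup.mk'_surjective D y
  obtain ⟨k, hk⟩ := Cfsg.Lib.Transfer.isPGroup_quotient_pResidual (p := p) (g : G ⧸ R)
  refine ⟨k, ?_⟩
  rw [← map_pow, ← map_pow]
  rw [← QuotientGroup.mk_pow, QuotientGroup.eq_one_iff] at hk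
  exact (QuotientGroup.eq_one_iff _).2 ⟨_, hk, rfl⟩

theorem quotient_iff (D : Subgroup G) [D.Normal] (hD : IsPGroup p D) :
    (Cfsg.IsPIrreducible p G ↔ Cfsg.IsPIrreducible p (G ⧸ D)) ∧
      (Cfsg.IsStronglyPIrreducible p G ↔ Cfsg.IsStronglyPIrreducible p (G ⧸ D)) := by
  set π := QuotientGroup.mk' D
  have hπ : Function.Surjective π := QuotientGroup.mk'_surjective D
  haveI : (Cfsg.pCore p G).Normal := Cfsg.Lib.Components.pCore_normal' p
  have hDQ : D ≤ Cfsg.pCore p G := le_pCore' hD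
  have hQ := map_pCore_quotient D hD
  have hQ' : (Cfsg.pCore p (G ⧸ D)).comap π = Cfsg.pCore p G := by
    rw [← hQ, comap_map_eq, QuotientGroup.ker_mk', sup_eq_left.2 hDQ]
  have hR := map_pResidual_quotient (p := p) D
  obtain ⟨T⟩ : Nonempty (Sylow p G) := inferInstance
  let T' : Sylow p (G ⧸ D) := T.mapSurjective hπ
  have hT' : (T' : Subgroup (G ⧸ D)) = (T : Subgroup G).map π := rfl
  have hDT : D ≤ (T : Subgroup G) := hDQ.trans (Cfsg.Lib.Coprime.pCore_le_sylow p T)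
  have hcl : Cfsg.IsPClosed p G ↔ Cfsg.IsPClosed p (G ⧸ D) := by
    rw [isPClosed_top_iff T, isPClosed_top_iff T', hT', map_le_iff_le_comap, hQ']
  have back : ∀ N : Subgroup G, N.Normal → Cfsg.pResidual p (G ⧸ D) ≤ N.map π → Cfsg.pResidual p G ≤ N := by
    intro N hN h
    rw [← hR, map_le_iff_le_comap, comap_map_eq, QuotientGroup.ker_mk'] at h
    haveI := hN
    exact pResidual_le_of_le_sup hD h
  have fwd : ∀ N : Subgroup (G ⧸ D), Cfsg.pResidual p G ≤ N.comap π → Cfsg.pResidual p (G ⧸ D) ≤ N := fun N h => by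
    rwa [← hR, map_le_iff_le_comap]
  refine ⟨and_congr (not_congr hcl) ⟨fun h N hN hn => ?_, fun h N hN hn => ?_⟩,
    and_congr (not_congr hcl) ⟨fun h N hN hn => ?_, fun h N hN hn => ?_⟩⟩
  · haveI := hN
    refine fwd N (h _ inferInstance fun hc => hn ?_)
    rw [isPClosed_iff T', hT']
    intro x hx
    obtain ⟨⟨t, ht, rfl⟩, hxN⟩ := mem_inf.1 hx
    exact hQ.le ⟨t, (isPClosed_iff T).1 hc (mem_inf.mpr ⟨ht, hxN⟩), rfl⟩
  · haveI := hN
    haveI : (N.map π).Normal := Normal.map inferInstance _ hπ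
    refine back N hN (h _ inferInstance fun hc => hn ?_)
    rw [isPClosed_iff T]
    intro x hx
    rw [← hQ', mem_comap]
    exact (isPClosed_iff T').1 hc (mem_inf.mpr ⟨hT' ▸ ⟨x, (mem_inf.1 hx).1, rfl⟩, ⟨x, (mem_inf.1 hx).2, rfl⟩⟩)
  · haveI := hN
    refine fwd N (h _ inferInstance fun hc => hn ?_)
    have := map_mono (f := π) hc
    rwa [Subgroup.map_commutator, map_comap_eq_self_of_surjective hπ, map_top_of_surjective π hπ, hQ] at this
  · haveI := hN
    refine back N hN (h _ (Normal.map inferInstance _ hπ) fun hc => hn ?_)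
    rw [← hQ', ← map_le_iff_le_comap, Subgroup.map_commutator, map_top_of_surjective π hπ]
    exact hc

theorem commutator_normalized (R Y : Subgroup G) : R ≤ normalizer ((⁅R, Y⁆ : Subgroup G) : Set G) := by
  intro r hr
  have h : ∀ r ∈ R, ∀ c ∈ ⁅R, Y⁆, r * c * r⁻¹ ∈ ⁅R, Y⁆ := by
    intro r hr c hc
    refine (show ⁅R, Y⁆ ≤ (⁅R, Y⁆).comap (MulAut.conj r).toMonoidHom from commutator_le.2 fun a ha b hb => ?_) hc
    show r * ⁅a, b⁆ * r⁻¹ ∈ ⁅R, Y⁆
    rw [show r * ⁅a, b⁆ * r⁻¹ = ⁅r * a, b⁆ * ⁅r, b⁆⁻¹ by simp only [commutatorElement_def]; group]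
    exact mul_mem (commutator_mem_commutator (mul_mem hr ha) hb) (inv_mem (commutator_mem_commutator hr hb))
  refine mem_normalizer_iff.2 fun c => ⟨h r hr c, fun hc => ?_⟩
  simpa [mul_assoc] using h r⁻¹ (inv_mem hr) _ hc

theorem structure_thm (hH : Cfsg.IsPIrreducible p G) (T : Sylow p G) :
    normalClosure ((T : Subgroup G) : Set G) = ⊤ ∧ commutator G ⊔ (T : Subgroup G) = ⊤ ∧
      Cfsg.pResidual p G ≤ commutator G ∧
      ∀ Y : Subgroup G, Y ≤ (T : Subgroup G) → (T : Subgroup G) ≤ normalizer (Y : Set G) → ¬ Y ≤ Cfsg.pCore p G →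
        ⁅Cfsg.pResidual p G, Y⁆ = Cfsg.pResidual p G ∧ Cfsg.pResidual p G ≤ normalClosure (Y : Set G) := by
  set R := Cfsg.pResidual p G
  have hcl : ∀ N : Subgroup G, N.Normal → ∀ Y : Subgroup G, Y ≤ N → Y ≤ (T : Subgroup G) → ¬ Y ≤ Cfsg.pCore p G →
      R ≤ N := by
    intro N hN Y hYN hYT hY
    haveI := hN
    exact hH.2 N hN fun hc => hY ((le_inf hYT hYN).trans ((isPClosed_iff T).1 hc))
  have hT : ¬ (T : Subgroup G) ≤ Cfsg.pCore p G := fun h => hH.1 ((isPClosed_top_iff T).2 h)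
  have h1 : normalClosure ((T : Subgroup G) : Set G) = ⊤ := by
    rw [eq_top_iff, ← Cfsg.Lib.Transfer.pResidual_sup_sylow T]
    exact sup_le (hcl _ normalClosure_normal _ subset_normalClosure le_rfl hT) subset_normalClosure
  have h2 : commutator G ⊔ (T : Subgroup G) = ⊤ := by
    haveI : (commutator G ⊔ (T : Subgroup G)).Normal := ⟨fun x hx g => by
      rw [show g * x * g⁻¹ = ⁅g, x⁆ * x by rw [commutatorElement_def]; group]
      exact mul_mem (mem_sup_left (commutator_mem_commutator (mem_top g) (mem_top x))) hx⟩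
    rw [eq_top_iff, ← h1]
    exact normalClosure_le_normal (SetLike.coe_subset_coe.mpr le_sup_right)
  refine ⟨h1, h2, pResidual_le_of_le_sup T.2 (h2 ▸ le_top), fun Y hYT hTY hY => ?_⟩
  have h4 := hcl _ normalClosure_normal Y subset_normalClosure hYT hY
  refine ⟨le_antisymm (commutator_le_left R Y) ?_, h4⟩
  set C := ⁅R, Y⁆
  have hRC : R ≤ normalizer (C : Set G) := commutator_normalized R Y
  have hYC : Y ≤ normalizer (C : Set G) := by
    have := commutator_normalized Y R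
    rwa [commutator_comm] at this
  haveI : (C ⊔ Y).Normal := by
    refine normalizer_eq_top_iff.1 (top_le_iff.1 ?_)
    rw [← Cfsg.Lib.Transfer.pResidual_sup_sylow T]
    suffices h : ∀ g : G, (g ∈ R ∨ g ∈ (T : Subgroup G)) → ∀ x ∈ C ⊔ Y, g * x * g⁻¹ ∈ C ⊔ Y by
      refine sup_le (fun g hg => ?_) fun g hg => ?_ <;>
        refine mem_normalizer_iff.2 fun x => ⟨h g (by tauto) x, fun hx => ?_⟩
      · simpa [mul_assoc] using h g⁻¹ (Or.inl (inv_mem hg)) _ hx
      · simpa [mul_assoc] using h g⁻¹ (Or.inr ((T : Subgroup G).inv_mem hg)) _ hx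
    intro g hg x hx
    refine (show C ⊔ Y ≤ (C ⊔ Y).comap (MulAut.conj g).toMonoidHom from sup_le (fun c hc => ?_) fun y hy => ?_) hx
    · refine mem_sup_left ?_
      rcases hg with hg | hg
      · exact (mem_normalizer_iff.1 (hRC hg) c).1 hc
      · refine (?_ : C.map (MulAut.conj g).toMonoidHom ≤ C) ⟨c, hc, rfl⟩
        show (⁅R, Y⁆).map _ ≤ _
        rw [Subgroup.map_commutator]
        refine commutator_mono ?_ ?_
        · rintro _ ⟨r, hr, rfl⟩
          exact (inferInstance : R.Normal).conj_mem r hr g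
        · rintro _ ⟨y, hy, rfl⟩
          exact (mem_normalizer_iff.1 (hTY hg) y).1 hy
    · rcases hg with hg | hg
      · show g * y * g⁻¹ ∈ C ⊔ Y
        rw [show g * y * g⁻¹ = ⁅g, y⁆ * y by rw [commutatorElement_def]; group]
        exact mul_mem (mem_sup_left (commutator_mem_commutator hg hy)) (mem_sup_right hy)
      · exact mem_sup_right ((mem_normalizer_iff.1 (hTY hg) y).1 hy)
  refine (closure_le C).2 fun x hx => coprime_mem (T.2.to_le hYT) hYC ?_ hx
  exact (normalClosure_le_normal (N := C ⊔ Y) (SetLike.coe_subset_coe.mpr le_sup_right)) (h4 (Cfsg.Lib.Transfer.mem_pResidual_of_coprime hx))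

end Cfsg.Lib.PIrr
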