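import Cfsg.Agent.Components.PxQ
import Cfsg.Agent.Components.ZJ.Functor
import Cfsg.Agent.Components.Misc.PIrr
import Cfsg.Agent.Components.Misc.Large
import Cfsg.Agent.OddLocal.RankTwo
import Cfsg.Agent.Thompson.Subgroup
import Cfsg.Prelude.Def_BaumannBlocks

/-!
Elementary properties of blocks relative to the Baumann subgroup.
-/

set_option linter.style.haveILetI false
set_option linter.unusedSectionVars false

namespace Cfsg.Lib.BlockBasic

open Subgroup
open scoped commutatorElement

universe u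

variable {G : Type u} [Group G] [Finite G] {p : ℕ} [hp : Fact p.Prime]

theorem closure_coprime_elements {E : Subgroup G} (hE : Cfsg.pResidualOf p E = E) :
    closure {g : G | g ∈ E ∧ (orderOf g).Coprime p} = E := by
  refine le_antisymm ((closure_le E).2 fun g hg => hg.1) ?_
  conv_lhs => rw [← hE]
  rw [Cfsg.pResidualOf, Cfsg.pResidual, MonoidHom.map_closure]
  refine closure_mono ?_
  rintro _ ⟨g, hg, rfl⟩
  exact ⟨g.2, by rw [Subgroup.coe_subtype, Subgroup.orderOf_coe]; exact hg⟩

theorem map_baumannSubgroupOf (e : G ≃* G) (T : Subgroup G) :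
    (Cfsg.baumannSubgroupOf p T).map e.toMonoidHom = Cfsg.baumannSubgroupOf p (T.map e.toMonoidHom) := by
  rw [Cfsg.baumannSubgroupOf, Cfsg.baumannSubgroupOf, Subgroup.map_inf _ _ _ e.injective,
    Cfsg.Lib.ZJ.map_centralizer_equiv, Cfsg.Lib.ZJ.map_omegaOne,
    Cfsg.Lib.ZJ.map_centerThompsonOf]

theorem thompson_le_baumann (T : Subgroup G) :
    Cfsg.thompsonSubgroupOf p T ≤ Cfsg.baumannSubgroupOf p T := by
  refine le_inf (Cfsg.Lib.Thompson.thompsonSubgroupOf_le T) ?_
  rw [le_centralizer_iff]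
  exact (closure_le _).2 fun z hz => hz.1.2

/-- the Baumann subgroup is normal in every `p`-subgroup containing it -/
theorem le_normalizer_baumann (T : Sylow p G) {X : Subgroup G} (hX : IsPGroup p X)
    (hBX : Cfsg.baumannSubgroupOf p (T : Subgroup G) ≤ X) :
    X ≤ normalizer (Cfsg.baumannSubgroupOf p (T : Subgroup G) : Set G) := by
  obtain ⟨T', hT'⟩ := hX.exists_le_sylow
  obtain ⟨g, hg⟩ := MulAction.exists_smul_eq G T T'
  have hmap : (T : Subgroup G).map (MulAut.conj g).toMonoidHom = (T' : Subgroup G) := by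
    rw [← hg]; rfl
  set B := Cfsg.baumannSubgroupOf p (T : Subgroup G) with hB
  set J := Cfsg.thompsonSubgroupOf p (T : Subgroup G) with hJ
  have hJT' : J ≤ (T' : Subgroup G) := (thompson_le_baumann _).trans (hBX.trans hT')
  have hJeq : J = Cfsg.thompsonSubgroupOf p (T' : Subgroup G) := by
    have hle : J ≤ Cfsg.thompsonSubgroupOf p (T' : Subgroup G) := by
      rw [hJ, Cfsg.Lib.Thompson.thompsonSubgroupOf_eq, Cfsg.Lib.Thompson.thompsonSubgroupOf_eq]
      refine sSup_le fun A hA => le_sSup ⟨?_, hA.2.1, fun C hC hCe => ?_⟩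
      · refine le_trans ?_ hJT'
        rw [hJ, Cfsg.Lib.Thompson.thompsonSubgroupOf_eq]
        exact le_sSup hA
      · rw [← hmap] at hC
        have h := hA.2.2 (C.map (MulAut.conj g).symm.toMonoidHom) ?_
          ((Cfsg.Lib.Thompson.isElementaryAbelian_map_iff (MulAut.conj g).symm.injective.injOn).2 hCe)
        · rwa [Cfsg.Lib.Thompson.card_map_of_injOn (MulAut.conj g).symm.injective.injOn] at h
        · refine (Subgroup.map_mono hC).trans ?_
          rw [map_map]
          rintro _ ⟨y, hy, rfl⟩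
          have e1 : ((MulAut.conj g).symm.toMonoidHom.comp (MulAut.conj g).toMonoidHom) y = y := by
            simp [mul_assoc]
          rw [e1]; exact hy
    refine Subgroup.eq_of_le_of_card_ge hle ?_
    rw [← hmap, ← Cfsg.Lib.Thompson.map_thompsonSubgroupOf (MulAut.conj g).injective.injOn,
      Cfsg.Lib.Thompson.card_map_of_injOn (MulAut.conj g).injective.injOn]
  have hBeq : B = Cfsg.baumannSubgroupOf p (T' : Subgroup G) := by
    refine Subgroup.eq_of_le_of_card_ge ?_ ?_
    · refine le_inf (hBX.trans hT') ?_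
      have hJZ : Cfsg.centerThompsonOf p (T' : Subgroup G) = Cfsg.centerThompsonOf p (T : Subgroup G) := by
        rw [Cfsg.centerThompsonOf, Cfsg.centerThompsonOf, ← hJeq]
      rw [hJZ]
      exact inf_le_right
    · rw [← hmap, ← map_baumannSubgroupOf,
        Cfsg.Lib.Thompson.card_map_of_injOn (MulAut.conj g).injective.injOn]
  intro x hx
  rw [mem_normalizer_iff_map_conj_eq]
  show B.map (MulAut.conj x).toMonoidHom = B
  rw [hBeq, map_baumannSubgroupOf]
  congr 1
  exact mem_normalizer_iff_map_conj_eq.1 (le_normalizer (hT' hx))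

theorem baumann_le_normalizer {T E : Subgroup G} (hE : ⁅E, Cfsg.baumannSubgroupOf p T⁆ = E) :
    Cfsg.baumannSubgroupOf p T ≤ normalizer (E : Set G) := by
  conv_rhs => rw [← hE]
  exact normalizer_commutator_ge_right E _

/-- `p`-subgroups normalized by `E` and `B(T)` normalize `E` -/
theorem le_normalizer_block (T : Sylow p G) {E : Subgroup G} (hres : Cfsg.pResidualOf p E = E)
    (hEB : ⁅E, Cfsg.baumannSubgroupOf p (T : Subgroup G)⁆ = E) {Q : Subgroup G} (hQ : IsPGroup p Q)
    (hBQ : Cfsg.baumannSubgroupOf p (T : Subgroup G) ≤ normalizer (Q : Set G))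
    (hEQ : E ≤ normalizer (Q : Set G)) : Q ≤ normalizer (E : Set G) := by
  set B := Cfsg.baumannSubgroupOf p (T : Subgroup G) with hB
  have hBE : B ≤ normalizer (E : Set G) := baumann_le_normalizer hEB
  have hBp : IsPGroup p B := T.2.to_le inf_le_left
  have hQB : Q ≤ normalizer (B : Set G) :=
    le_sup_left.trans (le_normalizer_baumann T (hQ.to_sup_of_normal_left' hBp hBQ) le_sup_right)
  have hcomm : ⁅Q, B⁆ ≤ Q ⊓ B := le_inf (le_normalizer_iff_commutator_le_left.mp hBQ)
    (by rw [commutator_comm]; exact le_normalizer_iff_commutator_le_left.mp hQB)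
  set Q1 := Q ⊓ normalizer (E : Set G) with hQ1
  have hstab : ∀ y, y ∈ normalizer (Q : Set G) → y ∈ normalizer (E : Set G) →
      y ∈ normalizer (Q1 : Set G) := by
    intro y hyQ hyE
    rw [mem_normalizer_iff]
    intro x
    rw [hQ1, mem_inf, mem_inf]
    refine and_congr (mem_normalizer_iff.1 hyQ x) ⟨fun h => mul_mem (mul_mem hyE h) (inv_mem hyE),
      fun h => ?_⟩
    have := mul_mem (mul_mem (inv_mem hyE) h) hyE
    simpa [mul_assoc] using this
  by_contra hcon
  have hne : Q1.subgroupOf Q ≠ ⊤ := fun h => hcon ((subgroupOf_eq_top.1 h).trans inf_le_right)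
  haveI := hQ.isNilpotent
  have hlt := normalizerCondition_of_isNilpotent (G := ↥Q) _ (lt_top_iff_ne_top.2 hne)
  obtain ⟨⟨x, hxQ⟩, hxN, hxQ1⟩ := SetLike.exists_of_lt hlt
  set Q2 := Q ⊓ normalizer (Q1 : Set G) with hQ2
  have hxQ2 : x ∈ Q2 := by
    refine mem_inf.2 ⟨hxQ, mem_normalizer_iff.2 fun y => ?_⟩
    have h := mem_normalizer_iff.1 hxN
    constructor
    · intro hy
      exact (h ⟨y, inf_le_left (a := Q) hy⟩).1 hy
    · intro hy
      have hyQ : y ∈ Q := by
        have := mul_mem (mul_mem (inv_mem hxQ) (inf_le_left (a := Q) hy)) hxQ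
        simpa [mul_assoc] using this
      exact (h ⟨y, hyQ⟩).2 hy
  -- the elements acting trivially on `Q2/Q1`
  let M : Subgroup G :=
    { carrier := {y | y ∈ normalizer (Q : Set G) ⊓ normalizer (E : Set G) ∧
        ∀ u ∈ Q2, y * u * y⁻¹ * u⁻¹ ∈ Q1}
      one_mem' := ⟨one_mem _, fun u _ => by simp⟩
      mul_mem' := by
        rintro a b ⟨ha, ha'⟩ ⟨hb, hb'⟩
        refine ⟨mul_mem ha hb, fun u hu => ?_⟩
        have h : a * b * u * (a * b)⁻¹ * u⁻¹
            = (a * (b * u * b⁻¹ * u⁻¹) * a⁻¹) * (a * u * a⁻¹ * u⁻¹) := by group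
        rw [h]
        exact mul_mem ((mem_normalizer_iff.1 (hstab a (mem_inf.1 ha).1 (mem_inf.1 ha).2) _).1
          (hb' u hu)) (ha' u hu)
      inv_mem' := by
        rintro a ⟨ha, ha'⟩
        refine ⟨inv_mem ha, fun u hu => ?_⟩
        have h : a⁻¹ * u * a⁻¹⁻¹ * u⁻¹ = a⁻¹ * (a * u * a⁻¹ * u⁻¹)⁻¹ * a⁻¹⁻¹ := by group
        rw [h]
        exact (mem_normalizer_iff.1 (hstab _ (mem_inf.1 (inv_mem ha)).1 (mem_inf.1 (inv_mem ha)).2) _).1
          (inv_mem (ha' u hu)) }
  have hQ2n : ∀ y, y ∈ normalizer (Q : Set G) → y ∈ normalizer (E : Set G) → ∀ u ∈ Q2,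
      y * u * y⁻¹ ∈ Q2 := by
    intro y hyQ hyE u hu
    have hy1 := hstab y hyQ hyE
    exact mem_inf.2 ⟨(mem_normalizer_iff.1 hyQ u).1 (mem_inf.1 hu).1,
      mul_mem (mul_mem hy1 (mem_inf.1 hu).2) (inv_mem hy1)⟩
  have hBM : B ≤ M := fun b hb => ⟨mem_inf.2 ⟨hBQ hb, hBE hb⟩, fun u hu => by
    have h : b * u * b⁻¹ * u⁻¹ ∈ Q ⊓ B := by
      have h' := inv_mem (hcomm (commutator_mem_commutator (mem_inf.1 hu).1 hb))
      rwa [commutatorElement_inv, commutatorElement_def] at h'
    exact mem_inf.2 ⟨(mem_inf.1 h).1, hBE (mem_inf.1 h).2⟩⟩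
  have hnormM : ∀ y, y ∈ normalizer (Q : Set G) → y ∈ normalizer (E : Set G) → ∀ m ∈ M,
      y * m * y⁻¹ ∈ M := by
    rintro y hyQ hyE m ⟨hm, hm'⟩
    refine ⟨mul_mem (mul_mem (mem_inf.2 ⟨hyQ, hyE⟩) hm) (inv_mem (mem_inf.2 ⟨hyQ, hyE⟩)), fun u hu => ?_⟩
    have hu' : y⁻¹ * u * y⁻¹⁻¹ ∈ Q2 := hQ2n _ (inv_mem hyQ) (inv_mem hyE) u hu
    have h : y * m * y⁻¹ * u * (y * m * y⁻¹)⁻¹ * u⁻¹
        = y * (m * (y⁻¹ * u * y⁻¹⁻¹) * m⁻¹ * (y⁻¹ * u * y⁻¹⁻¹)⁻¹) * y⁻¹ := by group
    rw [h]
    exact (mem_normalizer_iff.1 (hstab y hyQ hyE) _).1 (hm' _ hu')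
  have hEM : E ≤ M := by
    rw [← hEB, commutator_le]
    intro e he b hb
    rw [commutatorElement_def]
    exact mul_mem (hnormM e (hEQ he) (le_normalizer he) b (hBM hb)) (inv_mem (hBM hb))
  -- so `x` normalizes `E`
  apply hxQ1
  refine mem_inf.2 ⟨hxQ, ?_⟩
  rw [mem_normalizer_iff_map_conj_eq]
  refine Subgroup.eq_of_le_of_card_ge ?_
    (Cfsg.Lib.Thompson.card_map_of_injOn (MulAut.conj x).injective.injOn).ge
  conv_lhs => rw [← closure_coprime_elements hres]
  rw [MonoidHom.map_closure, closure_le]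
  rintro _ ⟨e, ⟨he, hco⟩, rfl⟩
  refine Cfsg.Lib.PIrr.coprime_mem (Y := Q1) (hQ.to_le inf_le_left) inf_le_right ?_ ?_
  · have h := (hEM he).2 x hxQ2
    show x * e * x⁻¹ ∈ E ⊔ Q1
    have hxe : x * e * x⁻¹ = (e * x * e⁻¹ * x⁻¹)⁻¹ * e := by group
    rw [hxe]
    exact mul_mem (mem_sup_right (inv_mem h)) (mem_sup_left he)
  · rwa [orderOf_injective _ (MulAut.conj x).injective]

/-! ### the natural modules -/

theorem sl2_invariant {F : Type*} [Field F] (M : AddSubgroup (Fin 2 → F))
    (h : ∀ g ∈ commutator (Matrix.SpecialLinearGroup (Fin 2) F), ∀ v ∈ M,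
      (g : Matrix (Fin 2) (Fin 2) F).mulVec v ∈ M) {v : Fin 2 → F} (hv : v ∈ M) (hv0 : v ≠ 0) :
    ∀ w, w ∈ M := by
  let t : F → Matrix.SpecialLinearGroup (Fin 2) F := fun a => ⟨!![1, a; 0, 1], by simp [Matrix.det_fin_two]⟩
  let s : F → Matrix.SpecialLinearGroup (Fin 2) F := fun a => ⟨!![1, 0; a, 1], by simp [Matrix.det_fin_two]⟩
  have hall : ∀ w : Fin 2 → F, (∀ a : F, ![a, 0] ∈ M) → (∀ a : F, ![0, a] ∈ M) → w ∈ M := by
    intro w h1 h2
    have e : w = ![w 0, 0] + ![0, w 1] := by
      funext i; fin_cases i <;> simp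
    rw [e]
    exact M.add_mem (h1 _) (h2 _)
  by_cases hbig : ∃ a : F, a ≠ 0 ∧ a * a ≠ 1
  · obtain ⟨a, ha, ha1⟩ := hbig
    let d : Matrix.SpecialLinearGroup (Fin 2) F := ⟨!![a, 0; 0, a⁻¹], by simp [Matrix.det_fin_two, ha]⟩
    have ht : ∀ r, t r ∈ commutator (Matrix.SpecialLinearGroup (Fin 2) F) := by
      intro r
      have e : t r = ⁅d, t (r / (a * a - 1))⁆ := by
        rw [commutatorElement_def, eq_mul_inv_iff_mul_eq, eq_mul_inv_iff_mul_eq]
        apply Subtype.ext
        rw [Matrix.SpecialLinearGroup.coe_mul, Matrix.SpecialLinearGroup.coe_mul,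
          Matrix.SpecialLinearGroup.coe_mul]
        simp only [t, d, Matrix.mul_fin_two]
        have hne := sub_ne_zero.2 ha1
        ext i j
        fin_cases i <;> fin_cases j <;> simp
        all_goals field_simp at hne ⊢
        all_goals ring
      rw [e, _root_.commutator_def]
      exact commutator_mem_commutator (mem_top _) (mem_top _)
    have hs : ∀ r, s r ∈ commutator (Matrix.SpecialLinearGroup (Fin 2) F) := by
      intro r
      have ha' : (1 : F) ≠ a * a := fun e => ha1 e.symm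
      have e : s r = ⁅d, s (r * a * a / (1 - a * a))⁆ := by
        rw [commutatorElement_def, eq_mul_inv_iff_mul_eq, eq_mul_inv_iff_mul_eq]
        apply Subtype.ext
        rw [Matrix.SpecialLinearGroup.coe_mul, Matrix.SpecialLinearGroup.coe_mul,
          Matrix.SpecialLinearGroup.coe_mul]
        simp only [s, d, Matrix.mul_fin_two]
        have hne := sub_ne_zero.2 ha'
        ext i j
        fin_cases i <;> fin_cases j <;> simp
        all_goals field_simp at hne ⊢
        all_goals ring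
      rw [e, _root_.commutator_def]
      exact commutator_mem_commutator (mem_top _) (mem_top _)
    have key1 : ∀ u ∈ M, ∀ r : F, ![r * u 1, 0] ∈ M := by
      intro u hu r
      have := M.sub_mem (h _ (ht r) u hu) hu
      convert this using 1
      funext i; fin_cases i <;> simp [t, Matrix.mulVec, dotProduct, Fin.sum_univ_two]
    have key2 : ∀ u ∈ M, ∀ r : F, ![0, r * u 0] ∈ M := by
      intro u hu r
      have := M.sub_mem (h _ (hs r) u hu) hu
      convert this using 1
      funext i; fin_cases i <;> simp [s, Matrix.mulVec, dotProduct, Fin.sum_univ_two]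
    intro w
    by_cases hv1 : v 1 = 0
    · have hv00 : v 0 ≠ 0 := fun e => hv0 (by funext i; fin_cases i <;> assumption)
      have h2 : ∀ c : F, ![0, c] ∈ M := fun c => by
        simpa [div_mul_cancel₀ _ hv00] using key2 v hv (c / v 0)
      exact hall w (fun c => by simpa using key1 _ (h2 1) c) h2
    · have h1 : ∀ c : F, ![c, 0] ∈ M := fun c => by
        simpa [div_mul_cancel₀ _ hv1] using key1 v hv (c / v 1)
      exact hall w h1 (fun c => by simpa using key2 _ (h1 1) c)
  · push Not at hbig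
    have hsmall : ∀ a : F, a = 0 ∨ a = 1 ∨ a = -1 := fun a => by
      by_cases ha : a = 0
      · exact Or.inl ha
      · exact Or.inr (mul_self_eq_one_iff.1 (hbig a ha))
    have h5 : (5 : F) ≠ 0 := by
      intro h5
      rcases hsmall 2 with h2 | h2 | h2
      · exact one_ne_zero (α := F) (by linear_combination h5 - 2 * h2)
      · exact one_ne_zero (α := F) (by linear_combination h2)
      · exact one_ne_zero (α := F) (by linear_combination 2 * h2 - h5)
    have hsc : ∀ (a : F) (u : Fin 2 → F), u ∈ M → a • u ∈ M := by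
      intro a u hu
      rcases hsmall a with rfl | rfl | rfl
      · rw [zero_smul]; exact M.zero_mem
      · rwa [one_smul]
      · rw [neg_smul, one_smul]; exact M.neg_mem hu
    have hD : v 0 * v 0 - 3 * v 0 * v 1 + v 1 * v 1 ≠ 0 := by
      intro hD
      rcases hsmall (v 0) with h0 | h0 | h0 <;> rcases hsmall (v 1) with h1 | h1 | h1 <;>
        rw [h0, h1] at hD <;>
        first
        | exact one_ne_zero (α := F) (by linear_combination hD)
        | exact one_ne_zero (α := F) (by linear_combination -hD)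
        | exact h5 (by linear_combination hD)
        | exact hv0 (funext fun i => by fin_cases i <;> simp [h0, h1])
    have hc : ⁅t 1, s 1⁆ ∈ commutator (Matrix.SpecialLinearGroup (Fin 2) F) := by
      rw [_root_.commutator_def]; exact commutator_mem_commutator (mem_top _) (mem_top _)
    have hv' : ![3 * v 0 - v 1, v 0] ∈ M := by
      have ec : ((⁅t 1, s 1⁆ : Matrix.SpecialLinearGroup (Fin 2) F) : Matrix (Fin 2) (Fin 2) F)
          = !![3, -1; 1, 0] := by
        rw [commutatorElement_def, Matrix.SpecialLinearGroup.coe_mul, Matrix.SpecialLinearGroup.coe_mul,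
          Matrix.SpecialLinearGroup.coe_mul, Matrix.SpecialLinearGroup.coe_inv,
          Matrix.SpecialLinearGroup.coe_inv]
        simp only [t, s, Matrix.adjugate_fin_two]
        ext i j
        fin_cases i <;> fin_cases j <;> simp [Matrix.mul_apply, Fin.sum_univ_two] <;> norm_num
      convert h _ hc v hv using 1
      rw [ec]
      funext i
      fin_cases i <;> simp [Matrix.mulVec, dotProduct, Fin.sum_univ_two] <;> ring
    intro w
    set D := v 0 * v 0 - 3 * v 0 * v 1 + v 1 * v 1 with hDdef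
    have e : w = ((w 0 * v 0 - w 1 * (3 * v 0 - v 1)) / D) • v
        + ((w 1 * v 0 - w 0 * v 1) / D) • ![3 * v 0 - v 1, v 0] := by
      funext i
      fin_cases i <;> simp <;> field_simp <;> rw [hDdef] <;> ring
    rw [e]
    exact M.add_mem (hsc _ _ hv) (hsc _ _ hv')

theorem sign_two_swaps {n : ℕ} {i j k : Fin n} (hij : i ≠ j) (hik : i ≠ k) :
    Equiv.swap i k * Equiv.swap i j ∈ alternatingGroup (Fin n) := by
  rw [Equiv.Perm.mem_alternatingGroup, map_mul, Equiv.Perm.sign_swap hik, Equiv.Perm.sign_swap hij]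
  rfl

theorem perm_invariant {m : ℕ} (M : AddSubgroup (Fin (2 * m + 1) → ZMod 2))
    (h : ∀ g ∈ alternatingGroup (Fin (2 * m + 1)), ∀ v ∈ M, (fun i => v (g⁻¹ i)) ∈ M)
    {v : Fin (2 * m + 1) → ZMod 2} (hv : v ∈ M) (hev : ∑ i, v i = 0) (hv0 : v ≠ 0) :
    ∀ w : Fin (2 * m + 1) → ZMod 2, ∑ i, w i = 0 → w ∈ M := by
  classical
  have z2 : ∀ a : ZMod 2, a = 0 ∨ a = 1 := by decide
  obtain ⟨i, hi⟩ : ∃ i, v i = 1 := by
    by_contra hcon
    push Not at hcon
    exact hv0 (funext fun i => (z2 (v i)).resolve_right (hcon i))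
  obtain ⟨j, hj⟩ : ∃ j, v j = 0 := by
    by_contra hcon
    push Not at hcon
    have hone : ∀ x, v x = 1 := fun x => (z2 (v x)).resolve_left (hcon x)
    rw [Finset.sum_congr rfl fun x _ => hone x, Finset.sum_const, Finset.card_univ, Fintype.card_fin,
      nsmul_one, Nat.cast_add, Nat.cast_mul] at hev
    simp [show (2 : ZMod 2) = 0 from by decide] at hev
  have hij : i ≠ j := fun e => by rw [e, hj] at hi; exact zero_ne_one hi
  have hm : 3 ≤ 2 * m + 1 := by
    rcases Nat.eq_zero_or_pos m with rfl | hm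
    · exact absurd (Subsingleton.elim (α := Fin 1) i j) hij
    · omega
  obtain ⟨k, hki, hkj⟩ : ∃ k, k ≠ i ∧ k ≠ j := by
    by_contra hcon
    push Not at hcon
    have hsub : (Finset.univ : Finset (Fin (2 * m + 1))) ⊆ {i, j} := fun x _ => by
      by_cases hx : x = i
      · simp [hx]
      · simp [hcon x hx]
    have := (Finset.card_le_card hsub).trans Finset.card_le_two
    rw [Finset.card_univ, Fintype.card_fin] at this
    omega
  let e : Fin (2 * m + 1) → Fin (2 * m + 1) → (Fin (2 * m + 1) → ZMod 2) :=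
    fun a b => Pi.single a 1 + Pi.single b 1
  -- an element of weight two
  have hij' : e i j ∈ M := by
    rcases z2 (v k) with hk | hk
    · have hg := sign_two_swaps (k := k) hij hki.symm
      convert M.add_mem hv (h _ hg v hv) using 1
      funext x
      simp only [e, Pi.add_apply, mul_inv_rev, Equiv.swap_inv, Equiv.Perm.mul_apply, Pi.single_apply,
        Equiv.swap_apply_def]
      by_cases hxi : x = i
      · subst hxi; simp [hij, hki, hkj, hki.symm, hi, hk, hij.symm, hj]
      by_cases hxj : x = j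
      · subst hxj; simp [hij, hki, hkj, hki.symm, hi, hk, hij.symm, hkj.symm, hj]
      by_cases hxk : x = k
      · subst hxk; simp [hij, hki, hkj, hki.symm, hi, hk, hij.symm, hkj.symm, hj]
      simp [hxi, hxj, hxk, CharTwo.add_self_eq_zero]
    · have hg := sign_two_swaps (i := j) (j := i) (k := k) hij.symm hkj.symm
      convert M.add_mem hv (h _ hg v hv) using 1
      funext x
      simp only [e, Pi.add_apply, mul_inv_rev, Equiv.swap_inv, Equiv.Perm.mul_apply, Pi.single_apply,
        Equiv.swap_apply_def]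
      by_cases hxi : x = i
      · subst hxi; simp [hij, hki, hkj, hki.symm, hi, hk, hij.symm, hj]
      by_cases hxj : x = j
      · subst hxj; simp [hij, hki, hkj, hki.symm, hi, hk, hij.symm, hkj.symm, hj]
      by_cases hxk : x = k
      · subst hxk; simp [hij, hki, hkj, hki.symm, hi, hk, hij.symm, hkj.symm, hj,
          CharTwo.add_self_eq_zero]
      simp [hxi, hxj, hxk, CharTwo.add_self_eq_zero]
  have hik : ∀ b, b ≠ i → e i b ∈ M := by
    intro b hbi
    by_cases hbj : b = j
    · exact hbj ▸ hij'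
    have hg := sign_two_swaps (k := b) hij (Ne.symm hbi)
    convert M.add_mem hij' (h _ hg _ hij') using 1
    funext x
    simp only [e, Pi.add_apply, mul_inv_rev, Equiv.swap_inv, Equiv.Perm.mul_apply, Pi.single_apply,
      Equiv.swap_apply_def]
    by_cases hxi : x = i
    · subst hxi; simp [hij, hij.symm, hbi, Ne.symm hbi, hbj, Ne.symm hbj]
    by_cases hxj : x = j
    · subst hxj; simp [hij, hij.symm, hbi, Ne.symm hbi, hbj, Ne.symm hbj, CharTwo.add_self_eq_zero]
    by_cases hxb : x = b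
    · subst hxb; simp [hij, hij.symm, hbi, Ne.symm hbi, hbj, Ne.symm hbj]
    simp [hxi, hxj, hxb]
  intro w hw
  have e1 : w = ∑ b, w b • e i b := by
    funext x
    simp only [Finset.sum_apply, Pi.smul_apply, smul_eq_mul, e, Pi.add_apply, mul_add,
      Finset.sum_add_distrib, ← Finset.sum_mul, hw, zero_mul, zero_add]
    simp [Pi.single_apply]
  rw [e1]
  refine M.sum_mem fun b _ => ?_
  rcases z2 (w b) with hb | hb
  · rw [hb, zero_smul]; exact M.zero_mem
  rw [hb, one_smul]
  by_cases hbi : b = i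
  · subst hbi
    convert M.zero_mem
    funext x
    exact CharTwo.add_self_eq_zero _
  · exact hik b hbi

/-- `W/Z` is a nontrivial irreducible module for a block -/
theorem block_module {T E : Subgroup G} (hE : Cfsg.IsBaumannBlock p T E)
    (W Z : Subgroup G) (hW : W = Cfsg.omegaOneCenter p (Cfsg.pCoreOf p E))
    (hZ : Z = W ⊓ centralizer (E : Set G)) :
    E ≤ normalizer (W : Set G) ∧
      (∀ M : Subgroup G, Z ≤ M → M ≤ W → (∀ e ∈ E, ∀ u ∈ M, e * u * e⁻¹ ∈ M) → M = Z ∨ M = W) ∧
      W ≠ Z := by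
  obtain ⟨hres, -, -, hne, hcase⟩ := hE
  rw [← hW, ← hZ] at hcase
  -- the subgroup of `W` as a subgroup of the module
  have mk : ∀ {A : Type} [AddCommGroup A] (ψ : ↥W →* Multiplicative A),
      (∀ u : ↥W, ψ u = 1 ↔ (u : G) ∈ Z) → ∀ M : Subgroup G, Z ≤ M → M ≤ W →
      (¬ M ≤ Z → ∃ a ∈ (Subgroup.toAddSubgroup' ((M.subgroupOf W).map ψ)), a ≠ 0) ∧
      ((∀ u : ↥W, Multiplicative.toAdd (ψ u) ∈ Subgroup.toAddSubgroup' ((M.subgroupOf W).map ψ)) → W ≤ M) := by
    intro A _ ψ hψ M hZM hMW
    constructor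
    · intro hnot
      obtain ⟨u, hu, huZ⟩ := SetLike.not_le_iff_exists.1 hnot
      exact ⟨Multiplicative.toAdd (ψ ⟨u, hMW hu⟩), ⟨⟨u, hMW hu⟩, hu, rfl⟩, fun e => huZ
        ((hψ ⟨u, hMW hu⟩).1 (Multiplicative.toAdd.injective e))⟩
    · intro hall w hw
      obtain ⟨m, hm, hme⟩ := hall ⟨w, hw⟩
      have h1 : ψ (m⁻¹ * ⟨w, hw⟩) = 1 := by
        rw [map_mul, map_inv, hme]
        exact inv_mul_cancel _
      have h2 : (m : G)⁻¹ * w ∈ Z := (hψ _).1 h1
      have h3 := M.mul_mem hm (hZM h2)
      have e : W.subtype m * ((m : G)⁻¹ * w) = w := mul_inv_cancel_left (m : G) w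
      exact e ▸ h3
  rcases hcase with ⟨F, _, _, n, hF, -, ⟨hEW, hZW, ρ, ψ, hρ, hψs, hψ, hact⟩, -⟩ |
    ⟨hp2, m, ⟨e⟩, ⟨hEW, hZW, ρ, ψ, hρ, hev, hψs, hψ, hact⟩, -⟩
  · refine ⟨hEW, fun M hZM hMW hinv => ?_, ?_⟩
    · obtain ⟨hA, hB⟩ := mk ψ hψ M hZM hMW
      by_cases hMZ : M ≤ Z
      · exact Or.inl (le_antisymm hMZ hZM)
      right
      refine le_antisymm hMW (hB fun u => ?_)
      obtain ⟨a, ha, ha0⟩ := hA hMZ
      refine sl2_invariant _ ?_ ha ha0 _
      intro g hg b hb
      rw [← hρ] at hg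
      obtain ⟨e', rfl⟩ := hg
      obtain ⟨u', hu', hb'⟩ := hb
      obtain ⟨w, hw1, hw2⟩ := hact e' u'
      refine ⟨w, ?_, ?_⟩
      · show (w : G) ∈ M
        rw [hw1]
        exact hinv _ e'.2 _ hu'
      · apply Multiplicative.toAdd.injective
        rw [hw2, hb']
        rfl
    · intro hWZ
      obtain ⟨u, hu⟩ := hψs (Multiplicative.ofAdd fun _ => (1 : F))
      rw [(hψ u).2 (hWZ ▸ u.2)] at hu
      exact one_ne_zero (congrFun (congrArg Multiplicative.toAdd hu).symm 0)
  · refine ⟨hEW, fun M hZM hMW hinv => ?_, ?_⟩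
    · obtain ⟨hA, hB⟩ := mk ψ hψ M hZM hMW
      by_cases hMZ : M ≤ Z
      · exact Or.inl (le_antisymm hMZ hZM)
      right
      refine le_antisymm hMW (hB fun u => ?_)
      obtain ⟨a, ha, ha0⟩ := hA hMZ
      have haev : ∑ i, a i = 0 := by
        obtain ⟨u', -, hu'⟩ := ha
        have := hev u'
        rwa [hu'] at this
      refine perm_invariant _ ?_ ha haev ha0 _ (hev u)
      intro g hg b hb
      rw [← hρ] at hg
      obtain ⟨e', rfl⟩ := hg
      obtain ⟨u', hu', hb'⟩ := hb
      obtain ⟨w, hw1, hw2⟩ := hact e' u'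
      refine ⟨w, ?_, ?_⟩
      · show (w : G) ∈ M
        rw [hw1]
        exact hinv _ e'.2 _ hu'
      · apply Multiplicative.toAdd.injective
        funext i
        rw [hw2 i, hb']
        rfl
    · intro hWZ
      rcases Nat.eq_zero_or_pos m with rfl | hm
      · -- `E` is a `p`-group
        apply hne
        haveI : Subsingleton (Fin (2 * 0 + 1)) := inferInstanceAs (Subsingleton (Fin 1))
        haveI : Subsingleton (Equiv.Perm (Fin (2 * 0 + 1))) := ⟨fun a b => Equiv.ext fun x => Subsingleton.elim _ _⟩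
        have hsub : Subsingleton (↥E ⧸ Cfsg.pCore p ↥E) :=
          e.toEquiv.subsingleton
        have htop : Cfsg.pCore p ↥E = ⊤ := QuotientGroup.subsingleton_iff.1 hsub
        have hEp : IsPGroup p ↥E := by
          have := Cfsg.Lib.Components.isPGroup_pCore (G := ↥E) p
          rw [htop] at this
          exact this.of_equiv Subgroup.topEquiv
        have hbot : E = ⊥ := by
          rw [← closure_coprime_elements hres, closure_eq_bot_iff]
          rintro g ⟨hg, hco⟩
          obtain ⟨k, hk⟩ := hEp ⟨g, hg⟩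
          rw [Set.mem_singleton_iff, ← orderOf_eq_one_iff]
          exact Nat.eq_one_of_dvd_coprimes ((Nat.coprime_comm.1 hco).pow_left k)
            (orderOf_dvd_of_pow_eq_one (congrArg Subtype.val hk)) dvd_rfl
        rw [hbot, commutator_bot_left]
      · obtain ⟨u, hu⟩ := hψs (Pi.single (0 : Fin (2 * m + 1)) 1 + Pi.single ⟨1, by omega⟩ 1) (by
          simp [Finset.sum_add_distrib, CharTwo.add_self_eq_zero])
        rw [(hψ u).2 (hWZ ▸ u.2)] at hu
        have h0 := congrFun hu 0
        simp [Pi.single_apply, Fin.ext_iff] at h0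

/-- the three properties -/
theorem block_props (hG : centralizer (Cfsg.pCore p G : Set G) ≤ Cfsg.pCore p G) (T : Sylow p G)
    {E : Subgroup G} (hE : Cfsg.IsBaumannBlock p (T : Subgroup G) E) :
    Cfsg.pResidualOf p (E ⊔ Cfsg.pCore p G) = E ∧
      ⁅Cfsg.omegaOneCenter p (Cfsg.pCoreOf p E), E⁆ ≤ Cfsg.omegaOneCenter p (Cfsg.pCore p G) ∧
      ⁅⁅Cfsg.omegaOneCenter p (Cfsg.pCoreOf p E), E⁆, Cfsg.thompsonSubgroupOf p (T : Subgroup G)⁆ ≠ ⊥ := by
  have hres := hE.1
  have hEB := hE.2.1
  set P := Cfsg.pCore p G with hP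
  haveI hPn : P.Normal := Cfsg.Lib.Components.pCore_normal' p
  have hPp : IsPGroup p P := Cfsg.Lib.Components.isPGroup_pCore p
  have hPE : P ≤ normalizer (E : Set G) :=
    le_normalizer_block T hres hEB hPp le_normalizer_of_normal le_normalizer_of_normal
  set B := Cfsg.baumannSubgroupOf p (T : Subgroup G) with hB
  set Qe := Cfsg.pCoreOf p E with hQe
  set W := Cfsg.omegaOneCenter p Qe with hW
  set Z := W ⊓ centralizer (E : Set G) with hZ
  have hQeE : Qe ≤ E := map_subtype_le _
  have hQep : IsPGroup p Qe := (Cfsg.Lib.Components.isPGroup_pCore p).map _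
  have hWQ : W ≤ Qe ⊓ centralizer (Qe : Set G) := (closure_le _).2 fun x hx => hx.1
  have hWab : ∀ a ∈ W, ∀ b ∈ W, Commute a b := fun a ha b hb =>
    mem_centralizer_iff.1 (mem_inf.1 (hWQ hb)).2 a (mem_inf.1 (hWQ ha)).1
  have hWp : ∀ w ∈ W, w ^ p = 1 := by
    intro w hw
    change w ∈ Subgroup.closure _ at hw
    induction hw using closure_induction with
    | mem y hy => exact hy.2
    | one => exact one_pow p
    | mul a b ha hb iha ihb => rw [(hWab a ha b hb).mul_pow, iha, ihb, one_mul]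
    | inv a _ ih => rw [inv_pow, ih, inv_one]
  obtain ⟨hEW, hirr, hWZ⟩ := block_module hE W Z rfl rfl
  have hPQe : P ≤ normalizer (Qe : Set G) :=
    hPE.trans (Cfsg.Lib.Large.normalizer_pCoreOf_le E)
  have hPW : P ≤ normalizer (W : Set G) := by
    intro x hx
    rw [mem_normalizer_iff_map_conj_eq]
    show W.map (MulAut.conj x).toMonoidHom = W
    rw [hW, Cfsg.omegaOneCenter, Cfsg.Lib.ZJ.map_omegaOne, Subgroup.map_inf _ _ _ (MulAut.conj x).injective,
      Cfsg.Lib.ZJ.map_centralizer_equiv,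
      show Qe.map (MulAut.conj x).toMonoidHom = Qe from mem_normalizer_iff_map_conj_eq.1 (hPQe hx)]
  have hEP : ⁅E, P⁆ ≤ Qe := by
    refine le_trans ?_ (Cfsg.Lib.Large.le_pCoreOf (inf_le_left : E ⊓ P ≤ E) (hPp.to_le inf_le_right) ?_)
    · exact le_inf (le_normalizer_iff_commutator_le_left.mp hPE)
        (le_normalizer_iff_commutator_le_left.mp (le_normalizer_of_normal : E ≤ normalizer (P : Set G)) |> fun h => by rwa [commutator_comm] at h)
    · intro x hx
      rw [mem_normalizer_iff]
      intro y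
      rw [mem_inf, mem_inf]
      exact and_congr (mem_normalizer_iff.1 (le_normalizer hx) y)
        (mem_normalizer_iff.1 (le_normalizer_of_normal (mem_top x)) y)
  have hW1W : ⁅W, E⁆ ≤ W := le_normalizer_iff_commutator_le_left.mp hEW
  -- (2)
  have hWP : ⁅W, P⁆ ≤ Z := by
    have hPZ : P ≤ normalizer (Z : Set G) := fun x hx => by
      rw [mem_normalizer_iff_map_conj_eq]
      show Z.map (MulAut.conj x).toMonoidHom = Z
      rw [hZ, Subgroup.map_inf _ _ _ (MulAut.conj x).injective,
        Cfsg.Lib.ZJ.map_centralizer_equiv,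
        show W.map (MulAut.conj x).toMonoidHom = W from mem_normalizer_iff_map_conj_eq.1 (hPW hx),
        show E.map (MulAut.conj x).toMonoidHom = E from mem_normalizer_iff_map_conj_eq.1 (hPE hx)]
    set N := ⁅W, P⁆ ⊔ Z with hN
    have hNW : N ≤ W := sup_le (le_normalizer_iff_commutator_le_left.mp hPW) inf_le_left
    have hinv : ∀ e ∈ E, ∀ u ∈ N, e * u * e⁻¹ ∈ N := by
      intro e he
      have h : N ≤ N.comap (MulAut.conj e).toMonoidHom := by
        refine sup_le ?_ fun z hz => ?_
        · rw [commutator_le]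
          intro w hw x hx
          show e * ⁅w, x⁆ * e⁻¹ ∈ N
          have hc : x⁻¹ * (e * x * e⁻¹) ∈ Qe := by
            have h1 := hEP (commutator_mem_commutator he hx)
            rw [commutatorElement_def] at h1
            have h2 := (mem_normalizer_iff.1 (hPQe (inv_mem hx)) _).1 h1
            simpa [mul_assoc] using h2
          have hw' : e * w * e⁻¹ ∈ W := (mem_normalizer_iff.1 (hEW he) w).1 hw
          set c := x⁻¹ * (e * x * e⁻¹) with hcdef
          have hcw : Commute c (e * w * e⁻¹) :=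
            mem_centralizer_iff.1 (mem_inf.1 (hWQ hw')).2 c hc
          have e1 : e * ⁅w, x⁆ * e⁻¹ = ⁅e * w * e⁻¹, x⁆ := by
            have e2 : e * x * e⁻¹ = x * c := by rw [hcdef]; group
            calc e * ⁅w, x⁆ * e⁻¹ = (e * w * e⁻¹) * (e * x * e⁻¹) * (e * w * e⁻¹)⁻¹ * (e * x * e⁻¹)⁻¹ := by
                  rw [commutatorElement_def]; group
              _ = (e * w * e⁻¹) * x * (c * (e * w * e⁻¹)⁻¹) * c⁻¹ * x⁻¹ := by rw [e2]; group
              _ = (e * w * e⁻¹) * x * ((e * w * e⁻¹)⁻¹ * c) * c⁻¹ * x⁻¹ := by rw [hcw.inv_right.eq]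
              _ = ⁅e * w * e⁻¹, x⁆ := by rw [commutatorElement_def]; group
          rw [e1]
          exact mem_sup_left (commutator_mem_commutator hw' hx)
        · show e * z * e⁻¹ ∈ N
          have hce : e * z = z * e := mem_centralizer_iff.1 (mem_inf.1 hz).2 e he
          rw [hce, mul_inv_cancel_right]
          exact mem_sup_right hz
      exact fun u hu => h hu
    rcases hirr N le_sup_right hNW hinv with h | h
    · exact le_sup_left.trans h.le
    exfalso
    apply hWZ
    refine le_antisymm ?_ inf_le_left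
    have hWpg : IsPGroup p W := hQep.to_le (hWQ.trans inf_le_left)
    set S := W ⊔ P with hS
    have hWn : S ≤ normalizer (Z : Set G) := sup_le
      (fun w hw => by
        rw [mem_normalizer_iff]
        intro y
        constructor
        · intro hy
          rwa [(hWab w hw y (mem_inf.1 hy).1).eq, mul_inv_cancel_right]
        · intro hy
          have hyW : y ∈ W := by
            have := W.mul_mem (W.mul_mem (W.inv_mem hw) (mem_inf.1 hy).1) hw
            simpa [mul_assoc] using this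
          rwa [(hWab w hw y hyW).eq, mul_inv_cancel_right] at hy) hPZ
    haveI : (Z.subgroupOf S).Normal := normal_subgroupOf_of_le_normalizer hWn
    set π := QuotientGroup.mk' (Z.subgroupOf S)
    have heq : ⁅(W.subgroupOf S).map π, (P.subgroupOf S).map π⁆ = (W.subgroupOf S).map π := by
      have hsub : ⁅W, P⁆.subgroupOf S = ⁅W.subgroupOf S, P.subgroupOf S⁆ := by
        apply Subgroup.map_injective S.subtype_injective
        rw [map_commutator, map_subgroupOf_eq_of_le le_sup_left, map_subgroupOf_eq_of_le le_sup_right,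
          map_subgroupOf_eq_of_le ((le_normalizer_iff_commutator_le_left.mp hPW).trans le_sup_left)]
      have h' : W.subgroupOf S = ⁅W, P⁆.subgroupOf S ⊔ Z.subgroupOf S := by
        rw [← subgroupOf_sup ((le_normalizer_iff_commutator_le_left.mp hPW).trans le_sup_left)
          ((inf_le_left : Z ≤ W).trans le_sup_left), ← hN, h]
      rw [← map_commutator]
      conv_rhs => rw [h', Subgroup.map_sup, QuotientGroup.map_mk'_self, sup_bot_eq, hsub]
    by_contra hWZle
    have hne' : (W.subgroupOf S).map π ≠ ⊥ := by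
      rw [Ne, Subgroup.map_eq_bot_iff, QuotientGroup.ker_mk']
      intro hle
      exact hWZle fun w hw => hle (x := ⟨w, mem_sup_left hw⟩) hw
    exact (Cfsg.Lib.Components.commutator_pGroup_lt ((hWpg.comap_subtype).map π) ((hPp.comap_subtype).map π)
      ((Subgroup.map_mono (show P.subgroupOf S ≤ normalizer ((W.subgroupOf S : Subgroup ↥S) : Set ↥S) from
        fun x hx => mem_normalizer_iff.2 fun y => mem_normalizer_iff.1 (hPW hx) (y : G))).trans
        (le_normalizer_map π)) hne').ne heq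
  have hWEP : ⁅⁅E, W⁆, P⁆ = ⊥ := by
    refine commutator_commutator_eq_bot_of_rotate ?_ ?_
    · rw [← le_bot_iff]
      refine (commutator_mono hWP le_rfl).trans (le_of_eq ?_)
      rw [commutator_eq_bot_iff_le_centralizer]
      exact inf_le_right
    · rw [← le_bot_iff]
      refine (commutator_mono (show ⁅P, E⁆ ≤ Qe by rw [commutator_comm]; exact hEP) le_rfl).trans (le_of_eq ?_)
      rw [commutator_eq_bot_iff_le_centralizer, le_centralizer_iff]
      exact hWQ.trans inf_le_right
  have hW1P : ⁅W, E⁆ ≤ P ⊓ centralizer (P : Set G) := by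
    have h : ⁅W, E⁆ ≤ centralizer (P : Set G) := by
      rw [← commutator_eq_bot_iff_le_centralizer, commutator_comm W E]; exact hWEP
    exact le_inf (h.trans hG) h
  refine ⟨?_, fun x hx => subset_closure ⟨hW1P hx, hWp x (hW1W hx)⟩, ?_⟩
  · refine le_antisymm ?_ ?_
    · rw [Cfsg.pResidualOf, Cfsg.pResidual, MonoidHom.map_closure, closure_le]
      rintro _ ⟨g, hg, rfl⟩
      exact Cfsg.Lib.PIrr.coprime_mem hPp hPE g.2
        (by rw [Subgroup.coe_subtype, Subgroup.orderOf_coe]; exact hg)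
    · conv_lhs => rw [← hres]
      rw [Cfsg.pResidualOf, Cfsg.pResidual, MonoidHom.map_closure, closure_le]
      rintro _ ⟨g, hg, rfl⟩
      refine ⟨⟨g, mem_sup_left g.2⟩, subset_closure ?_, rfl⟩
      show (orderOf (⟨(g : G), _⟩ : ↥(E ⊔ P))).Coprime p
      rw [Subgroup.orderOf_mk, Subgroup.orderOf_coe]
      exact hg
  · intro hJ
    set W1 := ⁅W, E⁆ with hW1
    have hW1J : ∀ u ∈ W1, u ∈ Cfsg.omegaOne p (Cfsg.centerThompsonOf p (T : Subgroup G)) := by
      intro u hu
      have hcomm : ∀ a ∈ Cfsg.thompsonSubgroupOf p (T : Subgroup G), a * u = u * a := fun a ha =>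
        mem_centralizer_iff.1 (commutator_eq_bot_iff_le_centralizer.1 hJ hu) a ha
      obtain ⟨A, hA⟩ := Cfsg.Lib.Thompson.exists_isMaxElem (p := p) (T : Subgroup G)
      have hAJ : A ≤ Cfsg.thompsonSubgroupOf p (T : Subgroup G) := by
        rw [Cfsg.Lib.Thompson.thompsonSubgroupOf_eq]; exact le_sSup hA
      have huT : u ∈ (T : Subgroup G) :=
        (hPp.le_sylow_of_normal T) (mem_inf.1 (hW1P hu)).1
      have hel := Cfsg.Lib.OddP.isElementaryAbelian_sup_zpowers hA.2.1 (hWp u (hW1W hu))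
        fun a ha => hcomm a (hAJ ha)
      have heq : A = A ⊔ zpowers u := Subgroup.eq_of_le_of_card_ge le_sup_left
        (hA.2.2 _ (sup_le hA.1 (zpowers_le.2 huT)) hel)
      refine subset_closure ⟨mem_inf.2 ⟨hAJ (heq.ge (mem_sup_right (mem_zpowers u))),
        mem_centralizer_iff.2 hcomm⟩, hWp u (hW1W hu)⟩
    have hBW1 : B ≤ centralizer (W1 : Set G) := inf_le_right.trans (centralizer_le hW1J)
    have hEW1 : E ≤ normalizer (W1 : Set G) := normalizer_commutator_ge_right W E
    have hEc : E ≤ centralizer (W1 : Set G) := by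
      conv_lhs => rw [← hEB]
      rw [commutator_le]
      intro e he b hb
      rw [commutatorElement_def]
      refine mul_mem ?_ (inv_mem (hBW1 hb))
      rw [mem_centralizer_iff]
      intro u hu
      have hu' : e⁻¹ * u * e⁻¹⁻¹ ∈ W1 := (mem_normalizer_iff.1 (inv_mem (hEW1 he)) u).1 hu
      have h := mem_centralizer_iff.1 (hBW1 hb) _ hu'
      calc u * (e * b * e⁻¹) = e * (e⁻¹ * u * e⁻¹⁻¹ * b) * e⁻¹ := by group
        _ = e * (b * (e⁻¹ * u * e⁻¹⁻¹)) * e⁻¹ := by rw [h]
        _ = e * b * e⁻¹ * u := by group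
    have hbot : ⁅W, E⁆ = ⊥ := by
      rw [commutator_eq_bot_iff_le_centralizer, le_centralizer_iff]
      conv_lhs => rw [← closure_coprime_elements hres]
      rw [closure_le]
      rintro e ⟨he, hco⟩
      rw [SetLike.mem_coe, mem_centralizer_iff]
      intro w hw
      refine (Cfsg.Lib.Components.centralize_of_commutator_fixed
        (hQep.to_le (hWQ.trans inf_le_left)) hco (hEW he) hw ?_).symm
      have h1 : ⁅e, w⁆ ∈ W1 := by
        rw [hW1, commutator_comm]; exact commutator_mem_commutator he hw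
      rw [← mem_centralizer_iff.1 (hEc he) _ h1, mul_inv_cancel_right]
    apply hWZ
    refine le_antisymm (le_inf le_rfl ?_) inf_le_left
    rwa [← commutator_eq_bot_iff_le_centralizer]

end Cfsg.Lib.BlockBasic
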