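import Cfsg.Agent.Components.PxQ
import Cfsg.Agent.Components.Local
import Cfsg.Agent.Components.Structure
import Cfsg.Agent.Components.PComponentsExtra
import Cfsg.Agent.Coprime.SolvableBasics
import Cfsg.Agent.Coprime.Action

/-!
`F*(X/N) = F*(X)/N` for `N = Z(E(X)) Φ(F(X))`.
-/

set_option linter.style.haveILetI false
set_option linter.unusedSectionVars false

namespace Cfsg.Lib.Misc.FrattiniQuotient

open Subgroup Cfsg.Lib.Components
open scoped commutatorElement

universe u

variable {X : Type u} [Group X] [Finite X]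

theorem frattini_normal_le (K : Subgroup X) [K.Normal] : (frattini K).map K.subtype ≤ frattini X := by
  refine le_iInf₂ fun M hM => ?_
  by_contra hne
  set Φ : Subgroup X := (frattini K).map K.subtype with hΦ
  haveI : Φ.Normal := inferInstance
  have hsup : M ⊔ Φ = ⊤ := hM.2 _ (left_lt_sup.2 hne)
  have h1 : M.subgroupOf K ⊔ frattini K = ⊤ := by
    rw [eq_top_iff]
    intro k _
    obtain ⟨m, hm, _, ⟨c, hc, rfl⟩, hmc⟩ := mem_sup_of_normal_right.1 (hsup.ge (mem_top (k : X)))
    have hmK : m ∈ K := by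
      rw [show m = (k : X) * (c : X)⁻¹ by rw [← hmc]; simp]
      exact mul_mem k.2 (inv_mem c.2)
    rw [show k = ⟨m, hmK⟩ * c from Subtype.ext hmc.symm]
    exact mul_mem_sup (mem_subgroupOf.2 hm) hc
  have h2 := frattini_nongenerating h1
  exact hne ((map_subtype_le _).trans (subgroupOf_eq_top.1 h2))

theorem center_layer_le_frattini :
    (Subgroup.center ↥(Cfsg.layer X)).map (Cfsg.layer X).subtype ≤ frattini X := by
  refine le_iInf₂ fun M hM => ?_
  by_contra hne
  set Z : Subgroup X := (Subgroup.center ↥(Cfsg.layer X)).map (Cfsg.layer X).subtype with hZ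
  haveI : (Cfsg.layer X).Normal := inferInstance
  haveI : Z.Normal := inferInstance
  have hsup : M ⊔ Z = ⊤ := hM.2 _ (left_lt_sup.2 hne)
  refine hne ((map_subtype_le _).trans ?_)
  rw [← layer_perfect, commutator_le]
  intro a ha b hb
  obtain ⟨m, hm, _, ⟨c, hc, rfl⟩, rfl⟩ := mem_sup_of_normal_right.1 (hsup.ge (mem_top a))
  obtain ⟨n, hn, _, ⟨d, hd, rfl⟩, rfl⟩ := mem_sup_of_normal_right.1 (hsup.ge (mem_top b))
  have hcc : ∀ e ∈ Cfsg.layer X, e * (c : X) = c * e := fun e he =>
    congrArg Subtype.val (mem_center_iff.1 hc ⟨e, he⟩)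
  have hdd : ∀ e ∈ Cfsg.layer X, e * (d : X) = d * e := fun e he =>
    congrArg Subtype.val (mem_center_iff.1 hd ⟨e, he⟩)
  have hmL : m ∈ Cfsg.layer X := by
    simpa using mul_mem ha (inv_mem c.2)
  have hnL : n ∈ Cfsg.layer X := by
    simpa using mul_mem hb (inv_mem d.2)
  show m * (c : X) * (n * (d : X)) * (m * (c : X))⁻¹ * (n * (d : X))⁻¹ ∈ M
  have h1 : m * (c : X) * (n * d) * (m * c)⁻¹ * (n * d)⁻¹ = m * n * m⁻¹ * n⁻¹ := by
    have p1 := hcc n hnL
    have p2 := hcc (d : X) d.2
    have p3 := hdd m⁻¹ (inv_mem hmL)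
    calc m * (c : X) * (n * d) * (m * c)⁻¹ * (n * d)⁻¹
        = m * ((c : X) * n) * d * ((c : X)⁻¹ * m⁻¹) * ((d : X)⁻¹ * n⁻¹) := by group
      _ = m * n * ((c : X) * d) * ((c : X)⁻¹ * m⁻¹) * ((d : X)⁻¹ * n⁻¹) := by rw [← p1]; group
      _ = m * n * ((d : X) * m⁻¹) * ((d : X)⁻¹ * n⁻¹) := by rw [← p2]; group
      _ = _ := by rw [← p3]; group
  rw [h1]
  exact mul_mem (mul_mem (mul_mem hm hn) (inv_mem hm)) (inv_mem hn)

/-- An element of order prime to `r` acting trivially on `F/Φ(F)` centralizes `O_r(X)`. -/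
theorem centralizes_pCore {r : ℕ} [Fact r.Prime] {y : X} (hy : (orderOf y).Coprime r)
    (htriv : ∀ f ∈ Cfsg.fittingSubgroup X,
      y * f * y⁻¹ * f⁻¹ ∈ (frattini ↥(Cfsg.fittingSubgroup X)).map (Cfsg.fittingSubgroup X).subtype) :
    y ∈ centralizer (Cfsg.pCore r X : Set X) := by
  set F := Cfsg.fittingSubgroup X with hF
  set Φ : Subgroup X := (frattini F).map F.subtype with hΦ
  set R := Cfsg.pCore r X with hR
  set R' := Cfsg.pPrimeCore r X ⊓ F with hR'
  haveI : Φ.Normal := inferInstance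
  have hRF : R ≤ F := by
    rw [hF, fitting_eq_iSup_pCore]
    exact le_iSup (fun p : {p : ℕ // p.Prime} => Cfsg.pCore p.1 X) ⟨r, Fact.out⟩
  have hFle : F ≤ R ⊔ R' := by
    rw [hF, fitting_eq_iSup_pCore]
    refine iSup_le fun p => ?_
    haveI := Fact.mk p.2
    by_cases h : p.1 = r
    · rw [h]; exact le_sup_left
    · refine le_trans (le_inf ?_ ?_) le_sup_right
      · obtain ⟨n, hn⟩ := IsPGroup.iff_card.1 (isPGroup_pCore (G := X) p.1)
        refine le_pPrimeCore ?_
        rw [hn]
        exact ((Nat.coprime_primes p.2 Fact.out).2 h).pow_left n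
      · rw [hF, fitting_eq_iSup_pCore]
        exact le_iSup (fun p : {p : ℕ // p.Prime} => Cfsg.pCore p.1 X) p
  have hcopyR : (Nat.card (zpowers y)).Coprime (Nat.card (R ⊓ Φ : Subgroup X)) := by
    obtain ⟨n, hn⟩ := IsPGroup.iff_card.1 ((isPGroup_pCore (G := X) r).to_le (inf_le_left : R ⊓ Φ ≤ R))
    rw [Nat.card_zpowers, hn]
    exact hy.pow_right n
  have hstab : ∀ k ∈ R, ∀ a ∈ zpowers y, k⁻¹ * a * k * a⁻¹ ∈ R ⊓ Φ := by
    intro k hk a ha
    refine ⟨?_, ?_⟩
    · have h1 : a * k * a⁻¹ ∈ R := Normal.conj_mem inferInstance k hk a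
      simpa [mul_assoc] using mul_mem (inv_mem hk) h1
    · obtain ⟨i, rfl⟩ := mem_zpowers_iff.1 ha
      have hq : ∀ f ∈ F, (QuotientGroup.mk' Φ y) * (QuotientGroup.mk' Φ f) = (QuotientGroup.mk' Φ f) * (QuotientGroup.mk' Φ y) := by
        intro f hf
        have h1 : (QuotientGroup.mk' Φ) (y * f * y⁻¹ * f⁻¹) = 1 := (QuotientGroup.eq_one_iff _).2 (htriv f hf)
        rw [map_mul, map_mul, map_mul, map_inv, map_inv] at h1
        calc _ = (QuotientGroup.mk' Φ y * QuotientGroup.mk' Φ f * (QuotientGroup.mk' Φ y)⁻¹ * (QuotientGroup.mk' Φ f)⁻¹) * (QuotientGroup.mk' Φ f * QuotientGroup.mk' Φ y) := by group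
          _ = _ := by rw [h1, one_mul]
      apply (QuotientGroup.eq_one_iff _).1
      show QuotientGroup.mk' Φ (k⁻¹ * y ^ i * k * (y ^ i)⁻¹) = 1
      rw [map_mul, map_mul, map_mul, map_inv, map_inv, map_zpow, mul_assoc _ (QuotientGroup.mk' Φ y ^ i),
        ((show Commute (QuotientGroup.mk' Φ y) (QuotientGroup.mk' Φ k) from hq k (hRF hk)).zpow_left i).eq]
      group
  have hyn : zpowers y ≤ normalizer ((R ⊓ Φ : Subgroup X) : Set X) := by
    rw [normalizer_eq_top]; exact le_top
  have hsup := Cfsg.Lib.Coprime.le_centralizer_sup (K := R) hyn hcopyR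
    (Or.inl inferInstance) inf_le_left hstab
  set W := (R ⊓ centralizer (zpowers y : Set X)) ⊔ R' with hW
  have hWF : W ≤ F := sup_le (inf_le_left.trans hRF) inf_le_right
  have hWtop : W.subgroupOf F = ⊤ := by
    refine frattini_nongenerating ?_
    apply Subgroup.map_injective F.subtype_injective
    rw [Subgroup.map_sup, map_subgroupOf_eq_of_le hWF, ← MonoidHom.range_eq_map, range_subtype]
    refine le_antisymm (sup_le hWF (map_subtype_le _)) (hFle.trans (sup_le ?_ (le_sup_right.trans le_sup_left)))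
    rw [← hsup]
    exact sup_le (le_sup_left.trans le_sup_left) (inf_le_right.trans le_sup_right)
  refine mem_centralizer_iff.2 fun x hx => ?_
  have hxW : x ∈ W := subgroupOf_eq_top.1 hWtop (hRF hx)
  haveI : R'.Normal := inferInstance
  obtain ⟨w, ⟨hwR, hwc⟩, v, hv, rfl⟩ := mem_sup_of_normal_right.1 hxW
  have hvR : v ∈ R := by simpa using R.mul_mem (R.inv_mem hwR) hx
  have hdis : Cfsg.pCore r X ⊓ Cfsg.pPrimeCore r X = ⊥ :=
    coprime_pGroup_disjoint (isPGroup_pCore r) (coprime_card_pPrimeCore r)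
  have hv1 : v = 1 := (Subgroup.mem_bot).1 (hdis ▸ mem_inf.mpr ⟨hvR, hv.1⟩)
  rw [hv1, mul_one]
  exact (mem_centralizer_iff.1 hwc y (mem_zpowers y)).symm

theorem genFitting_quotient (N : Subgroup X) [N.Normal]
    (hN : N = (Subgroup.center ↥(Cfsg.layer X)).map (Cfsg.layer X).subtype ⊔
      (frattini ↥(Cfsg.fittingSubgroup X)).map (Cfsg.fittingSubgroup X).subtype) :
    Cfsg.generalizedFittingSubgroup (X ⧸ N) =
      (Cfsg.generalizedFittingSubgroup X).map (QuotientGroup.mk' N) := by
  set f := QuotientGroup.mk' N with hf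
  have hs : Function.Surjective f := QuotientGroup.mk'_surjective N
  haveI hLn : (Cfsg.layer X).Normal := inferInstance
  haveI hFn : (Cfsg.fittingSubgroup X).Normal := inferInstance
  have hZF : (Subgroup.center ↥(Cfsg.layer X)).map (Cfsg.layer X).subtype ≤ Cfsg.fittingSubgroup X := by
    refine le_fitting ?_
    refine isNilpotent_map (class_two_nilpotent ?_) _
    have h : ⁅Subgroup.center ↥(Cfsg.layer X), Subgroup.center ↥(Cfsg.layer X)⁆ = ⊥ :=
      commutator_eq_bot_iff_le_centralizer.2 (center_le_centralizer _)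
    rw [h, commutator_bot_left]
  have hNF : N ≤ Cfsg.fittingSubgroup X := hN ▸ sup_le hZF (map_subtype_le _)
  have hNΦ : N ≤ frattini X := hN ▸ sup_le center_layer_le_frattini (frattini_normal_le _)
  haveI hNnil : Group.IsNilpotent N := isNilpotent_of_le isNilpotent_fitting hNF
  have hle : (Cfsg.generalizedFittingSubgroup X).map f ≤ Cfsg.generalizedFittingSubgroup (X ⧸ N) := by
    rw [Cfsg.generalizedFittingSubgroup, Subgroup.map_sup]
    refine sup_le ?_ ?_
    · refine le_trans ?_ layer_le_genFitting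
      rw [Subgroup.map_le_iff_le_comap]
      refine sSup_le fun K hK => ?_
      rw [← Subgroup.map_le_iff_le_comap]
      rcases comp_map_surjective hK f hs with h | h
      · rw [h]; exact bot_le
      · exact comp_le_layer h
    · haveI : ((Cfsg.fittingSubgroup X).map f).Normal := Subgroup.Normal.map hFn f hs
      exact (le_fitting (isNilpotent_map isNilpotent_fitting f)).trans fitting_le_genFitting
  -- the Fitting subgroup
  have hFit : Cfsg.fittingSubgroup (X ⧸ N) ≤ (Cfsg.fittingSubgroup X).map f := by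
    set H := (Cfsg.fittingSubgroup (X ⧸ N)).comap f with hH
    haveI : H.Normal := inferInstance
    haveI : (H ⊔ frattini X).Normal := inferInstance
    let π : X ⧸ N →* X ⧸ frattini X :=
      QuotientGroup.map N (frattini X) (MonoidHom.id X) (by rw [Subgroup.comap_id]; exact hNΦ)
    have hπ : π.comp f = QuotientGroup.mk' (frattini X) := MonoidHom.ext fun x => rfl
    have hnil : Group.IsNilpotent ((H ⊔ frattini X).map (QuotientGroup.mk' (frattini X))) := by
      have h1 : (H ⊔ frattini X).map (QuotientGroup.mk' (frattini X)) = (Cfsg.fittingSubgroup (X ⧸ N)).map π := by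
        rw [Subgroup.map_sup, QuotientGroup.map_mk'_self, sup_bot_eq, ← hπ, ← map_map,
          map_comap_eq_self_of_surjective hs]
      rw [h1]
      exact isNilpotent_map isNilpotent_fitting π
    have h2 := Cfsg.Lib.Coprime.nilpotent_of_quotient_frattini (H ⊔ frattini X) le_sup_right hnil
    rw [← map_comap_eq_self_of_surjective hs (Cfsg.fittingSubgroup (X ⧸ N))]
    exact Subgroup.map_mono ((le_sup_left : H ≤ H ⊔ frattini X).trans (le_fitting h2))
  refine le_antisymm ?_ hle
  rw [Cfsg.generalizedFittingSubgroup]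
  refine sup_le (sSup_le fun K hK => ?_) (hFit.trans (Subgroup.map_mono fitting_le_genFitting))
  -- a subnormal subgroup of least order covering the component
  obtain ⟨P, ⟨hPs, hPK⟩, hPmin⟩ := WellFounded.has_min (InvImage.wf (fun P : Subgroup X => Nat.card P) wellFounded_lt)
    {P : Subgroup X | P.IsSubnormal ∧ P.map f = K}
    ⟨K.comap f, hK.1.comap f, map_comap_eq_self_of_surjective hs K⟩
  have hperf : ⁅P, P⁆ = P := by
    by_contra hne
    have hlt : ⁅P, P⁆ < P := lt_of_le_of_ne (commutator_le_self P) hne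
    refine hPmin ⁅P, P⁆ ⟨isSubnormal_of_normal_in hPs hlt.le ?_, by rw [map_commutator, hPK, comp_perfect hK]⟩ ?_
    · rw [le_normalizer_iff_commutator_le_left]
      exact commutator_mono hlt.le le_rfl
    · show Nat.card ↥⁅P, P⁆ < Nat.card ↥P
      by_contra hc
      exact hne (eq_of_le_of_card_ge hlt.le (by omega))
  by_cases hex : ∃ L, IsComponent L ∧ L ≤ P
  · obtain ⟨L, hL, hLP⟩ := hex
    have hLne : L.map f ≠ ⊥ := fun h => by
      rw [Subgroup.map_eq_bot_iff, hf, QuotientGroup.ker_mk'] at h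
      haveI := hNnil
      exact comp_not_isSolvable hL (solvable_of_solvable_injective (Subgroup.inclusion_injective h))
    have hLc := (comp_map_surjective hL f hs).resolve_left hLne
    rw [← comp_eq_of_le hLc hK (hPK ▸ Subgroup.map_mono hLP)]
    exact Subgroup.map_mono ((comp_le_layer hL).trans layer_le_genFitting)
  push_neg at hex
  exfalso
  have hPE : P ≤ centralizer (Cfsg.layer X : Set X) := by
    rw [le_centralizer_iff]
    refine sSup_le fun L hL => ?_
    exact commutator_eq_bot_iff_le_centralizer.1 (comp_commute_of_not_le hL hPs (hex L hL))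
  set F := Cfsg.fittingSubgroup X with hF
  set Φ : Subgroup X := (frattini F).map F.subtype with hΦ
  haveI : Φ.Normal := inferInstance
  have hPF : ⁅P, F⁆ ≤ N := by
    have h0 : ⁅P, F⁆.map f = ⊥ := by
      rw [map_commutator, hPK, ← le_bot_iff, ← layer_commute_fitting (G := X ⧸ N)]
      refine commutator_mono (comp_le_layer hK) ?_
      haveI : (F.map f).Normal := Subgroup.Normal.map hFn f hs
      exact le_fitting (isNilpotent_map isNilpotent_fitting f)
    rwa [Subgroup.map_eq_bot_iff, hf, QuotientGroup.ker_mk'] at h0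
  have hNP : ⁅N, P⁆ ≤ Φ := by
    rw [hN, commutator_le]
    intro n hn x hx
    obtain ⟨z, hz, v, hv, rfl⟩ := mem_sup_of_normal_right.1 hn
    have hzx : z * x = x * z := mem_centralizer_iff.1 (hPE hx) z (map_subtype_le _ hz)
    have e : z * v * x * (z * v)⁻¹ * x⁻¹ = z * (v * (x * v⁻¹ * x⁻¹)) * (z⁻¹) := by
      calc z * v * x * (z * v)⁻¹ * x⁻¹ = z * (v * (x * v⁻¹ * x⁻¹)) * (x * z⁻¹ * x⁻¹) := by group
        _ = _ := by
          rw [show x * z⁻¹ * x⁻¹ = z⁻¹ by
            calc x * z⁻¹ * x⁻¹ = z⁻¹ * (z * x) * z⁻¹ * x⁻¹ := by group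
              _ = z⁻¹ := by rw [hzx]; group]
    show z * v * x * (z * v)⁻¹ * x⁻¹ ∈ Φ
    rw [e]
    exact Normal.conj_mem inferInstance _ (mul_mem hv (Normal.conj_mem inferInstance _ (inv_mem hv) x)) z
  have hPFΦ : ⁅P, F⁆ ≤ Φ := by
    set q := QuotientGroup.mk' Φ with hq
    have h1 : ⁅⁅P.map q, F.map q⁆, P.map q⁆ = ⊥ := by
      rw [← map_commutator, ← map_commutator, Subgroup.map_eq_bot_iff, hq, QuotientGroup.ker_mk']
      exact (commutator_mono hPF le_rfl).trans hNP
    have h2 : ⁅⁅F.map q, P.map q⁆, P.map q⁆ = ⊥ := by rwa [commutator_comm (F.map q)]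
    have h3 := commutator_commutator_eq_bot_of_rotate (H₁ := P.map q) (H₂ := P.map q) (H₃ := F.map q) h1 h2
    rw [← map_commutator, ← map_commutator, hperf, Subgroup.map_eq_bot_iff, hq, QuotientGroup.ker_mk'] at h3
    exact h3
  have hPcent : P ≤ centralizer (F : Set X) := by
    rw [le_centralizer_iff, hF, fitting_eq_iSup_pCore]
    refine iSup_le fun p => ?_
    haveI := Fact.mk p.2
    rw [le_centralizer_iff]
    refine perfect_le_of_pPrime_elements (p := p.1) hperf (by rw [normalizer_eq_top]; exact le_top) ?_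
    intro y hy hcop
    exact centralizes_pCore hcop fun v hv => hPFΦ (commutator_mem_commutator hy hv)
  have hPgf : P ≤ centralizer (Cfsg.generalizedFittingSubgroup X : Set X) := by
    rw [Cfsg.generalizedFittingSubgroup, le_centralizer_iff]
    exact sup_le (le_centralizer_iff.1 hPE) (le_centralizer_iff.1 hPcent)
  have hPab : ⁅P, P⁆ = ⊥ := commutator_eq_bot_iff_le_centralizer.2
    (hPgf.trans ((centralizer_le (SetLike.coe_subset_coe.mpr (hPgf.trans centralizer_genFitting_le)))))
  rw [hperf] at hPab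
  exact comp_ne_bot hK (by rw [← hPK, hPab, Subgroup.map_bot])

end Cfsg.Lib.Misc.FrattiniQuotient
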