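import Cfsg.Agent.SolvStruct.QuaternionSylowSection
import Cfsg.Agent.Frobenius.SLTwoThree
import Cfsg.Agent.PGroups.MetacyclicTwo
import Cfsg.Agent.Coprime.Fitting
import Cfsg.Agent.Components.Cores
import Cfsg.Prelude.Def_CaseTheorems

/-!
Solvable groups with dihedral or semidihedral Sylow 2-subgroups and a central `Z(T)`.
-/

set_option linter.style.haveILetI false
set_option linter.unusedSectionVars false

namespace Cfsg.Lib.Misc.SolvSemidihedral

open Subgroup
open Cfsg.Lib.SolvStruct.QuaternionSection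

universe u

set_option maxRecDepth 10000 in
set_option synthInstance.maxSize 2000 in
theorem card_pairs : ((Finset.univ : Finset (Q8 × Q8)).filter fun t =>
    Rel t.1 t.2 ∧ t.2 ∉ ({1, t.1, t.1 * t.1, t.1 * t.1 * t.1} : Finset Q8) ∧ t.1 * t.1 ≠ 1).card = 24 := by
  decide

theorem gens_ok : Rel I0 J0 ∧ J0 ∉ ({1, I0, I0 * I0, I0 * I0 * I0} : Finset Q8) ∧ I0 * I0 ≠ 1 := by decide

theorem card_mulAut_le : Nat.card (MulAut Q8) ≤ 24 := by
  rw [← card_pairs, ← Nat.card_eq_finsetCard]
  refine Nat.card_le_card_of_injective (fun f : MulAut Q8 => ⟨(f I0, f J0), ?_⟩) fun f g h => ?_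
  · obtain ⟨⟨r1, r2, r3⟩, h4, h5⟩ := gens_ok
    simp only [Finset.mem_filter, Finset.mem_univ, true_and]
    refine ⟨⟨by rw [← map_pow, r1, map_one], by rw [← map_mul, r2, map_mul],
      by rw [← map_inv, ← map_mul, ← map_mul, r3, map_inv]⟩, ?_, ?_⟩
    · simp only [Finset.mem_insert, Finset.mem_singleton] at h4 ⊢
      simpa only [← map_mul, EmbeddingLike.map_eq_one_iff, EmbeddingLike.apply_eq_iff_eq] using h4
    · rw [← map_mul]
      exact fun h => h5 ((map_eq_one_iff f f.injective).1 h)
  · have h' := congrArg Subtype.val h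
    simp only [Prod.mk.injEq] at h'
    refine MulEquiv.ext fun q => congrFun ?_ q
    rw [hom_eq_gam (⇑f) (map_mul f), hom_eq_gam (⇑g) (map_mul g), h'.1, h'.2]

/-- an automorphism of odd order of `Q₈` has order dividing three -/
theorem pow_three_eq_one (f : MulAut Q8) (hodd : Odd (orderOf f)) : f ^ 3 = 1 := by
  have hr : Rel (f I0) (f J0) := by
    obtain ⟨⟨r1, r2, r3⟩, -, -⟩ := gens_ok
    exact ⟨by rw [← map_pow, r1, map_one], by rw [← map_mul, r2, map_mul],
      by rw [← map_inv, ← map_mul, ← map_mul, r3, map_inv]⟩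
  have hg := hom_eq_gam (⇑f) (map_mul f)
  obtain ⟨h12, -⟩ := classify (f I0) (f J0) hr (by rw [← hg]; exact fun p q h => f.injective h)
  rw [← hg] at h12
  have hp : f ^ 12 = 1 := MulEquiv.ext fun q => by
    have h := h12 q
    have hc : ∀ n : ℕ, (⇑f)^[n] q = (f ^ n) q := by
      intro n
      induction n with
      | zero => rfl
      | succ n ih => rw [Function.iterate_succ_apply', ih, pow_succ', MulAut.mul_apply]
    rwa [hc] at h
  refine orderOf_dvd_iff_pow_eq_one.1 ?_
  have h4 : (orderOf f).Coprime 4 := (Nat.coprime_two_right.2 hodd).pow_right 2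
  exact h4.dvd_of_dvd_mul_left (orderOf_dvd_of_pow_eq_one hp)

variable {G : Type u} [Group G] [Finite G]

theorem exists_cyclic_index_two {S : Type*} [Group S] [Finite S]
    (h : (∃ n : ℕ, 4 ≤ n ∧ Nonempty (S ≃* DihedralGroup n)) ∨ Cfsg.IsQuasiDihedral S) :
    (∃ A : Subgroup S, IsCyclic A ∧ A.index = 2) ∧ 8 ≤ Nat.card S := by
  rcases h with ⟨n, hn, ⟨e⟩⟩ | ⟨n, hn, hc, x, y, hx, -, -⟩
  · haveI : NeZero n := ⟨by omega⟩
    have hS : Nat.card S = 2 * n := by
      rw [Nat.card_congr e.toEquiv, DihedralGroup.nat_card]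
    refine ⟨⟨zpowers (e.symm (DihedralGroup.r 1)), inferInstance, ?_⟩, by omega⟩
    have hA : Nat.card (zpowers (e.symm (DihedralGroup.r 1))) = n := by
      rw [Nat.card_zpowers, MulEquiv.orderOf_eq, DihedralGroup.orderOf_r_one]
    have h := (zpowers (e.symm (DihedralGroup.r 1))).card_mul_index
    rw [hA, hS, mul_comm 2] at h
    exact Nat.eq_of_mul_eq_mul_left (by omega) h
  · refine ⟨⟨zpowers x, inferInstance, ?_⟩, ?_⟩
    · have h := (zpowers x).card_mul_index
      rw [Nat.card_zpowers, hx, hc, pow_succ] at h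
      exact Nat.eq_of_mul_eq_mul_left (pow_pos two_pos n) h
    · rw [hc]
      exact le_trans (by norm_num) (Nat.pow_le_pow_right two_pos (show 3 ≤ n + 1 by omega))

theorem main (hsol : Group.IsSolvable G) (hO : Cfsg.pPrimeCore 2 G = ⊥) (T : Sylow 2 G)
    (hT : (∃ n : ℕ, 4 ≤ n ∧ Nonempty (↥(T : Subgroup G) ≃* DihedralGroup n)) ∨
      Cfsg.IsQuasiDihedral ↥(T : Subgroup G))
    (hne : (T : Subgroup G) ≠ ⊤)
    (hZ : ((T : Subgroup G) ⊓ centralizer ((T : Subgroup G) : Set G)).Normal) :
    ∃ U : Subgroup G, U.Normal ∧ Nonempty (↥U ≃* Matrix.SpecialLinearGroup (Fin 2) (ZMod 3)) := by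
  haveI : Fact (Nat.Prime 2) := ⟨Nat.prime_two⟩
  haveI := hsol
  obtain ⟨⟨A, hAc, hA2⟩, hT8⟩ := exists_cyclic_index_two hT
  haveI := hAc
  set F := Cfsg.pCore 2 G with hF
  have hFT : F ≤ (T : Subgroup G) := Cfsg.Lib.Coprime.pCore_le_sylow 2 T
  have hFp : IsPGroup 2 F := T.2.to_le hFT
  have hCF : centralizer (F : Set G) ≤ F := Cfsg.Lib.Coprime.centralizer_pCore_le 2 hO
  -- the cyclic subgroup of index at most two of `F`
  set M := A.comap (Subgroup.inclusion hFT) with hM
  haveI hAn : A.Normal := Subgroup.normal_of_index_eq_two hA2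
  haveI hMn : M.Normal := hAn.comap _
  haveI hMc : IsCyclic M := isCyclic_of_injective ((Subgroup.inclusion hFT).subgroupComap A)
    (fun a b h => Subtype.ext (Subgroup.inclusion_injective hFT (congrArg Subtype.val h)))
  have hMi : M.index ≤ 2 := by
    rw [hM, index_comap]
    refine Nat.le_of_dvd two_pos ?_
    exact (relIndex_dvd_index_of_normal _ _).trans hA2.dvd
  have hmeta : Cfsg.IsMetacyclic F := by
    refine ⟨M, hMn, hMc, ?_⟩
    have h0 : M.index ≠ 0 := index_ne_zero_of_finite
    rcases (show M.index = 1 ∨ M.index = 2 by omega) with h | h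
    · haveI : Subsingleton (F ⧸ M) := (Nat.card_eq_one_iff_unique.1 (by rw [← index_eq_card, h])).1
      infer_instance
    · exact isCyclic_of_prime_card (p := 2) (by rw [← index_eq_card, h])
  -- an element of odd order
  obtain ⟨g, hg1, hgo⟩ : ∃ g : G, g ≠ 1 ∧ Odd (orderOf g) := by
    obtain ⟨q, hq, hqd⟩ := Nat.exists_prime_and_dvd (n := (T : Subgroup G).index)
      (fun h => hne (index_eq_one.1 h))
    haveI := Fact.mk hq
    have hq2 : q ≠ 2 := fun e => T.not_dvd_index (e ▸ hqd)
    obtain ⟨g, hg⟩ := exists_prime_orderOf_dvd_card' q (hqd.trans (index_dvd_card _))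
    exact ⟨g, fun h => hq.ne_one (by rw [← hg, h, orderOf_one]), hg ▸ hq.odd_of_ne_two hq2⟩
  have hnoC : ∀ a : G, Odd (orderOf a) → a ∈ centralizer (F : Set G) → a = 1 := by
    intro a hodd ha
    obtain ⟨k, hk⟩ := hFp ⟨a, hCF ha⟩
    have hk' : a ^ 2 ^ k = 1 := congrArg Subtype.val hk
    exact orderOf_eq_one_iff.1 (Nat.eq_one_of_dvd_coprimes ((Nat.coprime_two_right.2 hodd).pow_right k)
      dvd_rfl (orderOf_dvd_of_pow_eq_one hk'))
  haveI : Finite (MulAut F) := Finite.of_injective (fun f : MulAut F => (f : F → F)) DFunLike.coe_injective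
  set c : G →* MulAut F := MulAut.conjNormal with hc
  have hcmem : ∀ a : G, c a = 1 → a ∈ centralizer (F : Set G) := fun a ha => mem_centralizer_iff.2 fun f hf => by
    have h := congrArg (fun φ : MulAut F => ((φ ⟨f, hf⟩ : F) : G)) ha
    exact (mul_inv_eq_iff_eq_mul.1 (by simpa [c, MulAut.conjNormal_apply] using h)).symm
  have hαodd : Odd (orderOf (c g)) := hgo.of_dvd_nat (orderOf_map_dvd c g)
  have hα1 : c g ≠ 1 := fun h => hg1 (hnoC g hgo (hcmem g h))
  have hαs : c g ∉ Cfsg.Lib.MetaTwo.stab F := fun h =>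
    hα1 (Cfsg.Lib.MetaTwo.eq_one_of_mem_stab hFp hαodd h)
  -- an element of `Z(T)` fixed by everything
  rcases Cfsg.Lib.MetaTwo.odd_aut_structure hFp hmeta (c g) hαodd hαs with
    ⟨hab, k, ⟨e⟩⟩ | ⟨h8, d, hd1, hd2, hdΦ, hdc, hcen, -⟩
  · exfalso
    obtain ⟨m, hm⟩ := IsCyclic.exists_generator (α := M)
    have hexp : ∀ q : F, q ^ 2 ^ k = 1 := fun q => e.injective (by
      rw [map_pow, map_one]
      apply Multiplicative.toAdd.injective
      funext i
      simp [toAdd_pow, ← Nat.cast_smul_eq_nsmul (ZMod (2 ^ k))])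
    have hcard : Nat.card F = 2 ^ k * 2 ^ k := by
      rw [Nat.card_congr e.toEquiv, Nat.card_congr Multiplicative.toAdd, Nat.card_fun, Nat.card_fin,
        Nat.card_zmod, pow_two]
    have hMle : Nat.card M ≤ 2 ^ k := by
      rw [← orderOf_eq_card_of_forall_mem_zpowers hm]
      exact orderOf_le_of_pow_eq_one (pow_pos two_pos k) (Subtype.ext (by simpa using hexp m))
    have hk2 : 2 ^ k ≤ 2 := by
      have h := M.card_mul_index
      have h' : 2 ^ k * 2 ^ k ≤ 2 ^ k * 2 := by
        rw [← hcard, ← h]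
        exact Nat.mul_le_mul hMle hMi
      exact Nat.le_of_mul_le_mul_left h' (pow_pos two_pos k)
    have hsq : ∀ q : F, q * q = 1 := fun q => by
      have hd : orderOf q ∣ 2 ^ k := orderOf_dvd_of_pow_eq_one (hexp q)
      have : 2 ^ k ∣ 2 := by
        rcases Nat.lt_or_ge k 1 with hk | hk
        · interval_cases k; norm_num
        · have : k = 1 := by
            by_contra hne'
            have := Nat.pow_le_pow_right two_pos (show 2 ≤ k by omega)
            omega
          subst this; norm_num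
      rw [← pow_two]
      exact orderOf_dvd_iff_pow_eq_one.1 (hd.trans this)
    have hF4 : Nat.card F ≤ 4 := by rw [hcard]; exact Nat.mul_le_mul hk2 hk2
    have hfpf := Cfsg.Lib.MetaTwo.four_fpf hsq hF4 hαodd hα1
    set Z := (T : Subgroup G) ⊓ centralizer ((T : Subgroup G) : Set G)
    haveI := hZ
    have hZF : Z ≤ F := Cfsg.Lib.Components.le_pCore (T.2.to_le inf_le_left)
    obtain ⟨z, hz1⟩ : ∃ z : Z, z ≠ 1 := by
      haveI : Nontrivial (T : Subgroup G) := Finite.one_lt_card_iff_nontrivial.1 (by omega)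
      haveI := T.2.center_nontrivial
      obtain ⟨⟨w, hw⟩, hw1⟩ := exists_ne (1 : Subgroup.center (T : Subgroup G))
      exact ⟨⟨(w : G), w.2, mem_centralizer_iff.2 fun t ht => congrArg Subtype.val (mem_center_iff.1 hw ⟨t, ht⟩)⟩,
        fun h => hw1 (Subtype.ext (Subtype.ext (congrArg Subtype.val h :)))⟩
    set v : F := ⟨z, hZF z.2⟩
    obtain ⟨hmoved, hall⟩ := hfpf v (fun h => hz1 (Subtype.ext (congrArg Subtype.val h :)))
    have hgz : ((c g v : F) : G) ∈ Z := by
      simpa [c, MulAut.conjNormal_apply] using hZ.conj_mem _ z.2 g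
    have hFZ : F ≤ Z := fun f hf => by
      rcases hall ⟨f, hf⟩ with h | h | h | h <;> have h' := congrArg Subtype.val h <;> simp only at h'
      · rw [h']; exact one_mem _
      · rw [h']; exact z.2
      · rw [h']; exact hgz
      · rw [h']; exact mul_mem z.2 hgz
    have hTF : (T : Subgroup G) ≤ F := fun t ht => hCF (mem_centralizer_iff.2 fun f hf =>
      ((mem_centralizer_iff.1 (hFZ hf).2 t ht)).symm)
    have := Nat.le_of_dvd Nat.card_pos (card_dvd_of_le hTF)
    omega
  -- `F` is a quaternion group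
  obtain ⟨hfacts, -, -, mw, -, hmw, -⟩ := Cfsg.Lib.MetaTwo.odd_aut_facts hFp hmeta (c g) hαodd hαs
  have hd2' : d ^ 2 = 1 := by rw [pow_two]; exact hd2
  have hnab : ¬ ∀ a b : F, a * b = b * a := by
    intro hab'
    have hsub : Nat.card F ≤ Nat.card (Fin 2) := by
      refine Nat.card_le_card_of_surjective (fun i : Fin 2 => if i = 0 then (1 : F) else d) fun a => ?_
      rcases hcen a (fun z => hab' a z) with rfl | rfl
      · exact ⟨0, rfl⟩
      · exact ⟨1, rfl⟩
    rw [h8, Nat.card_fin] at hsub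
    omega
  have hflip : ∀ a b : F, a⁻¹ * b ∈ frattini F → b * a⁻¹ ∈ frattini F := fun a b h => by
    have := (inferInstance : (frattini F).Normal).conj_mem _ h a
    simpa [mul_assoc] using this
  have hΦ2 : ∀ a ∈ frattini F, a = 1 ∨ a = d := by
    obtain ⟨hy0, -, hne', -, -⟩ := hfacts mw hmw
    have h3 : 3 ≤ (frattini F).index := by
      rw [index_eq_card, ← Nat.card_fin 3]
      refine Nat.card_le_card_of_injective
        (![((1 : F) : F ⧸ frattini F), (mw : F ⧸ frattini F), ((c g mw : F) : F ⧸ frattini F)]) ?_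
      intro i j hij
      fin_cases i <;> fin_cases j <;>
        first
          | rfl
          | exact absurd ((QuotientGroup.eq_one_iff _).1 hij) hmw
          | exact absurd ((QuotientGroup.eq_one_iff _).1 hij.symm) hmw
          | exact absurd ((QuotientGroup.eq_one_iff _).1 hij) hy0
          | exact absurd ((QuotientGroup.eq_one_iff _).1 hij.symm) hy0
          | exact absurd (hflip _ _ (QuotientGroup.eq.1 hij)) hne'
          | exact absurd (hflip _ _ (QuotientGroup.eq.1 hij.symm)) hne'
    intro a ha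
    by_contra hcon
    push Not at hcon
    have hle : Nat.card (frattini F) ≤ 2 := by
      have h := (frattini F).card_mul_index
      rw [h8] at h
      by_contra h'
      push Not at h'
      have := Nat.mul_le_mul h' h3
      omega
    have h3' : Nat.card (Fin 3) ≤ Nat.card (frattini F) := by
      refine Nat.card_le_card_of_injective (![(1 : frattini F), ⟨d, hdΦ⟩, ⟨a, ha⟩]) ?_
      intro i j hij
      have hij' := congrArg Subtype.val hij
      fin_cases i <;> fin_cases j <;>
        first
          | rfl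
          | exact absurd hij' hd1
          | exact absurd hij'.symm hd1
          | exact absurd hij' hcon.1
          | exact absurd hij'.symm hcon.1
          | exact absurd hij' hcon.2
          | exact absurd hij'.symm hcon.2
    rw [Nat.card_fin] at h3'
    omega
  have huniq : ∀ a : F, orderOf a = 2 → a = d := by
    intro a ha
    have ha2 : a * a = 1 := by rw [← pow_two, ← ha, pow_orderOf_eq_one]
    have ha1 : a ≠ 1 := fun h => by rw [h, orderOf_one] at ha; omega
    by_cases haΦ : a ∈ frattini F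
    · exact (hΦ2 a haΦ).resolve_left ha1
    obtain ⟨-, -, -, htop, hlast⟩ := hfacts a haΦ
    set b := c g a with hb
    have hb2 : b * b = 1 := by rw [hb, ← map_mul, ha2, map_one]
    have hbb2 : c g b * c g b = 1 := by rw [← map_mul, hb2, map_one]
    have hab2 : (a * b) * (a * b) = 1 := by
      rcases hΦ2 _ hlast with h | h
      · rw [← mul_inv_eq_one.1 h]
        exact hbb2
      · have hab : a * b = d⁻¹ * c g b := by rw [← h]; group
        rw [hab, (hdc _).inv_left.eq, mul_assoc, ← mul_assoc d⁻¹, (hdc _).inv_left.eq, mul_assoc,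
          ← mul_assoc (c g b) (c g b), hbb2, one_mul, ← mul_inv_rev, hd2, inv_one]
    have hcomm : a * b = b * a := by
      rw [← inv_eq_of_mul_eq_one_right hab2, mul_inv_rev, inv_eq_of_mul_eq_one_right ha2,
        inv_eq_of_mul_eq_one_right hb2]
    refine absurd ?_ hnab
    have hC : IsMulCommutative (closure ({a, b} : Set F)) := Subgroup.isMulCommutative_closure (by
      rintro x (rfl | rfl) y (rfl | rfl)
      exacts [rfl, hcomm, hcomm.symm, rfl])
    intro x y
    exact congrArg Subtype.val (mul_comm' (⟨x, htop.ge (mem_top x)⟩ : closure ({a, b} : Set F)) ⟨y, htop.ge (mem_top y)⟩)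
  obtain ⟨e⟩ : Nonempty (F ≃* Q8) := by
    rcases Cfsg.Lib.UniqueSub.isCyclic_or_quaternion hFp
      (fun a b ha hb => by rw [huniq a ha, huniq b hb]; exact mem_zpowers d) with hcy | ⟨-, n, ⟨e⟩⟩
    · exact absurd (fun a b => mul_comm' a b) hnab
    · have h := (Nat.card_congr e.toEquiv).symm
      haveI : NeZero (2 ^ n) := ⟨by positivity⟩
      rw [Nat.card_eq_fintype_card, QuaternionGroup.card, h8] at h
      have : n = 1 := by
        have h' : (2 : ℕ) ^ n = 2 ^ 1 := by rw [pow_one]; omega
        exact Nat.pow_right_injective le_rfl h'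
      subst this
      exact ⟨e⟩
  -- the order of the group
  have hG48 : Nat.card G ≤ 48 := by
    rw [← c.ker.card_mul_index, index_ker]
    refine (Nat.mul_le_mul (n₂ := 2) (m₂ := 24) ?_ ((card_le_card_group _).trans ?_)).trans (by norm_num)
    · have hle : c.ker ≤ zpowers (d : G) := by
        intro a ha
        rcases hcen ⟨a, hCF (hcmem a ha)⟩
          (fun z => Subtype.ext ((mem_centralizer_iff.1 (hcmem a ha) z z.2).symm)) with h | h
        · rw [show a = 1 from congrArg Subtype.val h]
          exact one_mem _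
        · rw [show a = (d : G) from congrArg Subtype.val h]
          exact mem_zpowers _
      refine (Nat.le_of_dvd Nat.card_pos (card_dvd_of_le hle)).trans ?_
      rw [Nat.card_zpowers, Subgroup.orderOf_coe]
      exact orderOf_le_of_pow_eq_one two_pos hd2'
    · rw [Nat.card_congr (MulAut.congr e).toEquiv]
      exact card_mulAut_le
  have hg3 : g ^ 3 = 1 := by
    refine hnoC _ (hgo.of_dvd_nat (orderOf_pow_dvd 3)) (hcmem _ ?_)
    rw [map_pow]
    apply (MulAut.congr e).injective
    rw [map_pow, map_one]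
    exact pow_three_eq_one _ (hαodd.of_dvd_nat (orderOf_map_dvd (MulAut.congr e).toMonoidHom _))
  haveI : Fact (Nat.Prime 3) := ⟨Nat.prime_three⟩
  have hgord : orderOf g = 3 := orderOf_eq_prime hg3 hg1
  set U := F ⊔ zpowers g with hU
  have hU24 : Nat.card U = 24 := by
    refine Nat.dvd_antisymm ?_ ?_
    · have h := Cfsg.Lib.Components.card_sup_dvd_mul F (zpowers g)
      rwa [h8, Nat.card_zpowers, hgord] at h
    · refine Nat.Coprime.mul_dvd_of_dvd_of_dvd (show Nat.Coprime 8 3 by norm_num) ?_ ?_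
      · exact h8 ▸ card_dvd_of_le le_sup_left
      · rw [← hgord, ← Nat.card_zpowers]
        exact card_dvd_of_le le_sup_right
  refine ⟨U, ?_, ?_⟩
  · have h := U.card_mul_index
    have h0 : U.index ≠ 0 := index_ne_zero_of_finite
    rw [hU24] at h
    rcases (show U.index = 1 ∨ U.index = 2 by omega) with hi | hi
    · rw [index_eq_one.1 hi]; infer_instance
    · exact normal_of_index_eq_two hi
  let e0 : Q8 →* U := (Subgroup.inclusion (le_sup_left : F ≤ U)).comp e.symm.toMonoidHom
  have he0 : Function.Injective e0 := (Subgroup.inclusion_injective (le_sup_left : F ≤ U)).comp e.symm.injective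
  let gU : U := ⟨g, mem_sup_right (mem_zpowers g)⟩
  have hval : ∀ w : F, ((e0 (e w) : U) : G) = w := fun w => by simp [e0]
  have hnorm : ∀ q : Q8, gU * e0 q * gU⁻¹ ∈ e0.range := fun q => by
    obtain ⟨w, rfl⟩ := e.surjective q
    refine ⟨e (c g w), Subtype.ext ?_⟩
    rw [hval]
    simp [gU, hval, c, MulAut.conjNormal_apply]
  have hne0 : ∃ q : Q8, gU * e0 q * gU⁻¹ ≠ e0 q := by
    by_contra hall
    push Not at hall
    refine hα1 (MulEquiv.ext fun w => Subtype.ext ?_)
    have h := congrArg Subtype.val (hall (e w))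
    simp [gU, hval] at h
    simpa [c, MulAut.conjNormal_apply] using h
  obtain ⟨H, K, hK, ⟨ψ⟩⟩ := section_of_auto e0 he0 gU
    (by rw [Subgroup.orderOf_mk, hgord]; norm_num) hnorm hne0
  have hSL : Nat.card (Matrix.SpecialLinearGroup (Fin 2) (ZMod 3)) = 24 := by
    rw [← Nat.card_congr (Equiv.ofBijective _ prodMap_SL_bij), Nat.card_prod, Nat.card_zmod,
      Nat.card_eq_fintype_card, QuaternionGroup.card]
  have hq : (K.subgroupOf H).index = 24 := by
    rw [index_eq_card, Nat.card_congr ψ.toEquiv, hSL]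
  have hHle : Nat.card H ≤ 24 := (card_le_card_group H).trans hU24.le
  have hmul := (K.subgroupOf H).card_mul_index
  rw [hq] at hmul
  have hpos : 0 < Nat.card (K.subgroupOf H) := Nat.card_pos
  have hK1 : K.subgroupOf H = ⊥ := card_eq_one.1 (by omega)
  have hH1 : H = ⊤ := (card_eq_iff_eq_top H).1 (by omega)
  subst hH1
  haveI := hK
  exact ⟨(Subgroup.topEquiv.symm.trans ((QuotientGroup.quotientMulEquivOfEq hK1).trans
    QuotientGroup.quotientBot).symm).trans ψ⟩

end Cfsg.Lib.Misc.SolvSemidihedral
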