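import Mathlib

/-! Subgroups of finite nilpotent groups are subnormal. -/

namespace Cfsg.Lib.Components

theorem isSubnormal_of_isNilpotent {G : Type*} [Group G] [Finite G] [Group.IsNilpotent G]
    (H : Subgroup G) : H.IsSubnormal := by
  induction H using WellFoundedGT.induction with
  | _ H ih =>
    by_cases h : H = ⊤
    · rw [h]; exact Subgroup.IsSubnormal.top
    have hlt := Group.normalizerCondition_of_isNilpotent H (lt_top_iff_ne_top.2 h)
    exact Subgroup.IsSubnormal.trans hlt.le
      (Subgroup.Normal.isSubnormal Subgroup.normal_in_normalizer) (ih _ hlt)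

end Cfsg.Lib.Components
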