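import Cfsg.Agent.Transfer.Frobenius
import Cfsg.Agent.Coprime.Action
import Mathlib.GroupTheory.SpecificGroups.Dihedral
import Mathlib.GroupTheory.SpecificGroups.Cyclic

/-!
Centralizers of involutions in groups with dihedral Sylow 2-subgroups.
-/

set_option linter.style.haveILetI false
set_option linter.unusedSectionVars false

namespace Cfsg.Lib.Misc.DihedralInv

open Subgroup

universe u

variable {X : Type u} [Group X] [Finite X]

theorem centralizes_cyclic {R : Subgroup X} [IsCyclic R] (hR : IsPGroup 2 R) {a : X}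
    (ha : (orderOf a).Coprime 2) (haR : a ∈ normalizer (R : Set X)) : a ∈ centralizer (R : Set X) := by
  haveI : Fact (Nat.Prime 2) := ⟨Nat.prime_two⟩
  obtain ⟨k, hk⟩ := IsPGroup.iff_card.mp hR
  have h1 : R.normalizerMonoidHom ⟨a, haR⟩ = 1 := by
    rw [← orderOf_eq_one_iff]
    refine Nat.eq_one_of_dvd_coprimes ((ha.pow_right k)) ?_ ?_
    · exact (orderOf_map_dvd _ _).trans (dvd_of_eq (Subgroup.orderOf_mk a haR))
    · refine (_root_.orderOf_dvd_natCard _).trans ?_
      rw [IsCyclic.card_mulAut, hk]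
      rcases k with _ | k
      · rw [pow_zero, Nat.totient_one]
      · rw [Nat.totient_prime_pow_succ Nat.prime_two]
        exact ⟨2, by rw [pow_succ]; simp⟩
  refine mem_centralizer_iff.mpr fun x hx => ?_
  have h2 : ((R.normalizerMonoidHom ⟨a, haR⟩ ⟨x, hx⟩ : R) : X) = x := by rw [h1]; rfl
  have h3 : a * x * a⁻¹ = x := h2
  exact (mul_inv_eq_iff_eq_mul.mp h3).symm

theorem centralizes_in_dihedral {P Q : Subgroup X} {n : ℕ} (φ : P ≃* DihedralGroup n) (hQP : Q ≤ P)
    (hQ : IsPGroup 2 Q) {t a : X} (ht : orderOf t = 2) (htQ : t ∈ Q) (hat : a * t = t * a)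
    (haQ : a ∈ normalizer (Q : Set X)) (ha : (orderOf a).Coprime 2) : a ∈ centralizer (Q : Set X) := by
  haveI : Fact (Nat.Prime 2) := ⟨Nat.prime_two⟩
  set ρ : X := ((φ.symm (DihedralGroup.r 1) : P) : X) with hρ
  set Rot := zpowers ρ with hRot
  have hrot : ∀ i : ZMod n, ((φ.symm (DihedralGroup.r i) : P) : X) ∈ Rot := fun i => by
    obtain ⟨j, rfl⟩ := ZMod.intCast_surjective i
    refine mem_zpowers_iff.mpr ⟨j, ?_⟩
    rw [hρ, ← Subgroup.coe_zpow, ← map_zpow, DihedralGroup.r_one_zpow]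
  -- elements outside the rotations are reflections
  have hrefl : ∀ y ∈ Q, y ∉ Rot → ∃ i : ZMod n, ((φ.symm (DihedralGroup.sr i) : P) : X) = y := by
    intro y hy hyR
    rcases hd : φ ⟨y, hQP hy⟩ with i | i
    · refine absurd ?_ hyR
      have := hrot i
      rwa [← hd, φ.symm_apply_apply] at this
    · exact ⟨i, by rw [← hd, φ.symm_apply_apply]⟩
  have hsq : ∀ y ∈ Q, y * y ≠ 1 → y ∈ Rot := fun y hy hyy => by
    by_contra hyR
    obtain ⟨i, hi⟩ := hrefl y hy hyR
    apply hyy
    rw [← hi, ← Subgroup.coe_mul, ← map_mul, DihedralGroup.sr_mul_self, map_one, Subgroup.coe_one]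
  have hprod : ∀ y ∈ Q, ∀ w ∈ Q, y ∉ Rot → w ∉ Rot → y⁻¹ * w ∈ Rot := fun y hy w hw hyR hwR => by
    obtain ⟨i, hi⟩ := hrefl y hy hyR
    obtain ⟨j, hj⟩ := hrefl w hw hwR
    rw [← hi, ← hj, ← Subgroup.coe_inv, ← Subgroup.coe_mul, ← map_inv, ← map_mul,
      inv_eq_of_mul_eq_one_right (DihedralGroup.sr_mul_self i), DihedralGroup.sr_mul_sr]
    exact hrot _
  have hRcomm : ∀ y ∈ Rot, ∀ w ∈ Rot, y * w = w * y := fun y hy w hw => by
    obtain ⟨i, rfl⟩ := mem_zpowers_iff.mp hy
    obtain ⟨j, rfl⟩ := mem_zpowers_iff.mp hw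
    exact (Commute.zpow_zpow_self ρ i j).eq
  set R := Q ⊓ Rot with hR
  have hRp : IsPGroup 2 R := hQ.to_le inf_le_left
  haveI : IsCyclic R := isCyclic_of_injective (Subgroup.inclusion (inf_le_right : R ≤ Rot))
    (Subgroup.inclusion_injective inf_le_right)
  have hconj : ∀ y ∈ Q, a * y * a⁻¹ ∈ Q := fun y hy => (mem_normalizer_iff.mp haQ y).mp hy
  by_cases hx : ∃ x ∈ Q, x * x ≠ 1
  · obtain ⟨x, hx, hxx⟩ := hx
    -- `a` normalizes the rotations of `Q`
    have hbig : ∀ y ∈ Q, y * y ≠ 1 → a * y * a⁻¹ ∈ R := fun y hy hyy => by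
      refine ⟨hconj y hy, hsq _ (hconj y hy) fun h => hyy ?_⟩
      rw [show a * y * a⁻¹ * (a * y * a⁻¹) = a * (y * y) * a⁻¹ by group] at h
      exact conj_eq_one_iff.mp h
    have hxR : x ∈ Rot := hsq x hx hxx
    have hRn : ∀ y ∈ R, a * y * a⁻¹ ∈ R := fun y hy => by
      by_cases hyy : y * y = 1
      · have h1 : y * x * (y * x) ≠ 1 := by
          rw [show y * x * (y * x) = y * (x * y) * x by group, hRcomm x hxR y hy.2,
            show y * (y * x) * x = y * y * (x * x) by group, hyy, one_mul]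
          exact hxx
        have h2 := mul_mem (hbig (y * x) (mul_mem hy.1 hx) h1) (inv_mem (hbig x hx hxx))
        rwa [show a * (y * x) * a⁻¹ * (a * x * a⁻¹)⁻¹ = a * y * a⁻¹ by group] at h2
      · exact hbig y hy.1 hyy
    have haR : a ∈ normalizer (R : Set X) := by
      have h1 : R.map (MulAut.conj a).toMonoidHom = R :=
        eq_of_le_of_card_ge (by rintro _ ⟨y, hy, rfl⟩; exact hRn y hy)
          (card_map_of_injective (MulAut.conj a).injective).ge
      exact Cfsg.Lib.Coprime.conjMap_eq_self_iff.mp h1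
    have haC := centralizes_cyclic hRp ha haR
    have hcop : (Nat.card (zpowers a)).Coprime (Nat.card R) := by
      obtain ⟨k, hk⟩ := IsPGroup.iff_card.mp hRp
      rw [Nat.card_zpowers, hk]
      exact ha.pow_right k
    refine mem_centralizer_iff.mpr fun y hy => ?_
    by_cases hyR : y ∈ Rot
    · exact mem_centralizer_iff.mp haC y ⟨hy, hyR⟩
    have hyc : y ∈ centralizer ((zpowers a : Subgroup X) : Set X) := by
      refine Cfsg.Lib.Coprime.centralizes_of_coprime_chain hcop (zpowers_le.mpr haC) fun b hb => ?_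
      have hbN : b ∈ normalizer (Q : Set X) := zpowers_le.mpr haQ hb
      have hbR : b ∈ normalizer (R : Set X) := zpowers_le.mpr haR hb
      have hbyQ : b * y * b⁻¹ ∈ Q := (mem_normalizer_iff.mp hbN y).mp hy
      rw [show y⁻¹ * b * y * b⁻¹ = y⁻¹ * (b * y * b⁻¹) by group]
      refine mem_inf.mpr ⟨mul_mem (inv_mem hy) hbyQ, hprod y hy _ hbyQ hyR fun h => hyR ?_⟩
      exact ((mem_normalizer_iff.mp hbR y).mpr ⟨hbyQ, h⟩).2
    exact (mem_centralizer_iff.mp hyc a (mem_zpowers a)).symm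
  push Not at hx
  -- `Q` has exponent two and at most four elements
  have hRcard : Nat.card R ≤ 2 := by
    classical
    haveI : Fintype R := Fintype.ofFinite R
    have h := IsCyclic.card_pow_eq_one_le (α := R) (by norm_num : 0 < 2)
    rw [Finset.filter_true_of_mem fun y _ => Subtype.ext (by
      show (y : X) ^ 2 = 1
      rw [pow_two]; exact hx _ y.2.1), Finset.card_univ] at h
    rwa [Nat.card_eq_fintype_card]
  have hQcard : Nat.card Q ≤ 4 := by
    have h1 : R.relIndex Q ≤ 2 := by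
      rw [relIndex]
      by_cases h : ∀ y ∈ Q, y ∈ Rot
      · rw [show R.subgroupOf Q = ⊤ from subgroupOf_eq_top.mpr (le_inf le_rfl h), index_top]
        norm_num
      push Not at h
      obtain ⟨y₀, hy₀, hy₀R⟩ := h
      refine (index_eq_two_iff.mpr ⟨⟨y₀, hy₀⟩, fun b => ?_⟩).le
      rw [mem_subgroupOf, mem_subgroupOf]
      by_cases hb : (b : X) ∈ Rot
      · refine Or.inr ⟨⟨b.2, hb⟩, fun h' => hy₀R ?_⟩
        have h'' := mul_mem (inv_mem hb) h'.2
        simpa using h''
      · refine Or.inl ⟨⟨mul_mem b.2 hy₀, ?_⟩, fun h' => hb h'.2⟩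
        have h' := hprod (b : X) b.2 y₀ hy₀ hb hy₀R
        rwa [inv_eq_of_mul_eq_one_right (hx _ b.2)] at h'
    have h2 := relIndex_mul_relIndex ⊥ R Q bot_le inf_le_left
    rw [relIndex_bot_left, relIndex_bot_left] at h2
    rw [← h2]
    exact Nat.mul_le_mul hRcard h1
  refine mem_centralizer_iff.mpr fun y hy => ?_
  by_cases hy1 : y = 1
  · rw [hy1, one_mul, mul_one]
  by_cases hyt : y = t
  · rw [hyt, hat]
  have ht1 : t ≠ 1 := fun h => by rw [h, orderOf_one] at ht; omega
  classical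
  haveI : Fintype Q := Fintype.ofFinite Q
  have hne : (({(1 : Q), ⟨t, htQ⟩, ⟨y, hy⟩, ⟨y, hy⟩ * ⟨t, htQ⟩} : Finset Q)) = Finset.univ := by
    refine Finset.eq_univ_of_card _ (le_antisymm (Finset.card_le_univ _) ?_)
    rw [← Nat.card_eq_fintype_card]
    refine hQcard.trans ?_
    rw [Finset.card_insert_of_notMem, Finset.card_insert_of_notMem, Finset.card_insert_of_notMem,
      Finset.card_singleton]
    · simp [Subtype.ext_iff, ht1]
    · simp only [Finset.mem_insert, Finset.mem_singleton, Subtype.ext_iff, Subgroup.coe_mul, not_or]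
      refine ⟨Ne.symm hyt, fun h => hy1 ?_⟩
      simpa using h.symm
    · simp only [Finset.mem_insert, Finset.mem_singleton, Subtype.ext_iff, Subgroup.coe_one, Subgroup.coe_mul, not_or]
      refine ⟨Ne.symm ht1, Ne.symm hy1, fun h => hyt ?_⟩
      have h3 := eq_inv_of_mul_eq_one_left h.symm
      rwa [inv_eq_of_mul_eq_one_right (hx t htQ)] at h3
  have hmem : (⟨a * y * a⁻¹, hconj y hy⟩ : Q) ∈ ({(1 : Q), ⟨t, htQ⟩, ⟨y, hy⟩, ⟨y, hy⟩ * ⟨t, htQ⟩} : Finset Q) := by
    rw [hne]; exact Finset.mem_univ _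
  simp only [Finset.mem_insert, Finset.mem_singleton, Subtype.ext_iff, Subgroup.coe_one, Subgroup.coe_mul] at hmem
  rcases hmem with h | h | h | h
  · exact absurd (conj_eq_one_iff.mp h) hy1
  · refine absurd ?_ hyt
    have h2 : a⁻¹ * (a * y * a⁻¹) * a = a⁻¹ * t * a := by rw [h]
    rw [show a⁻¹ * (a * y * a⁻¹) * a = y by group, mul_assoc, ← hat, inv_mul_cancel_left] at h2
    exact h2
  · exact (mul_inv_eq_iff_eq_mul.mp h).symm
  · -- `a` would have even order
    have h2 : a ^ 2 * y * (a ^ 2)⁻¹ = y := by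
      calc a ^ 2 * y * (a ^ 2)⁻¹ = a * (a * y * a⁻¹) * a⁻¹ := by rw [pow_two]; group
        _ = a * (y * t) * a⁻¹ := by rw [h]
        _ = (a * y * a⁻¹) * (a * t * a⁻¹) := by group
        _ = y * t * t := by rw [h, hat, mul_inv_cancel_right]
        _ = y := by rw [mul_assoc, hx t htQ, mul_one]
    have h3 : a ∈ zpowers (a ^ 2) := mem_zpowers_pow_iff.mpr ha.symm
    obtain ⟨i, hi⟩ := mem_zpowers_iff.mp h3
    have h4 : Commute (a ^ 2) y := mul_inv_eq_iff_eq_mul.mp h2
    have h5 := h4.zpow_left i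
    rw [hi] at h5
    exact h5.eq.symm

theorem result {X : Type u} [Group X] [Finite X] (S : Sylow 2 X) (n : ℕ)
    (hS : Nonempty ((S : Subgroup X) ≃* DihedralGroup n)) (t : X) (ht : orderOf t = 2) :
    ∃ N : Subgroup (centralizer ({t} : Set X)), N.Normal ∧ Odd (Nat.card N) ∧ ∃ k : ℕ, N.index = 2 ^ k := by
  haveI : Fact (Nat.Prime 2) := ⟨Nat.prime_two⟩
  set C := centralizer ({t} : Set X)
  have hH : Cfsg.HasNormalPComplement 2 C := by
    refine Cfsg.Lib.Transfer.hasNormalPComplement_of_frobenius fun Q hQ g hg hgc => ?_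
    set Q' := Q.map C.subtype ⊔ zpowers t with hQ'
    have htQ : zpowers t ≤ normalizer ((Q.map C.subtype : Subgroup X) : Set X) := by
      refine zpowers_le.mpr (centralizer_le_normalizer _ (mem_centralizer_iff.mpr ?_))
      rintro _ ⟨q, -, rfl⟩
      exact mem_centralizer_singleton_iff.mp q.2
    have htp : IsPGroup 2 (zpowers t) := IsPGroup.of_card (n := 1) (by rw [Nat.card_zpowers, ht, pow_one])
    have hQ'p : IsPGroup 2 Q' := (hQ.map _).to_sup_of_normal_left' htp htQ
    obtain ⟨P, hP⟩ := hQ'p.exists_le_sylow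
    obtain ⟨φ⟩ := hS
    have hgt : (g : X) * t = t * g := mem_centralizer_singleton_iff.mp g.2
    have hgQ : (g : X) ∈ normalizer ((Q' : Subgroup X) : Set X) := by
      rw [← Cfsg.Lib.Coprime.conjMap_eq_self_iff, Cfsg.Lib.Coprime.conjMap, hQ', Subgroup.map_sup,
        MonoidHom.map_zpowers]
      congr 1
      · rw [map_map, show (MulAut.conj (g : X)).toMonoidHom.comp C.subtype =
          C.subtype.comp (MulAut.conj g).toMonoidHom from rfl, ← map_map,
          show Q.map (MulAut.conj g).toMonoidHom = Q from Cfsg.Lib.Coprime.conjMap_eq_self hg]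
      · congr 1
        show (g : X) * t * (g : X)⁻¹ = t
        rw [hgt, mul_inv_cancel_right]
    have h := centralizes_in_dihedral ((P.equiv S).trans φ) hP hQ'p ht (mem_sup_right (mem_zpowers t)) hgt hgQ
      (by rwa [Subgroup.orderOf_coe])
    exact mem_centralizer_iff.mpr fun q hq =>
      Subtype.ext (mem_centralizer_iff.mp h _ (mem_sup_left (mem_map_of_mem _ hq)))
  obtain ⟨P, N, hN, hc⟩ := hH
  have e := hc.card_mul_card
  have hidx : N.index = Nat.card (P : Subgroup C) := by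
    rw [← N.card_mul_index] at e
    exact (Nat.eq_of_mul_eq_mul_left Nat.card_pos e).symm
  obtain ⟨k, hk⟩ := IsPGroup.iff_card.mp P.2
  refine ⟨N, hN, ?_, k, hidx.trans hk⟩
  rw [← Nat.not_even_iff_odd, even_iff_two_dvd]
  intro h2
  have h3 : 2 ^ ((Nat.card C).factorization 2 + 1) ∣ Nat.card C := by
    obtain ⟨d, hd⟩ := h2
    refine ⟨d, ?_⟩
    conv_lhs => rw [← e, hd, P.card_eq_multiplicity]
    rw [pow_succ]
    ring
  exact absurd ((Nat.prime_two.pow_dvd_iff_le_factorization Nat.card_pos.ne').mp h3) (by omega)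

end Cfsg.Lib.Misc.DihedralInv
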