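import Cfsg.Agent.Components.Structure
import Cfsg.Agent.Components.Supplement
import Cfsg.Agent.Components.LBalance
import Cfsg.Agent.Components.Misc.NilSubnormal
import Cfsg.Agent.Coprime.Fitting
import Cfsg.Agent.Coprime.Action

/-!
Two maximal subgroups of a simple group, each containing the generalized Fitting subgroup of the other.
-/

set_option linter.style.haveILetI false
set_option linter.unusedSectionVars false

namespace Cfsg.Lib.Misc.BenderPair

open Subgroup Cfsg.Lib.Components
open scoped commutatorElement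

universe u

variable {G : Type u} [Group G] [Finite G]

/-- a subgroup of a nilpotent subgroup normal in the whole group is subnormal -/
theorem isSubnormal_of_le_fitting {H : Subgroup G} (h : H ≤ fittingSubgroup G) : H.IsSubnormal := by
  haveI := isNilpotent_fitting (G := G)
  have h1 := isSubnormal_map_subtype (Subgroup.Normal.isSubnormal (inferInstance : (fittingSubgroup G).Normal))
    (Cfsg.Lib.Components.isSubnormal_of_isNilpotent (H.subgroupOf (fittingSubgroup G)))
  rwa [subgroupOf_map_subtype, inf_eq_left.mpr h] at h1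

theorem le_pCore_of_le_fitting {p : ℕ} {H : Subgroup G} (h : H ≤ fittingSubgroup G) (hp : IsPGroup p H) :
    H ≤ pCore p G :=
  le_pCore_of_subnormal (isSubnormal_of_le_fitting h) hp

/-- the core of `M` as a subgroup of `G` -/
abbrev cr (p : ℕ) (M : Subgroup G) : Subgroup G := (pCore p M).map M.subtype

theorem cr_normalizer (p : ℕ) (M : Subgroup G) : M ≤ normalizer (cr p M : Set G) := by
  intro g hg
  rw [mem_normalizer_iff]
  refine fun x => ⟨?_, fun hx => ?_⟩
  · rintro ⟨y, hy, rfl⟩
    exact ⟨⟨g, hg⟩ * y * ⟨g, hg⟩⁻¹, (inferInstance : (pCore p M).Normal).conj_mem y hy _, rfl⟩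
  · obtain ⟨y, hy, hxy⟩ := hx
    refine ⟨⟨g, hg⟩⁻¹ * y * ⟨g, hg⟩, ?_, ?_⟩
    · simpa using (inferInstance : (pCore p M).Normal).conj_mem y hy ⟨g, hg⟩⁻¹
    · show g⁻¹ * (y : G) * g = x
      rw [show (y : G) = g * x * g⁻¹ from hxy]
      group

theorem cr_le (p : ℕ) (M : Subgroup G) : cr p M ≤ M := map_subtype_le _

theorem isPGroup_cr {p : ℕ} [Fact p.Prime] (M : Subgroup G) : IsPGroup p (cr p M) :=
  (isPGroup_pCore p).map _

theorem fitting_le_centralizer_iff {M : Subgroup G} {X : Subgroup M}
    (h : ∀ q : ℕ, q.Prime → X ≤ centralizer (pCore q M : Set M)) :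
    X ≤ centralizer (fittingSubgroup M : Set M) := by
  rw [le_centralizer_iff, fitting_eq_iSup_pCore]
  exact iSup_le fun q => le_centralizer_iff.mp (h q.1 q.2)

variable {M N : Subgroup G}

/-- cores for different primes of two subgroups normalizing each other's cores commute -/
theorem cr_commute {p q : ℕ} [Fact p.Prime] [Fact q.Prime] (hpq : p ≠ q) (h1 : cr p M ≤ N)
    (h2 : cr q N ≤ M) : ⁅cr p M, cr q N⁆ = ⊥ := by
  rw [eq_bot_iff]
  refine (le_inf ?_ ?_).trans (IsPGroup.disjoint_of_ne p q hpq _ _ (isPGroup_cr M) (isPGroup_cr N)).le_bot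
  · exact le_normalizer_iff_commutator_le_left.mp (h2.trans (cr_normalizer p M))
  · rw [commutator_comm]
    exact le_normalizer_iff_commutator_le_left.mp (h1.trans (cr_normalizer q N))

/-- a prime of the Fitting subgroup of `M` is one of the Fitting subgroup of `N` -/
theorem cr_ne_bot (hc : centralizer (fittingSubgroup N : Set N) ≤ fittingSubgroup N)
    (hMN : ∀ r : ℕ, r.Prime → cr r M ≤ N) (hNM : ∀ r : ℕ, r.Prime → cr r N ≤ M)
    {p : ℕ} [hp : Fact p.Prime] (h : cr p M ≠ ⊥) : cr p N ≠ ⊥ := by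
  intro hbot
  have hNp : pCore p N = ⊥ := (map_eq_bot_iff_of_injective _ N.subtype_injective).mp hbot
  refine h ?_
  have h1 : (cr p M).subgroupOf N ≤ centralizer (fittingSubgroup N : Set N) := by
    refine fitting_le_centralizer_iff fun q hq => ?_
    haveI := Fact.mk hq
    by_cases hqp : p = q
    · subst hqp
      rw [hNp, le_centralizer_iff]
      exact bot_le
    · rw [← commutator_eq_bot_iff_le_centralizer]
      apply map_injective N.subtype_injective
      rw [map_commutator, Subgroup.map_bot, subgroupOf_map_subtype, inf_eq_left.mpr (hMN p hp.out)]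
      exact cr_commute hqp (hMN p hp.out) (hNM q hq)
  have h2 := le_pCore_of_le_fitting (h1.trans hc)
    ((isPGroup_cr (p := p) M).comap_of_injective _ N.subtype_injective)
  rw [hNp, le_bot_iff] at h2
  have h3 := congrArg (Subgroup.map N.subtype) h2
  rwa [subgroupOf_map_subtype, inf_eq_left.mpr (hMN p hp.out), Subgroup.map_bot] at h3

/-- two primes: the cores coincide -/
theorem cr_le_cr {F : Subgroup G} (hF : F = (fittingSubgroup N).map N.subtype)
    (hc : centralizer (fittingSubgroup N : Set N) ≤ fittingSubgroup N)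
    (hMN : ∀ r : ℕ, r.Prime → cr r M ≤ N) (hNM : ∀ r : ℕ, r.Prime → cr r N ≤ M) (hFM : F ≤ M)
    {p q : ℕ} [hp : Fact p.Prime] [hq : Fact q.Prime] (hpq : p ≠ q)
    (hnorm : normalizer (cr q M : Set G) = M) : cr p M ≤ cr p N := by
  set Q₁ := (cr q M).subgroupOf N with hQ₁
  set Q₂ := pCore q N with hQ₂
  set U := (cr p M).subgroupOf N with hU
  set R := pPrimeCore q N ⊓ fittingSubgroup N with hR
  have hQ₁p : IsPGroup q Q₁ := (isPGroup_cr (p := q) M).comap_of_injective _ N.subtype_injective
  have hQ₂p : IsPGroup q Q₂ := isPGroup_pCore q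
  have hUQ : U ≤ centralizer (Q₂ : Set N) := by
    rw [← commutator_eq_bot_iff_le_centralizer]
    apply map_injective N.subtype_injective
    rw [map_commutator, Subgroup.map_bot, subgroupOf_map_subtype, inf_eq_left.mpr (hMN p hp.out)]
    exact cr_commute hpq (hMN p hp.out) (hNM q hq.out)
  have hQ₁D : ∀ r : ℕ, r.Prime → r ≠ q → Q₁ ≤ centralizer (pCore r N : Set N) := by
    intro r hr hrq
    haveI := Fact.mk hr
    rw [← commutator_eq_bot_iff_le_centralizer]
    apply map_injective N.subtype_injective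
    rw [map_commutator, Subgroup.map_bot, subgroupOf_map_subtype, inf_eq_left.mpr (hMN q hq.out)]
    exact cr_commute hrq.symm (hMN q hq.out) (hNM r hr)
  have hQ₁R : ⁅R, Q₁⁆ = ⊥ := by
    rw [eq_bot_iff]
    have hd : R ⊓ Q₁ ≤ ⊥ := by
      obtain ⟨i, hi⟩ := IsPGroup.iff_card.mp hQ₁p
      refine le_of_eq (eq_bot_of_card_eq _ (Nat.eq_one_of_dvd_coprimes ?_ (card_dvd_of_le inf_le_left)
        (card_dvd_of_le inf_le_right)))
      rw [hi]
      exact (((coprime_card_pPrimeCore (G := N) q).coprime_dvd_left (card_dvd_of_le inf_le_left))).pow_right i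
    refine le_trans (le_inf (le_normalizer_iff_commutator_le_left.mp ?_) ?_) hd
    · haveI : R.Normal := Subgroup.normal_inf_normal _ _
      exact le_normalizer_of_normal
    · rw [commutator_comm]
      refine le_normalizer_iff_commutator_le_left.mp fun g hg => ?_
      have hgM : (g : G) ∈ M := hFM (hF ▸ mem_map_of_mem _ (mem_inf.mp hg).2)
      rw [mem_normalizer_iff]
      intro x
      rw [hQ₁, mem_subgroupOf, mem_subgroupOf]
      exact mem_normalizer_iff.mp (cr_normalizer q M hgM) (x : G)
  let C := centralizer (Q₂ : Set N)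
  let S : Set N := {k | k ∈ C ∧ ¬ q ∣ orderOf k}
  haveI hLn : (closure S).Normal := by
    have hsub : ∀ g : N, ∀ k ∈ S, g * k * g⁻¹ ∈ S := fun g k hk =>
      ⟨(inferInstance : C.Normal).conj_mem k hk.1 g, by
        rw [show g * k * g⁻¹ = MulAut.conj g k from rfl, (MulAut.conj g).orderOf_eq]; exact hk.2⟩
    refine ⟨fun n hn g => ?_⟩
    refine closure_induction (p := fun n _ => g * n * g⁻¹ ∈ closure S) (fun k hk => subset_closure (hsub g k hk))
      ?_ ?_ ?_ hn
    · simp
    · intro a b _ _ ha hb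
      rw [show g * (a * b) * g⁻¹ = (g * a * g⁻¹) * (g * b * g⁻¹) by group]
      exact mul_mem ha hb
    · intro a _ ha
      rw [show g * a⁻¹ * g⁻¹ = (g * a * g⁻¹)⁻¹ by group]
      exact inv_mem ha
  have hLM : closure S ≤ M.subgroupOf N := by
    rw [closure_le]
    rintro k ⟨hkC, hkq⟩
    show (k : G) ∈ M
    rw [← hnorm]
    refine centralizer_le_normalizer _ (mem_centralizer_iff.mpr fun y hy => ?_)
    set x : N := ⟨y, hMN q hq.out hy⟩ with hxdef
    have hx : x ∈ Q₁ := mem_subgroupOf.mpr hy
    have hstep : ∀ w : N, w ∈ C → ¬ q ∣ orderOf w → w * x * w⁻¹ * x⁻¹ ∈ Q₂ := by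
      intro w hwC _
      set c := w * x * w⁻¹ * x⁻¹ with hc'
      have hcC : c ∈ C := by
        rw [hc', mul_assoc, mul_assoc]
        refine mul_mem hwC ?_
        rw [← mul_assoc]
        exact (inferInstance : C.Normal).conj_mem _ (inv_mem hwC) x
      have hcF : c ∈ fittingSubgroup N := by
        refine hc (zpowers_le.mp (fitting_le_centralizer_iff fun r hr => zpowers_le.mpr ?_))
        by_cases hrq : r = q
        · subst hrq; exact hcC
        · exact mul_mem ((inferInstance : (centralizer (pCore r N : Set N)).Normal).conj_mem x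
            (hQ₁D r hr hrq hx) w) (inv_mem (hQ₁D r hr hrq hx))
      obtain ⟨e, m, hm, hem⟩ := Nat.exists_eq_pow_mul_and_not_dvd (n := orderOf c)
        (orderOf_pos c).ne' q hq.out.ne_one
      have hcop : Nat.Coprime (q ^ e) m := Nat.Coprime.pow_left e (hq.out.coprime_iff_not_dvd.mpr hm)
      obtain ⟨i, j, hij⟩ : ∃ i j : ℤ, (m : ℤ) * i + ((q ^ e : ℕ) : ℤ) * j = 1 := by
        refine ⟨Nat.gcdB (q ^ e) m, Nat.gcdA (q ^ e) m, ?_⟩
        have h := Nat.gcd_eq_gcd_ab (q ^ e) m
        rw [hcop] at h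
        push_cast at h ⊢
        linarith
      set a := (c ^ m) ^ i with ha
      set b := (c ^ q ^ e) ^ j with hb
      have hab : c = a * b := by
        rw [ha, hb, ← zpow_natCast c m, ← zpow_natCast c (q ^ e), ← zpow_mul, ← zpow_mul, ← zpow_add, hij,
          zpow_one]
      have hcpow : c ^ (q ^ e * m) = 1 := by rw [← hem]; exact pow_orderOf_eq_one c
      have hcm : (c ^ m) ^ q ^ e = 1 := by rw [← pow_mul, mul_comm, hcpow]
      have haQ : a ∈ Q₂ := by
        refine zpow_mem (zpowers_le.mp (le_pCore_of_le_fitting (zpowers_le.mpr (pow_mem hcF m))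
          (IsPGroup.of_card_dvd_pow (n := e) ?_))) i
        rw [Nat.card_zpowers]
        exact orderOf_dvd_of_pow_eq_one hcm
      have hbR : b ∈ R := by
        refine zpow_mem (mem_inf.mpr ⟨zpowers_le.mp (le_pPrimeCore_of_subnormal
          (isSubnormal_of_le_fitting (zpowers_le.mpr (pow_mem hcF _))) ?_), pow_mem hcF _⟩) j
        rw [Nat.card_zpowers]
        refine Nat.Coprime.coprime_dvd_left (orderOf_dvd_of_pow_eq_one ?_)
          (hq.out.coprime_iff_not_dvd.mpr hm).symm
        rw [← pow_mul, hcpow]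
      set W := Q₂ ⊔ Q₁ with hW
      have hWp : IsPGroup q W := hQ₂p.to_sup_of_normal_left hQ₁p
      obtain ⟨n₁, hn₁⟩ := hWp ⟨a * x, mul_mem_sup haQ hx⟩
      obtain ⟨n₂, hn₂⟩ := hQ₁p ⟨x, hx⟩
      have hax : (a * x) ^ q ^ n₁ = 1 := congrArg Subtype.val hn₁
      have hxx : x ^ q ^ n₂ = 1 := congrArg Subtype.val hn₂
      have hbx : b * x = x * b :=
        commute_of_commutator_eq_bot hQ₁R hbR hx
      have hba : b * a = a * b := by
        rw [ha, hb]; exact ((Commute.pow_pow_self c _ _).zpow_zpow j i).eq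
      have hcomm : Commute b (a * x) := Commute.mul_right hba hbx
      have heq : w * x * w⁻¹ = b * (a * x) := by
        rw [← mul_assoc, hba, ← hab, hc']; group
      have hb1 : b = 1 := by
        have h1 : (b * (a * x)) ^ q ^ (n₁ + n₂) = 1 := by
          rw [← heq, conj_pow, pow_add, mul_comm, pow_mul, hxx, one_pow, mul_one, mul_inv_cancel]
        rw [hcomm.mul_pow, pow_add, pow_mul (a * x), hax, one_pow, mul_one] at h1
        rw [← orderOf_eq_one_iff]
        refine Nat.eq_one_of_dvd_coprimes ?_ ((orderOf_mk b (mem_inf.mp hbR).1) ▸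
          orderOf_dvd_natCard (⟨b, (mem_inf.mp hbR).1⟩ : pPrimeCore q N)) (orderOf_dvd_of_pow_eq_one h1)
        rw [← pow_add]
        exact (coprime_card_pPrimeCore (G := N) q).pow_right _
      rw [hab, hb1, mul_one]
      exact haQ
    have hkx : x ∈ centralizer ((zpowers k : Subgroup N) : Set N) := by
      refine Cfsg.Lib.Coprime.centralizes_of_coprime_chain (D := Q₂) ?_ (zpowers_le.mpr hkC) fun w hw => ?_
      · obtain ⟨i, hi⟩ := IsPGroup.iff_card.mp hQ₂p
        rw [Nat.card_zpowers, hi]
        exact ((hq.out.coprime_iff_not_dvd.mpr hkq).symm).pow_right i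
      · have hwq : ¬ q ∣ orderOf w := fun h => hkq (h.trans (orderOf_dvd_of_mem_zpowers hw))
        have h1 := hstep w (zpowers_le.mpr hkC hw) hwq
        have h2 := (inferInstance : Q₂.Normal).conj_mem _ h1 x⁻¹
        rw [show x⁻¹ * w * x * w⁻¹ = x⁻¹ * (w * x * w⁻¹ * x⁻¹) * x⁻¹⁻¹ by group]
        exact h2
    exact (congrArg Subtype.val (mem_centralizer_iff.mp hkx k (mem_zpowers k))).symm
  have hUp : IsPGroup p U := (isPGroup_cr (p := p) M).comap_of_injective _ N.subtype_injective
  have hUL : U ≤ closure S := fun u hu => subset_closure ⟨hUQ hu, fun h => by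
    obtain ⟨i, hi⟩ := IsPGroup.iff_orderOf.mp hUp ⟨u, hu⟩
    rw [orderOf_mk] at hi
    rw [hi] at h
    exact hpq ((Nat.prime_dvd_prime_iff_eq hq.out hp.out).mp (hq.out.dvd_of_dvd_pow h)).symm⟩
  have hUn : closure S ≤ normalizer (U : Set N) := by
    intro g hg
    rw [mem_normalizer_iff]
    intro x
    rw [hU, mem_subgroupOf, mem_subgroupOf]
    exact mem_normalizer_iff.mp (cr_normalizer p M (hLM hg)) (x : G)
  have h := map_mono (f := N.subtype) (le_pCore_of_subnormal
    (isSubnormal_of_normal_in hLn.isSubnormal hUL hUn) hUp)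
  rwa [hU, subgroupOf_map_subtype, inf_eq_left.mpr (hMN p hp.out)] at h

/-- the layer of `M` lies in the layer of `N` -/
theorem layer_le_layer (h1 : (generalizedFittingSubgroup M).map M.subtype ≤ N)
    (h2 : (generalizedFittingSubgroup N).map N.subtype ≤ M) :
    (layer M).map M.subtype ≤ (layer N).map N.subtype := by
  have hEN : (layer M).map M.subtype ≤ N := (map_mono layer_le_genFitting).trans h1
  set F' := ((generalizedFittingSubgroup N).map N.subtype).subgroupOf M with hF'
  have hnorm : layer M ≤ normalizer (F' : Set M) := by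
    intro g hg
    have hgN : (g : G) ∈ N := hEN (mem_map_of_mem _ hg)
    have h3 : (g : G) ∈ normalizer (((generalizedFittingSubgroup N).map N.subtype : Subgroup G) : Set G) := by
      rw [mem_normalizer_iff]
      refine fun x => ⟨?_, fun hx => ?_⟩
      · rintro ⟨y, hy, rfl⟩
        exact ⟨⟨g, hgN⟩ * y * ⟨g, hgN⟩⁻¹, (inferInstance : (generalizedFittingSubgroup N).Normal).conj_mem y hy _, rfl⟩
      · obtain ⟨y, hy, hxy⟩ := hx
        refine ⟨⟨g, hgN⟩⁻¹ * y * ⟨g, hgN⟩, ?_, ?_⟩
        · simpa using (inferInstance : (generalizedFittingSubgroup N).Normal).conj_mem y hy ⟨g, hgN⟩⁻¹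
        · show (g : G)⁻¹ * (y : G) * g = x
          rw [show (y : G) = g * x * (g : G)⁻¹ from hxy]
          group
    rw [mem_normalizer_iff]
    intro x
    rw [hF', mem_subgroupOf, mem_subgroupOf]
    exact mem_normalizer_iff.mp h3 (x : G)
  refine map_le_iff_le_comap.mpr (sSup_le fun K hK => ?_)
  have hKX : K ≤ F' := by
    have hXn : layer M ≤ normalizer ((layer M ⊓ F' : Subgroup M) : Set M) :=
      fun g hg => inf_normalizer_le_normalizer_inf ⟨le_normalizer hg, hnorm hg⟩
    have hXs : (layer M ⊓ F').IsSubnormal :=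
      isSubnormal_of_normal_in (inferInstance : (layer M).Normal).isSubnormal inf_le_left hXn
    rcases comp_le_or_commute hK hXs with h | h
    · exact h.trans inf_le_right
    · have hK2 : ⁅K, F'⁆ ≤ layer M ⊓ F' := by
        refine le_inf ((commutator_mono (comp_le_layer hK) le_rfl).trans
          (le_normalizer_iff_commutator_le_left.mp le_normalizer_of_normal)) ?_
        rw [commutator_comm]
        exact le_normalizer_iff_commutator_le_left.mp ((comp_le_layer hK).trans hnorm)
      have h3 : ⁅⁅K, F'⁆, K⁆ = ⊥ := by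
        rw [eq_bot_iff, commutator_comm, ← h]
        exact commutator_mono le_rfl hK2
      have h4 := commutator_eq_bot_iff_le_centralizer.mp (commutator_eq_bot_of_perfect (comp_perfect hK) h3)
      intro k hk
      have hkN : (k : G) ∈ N := hEN (mem_map_of_mem _ (comp_le_layer hK hk))
      show (k : G) ∈ (generalizedFittingSubgroup N).map N.subtype
      refine ⟨⟨k, hkN⟩, centralizer_genFitting_le (mem_centralizer_iff.mpr fun f hf => Subtype.ext ?_), rfl⟩
      have hfM : (f : G) ∈ M := h2 (mem_map_of_mem _ hf)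
      have e := mem_centralizer_iff.mp (h4 hk) ⟨f, hfM⟩ (mem_subgroupOf.mpr (mem_map_of_mem _ hf))
      have e2 := congrArg (fun z : M => (z : G)) e
      exact e2
  intro k hk
  set P := (K.map M.subtype).subgroupOf N with hP
  have hKN : K.map M.subtype ≤ N := (map_mono (comp_le_layer hK)).trans hEN
  have hPF : P ≤ generalizedFittingSubgroup N := by
    intro x hx
    obtain ⟨y, hy, hyx⟩ := mem_subgroupOf.mp hx
    obtain ⟨z, hz, hzy⟩ := mem_subgroupOf.mp (hKX hy)
    rwa [show x = z from Subtype.ext (hyx.symm.trans hzy.symm)]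
  have hPP : ⁅P, P⁆ = P := by
    apply map_injective N.subtype_injective
    rw [map_commutator, hP, subgroupOf_map_subtype, inf_eq_left.mpr hKN, ← map_commutator, comp_perfect hK]
  set π := QuotientGroup.mk' (layer N)
  have himg : P.map π ≤ (fittingSubgroup N).map π := by
    refine (map_mono hPF).trans ?_
    rw [generalizedFittingSubgroup, Subgroup.map_sup]
    refine sup_le ?_ le_rfl
    rw [QuotientGroup.map_mk'_self]
    exact bot_le
  have hsol : Group.IsSolvable ((fittingSubgroup N).map π) := by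
    haveI := isSolvable_fitting (G := N)
    exact Group.isSolvable_of_surjective (π.subgroupMap_surjective (fittingSubgroup N))
  let θ : P →* (fittingSubgroup N).map π :=
    (π.comp P.subtype).codRestrict _ fun x => himg (mem_map_of_mem π x.2)
  have hθ := map_eq_one_of_perfect_solvable hPP hsol θ
  have hkP : (⟨k, hKN (mem_map_of_mem _ hk)⟩ : N) ∈ P := mem_subgroupOf.mpr (mem_map_of_mem _ hk)
  show (k : G) ∈ (layer N).map N.subtype
  exact ⟨_, (QuotientGroup.eq_one_iff _).mp (congrArg Subtype.val (hθ ⟨_, hkP⟩)), rfl⟩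

theorem exists_prime [IsSimpleGroup G] (hna : ¬ IsMulCommutative G) (hM : IsCoatom M) (hN : IsCoatom N)
    (hne : M ≠ N) (h1 : (generalizedFittingSubgroup M).map M.subtype ≤ N)
    (h2 : (generalizedFittingSubgroup N).map N.subtype ≤ M) :
    ∃ p : ℕ, p.Prime ∧ IsPGroup p (generalizedFittingSubgroup M) ∧
      IsPGroup p (generalizedFittingSubgroup N) := by
  have hmax : ∀ (L X : Subgroup G), IsCoatom L → X ≤ L → X ≠ ⊥ → L ≤ normalizer (X : Set G) →
      normalizer (X : Set G) = L := by
    intro L X hL hXL hX hn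
    refine (hL.le_iff.mp hn).resolve_left fun htop => ?_
    rcases (normalizer_eq_top_iff.mp htop).eq_bot_or_eq_top with h | h
    · exact hX h
    · exact hL.1 (top_le_iff.mp (h ▸ hXL))
  have hmapn : ∀ (L : Subgroup G) (X : Subgroup L), X.Normal → L ≤ normalizer ((X.map L.subtype : Subgroup G) : Set G) := by
    intro L X hX g hg
    rw [mem_normalizer_iff]
    refine fun x => ⟨?_, fun hx => ?_⟩
    · rintro ⟨y, hy, rfl⟩
      exact ⟨⟨g, hg⟩ * y * ⟨g, hg⟩⁻¹, hX.conj_mem y hy _, rfl⟩
    · obtain ⟨y, hy, hxy⟩ := hx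
      refine ⟨⟨g, hg⟩⁻¹ * y * ⟨g, hg⟩, ?_, ?_⟩
      · simpa using hX.conj_mem y hy ⟨g, hg⟩⁻¹
      · show g⁻¹ * (y : G) * g = x
        rw [show (y : G) = g * x * g⁻¹ from hxy]
        group
  have hE : (layer M).map M.subtype = (layer N).map N.subtype :=
    le_antisymm (layer_le_layer h1 h2) (layer_le_layer h2 h1)
  have hEM : (layer M).map M.subtype = ⊥ := by
    by_contra hb
    apply hne
    rw [← hmax M _ hM (map_subtype_le _) hb (hmapn M _ inferInstance), hE,
      hmax N _ hN (map_subtype_le _) (hE ▸ hb) (hmapn N _ inferInstance)]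
  have hlM : layer M = ⊥ := (map_eq_bot_iff_of_injective _ M.subtype_injective).mp hEM
  have hlN : layer N = ⊥ := (map_eq_bot_iff_of_injective _ N.subtype_injective).mp (hE ▸ hEM)
  have gM : generalizedFittingSubgroup M = fittingSubgroup M := by
    rw [generalizedFittingSubgroup, hlM, bot_sup_eq]
  have gN : generalizedFittingSubgroup N = fittingSubgroup N := by
    rw [generalizedFittingSubgroup, hlN, bot_sup_eq]
  have hcM : centralizer (fittingSubgroup M : Set M) ≤ fittingSubgroup M := gM ▸ centralizer_genFitting_le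
  have hcN : centralizer (fittingSubgroup N : Set N) ≤ fittingSubgroup N := gN ▸ centralizer_genFitting_le
  have hle : ∀ L : Subgroup G, ∀ r : ℕ, r.Prime → pCore r L ≤ fittingSubgroup L := fun L r hr => by
    haveI := Fact.mk hr
    exact le_fitting (isPGroup_pCore r).isNilpotent
  have hMN : ∀ r : ℕ, r.Prime → cr r M ≤ N := fun r hr =>
    (map_mono ((hle M r hr).trans gM.ge)).trans h1
  have hNM : ∀ r : ℕ, r.Prime → cr r N ≤ M := fun r hr =>
    (map_mono ((hle N r hr).trans gN.ge)).trans h2
  have hone : ∀ r : ℕ, ∀ s : ℕ, r.Prime → s.Prime → cr r M ≠ ⊥ → cr s M ≠ ⊥ → r = s := by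
    intro r s hr hs hr0 hs0
    by_contra hrs
    haveI := Fact.mk hr
    haveI := Fact.mk hs
    have hs0' : cr s N ≠ ⊥ := cr_ne_bot hcN hMN hNM hs0
    have e1 : cr r M = cr r N := le_antisymm
      (cr_le_cr rfl hcN hMN hNM ((map_mono gN.ge).trans h2) hrs
        (hmax M _ hM (cr_le s M) hs0 (cr_normalizer s M)))
      (cr_le_cr rfl hcM hNM hMN ((map_mono gM.ge).trans h1) hrs
        (hmax N _ hN (cr_le s N) hs0' (cr_normalizer s N)))
    apply hne
    rw [← hmax M _ hM (cr_le r M) hr0 (cr_normalizer r M), e1,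
      hmax N _ hN (cr_le r N) (e1 ▸ hr0) (cr_normalizer r N)]
  obtain ⟨p, hp, hp0⟩ : ∃ p : ℕ, p.Prime ∧ cr p M ≠ ⊥ := by
    by_contra hcon
    push Not at hcon
    have hf : fittingSubgroup M = ⊥ := by
      rw [fitting_eq_iSup_pCore, iSup_eq_bot]
      exact fun r => (map_eq_bot_iff_of_injective _ M.subtype_injective).mp (hcon r.1 r.2)
    have hMbot : M = ⊥ := by
      rw [eq_bot_iff]
      intro g hg
      have h : (⟨g, hg⟩ : M) ∈ (⊥ : Subgroup M) := hf ▸ hcM (mem_centralizer_iff.mpr fun z hz => by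
        rw [hf] at hz; rw [show z = 1 from hz, one_mul, mul_one])
      exact mem_bot.mpr (congrArg Subtype.val (mem_bot.mp h))
    apply hna
    obtain ⟨g, hg⟩ : ∃ g : G, g ∉ M := by
      by_contra h; push Not at h; exact hM.1 (eq_top_iff.mpr fun x _ => h x)
    have htop : zpowers g = ⊤ := hM.2 _ (lt_of_le_of_ne (hMbot ▸ bot_le) fun h => hg (h ▸ mem_zpowers g))
    exact ⟨⟨fun a b => by
      obtain ⟨i, rfl⟩ := mem_zpowers_iff.mp (htop ▸ mem_top a)
      obtain ⟨j, rfl⟩ := mem_zpowers_iff.mp (htop ▸ mem_top b)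
      exact (Commute.zpow_zpow_self g i j).eq⟩⟩
  haveI := Fact.mk hp
  refine ⟨p, hp, ?_, ?_⟩
  · rw [gM]
    refine (isPGroup_pCore p).to_le ?_
    rw [fitting_eq_iSup_pCore]
    refine iSup_le fun r => ?_
    by_cases h : cr r.1 M = ⊥
    · rw [(map_eq_bot_iff_of_injective _ M.subtype_injective).mp h]; exact bot_le
    · exact le_of_eq (by rw [hone r.1 p r.2 hp h hp0])
  · rw [gN]
    refine (isPGroup_pCore p).to_le ?_
    rw [fitting_eq_iSup_pCore]
    refine iSup_le fun r => ?_
    by_cases h : cr r.1 N = ⊥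
    · rw [(map_eq_bot_iff_of_injective _ N.subtype_injective).mp h]; exact bot_le
    · haveI := Fact.mk r.2
      exact le_of_eq (by rw [hone r.1 p r.2 hp (cr_ne_bot hcM hNM hMN h) hp0])

end Cfsg.Lib.Misc.BenderPair
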