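import Cfsg.Agent.Components.Misc.NaturalSL2
import Cfsg.Agent.Components.Cores

/-!
The affine group `Qd` over a finite field.
-/

set_option linter.style.haveILetI false
set_option linter.unusedSectionVars false

namespace Cfsg.Lib.Misc.QdOver

open Subgroup Matrix

variable {F : Type*} [Field F]

local notation "SL2" => Matrix.SpecialLinearGroup (Fin 2) F
local notation "SL3" => Matrix.SpecialLinearGroup (Fin 3) F

/-- last row `(0,0,1)` -/
def IsAff (M : SL3) : Prop :=
  (M : Matrix (Fin 3) (Fin 3) F) 2 0 = 0 ∧ (M : Matrix (Fin 3) (Fin 3) F) 2 1 = 0 ∧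
    (M : Matrix (Fin 3) (Fin 3) F) 2 2 = 1

theorem isAff_mul {M N : SL3} (hM : IsAff M) (hN : IsAff N) : IsAff (M * N) := by
  obtain ⟨a, b, c⟩ := hM
  obtain ⟨a', b', c'⟩ := hN
  simp [IsAff, Matrix.mul_apply, Fin.sum_univ_three, a, b, c, a', b', c']

theorem mem_qd_iff [Finite F] (M : SL3) : M ∈ Cfsg.qdOver F ↔ IsAff M := by
  refine ⟨fun h => ?_, fun h => subset_closure h⟩
  induction h using closure_induction with
  | mem g hg => exact hg
  | one => simp [IsAff]
  | mul a b _ _ ha hb => exact isAff_mul ha hb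
  | inv a _ ha =>
    have h1 : ∀ n : ℕ, IsAff (a ^ n) := fun n => by
      induction n with
      | zero => simp [IsAff]
      | succ n ih => rw [pow_succ]; exact isAff_mul ih ha
    have e : a⁻¹ = a ^ (orderOf a - 1) := by
      refine inv_eq_of_mul_eq_one_right ?_
      rw [← pow_succ', Nat.sub_add_cancel (orderOf_pos a), pow_orderOf_eq_one]
    rw [e]
    exact h1 _

variable [Finite F]

set_option quotPrecheck false in
local notation "Q" => ↥(Cfsg.qdOver F)

theorem aff (x : Q) : IsAff (x : SL3) := (mem_qd_iff _).mp x.2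

/-- affine element with linear part `A` and translation part `z` -/
def mk (A : SL2) (z : Fin 2 → F) : Q :=
  ⟨⟨!![(A : Matrix (Fin 2) (Fin 2) F) 0 0, (A : Matrix (Fin 2) (Fin 2) F) 0 1, z 0;
      (A : Matrix (Fin 2) (Fin 2) F) 1 0, (A : Matrix (Fin 2) (Fin 2) F) 1 1, z 1;
      0, 0, 1], by
        have h := A.2
        rw [det_fin_two] at h
        simp [det_fin_three]
        linear_combination h⟩, (mem_qd_iff _).mpr (by simp [IsAff])⟩

theorem coe_mk (A : SL2) (z : Fin 2 → F) : ((mk A z : SL3) : Matrix (Fin 3) (Fin 3) F) =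
    !![(A : Matrix (Fin 2) (Fin 2) F) 0 0, (A : Matrix (Fin 2) (Fin 2) F) 0 1, z 0;
      (A : Matrix (Fin 2) (Fin 2) F) 1 0, (A : Matrix (Fin 2) (Fin 2) F) 1 1, z 1; 0, 0, 1] := rfl

theorem mk_mul (A B : SL2) (z w : Fin 2 → F) :
    mk A z * mk B w = mk (A * B) ((A : Matrix (Fin 2) (Fin 2) F).mulVec w + z) := by
  refine Subtype.ext (Subtype.ext ?_)
  show ((mk A z : SL3) : Matrix (Fin 3) (Fin 3) F) * ((mk B w : SL3) : Matrix (Fin 3) (Fin 3) F) = _
  rw [coe_mk, coe_mk, coe_mk]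
  ext i j
  fin_cases i <;> fin_cases j <;>
    simp [Matrix.mul_apply, Fin.sum_univ_three, Fin.sum_univ_two, mulVec, dotProduct]

theorem mk_one : mk (1 : SL2) (0 : Fin 2 → F) = 1 := by
  refine Subtype.ext (Subtype.ext ?_)
  rw [coe_mk]
  ext i j
  fin_cases i <;> fin_cases j <;> simp

/-- linear part -/
def lin (x : Q) : SL2 :=
  ⟨!![((x : SL3) : Matrix (Fin 3) (Fin 3) F) 0 0, ((x : SL3) : Matrix (Fin 3) (Fin 3) F) 0 1;
      ((x : SL3) : Matrix (Fin 3) (Fin 3) F) 1 0, ((x : SL3) : Matrix (Fin 3) (Fin 3) F) 1 1], by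
    obtain ⟨a, b, c⟩ := aff x
    have h := (x : SL3).2
    rw [det_fin_three] at h
    simp only [a, b, c] at h
    simp [det_fin_two]
    linear_combination h⟩

/-- translation part -/
def trans (x : Q) : Fin 2 → F :=
  ![((x : SL3) : Matrix (Fin 3) (Fin 3) F) 0 2, ((x : SL3) : Matrix (Fin 3) (Fin 3) F) 1 2]

theorem lin_mk (A : SL2) (z : Fin 2 → F) : lin (mk A z) = A := by
  refine Subtype.ext ?_
  ext i j
  fin_cases i <;> fin_cases j <;> simp [lin, coe_mk]

theorem trans_mk (A : SL2) (z : Fin 2 → F) : trans (mk A z) = z := by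
  funext i
  fin_cases i <;> simp [trans, coe_mk]

theorem mk_eta (x : Q) : mk (lin x) (trans x) = x := by
  obtain ⟨a, b, c⟩ := aff x
  refine Subtype.ext (Subtype.ext ?_)
  rw [coe_mk]
  ext i j
  fin_cases i <;> fin_cases j <;> simp [lin, trans, a, b, c]

def linHom : Q →* SL2 :=
  MonoidHom.mk' lin fun x y => by
    conv_lhs => rw [← mk_eta x, ← mk_eta y, mk_mul, lin_mk]

theorem linHom_apply (x : Q) : linHom x = lin x := rfl

def tHom : Multiplicative (Fin 2 → F) →* Q :=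
  MonoidHom.mk' (fun z => mk 1 z.toAdd) fun z w => by
    rw [mk_mul, one_mul, Matrix.SpecialLinearGroup.coe_one, one_mulVec]
    exact congrArg _ (add_comm _ _)

theorem tHom_apply (z : Multiplicative (Fin 2 → F)) : tHom z = mk (1 : SL2) z.toAdd := rfl

def sHom : SL2 →* Q :=
  MonoidHom.mk' (fun A => mk A 0) fun A B => by rw [mk_mul, mulVec_zero, add_zero]

theorem sHom_apply (A : SL2) : sHom A = mk A 0 := rfl

theorem range_tHom : (tHom : Multiplicative (Fin 2 → F) →* Q).range = linHom.ker := by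
  refine le_antisymm ?_ fun x hx => ?_
  · rintro _ ⟨z, rfl⟩
    exact lin_mk _ _
  · refine ⟨Multiplicative.ofAdd (trans x), ?_⟩
    conv_rhs => rw [← mk_eta x, show lin x = 1 from hx]
    rfl

theorem pCore_eq {p : ℕ} [Fact p.Prime] [Fintype F] [CharP F p] : Cfsg.pCore p Q = linHom.ker := by
  have hp : p.Prime := Fact.out
  refine le_antisymm ?_ (Cfsg.Lib.Components.le_pCore ?_)
  · obtain ⟨k, -, hk⟩ := FiniteField.card F p
    set N := (Cfsg.pCore p Q).map (linHom (F := F)) with hN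
    haveI : N.Normal := Subgroup.Normal.map inferInstance _ fun A => ⟨sHom A, lin_mk _ _⟩
    have hNp : IsPGroup p N := (Cfsg.Lib.Components.isPGroup_pCore p).map _
    obtain ⟨P, hP⟩ := hNp.exists_le_sylow
    obtain ⟨M, hM⟩ := Cfsg.Lib.Misc.NaturalSL2.exists_conj_upper k.pos hk P
    have hall : ∀ y ∈ N, ∀ A : SL2, Cfsg.Lib.Misc.NaturalSL2.IsU (A * y * A⁻¹) := by
      intro y hy A
      have h := (hM _).mp (hP (Normal.conj_mem inferInstance y hy (M⁻¹ * A)))
      rwa [show M * (M⁻¹ * A * y * (M⁻¹ * A)⁻¹) * M⁻¹ = A * y * A⁻¹ by group] at h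
    intro x hx
    have hy := hall (lin x) ⟨x, hx, rfl⟩
    have h1 := hy 1
    set w : SL2 := ⟨!![0, -1; 1, 0], by simp [det_fin_two]⟩ with hw
    have h2 := (hy w).1
    rw [one_mul, inv_one, mul_one] at h1
    obtain ⟨h10, h00, h11⟩ := h1
    have e : w * lin x = (w * lin x * w⁻¹) * w := by group
    generalize w * lin x * w⁻¹ = v at h2 e
    have h01 : (lin x : Matrix (Fin 2) (Fin 2) F) 0 1 = 0 := by
      have := congrArg (fun Z : SL2 => (Z : Matrix (Fin 2) (Fin 2) F) 1 1) e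
      change ((w : Matrix (Fin 2) (Fin 2) F) * (lin x : Matrix (Fin 2) (Fin 2) F)) 1 1 =
        ((v : Matrix (Fin 2) (Fin 2) F) * (w : Matrix (Fin 2) (Fin 2) F)) 1 1 at this
      simpa [hw, Matrix.mul_apply, Fin.sum_univ_two, h2] using this
    rw [MonoidHom.mem_ker, linHom_apply]
    refine Subtype.ext ?_
    ext i j
    fin_cases i <;> fin_cases j <;> simp [h10, h00, h11, h01]
  · rw [← range_tHom]
    rintro ⟨_, z, rfl⟩
    refine ⟨1, Subtype.ext ?_⟩
    show (tHom z) ^ p ^ 1 = 1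
    rw [pow_one, ← map_pow]
    have : z ^ p = 1 := Multiplicative.toAdd.injective (by
      funext i
      simp [CharP.cast_eq_zero F p])
    rw [this, map_one]

theorem mem_ker_iff (M : Q) : M ∈ linHom.ker ↔
    ((M : SL3) : Matrix (Fin 3) (Fin 3) F) 0 0 = 1 ∧ ((M : SL3) : Matrix (Fin 3) (Fin 3) F) 0 1 = 0 ∧
      ((M : SL3) : Matrix (Fin 3) (Fin 3) F) 1 0 = 0 ∧ ((M : SL3) : Matrix (Fin 3) (Fin 3) F) 1 1 = 1 := by
  rw [MonoidHom.mem_ker, linHom_apply]
  constructor
  · intro h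
    have e : ∀ i j, (lin M : Matrix (Fin 2) (Fin 2) F) i j = (1 : Matrix (Fin 2) (Fin 2) F) i j := fun i j => by
      rw [h, Matrix.SpecialLinearGroup.coe_one]
    exact ⟨by simpa [lin] using e 0 0, by simpa [lin] using e 0 1, by simpa [lin] using e 1 0,
      by simpa [lin] using e 1 1⟩
  · rintro ⟨a, b, c, d⟩
    refine Subtype.ext ?_
    ext i j
    fin_cases i <;> fin_cases j <;> simp [lin, a, b, c, d]

theorem mem_range_sHom (M : Q) : M ∈ (sHom : SL2 →* Q).range ↔
    ((M : SL3) : Matrix (Fin 3) (Fin 3) F) 0 2 = 0 ∧ ((M : SL3) : Matrix (Fin 3) (Fin 3) F) 1 2 = 0 := by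
  constructor
  · rintro ⟨A, rfl⟩
    simp [sHom_apply, coe_mk]
  · rintro ⟨a, b⟩
    refine ⟨lin M, ?_⟩
    have : trans M = 0 := by funext i; fin_cases i <;> simp [trans, a, b]
    conv_rhs => rw [← mk_eta M, this]
    rfl

theorem conj_eq (A : SL2) (z : Fin 2 → F) :
    sHom A * mk 1 z * (sHom A)⁻¹ = mk 1 ((A : Matrix (Fin 2) (Fin 2) F).mulVec z) := by
  rw [mul_inv_eq_iff_eq_mul, sHom_apply, mk_mul, mk_mul, mulVec_zero, zero_add, add_zero, mul_one, one_mul]

theorem natural {p : ℕ} [Fact p.Prime] [Fintype F] [CharP F p] :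
    Cfsg.IsNaturalSL2Module F (Cfsg.pCore p Q) (sHom : SL2 →* Q).range := by
  rw [pCore_eq]
  refine ⟨fun g _ => le_normalizer_of_normal (K := ⊤) (mem_top g), ?_⟩
  refine ⟨(linHom (F := F)).comp (sHom : SL2 →* Q).range.subtype,
    { toFun := fun x => trans ((Additive.toMul x : linHom.ker) : Q)
      invFun := fun z => Additive.ofMul (⟨mk 1 z, lin_mk _ _⟩ : linHom.ker)
      left_inv := fun x => by
        refine congrArg Additive.ofMul (Subtype.ext ?_)
        exact ((congrArg (fun B => mk B (trans ((Additive.toMul x : linHom.ker) : Q)))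
          (show lin ((Additive.toMul x : linHom.ker) : Q) = 1 from (Additive.toMul x : linHom.ker).2).symm).trans
          (mk_eta _))
      right_inv := fun z => trans_mk _ _
      map_add' := fun x y => by
        show trans (((Additive.toMul x : linHom.ker) : Q) * ((Additive.toMul y : linHom.ker) : Q)) = _
        conv_lhs => rw [← mk_eta ((Additive.toMul x : linHom.ker) : Q), ← mk_eta ((Additive.toMul y : linHom.ker) : Q),
          mk_mul, trans_mk, show lin ((Additive.toMul x : linHom.ker) : Q) = 1 from (Additive.toMul x : linHom.ker).2,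
          Matrix.SpecialLinearGroup.coe_one, one_mulVec, add_comm] }, ?_, ?_, ?_⟩
  · intro A
    exact ⟨⟨sHom A, A, rfl⟩, lin_mk _ _⟩
  · ext ⟨_, A, rfl⟩
    rw [MonoidHom.mem_ker, mem_subgroupOf]
    show lin (sHom A) = 1 ↔ sHom A ∈ centralizer _
    rw [sHom_apply, lin_mk]
    constructor
    · rintro rfl
      rw [mk_one]; exact one_mem _
    · intro h
      have key : ∀ z, (A : Matrix (Fin 2) (Fin 2) F).mulVec z = z := fun z => by
        have h1 := mem_centralizer_iff.mp h (mk 1 z) (lin_mk _ _)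
        have h2 := congrArg trans h1
        simp [mk_mul, trans_mk, one_mulVec] at h2
        rw [Cfsg.Lib.Misc.NaturalSL2.mulVec_fin2]; exact h2.symm
      refine Subtype.ext ?_
      ext i j
      have := congrFun (key (Pi.single j 1)) i
      fin_cases i <;> fin_cases j <;> simpa [mulVec, dotProduct, Fin.sum_univ_two] using this
  · rintro ⟨_, A, rfl⟩ ⟨v, hv⟩
    have hv1 : lin v = 1 := hv
    have e : sHom A * v * (sHom A)⁻¹ = mk 1 ((A : Matrix (Fin 2) (Fin 2) F).mulVec (trans v)) := by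
      conv_lhs => rw [← mk_eta v, hv1]
      exact conj_eq A _
    refine ⟨⟨sHom A * v * (sHom A)⁻¹, by rw [e]; exact lin_mk _ _⟩, rfl, ?_⟩
    show trans (sHom A * v * (sHom A)⁻¹) = (lin (sHom A) : Matrix (Fin 2) (Fin 2) F).mulVec (trans v)
    rw [e, trans_mk, sHom_apply, lin_mk]

theorem structure_qd {p : ℕ} [Fact p.Prime] [Fintype F] [CharP F p] :
    (∀ M : Q, M ∈ Cfsg.pCore p Q ↔ ((M : SL3) : Matrix (Fin 3) (Fin 3) F) 0 0 = 1 ∧
      ((M : SL3) : Matrix (Fin 3) (Fin 3) F) 0 1 = 0 ∧ ((M : SL3) : Matrix (Fin 3) (Fin 3) F) 1 0 = 0 ∧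
      ((M : SL3) : Matrix (Fin 3) (Fin 3) F) 1 1 = 1) ∧
    ∃ K : Subgroup Q, (∀ M : Q, M ∈ K ↔ ((M : SL3) : Matrix (Fin 3) (Fin 3) F) 0 2 = 0 ∧
      ((M : SL3) : Matrix (Fin 3) (Fin 3) F) 1 2 = 0) ∧ K ⊓ Cfsg.pCore p Q = ⊥ ∧ K ⊔ Cfsg.pCore p Q = ⊤ ∧
      Nonempty (↥K ≃* SL2) ∧ Cfsg.IsNaturalSL2Module F (Cfsg.pCore p Q) K := by
  refine ⟨fun M => by rw [pCore_eq, mem_ker_iff], (sHom : SL2 →* Q).range, mem_range_sHom, ?_, ?_, ?_, natural⟩
  · rw [pCore_eq, eq_bot_iff]
    rintro _ ⟨⟨A, rfl⟩, hA⟩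
    have hA' : lin (sHom A) = 1 := hA
    rw [sHom_apply, lin_mk] at hA'
    rw [hA', map_one]
    exact one_mem _
  · rw [pCore_eq, eq_top_iff]
    intro x _
    rw [show x = sHom (lin x) * ((sHom (lin x))⁻¹ * x) by rw [mul_inv_cancel_left]]
    refine mul_mem_sup ⟨_, rfl⟩ ?_
    rw [MonoidHom.mem_ker, map_mul, map_inv, linHom_apply, linHom_apply, sHom_apply, lin_mk, inv_mul_cancel]
  · refine ⟨(MonoidHom.ofInjective fun A B h => ?_).symm⟩
    have := congrArg lin h
    rwa [sHom_apply, sHom_apply, lin_mk, lin_mk] at this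

end Cfsg.Lib.Misc.QdOver
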