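import Mathlib.GroupTheory.Transfer
import Mathlib.GroupTheory.Abelianization.Defs
import Mathlib.GroupTheory.GroupAction.FixedPoints
import Mathlib.GroupTheory.Sylow
import Mathlib.GroupTheory.SpecificGroups.Cyclic

/-!
Thompson's transfer lemma in the form of extremal conjugation.
-/

set_option linter.style.haveILetI false
set_option linter.unusedSectionVars false

namespace Cfsg.Lib.Misc.ExtremalTransfer

open Subgroup

variable {G : Type*} [Group G] [Finite G]

theorem eq_of_sq {Q : Type*} [Group Q] [Finite Q] [IsCyclic Q] {a b : Q} (ha : a ^ 2 = 1) (hb : b ^ 2 = 1)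
    (ha1 : a ≠ 1) (hb1 : b ≠ 1) : a = b := by
  classical
  haveI := Fintype.ofFinite Q
  by_contra h
  have h3 := IsCyclic.card_pow_eq_one_le (α := Q) two_pos
  have hsub : ({1, a, b} : Finset Q) ⊆ Finset.univ.filter fun c => c ^ 2 = 1 := by
    intro c hc
    simp only [Finset.mem_insert, Finset.mem_singleton] at hc
    rcases hc with rfl | rfl | rfl <;> simp [ha, hb]
  have := (Finset.card_le_card hsub).trans h3
  rw [Finset.card_insert_of_notMem (by simp [Ne.symm ha1, Ne.symm hb1]),
    Finset.card_insert_of_notMem (by simp [h]), Finset.card_singleton] at this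
  omega

/-- The transfer of an involution is the product over its fixed cosets. -/
theorem extremal (S : Sylow 2 G) (T : Subgroup G) (hTS : T ≤ S)
    [hTn : (T.subgroupOf (S : Subgroup G)).Normal]
    (hcyc : IsCyclic (↥(S : Subgroup G) ⧸ T.subgroupOf (S : Subgroup G)))
    (hperf : commutator G = ⊤) (y : G) (hy : orderOf y = 2) (hyS : y ∈ S) (hyT : y ∉ T) :
    ∃ g : G, g * y * g⁻¹ ∈ T ∧
      ¬ 2 ∣ ((S : Subgroup G) ⊓ centralizer {g * y * g⁻¹}).relIndex (centralizer {g * y * g⁻¹}) ∧
      ((S : Subgroup G) ⊓ centralizer {y}).map (MulAut.conj g).toMonoidHom ≤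
        (S : Subgroup G) ⊓ centralizer {g * y * g⁻¹} := by
  classical
  set H : Subgroup G := (S : Subgroup G) with hH
  haveI := hcyc
  letI : CommGroup (H ⧸ T.subgroupOf H) := IsCyclic.commGroup
  let φ : H →* H ⧸ T.subgroupOf H := QuotientGroup.mk' (T.subgroupOf H)
  have hy2 : y ^ 2 = 1 := hy ▸ pow_orderOf_eq_one y
  set z := φ ⟨y, hyS⟩ with hz
  have hz1 : z ≠ 1 := fun h => hyT (mem_subgroupOf.1 ((QuotientGroup.eq_one_iff _).1 h))
  have hz2 : z ^ 2 = 1 := by
    rw [hz, ← map_pow, show (⟨y, hyS⟩ : H) ^ 2 = 1 from Subtype.ext hy2, map_one]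
  haveI := Fintype.ofFinite (G ⧸ H)
  haveI := Fintype.ofFinite (MulAction.orbitRel.Quotient (zpowers y) (G ⧸ H))
  let P : G ⧸ H → Prop := fun x => x.out⁻¹ * y * x.out ∈ T
  let e : G ⧸ H → H ⧸ T.subgroupOf H := fun x =>
    if h : x.out⁻¹ * y * x.out ∈ H then φ ⟨_, h⟩ else 1
  have hfix : ∀ x : G ⧸ H, y • x = x ↔ x.out⁻¹ * y * x.out ∈ H := fun x => by
    conv_lhs => rw [← QuotientGroup.out_eq' x, MulAction.Quotient.smul_mk, eq_comm, QuotientGroup.eq]
    rw [smul_eq_mul, mul_assoc]
  have he : ∀ x, e x = if x.out⁻¹ * y * x.out ∈ H ∧ ¬ P x then z else 1 := by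
    intro x
    simp only [e]
    by_cases h : x.out⁻¹ * y * x.out ∈ H
    · rw [dif_pos h]
      by_cases hP : P x
      · rw [if_neg fun h' => h'.2 hP]
        exact (QuotientGroup.eq_one_iff _).2 (mem_subgroupOf.2 hP)
      · rw [if_pos ⟨h, hP⟩]
        refine eq_of_sq ?_ hz2 (fun h1 => hP (mem_subgroupOf.1 ((QuotientGroup.eq_one_iff _).1 h1))) hz1
        rw [← map_pow, show (⟨x.out⁻¹ * y * x.out, h⟩ : H) ^ 2 = 1 from Subtype.ext (by
          show (x.out⁻¹ * y * x.out) ^ 2 = 1
          calc (x.out⁻¹ * y * x.out) ^ 2 = x.out⁻¹ * y ^ 2 * x.out := by rw [pow_two, pow_two]; group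
            _ = 1 := by rw [hy2]; group), map_one]
    · rw [dif_neg h, if_neg fun h' => h h'.1]
  -- the transfer
  have hV : MonoidHom.transfer φ y = 1 := by
    have h1 : commutator G ≤ (MonoidHom.transfer φ).ker := Abelianization.commutator_subset_ker (MonoidHom.transfer φ)
    exact MonoidHom.mem_ker.1 (h1 (hperf.ge (mem_top y)))
  rw [MonoidHom.transfer_eq_prod_quotient_orbitRel_zpowers_quot] at hV
  have hprod : ∏ x : G ⧸ H, e x = 1 := by
    rw [← hV]
    symm
    refine (Finset.prod_congr rfl (g := fun q => e q.out) fun q _ => ?_).trans ?_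
    · set x := q.out
      have hper : Function.IsPeriodicPt (y • ·) 2 x := by
        show y • y • x = x
        rw [← mul_smul, ← pow_two, hy2, one_smul]
      rcases (Nat.dvd_prime Nat.prime_two).1 hper.minimalPeriod_dvd with hm | hm
      · have hfx : y • x = x := Function.minimalPeriod_eq_one_iff_isFixedPt.1 hm
        simp only [e, dif_pos ((hfix x).1 hfx)]
        exact congrArg φ (Subtype.ext (by show x.out⁻¹ * y ^ _ * x.out = _; rw [hm, pow_one]))
      · have hnf : ¬ y • x = x := fun h => by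
          have := Function.minimalPeriod_eq_one_iff_isFixedPt.2 (show Function.IsFixedPt (y • ·) x from h)
          omega
        simp only [e, dif_neg fun h => hnf ((hfix x).2 h)]
        rw [← map_one φ]
        exact congrArg φ (Subtype.ext (by
          show x.out⁻¹ * y ^ _ * x.out = 1
          rw [hm, hy2, mul_one, inv_mul_cancel]))
    · refine Finset.prod_bij_ne_one (fun q _ _ => q.out) (fun _ _ _ => Finset.mem_univ _) ?_ ?_ (fun _ _ _ => rfl)
      · intro a _ _ b _ _ hab
        rw [← a.out_eq, ← b.out_eq, hab]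
      · intro x _ hx
        have hxf : y • x = x := by
          rw [hfix]
          by_contra h
          exact hx (by simp only [e, dif_neg h])
        have hq : Quotient.out (Quotient.mk (MulAction.orbitRel (zpowers y) (G ⧸ H)) x) = x := by
          have hmem := Quotient.mk_out (s := MulAction.orbitRel (zpowers y) (G ⧸ H)) x
          obtain ⟨⟨_, k, rfl⟩, hk⟩ := hmem
          rw [← hk]
          exact MulAction.fixedBy_subset_fixedBy_zpow (G ⧸ H) y k hxf
        exact ⟨_, Finset.mem_univ _, by rw [hq]; exact hx, hq⟩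
  -- counting
  set B := Finset.univ.filter fun x : G ⧸ H => x.out⁻¹ * y * x.out ∈ H ∧ ¬ P x with hB
  set A := Finset.univ.filter fun x : G ⧸ H => P x with hA
  have hBeven : Even B.card := by
    rw [Finset.prod_congr rfl fun x _ => he x, Finset.prod_ite, Finset.prod_const, Finset.prod_const_one,
      mul_one] at hprod
    have := orderOf_dvd_of_pow_eq_one hprod
    rw [orderOf_eq_prime hz2 hz1] at this
    exact even_iff_two_dvd.2 this
  have hsum : A.card + B.card = Nat.card (MulAction.fixedPoints (zpowers y) (G ⧸ H)) := by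
    rw [← Finset.card_union_of_disjoint (Finset.disjoint_left.2 fun x hxA hxB => by
      simp only [hA, hB, Finset.mem_filter] at hxA hxB; exact hxB.2.2 hxA.2)]
    rw [← Nat.card_eq_finsetCard]
    refine Nat.card_congr (Equiv.subtypeEquivRight fun x => ?_)
    have hiff : x ∈ MulAction.fixedPoints (zpowers y) (G ⧸ H) ↔ y • x = x :=
      ⟨fun h => h ⟨y, mem_zpowers y⟩, fun h => by
        rintro ⟨_, k, rfl⟩
        exact MulAction.fixedBy_subset_fixedBy_zpow (G ⧸ H) y k h⟩
    rw [hiff, hfix, Finset.mem_union, hA, hB, Finset.mem_filter, Finset.mem_filter]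
    simp only [Finset.mem_univ, true_and]
    exact ⟨fun h => h.elim (fun h => hTS h) fun h => h.1, fun h => (em (P x)).imp id fun h' => ⟨h, h'⟩⟩
  have hodd : ¬ 2 ∣ A.card := by
    intro hd
    have hmod := (IsPGroup.of_card (p := 2) (n := 1) (by rw [Nat.card_zpowers, hy, pow_one]) :
      IsPGroup 2 (zpowers y)).card_modEq_card_fixedPoints (G ⧸ H)
    rw [← hsum, ← H.index_eq_card] at hmod
    have h1 : ¬ 2 ∣ H.index := S.not_dvd_index
    unfold Nat.ModEq at hmod
    obtain ⟨c, hc⟩ := hBeven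
    omega
  -- the action of the centralizer of `y`
  have hwd : ∀ g : G, P (g : G ⧸ H) ↔ g⁻¹ * y * g ∈ T := by
    intro g
    obtain ⟨s, hs⟩ := QuotientGroup.mk_out_eq_mul H g
    show ((g : G ⧸ H).out)⁻¹ * y * (g : G ⧸ H).out ∈ T ↔ _
    rw [hs]
    have key : ∀ (t : H) (a : G), a ∈ T → (t : G) * a * (t : G)⁻¹ ∈ T := fun t a ha =>
      mem_subgroupOf.1 (hTn.conj_mem ⟨a, hTS ha⟩ (mem_subgroupOf.2 ha) t)
    constructor
    · intro h
      simpa [mul_assoc] using key s _ h
    · intro h
      simpa [mul_assoc] using key s⁻¹ _ h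
  set C := centralizer ({y} : Set G) with hC
  let act : MulAction C {x : G ⧸ H // P x} :=
    { smul := fun c x => ⟨(c : G) • x.1, by
        obtain ⟨g, hg⟩ := QuotientGroup.mk_surjective x.1
        rw [← hg, MulAction.Quotient.smul_mk, smul_eq_mul, hwd]
        have hc : (c : G) * y = y * c := mem_centralizer_singleton_iff.1 c.2
        have h := x.2
        rw [← hg, hwd] at h
        have e1 : ((c : G) * g)⁻¹ * y * ((c : G) * g) = g⁻¹ * ((c : G)⁻¹ * (y * (c : G))) * g := by group
        rw [e1, ← hc, inv_mul_cancel_left]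
        exact h⟩
      one_smul := fun x => Subtype.ext (one_smul G x.1)
      mul_smul := fun a b x => Subtype.ext (mul_smul (a : G) (b : G) x.1) }
  letI := act
  have hCP : IsPGroup 2 (((S : Subgroup G) ⊓ C).subgroupOf C) :=
    (S.2.to_le inf_le_left).comap_subtype
  obtain ⟨R, hR⟩ := hCP.exists_le_sylow
  obtain ⟨⟨x, hxP⟩, hxfix⟩ := R.2.nonempty_fixed_point_of_prime_not_dvd_card {x : G ⧸ H // P x} (by
    rwa [Nat.card_eq_fintype_card, Fintype.card_subtype])
  obtain ⟨h, rfl⟩ := QuotientGroup.mk_surjective x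
  rw [hwd] at hxP
  have hC' : ∀ c ∈ C, h⁻¹ * c * h ∈ centralizer ({h⁻¹ * y * h} : Set G) := fun c hc =>
    mem_centralizer_singleton_iff.2 (by
      calc h⁻¹ * c * h * (h⁻¹ * y * h) = h⁻¹ * (c * y) * h := by group
        _ = h⁻¹ * (y * c) * h := by rw [mem_centralizer_singleton_iff.1 hc]
        _ = _ := by group)
  have hRS : (R.1.map C.subtype).map (MulAut.conj h⁻¹).toMonoidHom ≤ (S : Subgroup G) ⊓ centralizer {h⁻¹ * y * h} := by
    rintro _ ⟨_, ⟨r, hr, rfl⟩, rfl⟩
    have hf : ((r : G) * h : G) = ((h : G) : G ⧸ H) := congrArg Subtype.val (hxfix ⟨r, hr⟩)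
    have hr' := QuotientGroup.eq.1 hf.symm
    refine ⟨?_, ?_⟩
    · simpa [hH, mul_assoc] using SetLike.mem_coe.2 hr'
    · simpa [mul_assoc] using hC' r r.2
  refine ⟨h⁻¹, by rwa [inv_inv], ?_, ?_⟩
  · rw [inv_inv]
    intro hd
    have hCm : C.map (MulAut.conj h⁻¹).toMonoidHom = centralizer ({h⁻¹ * y * h} : Set G) := by
      refine le_antisymm ?_ fun c hc => ⟨h * c * h⁻¹, mem_centralizer_singleton_iff.2 ?_, by simp [mul_assoc]⟩
      · rintro _ ⟨c, hc, rfl⟩
        simpa [mul_assoc] using hC' c hc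
      · calc h * c * h⁻¹ * y = h * (c * (h⁻¹ * y * h)) * h⁻¹ := by group
          _ = h * ((h⁻¹ * y * h) * c) * h⁻¹ := by rw [mem_centralizer_singleton_iff.1 hc]
          _ = _ := by group
    have h1 := relIndex_dvd_of_le_left (centralizer ({h⁻¹ * y * h} : Set G)) hRS
    have h2 : ((R.1.map C.subtype).map (MulAut.conj h⁻¹).toMonoidHom).relIndex
        (centralizer ({h⁻¹ * y * h} : Set G)) = (R : Subgroup C).index := by
      rw [← hCm, relIndex_map_map_of_injective _ _ (MulAut.conj h⁻¹).injective]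
      rw [relIndex, subgroupOf, comap_map_eq_self_of_injective C.subtype_injective]
    exact R.not_dvd_index (h2 ▸ hd.trans h1)
  · rw [inv_inv]
    refine le_trans (map_mono ?_) hRS
    intro c hc
    exact ⟨⟨c, hc.2⟩, hR hc, rfl⟩

end Cfsg.Lib.Misc.ExtremalTransfer
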