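import Cfsg.Agent.SolvStruct.Subnormal
import Cfsg.Agent.Coprime.Hall
import Cfsg.Agent.Coprime.Generation
import Cfsg.Agent.Transfer.Basic
import Cfsg.Agent.Transfer.FittingPower
import Cfsg.Agent.S0542
import Mathlib.GroupTheory.Transfer
import Mathlib.GroupTheory.SpecificGroups.Cyclic

/-!
Sylow subgroups of the join of two subnormal subgroups.
-/

set_option linter.style.haveILetI false
set_option linter.unusedSectionVars false

namespace Cfsg.Lib.SubnormalSylow

open Subgroup

universe u

theorem card_lt_of_ne_top {G : Type u} [Group G] [Finite G] {N : Subgroup G} (h : N ≠ ⊤) :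
    Nat.card N < Nat.card G := by
  refine lt_of_le_of_ne (Nat.le_of_dvd Nat.card_pos (card_subgroup_dvd_card N)) fun e => h ?_
  exact eq_top_of_card_eq N e

/-- **Wielandt**: a minimal normal subgroup normalizes every subnormal subgroup -/
theorem minimal_le_normalizer : ∀ (n : ℕ) {G : Type u} [Group G] [Finite G], Nat.card G ≤ n →
    ∀ (M A : Subgroup G) [M.Normal], M ≠ ⊥ → (∀ L : Subgroup G, L.Normal → L ≤ M → L = ⊥ ∨ L = M) →
      A.IsSubnormal → M ≤ normalizer (A : Set G) := by
  intro n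
  induction n with
  | zero => intro G _ _ hc; exact absurd hc (by have := Nat.card_pos (α := G); omega)
  | succ n ih =>
    intro G _ _ hc M A _ hM hmin hA
    rcases hA.lt_normal with rfl | ⟨N, hN, hAN, hNt⟩
    · exact le_top.trans (normalizer_eq_top_iff.2 inferInstance).ge
    haveI := hN
    have hcN : Nat.card N ≤ n := by have := card_lt_of_ne_top hNt.ne; omega
    rcases hmin (M ⊓ N) inferInstance inf_le_left with h | h
    · refine le_trans (fun m hm => mem_centralizer_iff.2 fun a ha => ?_) (centralizer_le_normalizer _)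
      exact (Subgroup.commute_of_normal_of_disjoint M N inferInstance hN (disjoint_iff.2 h) m a hm (hAN ha)).symm
    have hMN : M ≤ N := inf_eq_left.1 h
    haveI : (M.subgroupOf N).Normal := normal_subgroupOf
    obtain ⟨L, hLM, hLn, hL1, hLmin⟩ := Cfsg.Lib.Coprime.exists_minimal_normal
      (inferInstance : (M.subgroupOf N).Normal) (fun e => hM (by
        rw [← map_subgroupOf_eq_of_le hMN, e, Subgroup.map_bot]))
    let s : Set (Subgroup G) := Set.range fun g : G => (L.map N.subtype).map (MulAut.conj g).toMonoidHom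
    have hsM : sSup s ≤ M := by
      refine sSup_le ?_
      rintro _ ⟨g, rfl⟩ _ ⟨_, ⟨x, hx, rfl⟩, rfl⟩
      exact (inferInstance : M.Normal).conj_mem _ (hLM hx) g
    haveI : (sSup s).Normal := by
      refine ⟨fun x hx g => ?_⟩
      have : (sSup s).map (MulAut.conj g).toMonoidHom ≤ sSup s := by
        rw [sSup_eq_iSup', Subgroup.map_iSup]
        refine iSup_le ?_
        rintro ⟨_, a, rfl⟩
        refine le_iSup_of_le ⟨_, g * a, rfl⟩ (le_of_eq ?_)
        rw [Subgroup.map_map]
        congr 1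
        ext y
        simp
      exact this ⟨x, hx, rfl⟩
    rcases hmin (sSup s) inferInstance hsM with e | e
    · refine absurd ?_ hL1
      have h1 : (L.map N.subtype).map (MulAut.conj (1 : G)).toMonoidHom ≤ ⊥ := e ▸ le_sSup ⟨1, rfl⟩
      refine (eq_bot_iff_forall L).2 fun x hx => Subtype.ext ?_
      simpa using h1 ⟨(x : G), ⟨x, hx, rfl⟩, rfl⟩
    rw [← e]
    refine sSup_le ?_
    rintro _ ⟨g, rfl⟩
    -- the conjugates of `L` are minimal normal subgroups of `N`
    let φ : MulAut N :=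
      { toFun := fun t => ⟨g * t * g⁻¹, hN.conj_mem _ t.2 g⟩
        invFun := fun t => ⟨g⁻¹ * t * g, by simpa using hN.conj_mem _ t.2 g⁻¹⟩
        left_inv := fun t => Subtype.ext (by simp [mul_assoc])
        right_inv := fun t => Subtype.ext (by simp [mul_assoc])
        map_mul' := fun a b => Subtype.ext (by simp [mul_assoc]) }
    haveI : (L.map φ.toMonoidHom).Normal := hLn.map _ φ.surjective
    have h1 := ih hcN (L.map φ.toMonoidHom) (A.subgroupOf N)
      (fun e => hL1 ((map_eq_bot_iff_of_injective L φ.injective).1 e))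
      (fun K hK hKle => by
        have hK' : (K.comap φ.toMonoidHom).Normal := hK.comap _
        rcases hLmin _ hK' (by
          intro x hx
          obtain ⟨y, hy, hyx⟩ := hKle hx
          rwa [← φ.injective hyx]) with e | e
        · left; rw [← map_comap_eq_self_of_surjective (f := φ.toMonoidHom) φ.surjective K, e, Subgroup.map_bot]
        · right; rw [← map_comap_eq_self_of_surjective (f := φ.toMonoidHom) φ.surjective K, e])
      hA.subgroupOf
    rintro _ ⟨_, ⟨x, hx, rfl⟩, rfl⟩
    have h2 := h1 ⟨x, hx, rfl⟩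
    rw [← subgroupOf_normalizer_eq hAN] at h2
    exact h2

theorem exists_sylow {G : Type u} [Group G] [Finite G] {p : ℕ} [Fact p.Prime] (S : Sylow p G) {A : Subgroup G}
    (hA : A.IsSubnormal) : ∃ Q : Sylow p A, (Q : Subgroup A) = (S : Subgroup G).subgroupOf A :=
  Cfsg.Agent.S0542.result p A hA S

theorem join_inf_sylow : ∀ (n : ℕ) {G : Type u} [Group G] [Finite G], Nat.card G ≤ n →
    ∀ (p : ℕ) [Fact p.Prime] (S : Sylow p G) (A B : Subgroup G), A.IsSubnormal → B.IsSubnormal →
      (A ⊔ B) ⊓ (S : Subgroup G) ≤ (A ⊓ (S : Subgroup G)) ⊔ (B ⊓ (S : Subgroup G)) := by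
  intro n
  induction n with
  | zero => intro G _ _ hc; exact absurd hc (by have := Nat.card_pos (α := G); omega)
  | succ n ih =>
    intro G _ _ hc p hp S A B hA hB
    -- the statement inside a proper subnormal subgroup
    have red : ∀ (q : ℕ) [Fact q.Prime] (S : Sylow q G) (A B H : Subgroup G), H.IsSubnormal → H ≠ ⊤ →
        A ≤ H → B ≤ H → A.IsSubnormal → B.IsSubnormal →
        (A ⊔ B) ⊓ (S : Subgroup G) ≤ (A ⊓ (S : Subgroup G)) ⊔ (B ⊓ (S : Subgroup G)) := by
      intro q _ S A B H hH hHt hAH hBH hA hB x hx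
      obtain ⟨Q, hQ⟩ := exists_sylow S hH
      have h := ih (G := H) (by have := card_lt_of_ne_top hHt; omega) q Q (A.subgroupOf H) (B.subgroupOf H)
        hA.subgroupOf hB.subgroupOf
      rw [← subgroupOf_sup hAH hBH, hQ] at h
      have h2 := h (x := ⟨x, sup_le hAH hBH (mem_inf.1 hx).1⟩) (mem_inf.mpr ⟨(mem_inf.1 hx).1, (mem_inf.1 hx).2⟩)
      have h3 := mem_map_of_mem H.subtype h2
      rw [Subgroup.map_sup] at h3
      refine (sup_le_sup ?_ ?_ : _ ≤ (A ⊓ (S : Subgroup G)) ⊔ (B ⊓ (S : Subgroup G))) h3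
      all_goals rintro _ ⟨y, hy, rfl⟩; exact mem_inf.mpr ⟨(mem_inf.1 hy).1, (mem_inf.1 hy).2⟩
    by_cases hJ : A ⊔ B ≠ ⊤
    · exact red p S A B (A ⊔ B) (Cfsg.Lib.SolvStruct.isSubnormal_sup hA hB) hJ le_sup_left le_sup_right hA hB
    rw [not_not] at hJ
    by_cases hG : (⊤ : Subgroup G) = ⊥
    · exact fun x _ => by
        rw [show x = 1 from mem_bot.1 (hG.le (mem_top x))]
        exact one_mem _
    by_cases hAt : A = ⊤
    · exact le_sup_of_le_left (by rw [hAt]; exact inf_le_inf_right _ le_top)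
    by_cases hBt : B = ⊤
    · exact le_sup_of_le_right (by rw [hBt]; exact inf_le_inf_right _ le_top)
    obtain ⟨M, -, hMn, hM1, hMmin⟩ := Cfsg.Lib.Coprime.exists_minimal_normal
      (inferInstance : (⊤ : Subgroup G).Normal) hG
    haveI := hMn
    have hMA := minimal_le_normalizer _ (le_refl (Nat.card G)) M A hM1 hMmin hA
    have hMB := minimal_le_normalizer _ (le_refl (Nat.card G)) M B hM1 hMmin hB
    have hcom : ∀ C : Subgroup G, M ≤ normalizer (C : Set G) → ∀ c ∈ C, ∀ m ∈ M, c * m * c⁻¹ * m⁻¹ ∈ M ⊓ C :=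
      fun C hC c hc m hm => mem_inf.mpr ⟨mul_mem (hMn.conj_mem m hm c) (inv_mem hm), by
        rw [show c * m * c⁻¹ * m⁻¹ = c * (m * c⁻¹ * m⁻¹) by group]
        exact mul_mem hc ((mem_normalizer_iff.1 (hC hm) _).1 (inv_mem hc))⟩
    set X := (M ⊓ A) ⊔ (M ⊓ B) with hX
    haveI hXn : X.Normal := by
      have h1 : A ⊔ B ≤ normalizer (X : Set G) := by
        have key : ∀ C : Subgroup G, M ≤ normalizer (C : Set G) → M ⊓ C ≤ X → C ≤ normalizer (X : Set G) := by
          intro C hC hCX c hc
          have step : ∀ d ∈ C, ∀ x ∈ X, d * x * d⁻¹ ∈ X := fun d hd x hx => by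
            have h2 := hCX (hcom C hC d hd x ((sup_le inf_le_left inf_le_left : X ≤ M) hx))
            simpa using mul_mem h2 hx
          exact mem_normalizer_iff.2 fun x => ⟨step c hc x, fun hx => by
            simpa [mul_assoc] using step c⁻¹ (inv_mem hc) _ hx⟩
        exact sup_le (key A hMA le_sup_left) (key B hMB le_sup_right)
      rw [hJ, top_le_iff, normalizer_eq_top_iff] at h1
      exact h1
    have hMtop : M ≠ ⊤ := fun e => by
      obtain ⟨N, hN, hAN, hNt⟩ := hA.lt_normal.resolve_left hAt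
      rcases hMmin N hN (e ▸ le_top) with h | h
      · rw [h, le_bot_iff] at hAN
        exact hBt (by rw [← hJ, hAN, bot_sup_eq])
      · exact hNt.ne (h.trans e)
    -- reduction to `S ⊓ M`
    have quot : ∀ (q : ℕ) [Fact q.Prime] (S : Sylow q G),
        (S : Subgroup G) ⊓ M ≤ (A ⊓ (S : Subgroup G)) ⊔ (B ⊓ (S : Subgroup G)) →
          (S : Subgroup G) ≤ (A ⊓ (S : Subgroup G)) ⊔ (B ⊓ (S : Subgroup G)) := by
      intro q _ S hSM
      set π := QuotientGroup.mk' M
      have hπ : Function.Surjective π := QuotientGroup.mk'_surjective M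
      have hcq : Nat.card (G ⧸ M) ≤ n := by
        have h1 := M.index_mul_card
        rw [index_eq_card] at h1
        have h2 : 1 < Nat.card M := (M.one_lt_card_iff_ne_bot).2 hM1
        have h3 : 0 < Nat.card (G ⧸ M) := Nat.card_pos
        nlinarith
      have h := ih hcq q (S.mapSurjective hπ) (A.map π) (B.map π) (hA.map hπ) (hB.map hπ)
      have himg : ∀ C : Subgroup G, C.IsSubnormal →
          C.map π ⊓ (S : Subgroup G).map π ≤ (C ⊓ (S : Subgroup G)).map π := by
        intro C hC
        obtain ⟨Q, hQ⟩ := exists_sylow S hC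
        let Q' := Q.mapSurjective (π.subgroupMap_surjective C)
        have h1 : (Q' : Subgroup (C.map π)) ≤ ((S : Subgroup G).map π).subgroupOf (C.map π) := by
          rintro _ ⟨y, hy, rfl⟩
          rw [hQ] at hy
          exact ⟨y, hy, rfl⟩
        have h2 := Q'.3 ((S.2.map π).comap_subtype) h1
        intro y hy
        obtain ⟨z, hz, e⟩ := h2.le (show (⟨y, (mem_inf.1 hy).1⟩ : C.map π) ∈ ((S : Subgroup G).map π).subgroupOf (C.map π)
          from (mem_inf.1 hy).2)
        rw [hQ] at hz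
        exact ⟨z, mem_inf.mpr ⟨z.2, hz⟩, congrArg Subtype.val e⟩
      intro s hs
      have h3 : π s ∈ ((A ⊓ (S : Subgroup G)) ⊔ (B ⊓ (S : Subgroup G))).map π := by
        rw [Subgroup.map_sup]
        refine (h.trans (sup_le_sup (himg A hA) (himg B hB))) (mem_inf.mpr ⟨?_, ⟨s, hs, rfl⟩⟩)
        rw [← Subgroup.map_sup, hJ]
        exact ⟨s, mem_top s, rfl⟩
      obtain ⟨t, ht, e⟩ := h3
      have htS : t ∈ (S : Subgroup G) :=
        (sup_le inf_le_right inf_le_right : (A ⊓ (S : Subgroup G)) ⊔ (B ⊓ (S : Subgroup G)) ≤ (S : Subgroup G)) ht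
      have hm : t⁻¹ * s ∈ (S : Subgroup G) ⊓ M := mem_inf.mpr ⟨mul_mem (inv_mem htS) hs, QuotientGroup.eq.1 e⟩
      simpa using mul_mem ht (hSM hm)
    refine inf_le_right.trans ?_
    rcases hMmin X hXn (sup_le inf_le_left inf_le_left) with hXe | hXe
    swap
    · refine quot p S ?_
      have h1 := red p S (M ⊓ A) (M ⊓ B) M hMn.isSubnormal hMtop inf_le_left inf_le_left
        (hMn.isSubnormal.inf hA) (hMn.isSubnormal.inf hB)
      rw [← hX, hXe, inf_comm] at h1
      exact h1.trans (sup_le_sup (inf_le_inf_right _ inf_le_right) (inf_le_inf_right _ inf_le_right))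
    -- `M` is central of prime order
    have hMZ : M ≤ center G := fun m hm => mem_center_iff.2 fun g => by
      have h1 : A ⊔ B ≤ centralizer ({m} : Set G) := by
        refine sup_le ?_ ?_
        · intro c hc
          have h2 : c * m * c⁻¹ * m⁻¹ ∈ X := (le_sup_left : M ⊓ A ≤ X) (hcom A hMA c hc m hm)
          rw [hXe, mem_bot, mul_inv_eq_one, mul_inv_eq_iff_eq_mul] at h2
          exact mem_centralizer_singleton_iff.2 h2
        · intro c hc
          have h2 : c * m * c⁻¹ * m⁻¹ ∈ X := (le_sup_right : M ⊓ B ≤ X) (hcom B hMB c hc m hm)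
          rw [hXe, mem_bot, mul_inv_eq_one, mul_inv_eq_iff_eq_mul] at h2
          exact mem_centralizer_singleton_iff.2 h2
      exact mem_centralizer_singleton_iff.1 (h1 (hJ.ge (mem_top g)))
    obtain ⟨r, hr, hrdvd⟩ := Nat.exists_prime_and_dvd ((M.one_lt_card_iff_ne_bot).2 hM1).ne'
    haveI := Fact.mk hr
    obtain ⟨m₀, hm₀⟩ := exists_prime_orderOf_dvd_card' r hrdvd
    rw [← Subgroup.orderOf_coe] at hm₀
    have hMr : M = zpowers (m₀ : G) := by
      haveI : (zpowers (m₀ : G)).Normal := ⟨fun x hx g => by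
        have hc := mem_center_iff.1 (hMZ (zpowers_le.2 m₀.2 hx)) g
        rwa [hc, mul_inv_cancel_right]⟩
      refine ((hMmin _ inferInstance (zpowers_le.2 m₀.2)).resolve_left fun e => hr.ne_one ?_).symm
      rw [← hm₀, ← Nat.card_zpowers, e, Subgroup.card_bot]
    have hMcard : Nat.card M = r := by rw [hMr, Nat.card_zpowers, hm₀]
    have hMp : IsPGroup r M := IsPGroup.of_card (n := 1) (by rw [hMcard, pow_one])
    have hMS : ∀ T : Sylow r G, M ≤ (T : Subgroup G) := fun T => by
      obtain ⟨T', hT'⟩ := hMp.exists_le_sylow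
      obtain ⟨g, rfl⟩ := MulAction.exists_smul_eq G T' T
      intro m hm
      rw [Cfsg.Lib.Transfer.sylow_smul_coe]
      refine ⟨m, hT' hm, ?_⟩
      show g * m * g⁻¹ = m
      rw [mem_center_iff.1 (hMZ hm) g, mul_inv_cancel_right]
    have hother : ∀ (q : ℕ) [Fact q.Prime] (S : Sylow q G), q ≠ r →
        (S : Subgroup G) ≤ (A ⊓ (S : Subgroup G)) ⊔ (B ⊓ (S : Subgroup G)) := by
      intro q _ S hq
      refine quot q S ?_
      rw [Cfsg.Lib.Coprime.inf_eq_bot_of_coprime]
      · exact bot_le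
      · obtain ⟨k, hk⟩ := IsPGroup.iff_card.1 S.2
        rw [hk, hMcard]
        exact Nat.Coprime.pow_left k ((Nat.coprime_primes Fact.out hr).2 hq)
    by_cases hpr : p = r
    swap
    · exact hother p S hpr
    subst hpr
    set T := (A ⊓ (S : Subgroup G)) ⊔ (B ⊓ (S : Subgroup G)) with hT
    have hTS : T ≤ (S : Subgroup G) := sup_le inf_le_right inf_le_right
    by_cases hMT : M ≤ T
    · exact quot p S (inf_le_right.trans hMT)
    exfalso
    set R := Cfsg.pResidual p G with hR
    -- the residual is generated by those of `A` and `B`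
    let XA : Subgroup G := (Cfsg.pResidual p A).map A.subtype
    let XB : Subgroup G := (Cfsg.pResidual p B).map B.subtype
    have hlift : ∀ C : Subgroup G, ∀ (q : ℕ), q.Prime → q ≠ p → ∀ Q : Subgroup G, IsPGroup q Q →
        C ⊓ Q ≤ (Cfsg.pResidual p C).map C.subtype := by
      intro C q hq hqp Q hQ x hx
      haveI := Fact.mk hq
      refine ⟨⟨x, (mem_inf.1 hx).1⟩, Cfsg.Lib.Transfer.mem_pResidual_of_coprime ?_, rfl⟩
      obtain ⟨k, hk⟩ := IsPGroup.iff_orderOf.1 hQ ⟨x, (mem_inf.1 hx).2⟩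
      rw [Subgroup.orderOf_mk] at hk ⊢
      rw [hk]
      exact Nat.Coprime.pow_left k ((Nat.coprime_primes hq hp.out).2 hqp)
    have hRX : R ≤ XA ⊔ XB := by
      refine (closure_le _).2 fun g hg => ?_
      refine Cfsg.Lib.Coprime.le_of_forall_sylow (K := zpowers g) (fun q hq => ?_) (mem_zpowers g)
      haveI := Fact.mk hq
      obtain ⟨P⟩ := (inferInstance : Nonempty (Sylow q (zpowers g)))
      refine ⟨P, ?_⟩
      by_cases hqp : q = p
      · subst hqp
        have h1 : Nat.card ((P : Subgroup (zpowers g)).map (zpowers g).subtype) = 1 := by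
          refine Nat.eq_one_of_dvd_coprimes (Nat.Coprime.pow_right ((Nat.card (zpowers g)).factorization q) hg)
            ((card_dvd_of_le (map_subtype_le _)).trans (Nat.card_zpowers g).dvd) ?_
          rw [card_map_of_injective (zpowers g).subtype_injective, P.card_eq_multiplicity]
        rw [card_eq_one] at h1
        rw [h1]
        exact bot_le
      · obtain ⟨T', hT'⟩ := (P.2.map (zpowers g).subtype).exists_le_sylow
        refine hT'.trans ((hother q T' hqp).trans (sup_le ?_ ?_))
        · exact (hlift A q hq hqp _ T'.2).trans le_sup_left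
        · exact (hlift B q hq hqp _ T'.2).trans le_sup_right
    have hXR : ∀ C : Subgroup G, (Cfsg.pResidual p C).map C.subtype ≤ R :=
      fun C => Cfsg.Lib.Transfer.pResidual_map_le _
    have hXeq : XA ⊔ XB = R := le_antisymm (sup_le (hXR A) (hXR B)) hRX
    have hXsub : ∀ C : Subgroup G, C.IsSubnormal → ((Cfsg.pResidual p C).map C.subtype).IsSubnormal :=
      fun C hC => (Cfsg.Lib.Transfer.pResidual_normal' (p := p) (G := C)).isSubnormal.trans' hC
    have hXle : XA ≤ A ∧ XB ≤ B := ⟨map_subtype_le _, map_subtype_le _⟩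
    by_cases hRt : R ≠ ⊤
    · refine hMT ((hMS S).trans ?_)
      have h1 := red p S XA XB R (Cfsg.Lib.Transfer.pResidual_normal' (p := p) (G := G)).isSubnormal hRt
        (hXR A) (hXR B) (hXsub A hA) (hXsub B hB)
      rw [hXeq] at h1
      have hRS : R ⊓ (S : Subgroup G) ≤ T :=
        h1.trans (sup_le_sup (inf_le_inf_right _ hXle.1) (inf_le_inf_right _ hXle.2))
      have htop : R ⊔ T = ⊤ := by
        have hC : ∀ C : Subgroup G, C.IsSubnormal → C ⊓ (S : Subgroup G) ≤ T → C ≤ R ⊔ T := by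
          intro C hC hCT c hc
          obtain ⟨Q, hQ⟩ := exists_sylow S hC
          have h2 := mem_map_of_mem C.subtype ((Cfsg.Lib.Transfer.pResidual_sup_sylow Q).ge (mem_top ⟨c, hc⟩))
          rw [Subgroup.map_sup, hQ, subgroupOf_map_subtype] at h2
          exact sup_le_sup (hXR C) (by rw [inf_comm]; exact hCT) h2
        exact top_le_iff.1 (hJ.ge.trans (sup_le (hC A hA le_sup_left) (hC B hB le_sup_right)))
      intro s hs
      obtain ⟨x, hx, t, ht, rfl⟩ := mem_sup_of_normal_left.1 (htop.ge (mem_top s))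
      exact mul_mem (hRS (mem_inf.mpr ⟨hx, by simpa using mul_mem hs (inv_mem (hTS ht))⟩)) ht
    rw [not_not] at hRt
    -- transfer
    have hST : (S : Subgroup G) ≤ T ⊔ M := by
      intro s hs
      set π := QuotientGroup.mk' M
      have hsM : (S : Subgroup G) ⊓ M ≤ T ⊔ M := inf_le_right.trans le_sup_right
      have hπ : Function.Surjective π := QuotientGroup.mk'_surjective M
      have hcq : Nat.card (G ⧸ M) ≤ n := by
        have h1 := M.index_mul_card
        rw [index_eq_card, hMcard] at h1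
        have h3 : 0 < Nat.card (G ⧸ M) := Nat.card_pos
        nlinarith [hr.two_le]
      have h := ih hcq p (S.mapSurjective hπ) (A.map π) (B.map π) (hA.map hπ) (hB.map hπ)
      have himg : ∀ C : Subgroup G, C.map π ⊓ (S : Subgroup G).map π ≤ (C ⊓ (S : Subgroup G)).map π := by
        rintro C _ ⟨⟨c, hc, rfl⟩, s', hs', e⟩
        refine ⟨c, mem_inf.mpr ⟨hc, ?_⟩, rfl⟩
        simpa using mul_mem hs' (hMS S (QuotientGroup.eq.1 e))
      have h3 : π s ∈ T.map π := by
        rw [hT, Subgroup.map_sup]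
        refine (h.trans (sup_le_sup (himg A) (himg B))) (mem_inf.mpr ⟨?_, ⟨s, hs, rfl⟩⟩)
        rw [← Subgroup.map_sup, hJ]
        exact ⟨s, mem_top s, rfl⟩
      obtain ⟨t, ht, e⟩ := h3
      simpa using mul_mem_sup ht (QuotientGroup.eq.1 e)
    set T₁ := T.subgroupOf (S : Subgroup G) with hT₁
    haveI hT₁n : T₁.Normal := ⟨fun t ht g => by
      have hMc : M ≤ normalizer (T : Set G) := hMZ.trans ((center_le_centralizer _).trans (centralizer_le_normalizer _))
      exact (mem_normalizer_iff.1 (sup_le le_normalizer hMc (hST g.2)) _).1 ht⟩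
    have hm₀S : (m₀ : G) ∈ (S : Subgroup G) := hMS S m₀.2
    set m : (S : Subgroup G) := ⟨m₀, hm₀S⟩ with hm
    have hgen : ∀ q : ↥(S : Subgroup G) ⧸ T₁, q ∈ zpowers (QuotientGroup.mk' T₁ m) := by
      intro q
      obtain ⟨s, rfl⟩ := QuotientGroup.mk'_surjective T₁ q
      have hs := hST s.2
      rw [sup_comm] at hs
      obtain ⟨a, ha, t, ht, e⟩ := mem_sup_of_normal_left.1 hs
      rw [hMr] at ha
      obtain ⟨k, rfl⟩ := mem_zpowers_iff.1 ha
      refine mem_zpowers_iff.2 ⟨k, ?_⟩
      rw [← map_zpow]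
      refine (QuotientGroup.eq.2 ?_)
      show (((m ^ k)⁻¹ * s : ↥(S : Subgroup G)) : G) ∈ T
      simp only [Subgroup.coe_mul, Subgroup.coe_inv, SubgroupClass.coe_zpow, hm, ← e, inv_mul_cancel_left]
      exact ht
    haveI : IsCyclic (↥(S : Subgroup G) ⧸ T₁) := ⟨⟨_, hgen⟩⟩
    letI : CommGroup (↥(S : Subgroup G) ⧸ T₁) := IsCyclic.commGroup
    let φ : ↥(S : Subgroup G) →* ↥(S : Subgroup G) ⧸ T₁ := QuotientGroup.mk' T₁
    have hval := MonoidHom.transfer_eq_pow φ (m₀ : G) (fun k g _ => by
      rw [mul_assoc, ← mem_center_iff.1 (pow_mem (hMZ m₀.2) k) g, inv_mul_cancel_left])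
    have hne : MonoidHom.transfer φ (m₀ : G) ≠ 1 := by
      rw [hval]
      intro h1
      have h2 : (m₀ : G) ^ (S : Subgroup G).index ∈ T := (QuotientGroup.eq_one_iff (N := T₁) _).1 h1
      have hco : (orderOf (m₀ : G)).Coprime (S : Subgroup G).index := by
        rw [hm₀]
        exact hr.coprime_iff_not_dvd.2 S.not_dvd_index
      obtain ⟨k, hk⟩ := exists_pow_eq_self_of_coprime hco.symm
      exact hMT (hMr.le.trans (zpowers_le.2 (hk ▸ pow_mem h2 k)))
    refine hne (MonoidHom.mem_ker.1 ?_)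
    have hker : R ≤ (MonoidHom.transfer φ).ker := (closure_le _).2 fun g hg => by
      obtain ⟨j, hj⟩ := (S.2.to_quotient T₁) (MonoidHom.transfer φ g)
      have h1 := orderOf_map_dvd (MonoidHom.transfer φ) g
      exact MonoidHom.mem_ker.2 (orderOf_eq_one_iff.1 (Nat.eq_one_of_dvd_coprimes (Nat.Coprime.pow_right j hg) h1
        (orderOf_dvd_of_pow_eq_one hj)))
    exact hker (hRt.ge (mem_top _))

theorem join_inf_sylow_eq {G : Type u} [Group G] [Finite G] {p : ℕ} [Fact p.Prime] (S : Sylow p G)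
    (A B : Subgroup G) (hA : A.IsSubnormal) (hB : B.IsSubnormal) :
    (A ⊔ B) ⊓ (S : Subgroup G) = (A ⊓ (S : Subgroup G)) ⊔ (B ⊓ (S : Subgroup G)) :=
  le_antisymm (join_inf_sylow _ le_rfl p S A B hA hB)
    (sup_le (inf_le_inf_right _ le_sup_left) (inf_le_inf_right _ le_sup_right))

end Cfsg.Lib.SubnormalSylow
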