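import Cfsg.Agent.Components.Misc.PMinimal
import Cfsg.Agent.Components.Misc.SubnormalSylow
import Cfsg.Agent.Components.GenFitting
import Cfsg.Agent.Components.LocalBalance

/-!
`p`-minimal groups with a component.
-/

set_option linter.style.haveILetI false
set_option linter.unusedSectionVars false

namespace Cfsg.Lib.PMinimalComp

open Subgroup Cfsg.Lib.Components
open scoped Pointwise

universe u

variable {G : Type u} [Group G] [Finite G] {p : ℕ} [hp : Fact p.Prime]

theorem iSup_inf_sylow {ι : Type*} [Finite ι] (f : ι → Subgroup G) (hf : ∀ i, (f i).IsSubnormal)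
    (S : Sylow p G) : (⨆ i, f i) ⊓ (S : Subgroup G) ≤ ⨆ i, f i ⊓ (S : Subgroup G) := by
  classical
  haveI := Fintype.ofFinite ι
  have key : ∀ s : Finset ι, (s.sup f).IsSubnormal ∧
      s.sup f ⊓ (S : Subgroup G) ≤ s.sup fun i => f i ⊓ (S : Subgroup G) := by
    intro s
    induction s using Finset.induction_on with
    | empty =>
      refine ⟨by rw [Finset.sup_empty]; exact IsSubnormal.bot, ?_⟩
      rw [Finset.sup_empty, bot_inf_eq]; exact bot_le
    | insert a s _ ih =>
      rw [Finset.sup_insert, Finset.sup_insert]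
      refine ⟨Cfsg.Lib.SolvStruct.isSubnormal_sup (hf a) ih.1, ?_⟩
      exact (Cfsg.Lib.SubnormalSylow.join_inf_sylow _ le_rfl p S _ _ (hf a) ih.1).trans (sup_le_sup le_rfl ih.2)
  rw [← Finset.sup_univ_eq_iSup, ← Finset.sup_univ_eq_iSup]
  exact (key _).2

theorem le_pResidual_of_perfect {K : Subgroup G} (h : ⁅K, K⁆ = K) : K ≤ Cfsg.pResidual p G := by
  set π := QuotientGroup.mk' (Cfsg.pResidual p G)
  suffices hq : K.map π = ⊥ by rwa [Subgroup.map_eq_bot_iff, QuotientGroup.ker_mk'] at hq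
  by_contra hne
  haveI := ((Cfsg.Lib.Transfer.isPGroup_quotient_pResidual (G := G) (p := p)).to_subgroup (K.map π)).isNilpotent
  have h1 := Cfsg.Lib.Coprime.commutator_lt_of_isNilpotent (T := K.map π) (U := K.map π) le_rfl hne le_normalizer
  rw [← Subgroup.map_commutator, h] at h1
  exact h1.false

theorem isPMinimal_of_one {H : Type u} [Group H] [Finite H] (T₀ : Sylow p H) (hn : ¬ (T₀ : Subgroup H).Normal)
    (hu : ∃! M : Subgroup H, IsCoatom M ∧ (T₀ : Subgroup H) ≤ M) : Cfsg.IsPMinimal p H := by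
  intro T
  obtain ⟨h, rfl⟩ := MulAction.exists_smul_eq H T₀ T
  set e : Subgroup H ≃o Subgroup H := (MulAut.conj h).mapSubgroup
  have he : ((h • T₀ : Sylow p H) : Subgroup H) = e (T₀ : Subgroup H) := Cfsg.Lib.Transfer.sylow_smul_coe h T₀
  refine ⟨fun hN => hn ?_, ?_⟩
  · rw [show (T₀ : Subgroup H) = ((h • T₀ : Sylow p H) : Subgroup H).map ((MulAut.conj h⁻¹).toMonoidHom) by
      rw [Cfsg.Lib.Transfer.sylow_smul_coe, Cfsg.Lib.Transfer.map_conj_map_conj, inv_mul_cancel, Cfsg.Lib.Transfer.map_conj_one]]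
    exact hN.map _ (MulEquiv.surjective _)
  · obtain ⟨M, ⟨hM, hTM⟩, huniq⟩ := hu
    refine ⟨e M, ⟨(e.isCoatom_iff M).2 hM, he.le.trans (e.monotone hTM)⟩, ?_⟩
    rintro M' ⟨hM', hT'⟩
    rw [he] at hT'
    rw [← huniq (e.symm M') ⟨(e.symm.isCoatom_iff M').2 hM', by simpa using e.symm.monotone hT'⟩,
      OrderIso.apply_symm_apply]

theorem component_props (hG : Cfsg.IsPMinimal p G) (hOp : Cfsg.pCore p G = ⊥) (S : Sylow p G)
    (K : Subgroup G) (hK : Cfsg.IsComponent K) :
    Cfsg.pResidual p G = Cfsg.generalizedFittingSubgroup G ∧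
      Cfsg.generalizedFittingSubgroup G = Cfsg.layer G ∧
      Cfsg.layer G = ⨆ s : ↥(S : Subgroup G), K.map (MulAut.conj (s : G)).toMonoidHom ∧
      Cfsg.IsPMinimal p ↥(K ⊔ ((S : Subgroup G) ⊓ normalizer (K : Set G))) := by
  classical
  have hmin := Cfsg.Lib.PMinimal.isMinimalOver hG S
  obtain ⟨-, M, ⟨hM, hSM⟩, -⟩ := hG S
  obtain ⟨hp1, -⟩ := Cfsg.Lib.PMinimal.pminimal_props hG S M hM hSM
  set f : ↥(S : Subgroup G) → Subgroup G := fun s => K.map (MulAut.conj (s : G)).toMonoidHom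
  have hfc : ∀ s, IsComponent (f s) := fun s => comp_conj hK _
  set L₀ := ⨆ s, f s
  have hKL : K ≤ L₀ := le_iSup_of_le (1 : ↥(S : Subgroup G)) (by
    show K ≤ K.map (MulAut.conj ((1 : ↥(S : Subgroup G)) : G)).toMonoidHom
    rw [Subgroup.coe_one, Cfsg.Lib.Transfer.map_conj_one])
  have hL₀sn : L₀.IsSubnormal := Cfsg.Lib.SolvStruct.isSubnormal_sSup _ (by
    rintro _ ⟨s, rfl⟩; exact (hfc s).1)
  have hnotM : ¬ L₀ ≤ M := by
    intro h
    haveI : M.normalCore.Normal := normalCore_normal M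
    have h1 : L₀ ≤ M.normalCore := Cfsg.Lib.PMinimal.le_normalCore hG S M hM hSM L₀ hL₀sn h
    obtain ⟨-, hnil, -⟩ := Cfsg.Lib.YMin.structure_normal hM S hSM le_rfl hmin M.normalCore (normalCore_le M)
    haveI := Cfsg.Lib.Components.pCore_normal' (G := M.normalCore) p
    haveI : (Cfsg.pCore p M.normalCore).Characteristic := Cfsg.Lib.Components.pCore_characteristic
    haveI : ((Cfsg.pCore p M.normalCore).map M.normalCore.subtype).Normal :=
      ConjAct.normal_of_characteristic_of_normal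
    have h2 : Cfsg.pCore p M.normalCore = ⊥ := by
      refine (map_eq_bot_iff_of_injective _ M.normalCore.subtype_injective).1 (le_bot_iff.1 ?_)
      rw [← hOp]
      exact le_pCore ((isPGroup_pCore p).map _)
    haveI : Group.IsNilpotent M.normalCore := by
      haveI := hnil
      exact Group.nilpotent_of_mulEquiv ((QuotientGroup.quotientMulEquivOfEq h2).trans QuotientGroup.quotientBot)
    haveI := isNilpotent_of_le (inferInstance : Group.IsNilpotent M.normalCore) (hKL.trans h1)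
    exact comp_not_isSolvable hK inferInstance
  have hSn : (S : Subgroup G) ≤ normalizer (L₀ : Set G) := fun t ht => by
    refine Cfsg.Lib.SolvStruct.mem_normalizer_of_conj_smul_le ?_
    rw [Cfsg.Lib.SolvStruct.conj_smul_eq_map, Subgroup.map_iSup]
    refine iSup_le fun s => ?_
    refine le_iSup_of_le ((⟨t, ht⟩ : ↥(S : Subgroup G)) * s) (le_of_eq ?_)
    show (K.map (MulAut.conj (s : G)).toMonoidHom).map (MulAut.conj t).toMonoidHom = _
    rw [Cfsg.Lib.Transfer.map_conj_map_conj]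
    rfl
  have htop : L₀ ⊔ (S : Subgroup G) = ⊤ := by
    by_contra hne
    exact hnotM (le_sup_left.trans (Cfsg.Lib.YMin.le_of_mem hM hSM hmin hne le_sup_right))
  haveI hL₀n : L₀.Normal := normalizer_eq_top_iff.1 (top_le_iff.1 (htop.ge.trans (sup_le le_normalizer hSn)))
  have hR : Cfsg.pResidual p G = L₀ := le_antisymm
    (Cfsg.Lib.PIrr.pResidual_le_of_le_sup S.2 (le_top.trans htop.ge))
    (iSup_le fun s => le_pResidual_of_perfect (comp_perfect (hfc s)))
  have hlayer : Cfsg.layer G = L₀ := le_antisymm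
    (sSup_le fun C hC => hR ▸ le_pResidual_of_perfect (comp_perfect hC))
    (iSup_le fun s => comp_le_layer (hfc s))
  have hFit : Cfsg.fittingSubgroup G ≤ Cfsg.layer G := by
    rw [fitting_eq_iSup_pCore, hlayer, ← hR]
    refine iSup_le fun q => ?_
    haveI := Fact.mk q.2
    by_cases hq : q.1 = p
    · rw [hq, hOp]; exact bot_le
    · intro x hx
      refine Cfsg.Lib.Transfer.mem_pResidual_of_coprime ?_
      obtain ⟨k, hk⟩ := IsPGroup.iff_orderOf.1 (isPGroup_pCore q.1) ⟨x, hx⟩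
      rw [Subgroup.orderOf_mk] at hk
      rw [hk]
      exact Nat.Coprime.pow_left k ((Nat.coprime_primes q.2 hp.out).2 hq)
  have hgf : Cfsg.generalizedFittingSubgroup G = Cfsg.layer G := sup_eq_left.2 hFit
  refine ⟨by rw [hgf, hlayer, hR], hgf, hlayer, ?_⟩
  -- the `p`-minimal subgroup
  set S₀ := (S : Subgroup G) ⊓ normalizer (K : Set G) with hS₀
  set H := K ⊔ S₀
  have hS₀K : S₀ ≤ normalizer (K : Set G) := inf_le_right
  have hKS : K ⊓ (S : Subgroup G) ≤ S₀ := le_inf inf_le_right (inf_le_left.trans le_normalizer)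
  have hLS : L₀ ⊓ (S : Subgroup G) ≤ ⨆ s, f s ⊓ (S : Subgroup G) := iSup_inf_sylow f (fun s => (hfc s).1) S
  have hfS : ∀ s : ↥(S : Subgroup G), f s ⊓ (S : Subgroup G) =
      (K ⊓ (S : Subgroup G)).map (MulAut.conj (s : G)).toMonoidHom := by
    intro s
    rw [map_inf _ _ _ (MulEquiv.injective _)]
    congr 1
    exact (mem_normalizer_iff_map_conj_eq.1 (le_normalizer (H := (S : Subgroup G)) s.2)).symm
  have hnotKM : ¬ K ≤ M := fun h => hnotM (iSup_le fun s => by
    rintro _ ⟨x, hx, rfl⟩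
    exact mul_mem (mul_mem (hSM s.2) (h hx)) (inv_mem (hSM s.2)))
  have hT : IsPGroup p (S₀.subgroupOf H) := (S.2.to_le inf_le_left).comap_subtype
  obtain ⟨T₀, hT₀⟩ := hT.exists_le_sylow
  have hT₀eq : (T₀ : Subgroup H) = S₀.subgroupOf H := by
    refine le_antisymm (fun x hx => ?_) hT₀
    obtain ⟨k, hk, s, hs, e⟩ := (Cfsg.Lib.Coprime.mem_sup_of_le_normalizer hS₀K).1 x.2
    obtain ⟨Q, hQ⟩ := Cfsg.Lib.SubnormalSylow.exists_sylow S hK.1
    set V := ((T₀ : Subgroup H).map H.subtype).subgroupOf K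
    have hle : (Q : Subgroup K) ≤ V := fun y hy =>
      ⟨⟨y, mem_sup_left y.2⟩, hT₀ (hKS (mem_inf.mpr ⟨y.2, hQ.le hy⟩)), rfl⟩
    have hkV : (⟨k, hk⟩ : K) ∈ V := by
      refine ⟨⟨k, mem_sup_left hk⟩, ?_, rfl⟩
      have : (⟨k, mem_sup_left hk⟩ : H) = x * (⟨s, mem_sup_right hs⟩ : H)⁻¹ := Subtype.ext (by
        show k = (x : G) * s⁻¹
        rw [← e]; group)
      rw [this]
      exact mul_mem hx (inv_mem (hT₀ hs))
    rw [show V = (Q : Subgroup K) from Q.3 ((T₀.2.map H.subtype).comap_subtype) hle] at hkV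
    show (x : G) ∈ S₀
    rw [← e]
    exact mul_mem (hKS (mem_inf.mpr ⟨hk, hQ.le hkV⟩)) hs
  have hKne : K ⊓ (S : Subgroup G) ≠ ⊥ := by
    intro hb
    have hLb : L₀ ⊓ (S : Subgroup G) = ⊥ := le_bot_iff.1 (hLS.trans (iSup_le fun s => by
      rw [hfS, hb, Subgroup.map_bot]))
    obtain ⟨P, hP⟩ := Cfsg.Lib.SubnormalSylow.exists_sylow S hL₀sn
    have hco : ¬ p ∣ Nat.card L₀ := by
      intro hd
      have h1 : (P : Subgroup L₀) = ⊥ := by
        rw [hP, ← inf_subgroupOf_left, hLb]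
        exact bot_subgroupOf ..
      have h2 := P.dvd_card_of_dvd_card hd
      rw [h1, Subgroup.card_bot] at h2
      exact hp.out.ne_one (Nat.dvd_one.1 h2)
    obtain ⟨c, hc⟩ := IsPGroup.iff_card.1 S.2
    have hcop : (Nat.card (S : Subgroup G)).Coprime (Nat.card L₀) := by
      rw [hc]; exact Nat.Coprime.pow_left c (hp.out.coprime_iff_not_dvd.2 hco)
    haveI := S.2.isNilpotent
    have hsol : Group.IsSolvable (S : Subgroup G) := inferInstance
    refine hnotM (Cfsg.Lib.Coprime.le_of_forall_sylow fun q hq => ?_)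
    haveI := Fact.mk hq
    obtain ⟨Q, hQn⟩ := Cfsg.Lib.Coprime.exists_invariant_sylow hSn hcop (Or.inl hsol) q
    refine ⟨Q, ?_⟩
    set Q' := (Q : Subgroup L₀).map L₀.subtype
    by_cases hne : Q' ⊔ (S : Subgroup G) = ⊤
    · exfalso
      haveI : Q'.Normal := normalizer_eq_top_iff.1 (top_le_iff.1 (hne.ge.trans (sup_le le_normalizer hQn)))
      have h1 : Cfsg.pResidual p G ≤ Q' := Cfsg.Lib.PIrr.pResidual_le_of_le_sup S.2 (le_top.trans hne.ge)
      haveI := (Q.2.map L₀.subtype).isNilpotent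
      haveI := isNilpotent_of_le (inferInstance : Group.IsNilpotent Q') ((hKL.trans hR.ge).trans h1)
      exact comp_not_isSolvable hK inferInstance
    · exact le_sup_left.trans (Cfsg.Lib.YMin.le_of_mem hM hSM hmin hne le_sup_right)
  refine isPMinimal_of_one T₀ (fun hn => hKne ?_) ?_
  · rw [hT₀eq] at hn
    haveI := hn
    have hKH : K ≤ H := le_sup_left
    have hn2 : ((K ⊓ (S : Subgroup G)).subgroupOf K).Normal := by
      have h1 : (K ⊓ (S : Subgroup G)).subgroupOf K = (S₀.subgroupOf H).comap (inclusion hKH) := by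
        ext x
        exact ⟨fun h => hKS h, fun h => mem_inf.mpr ⟨x.2, (mem_inf.1 h).1⟩⟩
      rw [h1]; exact Normal.comap inferInstance _
    have h2 := hp1 _ ((hn2.isSubnormal).trans inf_le_left hK.1) (inf_le_right.trans hSM)
    rw [hOp, inf_assoc, inf_idem, le_bot_iff] at h2
    exact h2
  have hlt : M.subgroupOf H ≠ ⊤ := fun h => hnotKM (le_sup_left.trans (subgroupOf_eq_top.1 h))
  have key : ∀ X : Subgroup H, (T₀ : Subgroup H) ≤ X → X ≠ ⊤ → X ≤ M.subgroupOf H := by
    intro X hTX hX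
    set X' := X.map H.subtype
    have hS₀X : S₀ ≤ X' := fun s hs => ⟨⟨s, mem_sup_right hs⟩, hTX (hT₀ hs), rfl⟩
    set Xk := X' ⊓ K with hXk
    set g : ↥(S : Subgroup G) → Subgroup G := fun s => Xk.map (MulAut.conj (s : G)).toMonoidHom
    set Y := ⨆ s, g s
    have hYS : (S : Subgroup G) ≤ normalizer (Y : Set G) := fun t ht => by
      refine Cfsg.Lib.SolvStruct.mem_normalizer_of_conj_smul_le ?_
      rw [Cfsg.Lib.SolvStruct.conj_smul_eq_map, Subgroup.map_iSup]
      refine iSup_le fun s => ?_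
      refine le_iSup_of_le ((⟨t, ht⟩ : ↥(S : Subgroup G)) * s) (le_of_eq ?_)
      show (Xk.map (MulAut.conj (s : G)).toMonoidHom).map (MulAut.conj t).toMonoidHom = _
      rw [Cfsg.Lib.Transfer.map_conj_map_conj]
      rfl
    have hne : Y ⊔ (S : Subgroup G) ≠ ⊤ := by
      intro hY
      have hYL : Y ≤ L₀ := iSup_mono fun s => map_mono inf_le_right
      have hLY : L₀ ≤ Y := by
        intro l hl
        obtain ⟨y, hy, t, ht, e⟩ := (Cfsg.Lib.Coprime.mem_sup_of_le_normalizer hYS).1 (hY.ge (mem_top l))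
        have h1 : t ∈ L₀ := by
          rw [show t = y⁻¹ * l by rw [← e]; group]
          exact mul_mem (inv_mem (hYL hy)) hl
        have h2 : t ∈ Y := by
          refine (hLS.trans (iSup_le fun s => ?_)) (mem_inf.mpr ⟨h1, ht⟩)
          rw [hfS]
          refine le_iSup_of_le s (map_mono (le_inf (hKS.trans hS₀X) inf_le_left))
        rw [← e]
        exact mul_mem hy h2
      have hYC : Y ≤ centralizer (K : Set G) ⊔ Xk := by
        refine iSup_le fun s => ?_
        by_cases hs : (s : G) ∈ normalizer (K : Set G)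
        · refine le_trans ?_ le_sup_right
          rintro _ ⟨x, hx, rfl⟩
          have hs' : (s : G) ∈ X' := hS₀X (mem_inf.mpr ⟨s.2, hs⟩)
          exact mem_inf.mpr ⟨mul_mem (mul_mem hs' (mem_inf.1 hx).1) (inv_mem hs'),
            (mem_normalizer_iff.1 hs x).1 (mem_inf.1 hx).2⟩
        · refine le_trans (le_trans (map_mono inf_le_right) ?_) le_sup_left
          rw [← commutator_eq_bot_iff_le_centralizer]
          exact comp_commute (hfc s) hK fun e => hs (mem_normalizer_iff_map_conj_eq.2 e)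
      have hnorm : Xk ≤ normalizer ((centralizer (K : Set G) : Subgroup G) : Set G) := by
        refine inf_le_right.trans (le_normalizer.trans ?_)
        exact Cfsg.Lib.Components.normalizer_le_normalizer_centralizer' K
      have h3 : Xk.subgroupOf K ⊔ center K = ⊤ := by
        rw [eq_top_iff]
        rintro ⟨k, hk⟩ -
        obtain ⟨c, hc, x, hx, e⟩ := (Cfsg.Lib.Coprime.mem_sup_of_le_normalizer hnorm).1 (hYC (hLY (hKL hk)))
        have hcK : c ∈ K := by
          rw [show c = k * x⁻¹ by rw [← e]; group]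
          exact mul_mem hk (inv_mem (mem_inf.1 hx).2)
        have : (⟨k, hk⟩ : K) = ⟨c, hcK⟩ * ⟨x, (mem_inf.1 hx).2⟩ := Subtype.ext e.symm
        rw [this]
        refine mul_mem (mem_sup_right (mem_center_iff.2 fun a => Subtype.ext ?_)) (mem_sup_left hx)
        exact mem_centralizer_iff.1 hc a a.2
      have h4 := eq_top_of_sup_center_eq_top (qs_commutator_top hK.2) h3
      have hKX : K ≤ X' := (subgroupOf_eq_top.1 h4).trans inf_le_left
      refine hX (map_injective H.subtype_injective ?_)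
      rw [← MonoidHom.range_eq_map, range_subtype]
      exact le_antisymm (map_subtype_le X) (sup_le hKX hS₀X)
    have hYM : Y ≤ M := le_sup_left.trans (Cfsg.Lib.YMin.le_of_mem hM hSM hmin hne le_sup_right)
    have hXkM : Xk ≤ M := le_trans (le_iSup_of_le (1 : ↥(S : Subgroup G)) (by
      show Xk ≤ Xk.map (MulAut.conj ((1 : ↥(S : Subgroup G)) : G)).toMonoidHom
      rw [Subgroup.coe_one, Cfsg.Lib.Transfer.map_conj_one])) hYM
    intro x hx
    obtain ⟨k, hk, s, hs, e⟩ := (Cfsg.Lib.Coprime.mem_sup_of_le_normalizer hS₀K).1 x.2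
    show (x : G) ∈ M
    rw [← e]
    refine mul_mem (hXkM (mem_inf.mpr ⟨?_, hk⟩)) (hSM (mem_inf.1 hs).1)
    rw [show k = (x : G) * s⁻¹ by rw [← e]; group]
    exact mul_mem ⟨x, hx, rfl⟩ (inv_mem (hS₀X hs))
  have hT₀M : (T₀ : Subgroup H) ≤ M.subgroupOf H := by
    rw [hT₀eq]; exact fun x hx => hSM (mem_inf.1 hx).1
  refine ⟨M.subgroupOf H, ⟨⟨hlt, fun X hX => ?_⟩, hT₀M⟩, ?_⟩
  · by_contra hXt
    exact hX.not_ge (key X (hT₀M.trans hX.le) hXt)
  · rintro X ⟨hX, hTX⟩
    exact ((hX.le_iff.1 (key X hTX hX.1)).resolve_left hlt).symm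

end Cfsg.Lib.PMinimalComp
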