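import Cfsg.Agent.Components.KInf.Degree
import Cfsg.Agent.Coprime.Action

/-!
Degrees on the chief factors below a normal `p`-subgroup from those below a critical subgroup.
-/

set_option linter.style.haveILetI false
set_option linter.unusedSectionVars false

namespace Cfsg.Lib.Misc.ChiefDegree

open Subgroup Cfsg.Lib.KInf
open scoped commutatorElement

universe u

variable {G : Type u} [Group G] [Finite G] {p : ℕ} [Fact p.Prime]

theorem iter_le_self (M : Subgroup G) [M.Normal] (B : Subgroup G) (i : ℕ) :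
    Cfsg.iterCommutator M B i ≤ M := by
  induction i with
  | zero => exact le_rfl
  | succ i ih => exact (commutator_mono ih le_rfl).trans (commutator_le_left M _)

theorem iter_le_of_le {M B V : Subgroup G} [V.Normal] {i n : ℕ} (hin : i ≤ n)
    (h : Cfsg.iterCommutator M B i ≤ V) : Cfsg.iterCommutator M B n ≤ V := by
  induction n, hin using Nat.le_induction with
  | base => exact h
  | succ n _ ih => exact (commutator_mono ih le_rfl).trans (commutator_le_left V _)

theorem iter_normalizer (M B : Subgroup G) [M.Normal] : ∀ i : ℕ,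
    B ≤ normalizer ((Cfsg.iterCommutator M B i : Subgroup G) : Set G)
  | 0 => by
    show B ≤ normalizer (M : Set G)
    rw [normalizer_eq_top]; exact le_top
  | i + 1 => Cfsg.Lib.Coprime.le_normalizer_commutator_right _ _

/-- the pairing `X × Y → C`: degrees `i` on `Y` and `j` on `C` give `i + j - 1` on `X` -/
theorem layer {T X Y C : Subgroup G} [T.Normal] [X.Normal] [Y.Normal] [C.Normal] (g : G)
    (hC : C ≤ centralizer (T : Set G)) (hXT : X ≤ T) (hYT : Y ≤ T) (hXY : ⁅X, Y⁆ ≤ C) {i j : ℕ}
    (hi : 1 ≤ i) (hj : 1 ≤ j) (hY : ⁅X, Cfsg.iterCommutator Y (zpowers g) i⁆ = ⊥)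
    (hCj : Cfsg.iterCommutator C (zpowers g) j = ⊥) :
    ⁅Cfsg.iterCommutator X (zpowers g) (i + j - 1), Y⁆ = ⊥ := by
  set B := zpowers g
  set W : ℕ → Subgroup G := fun k => Cfsg.iterCommutator C B k with hW
  have hWC : ∀ k, W k ≤ C := fun k => iter_le_self C B k
  have main : ∀ k a b : ℕ, k = 0 ∨ i + k ≤ a + b + 1 →
      ⁅Cfsg.iterCommutator X B a, Cfsg.iterCommutator Y B b⁆ ≤ W k := by
    intro k
    induction k with
    | zero => exact fun a b _ => (commutator_mono (iter_le_self X B a) (iter_le_self Y B b)).trans hXY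
    | succ k ih =>
      intro a
      induction a with
      | zero =>
        intro b hb
        obtain ⟨d, rfl⟩ : ∃ d, b = i + d := ⟨b - i, by omega⟩
        have hle : Cfsg.iterCommutator Y B (i + d) ≤ Cfsg.iterCommutator Y B i := by
          clear hb
          induction d with
          | zero => exact le_rfl
          | succ d ihd =>
            refine le_trans ?_ ihd
            rw [← Nat.add_assoc]
            show ⁅Cfsg.iterCommutator Y B (i + d), B⁆ ≤ _
            exact le_normalizer_iff_commutator_le_left.mp (iter_normalizer Y B (i + d))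
        exact ((commutator_mono le_rfl hle).trans hY.le).trans bot_le
      | succ a iha =>
        intro b hb
        exact pairing_step g hC (hWC (k + 1)) (iter_normalizer C B (k + 1)) ((iter_le_self X B a).trans hXT)
          ((iter_le_self Y B b).trans hYT) ((commutator_mono (iter_le_self X B a) (iter_le_self Y B b)).trans hXY)
          (iha (b + 1) (by omega))
          (commutator_mono (ih a b (by omega)) le_rfl)
  have := main j (i + j - 1) 0 (Or.inr (by omega))
  rw [hW] at this
  simp only at this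
  rw [hCj] at this
  exact le_bot_iff.mp this

/-- every normal subgroup properly below has a chief factor on top -/
theorem exists_below {U : Subgroup G} [U.Normal] (hU : U ≠ ⊥) :
    ∃ V : Subgroup G, Cfsg.IsChiefFactor U V := by
  obtain ⟨V, ⟨hVn, hVU⟩, hmax⟩ := WellFounded.has_min (wellFounded_gt (α := Subgroup G))
    {V | V.Normal ∧ V < U} ⟨⊥, inferInstance, bot_lt_iff_ne_bot.mpr hU⟩
  refine ⟨V, hVU, inferInstance, hVn, fun N hN hVN hNU => ?_⟩
  rcases hNU.lt_or_eq with h | h
  · exact Or.inl (hVN.lt_or_eq.resolve_left fun h' => hmax N ⟨hN, h⟩ h').symm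
  · exact Or.inr h

theorem degree_chief {P Q : Subgroup G} [P.Normal] [Q.Normal] (hP : IsPGroup p P) (hQP : Q ≤ P)
    (hPQ : ⁅P, Q⁆ ≤ zc Q) (hCQ : P ⊓ centralizer (Q : Set G) ≤ zc Q) (g : G) {i j : ℕ} (hi : 1 ≤ i)
    (hj : 1 ≤ j)
    (hQi : ∀ U V : Subgroup G, Cfsg.IsChiefFactor U V → U ≤ Q → Cfsg.iterCommutator U (zpowers g) i ≤ V)
    (hZj : ∀ U V : Subgroup G, Cfsg.IsChiefFactor U V → U ≤ zc Q → Cfsg.iterCommutator U (zpowers g) j ≤ V)
    {U V : Subgroup G} (hUV : Cfsg.IsChiefFactor U V) (hUP : U ≤ P) :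
    Cfsg.iterCommutator U (zpowers g) (i + j - 1) ≤ V := by
  obtain ⟨hlt, hUn, hVn, hmin⟩ := hUV
  haveI := hUn
  haveI := hVn
  haveI hZn : (zc Q).Normal := inferInstanceAs (Q ⊓ centralizer (Q : Set G)).Normal
  set B := zpowers g
  by_contra hno
  have hsplit : ∀ X : Subgroup G, X.Normal → U ⊓ X ≤ V ∨ U ≤ (U ⊓ X) ⊔ V := fun X hX => by
    haveI := hX
    rcases hmin ((U ⊓ X) ⊔ V) inferInstance le_sup_right (sup_le inf_le_left hlt.le) with h | h
    · exact Or.inl (le_sup_left.trans h.le)
    · exact Or.inr h.ge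
  rcases hsplit (zc Q) hZn with hZ | hZ
  swap
  · refine hno (iter_le_of_le (Nat.le_add_left j (i - 1) |>.trans (by omega)) (iter_le_of_le_sup g hZ ?_))
    have hch : Cfsg.IsChiefFactor (U ⊓ zc Q) (V ⊓ zc Q) := by
      refine ⟨lt_of_le_of_ne (inf_le_inf_right _ hlt.le) fun e => ?_, inferInstance, inferInstance,
        fun N hN hVN hNU => ?_⟩
      · exact hlt.not_ge (hZ.trans (sup_le (e.ge.trans inf_le_left) le_rfl))
      · haveI := hN
        rcases hmin (N ⊔ V) inferInstance le_sup_right (sup_le (hNU.trans inf_le_left) hlt.le) with h | h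
        · exact Or.inl (le_antisymm (le_inf (le_sup_left.trans h.le) (hNU.trans inf_le_right)) hVN)
        · refine Or.inr (le_antisymm hNU fun z hz => ?_)
          have hz' : z ∈ N ⊔ V := h.ge (mem_inf.1 hz).1
          obtain ⟨n, hn, v, hv, rfl⟩ := mem_sup_of_normal_right.1 hz'
          refine mul_mem hn (hVN (mem_inf.2 ⟨hv, ?_⟩))
          have := mul_mem (inv_mem (mem_inf.1 (hNU hn)).2) (mem_inf.1 hz).2
          rwa [inv_mul_cancel_left] at this
    exact (hZj _ _ hch inf_le_right).trans inf_le_left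
  -- covering subgroups pairing into smaller and smaller normal subgroups of `Z`
  suffices hall : ∀ C : Subgroup G, C.Normal → C ≤ zc Q →
      (∃ X : Subgroup G, X.Normal ∧ X ≤ U ∧ U ≤ X ⊔ V ∧ ⁅X, Q⁆ ≤ C) →
      ∃ X : Subgroup G, X.Normal ∧ X ≤ U ∧ U ≤ X ⊔ V ∧ ⁅X, Q⁆ = ⊥ by
    obtain ⟨X, -, hXU, hX, hXQ⟩ := hall (zc Q) hZn le_rfl
      ⟨U, hUn, le_rfl, le_sup_left, (commutator_mono hUP le_rfl).trans hPQ⟩
    have hXZ : X ≤ zc Q :=
      (le_inf (hXU.trans hUP) (commutator_eq_bot_iff_le_centralizer.mp hXQ)).trans hCQ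
    exact hlt.not_ge (hX.trans (sup_le ((le_inf hXU hXZ).trans hZ) le_rfl))
  intro C
  induction C using WellFoundedLT.induction with
  | _ C ihC =>
  intro hCn hCZ hex
  haveI := hCn
  obtain ⟨X0, hX0n, hX0U, hX0, hX0Q⟩ := hex
  by_cases hCb : C = ⊥
  · exact ⟨X0, hX0n, hX0U, hX0, le_bot_iff.mp (hX0Q.trans hCb.le)⟩
  obtain ⟨C', hC'⟩ := exists_below hCb
  obtain ⟨hC'lt, -, hC'n, hC'min⟩ := id hC'
  haveI := hC'n
  refine ihC C' hC'lt hC'n (hC'lt.le.trans hCZ) ?_
  -- `P` centralizes the chief factor `C / C'`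
  have hCP : ⁅C, P⁆ ≤ C' := by
    rcases hC'min (⁅C, P⁆ ⊔ C') inferInstance le_sup_right
      (sup_le (commutator_le_left C P) hC'lt.le) with h | h
    · exact le_sup_left.trans h.le
    · exfalso
      set π := QuotientGroup.mk' C' with hπ
      have hst : ∀ n, Cfsg.iterCommutator (C.map π) (P.map π) n = C.map π := by
        intro n
        induction n with
        | zero => rfl
        | succ n ih =>
          show ⁅Cfsg.iterCommutator (C.map π) (P.map π) n, P.map π⁆ = _
          rw [ih, ← map_commutator]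
          conv_rhs => rw [← h, Subgroup.map_sup, hπ, QuotientGroup.map_mk'_self, sup_bot_eq]
      obtain ⟨n, hn⟩ := exists_iter_eq_bot hP (Z := C) (hCZ.trans ((zc_le Q).trans hQP))
      have := hst n
      rw [← iter_map, hn, Subgroup.map_bot] at this
      rw [eq_comm, Subgroup.map_eq_bot_iff, hπ, QuotientGroup.ker_mk'] at this
      exact hC'lt.not_ge this
  suffices hasc : ∀ Y : Subgroup G, Y.Normal → Y ≤ Q →
      ∃ X : Subgroup G, X.Normal ∧ X ≤ X0 ∧ U ≤ X ⊔ V ∧ ⁅X, Y⁆ ≤ C' by
    obtain ⟨X, hXn, hX1, hX2, hX3⟩ := hasc Q inferInstance le_rfl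
    exact ⟨X, hXn, hX1.trans hX0U, hX2, hX3⟩
  intro Y
  induction Y using WellFoundedLT.induction with
  | _ Y ihY =>
  intro hYn hYQ
  haveI := hYn
  by_cases hYb : Y = ⊥
  · exact ⟨X0, hX0n, le_rfl, hX0, by rw [hYb, commutator_bot_right]; exact bot_le⟩
  obtain ⟨Y', hY'⟩ := exists_below hYb
  obtain ⟨hY'lt, -, hY'n, -⟩ := id hY'
  haveI := hY'n
  obtain ⟨X, hXn, hXX0, hX, hXY'⟩ := ihY Y' hY'lt hY'n (hY'lt.le.trans hYQ)
  haveI := hXn
  set n := i + j - 1
  set π := QuotientGroup.mk' C' with hπ
  have hπs : Function.Surjective π := QuotientGroup.mk'_surjective _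
  haveI : (P.map π).Normal := Subgroup.Normal.map inferInstance π hπs
  haveI : (X.map π).Normal := Subgroup.Normal.map inferInstance π hπs
  haveI : (Y.map π).Normal := Subgroup.Normal.map inferInstance π hπs
  haveI : (C.map π).Normal := Subgroup.Normal.map inferInstance π hπs
  have h4 : ⁅Cfsg.iterCommutator X B n, Y⁆ ≤ C' := by
    rw [← QuotientGroup.ker_mk' C', ← Subgroup.map_eq_bot_iff, map_commutator, iter_map,
      MonoidHom.map_zpowers]
    refine layer (T := P.map π) (C := C.map π) (π g) ?_ (map_mono ((hXX0.trans hX0U).trans hUP))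
      (map_mono (hYQ.trans hQP)) ?_ hi hj ?_ ?_
    · rw [← commutator_eq_bot_iff_le_centralizer, ← map_commutator, Subgroup.map_eq_bot_iff,
        QuotientGroup.ker_mk']
      exact hCP
    · rw [← map_commutator]
      exact map_mono ((commutator_mono hXX0 hYQ).trans hX0Q)
    · rw [← MonoidHom.map_zpowers, ← iter_map, ← map_commutator, Subgroup.map_eq_bot_iff,
        QuotientGroup.ker_mk']
      exact (commutator_mono le_rfl (hQi Y Y' hY' hYQ)).trans hXY'
    · rw [← MonoidHom.map_zpowers, ← iter_map, Subgroup.map_eq_bot_iff, QuotientGroup.ker_mk']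
      exact hZj C C' hC' hCZ
  refine ⟨normalClosure (Cfsg.iterCommutator X B n : Set G), normalClosure_normal,
    (normalClosure_le_normal (iter_le_self X B n)).trans hXX0, ?_, ?_⟩
  · rcases hsplit (normalClosure (Cfsg.iterCommutator X B n : Set G)) normalClosure_normal with h | h
    · exfalso
      refine hno (iter_le_of_le_sup g hX ((le_inf ?_ subset_normalClosure).trans h))
      exact (iter_le_self X B n).trans (hXX0.trans hX0U)
    · exact h.trans (sup_le_sup_right inf_le_right V)
  · haveI : ((centralizer ((Y.map π) : Set (G ⧸ C'))).comap π).Normal := inferInstance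
    have hF : normalClosure (Cfsg.iterCommutator X B n : Set G) ≤
        (centralizer (Y.map π : Set (G ⧸ C'))).comap π :=
      normalClosure_le_normal (show Cfsg.iterCommutator X B n ≤ _ by
        rw [← map_le_iff_le_comap, ← commutator_eq_bot_iff_le_centralizer, ← map_commutator,
          Subgroup.map_eq_bot_iff, QuotientGroup.ker_mk']
        exact h4)
    rw [← map_le_iff_le_comap, ← commutator_eq_bot_iff_le_centralizer, ← map_commutator,
      Subgroup.map_eq_bot_iff, QuotientGroup.ker_mk'] at hF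
    exact hF

end Cfsg.Lib.Misc.ChiefDegree
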