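import Cfsg.Agent.Components.Misc.BpBalanceBasic

/-!
Balance for the subgroup generated by the `p`-components which are not quasisimple.
-/

set_option linter.style.haveILetI false
set_option linter.unusedSectionVars false

namespace Cfsg.Lib.Components.BpBalance

open Subgroup
open scoped commutatorElement

universe u

variable {X : Type u} [Group X] [Finite X] {p : ℕ} [Fact p.Prime]

omit [Fact p.Prime] in
theorem qs_of_central_ker {A : Type*} [Group A] [Finite A] {B : Type*} [Group B] [Nontrivial A]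
    (hA : ⁅(⊤ : Subgroup A), (⊤ : Subgroup A)⁆ = ⊤) (f : A →* B) (hf : Function.Surjective f)
    (hker : f.ker ≤ center A) (hB : IsQuasisimple B) : IsQuasisimple A := by
  refine isQuasisimple_of_perfect_of_subnormal inferInstance hA fun N hN hNt => ?_
  haveI : (N.map f).Normal := hN.map f hf
  rcases qs_subnormal_eq_top_or_le_center hB (inferInstance : (N.map f).Normal).isSubnormal with h | h
  · exfalso
    apply hNt
    apply eq_top_of_sup_center_eq_top hA
    have := congrArg (Subgroup.comap f) h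
    rw [comap_map_eq, comap_top] at this
    exact eq_top_iff.2 (this.ge.trans (sup_le_sup_left hker N))
  · rw [← commutator_top_left_eq_bot_iff_le_center]
    refine commutator_eq_bot_of_perfect hA ?_
    have h1 : ⁅(⊤ : Subgroup A), N⁆ ≤ center A := by
      refine le_trans ?_ hker
      rw [← Subgroup.map_eq_bot_iff, map_commutator, map_top_of_surjective f hf,
        commutator_top_left_eq_bot_iff_le_center]
      exact h
    rw [← le_bot_iff]
    refine (commutator_mono h1 le_rfl).trans (le_of_eq ?_)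
    rw [commutator_comm, commutator_top_left_eq_bot_iff_le_center]

omit [Fact p.Prime] in
theorem comp_top_genFitting {A : Type u} [Group A] [Finite A] (h : IsQuasisimple A) :
    generalizedFittingSubgroup A = ⊤ :=
  eq_top_iff.2 ((comp_le_layer (L := (⊤ : Subgroup A))
    ⟨IsSubnormal.top, qs_congr' Subgroup.topEquiv.symm h⟩).trans layer_le_genFitting)

/-- the solvability hypothesis passes to components of `N/O_{p'}(N)` -/
theorem out_comp_solvable
    (hS : ∀ (H : Subgroup X) (N : Subgroup ↥H) [N.Normal], HasQuasisimpleGeneralizedFitting (↥H ⧸ N) →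
      pPrimeCore p (↥H ⧸ N) = ⊥ →
        Group.IsSolvable (Out (↥(generalizedFittingSubgroup (↥H ⧸ N)) ⧸
          center ↥(generalizedFittingSubgroup (↥H ⧸ N)))))
    (N : Subgroup X) (L : Subgroup (↥N ⧸ pPrimeCore p ↥N)) (hL : IsComponent L) :
    Group.IsSolvable (Out (↥L ⧸ center ↥L)) := by
  set q := QuotientGroup.mk' (pPrimeCore p ↥N) with hq
  set H' := L.comap q with hH'
  set H := H'.map N.subtype with hH
  let e : ↥H' ≃* ↥H := H'.equivMapOfInjective N.subtype N.subtype_injective
  let f0 : ↥H' →* ↥L := (q.comp H'.subtype).codRestrict L (fun a => a.2)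
  let f : ↥H →* ↥L := f0.comp e.symm.toMonoidHom
  have hf0 : Function.Surjective f0 := by
    rintro ⟨y, hy⟩
    obtain ⟨z, rfl⟩ := QuotientGroup.mk'_surjective _ y
    exact ⟨⟨z, hy⟩, rfl⟩
  have hf : Function.Surjective f := hf0.comp e.symm.surjective
  let φ : ↥H ⧸ f.ker ≃* ↥L := QuotientGroup.quotientKerEquivOfSurjective f hf
  have hqs : IsQuasisimple (↥H ⧸ f.ker) := qs_congr' φ.symm hL.2
  have hF := comp_top_genFitting hqs
  have h1 : HasQuasisimpleGeneralizedFitting (↥H ⧸ f.ker) := by
    unfold HasQuasisimpleGeneralizedFitting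
    exact qs_congr' (Subgroup.topEquiv.symm.trans (MulEquiv.subgroupCongr hF.symm)) hqs
  have hO : pPrimeCore p ↥L = ⊥ := by
    apply Subgroup.map_injective L.subtype_injective
    rw [pPrimeCore_map_subtype_eq hL.1, pPrimeCore_quotient_eq_bot, bot_inf_eq, Subgroup.map_bot]
  have h2 : pPrimeCore p (↥H ⧸ f.ker) = ⊥ := by
    apply Subgroup.map_injective (f := φ.toMonoidHom) φ.injective
    rw [pPrimeCore_map_equiv φ, hO, Subgroup.map_bot]
  let ψ : ↥(generalizedFittingSubgroup (↥H ⧸ f.ker)) ≃* ↥L :=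
    (MulEquiv.subgroupCongr hF).trans (Subgroup.topEquiv.trans φ)
  exact out_solvable_congr (QuotientGroup.congr _ _ ψ (center_map_equiv ψ)) (hS H f.ker h1 h2)

/-- an element normalizing a quasisimple subgroup -/
theorem fixed_case
    (hB : ∀ (H : Subgroup X) (N : Subgroup ↥H) [N.Normal], HasQuasisimpleGeneralizedFitting (↥H ⧸ N) →
      pPrimeCore p (↥H ⧸ N) = ⊥ → HasBpProperty p (↥H ⧸ N))
    {J K : Subgroup X} {x : X} (hJ : IsQuasisimple ↥J) (hJp : p ∣ (center ↥J).index)
    (hxJ : x ∈ normalizer (J : Set X)) (hxp : x ^ p ∈ centralizer (J : Set X))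
    (hK : IsPComponentOf p K (J ⊓ centralizer ({x} : Set X))) : IsQuasisimple ↥K := by
  set W := J ⊓ centralizer ({x} : Set X) with hW
  by_cases hxc : x ∈ centralizer (J : Set X)
  · have hWJ : W = J := inf_eq_left.2 fun j hj =>
      mem_centralizer_singleton_iff.2 (mem_centralizer_iff.1 hxc j hj)
    rw [hWJ] at hK
    rcases qs_subnormal_eq_top_or_le_center hJ hK.2.1 with h | h
    · exact (qs_subgroupOf hK.1).1 (by rw [h]; exact qs_congr' Subgroup.topEquiv.symm hJ)
    · exfalso
      apply pcomp_ne_bot hK.2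
      rw [← pcomp_perfect hK.2, ← le_bot_iff]
      exact (commutator_mono h le_top).trans
        (by rw [commutator_comm, commutator_top_left_eq_bot_iff_le_center.2 le_rfl])
  set H := J ⊔ zpowers x with hH
  have hJH : J ≤ H := le_sup_left
  have hxH : x ∈ H := (le_sup_right : zpowers x ≤ H) (mem_zpowers x)
  have hHJ : H ≤ normalizer (J : Set X) := sup_le le_normalizer (zpowers_le.2 hxJ)
  set J' := J.subgroupOf H with hJ'
  haveI : J'.Normal := normal_subgroupOf_of_le_normalizer hHJ
  set Nk := centralizer (J' : Set ↥H) with hNkdef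
  haveI : Nk.Normal := inferInstance
  have hJ'qs : IsQuasisimple ↥J' := (qs_subgroupOf hJH).2 hJ
  have hJ'c : IsComponent J' := ⟨(inferInstance : J'.Normal).isSubnormal, hJ'qs⟩
  set π := QuotientGroup.mk' Nk with hπ
  have hπs : Function.Surjective π := QuotientGroup.mk'_surjective _
  set Jb := J'.map π with hJb
  haveI : Jb.Normal := (inferInstance : J'.Normal).map π hπs
  have hker : ∀ g : ↥H, π g = 1 ↔ g ∈ centralizer (J' : Set ↥H) := fun g =>
    QuotientGroup.eq_one_iff g
  -- the centralizer of the image is trivial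
  have hCb : centralizer (Jb : Set (↥H ⧸ Nk)) = ⊥ := by
    set Cm := (centralizer (Jb : Set (↥H ⧸ Nk))).comap π with hCm
    have h1 : ⁅J', Cm⁆ ≤ Nk := by
      rw [← QuotientGroup.ker_mk' Nk, ← Subgroup.map_eq_bot_iff, map_commutator,
        map_comap_eq_self_of_surjective hπs, commutator_comm, commutator_eq_bot_iff_le_centralizer]
    have h2 : ⁅J', Cm⁆ = ⊥ := by
      refine commutator_eq_bot_of_perfect (comp_perfect hJ'c) ?_
      rw [← le_bot_iff]
      refine (commutator_mono h1 le_rfl).trans (le_of_eq ?_)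
      rw [commutator_eq_bot_iff_le_centralizer]
    rw [commutator_comm, commutator_eq_bot_iff_le_centralizer] at h2
    rw [eq_bot_iff, ← map_comap_eq_self_of_surjective hπs (centralizer (Jb : Set (↥H ⧸ Nk)))]
    refine (Subgroup.map_mono h2).trans ?_
    rw [le_bot_iff, Subgroup.map_eq_bot_iff, QuotientGroup.ker_mk']
  have hJbc : IsComponent Jb := by
    refine (comp_map_surjective hJ'c π hπs).resolve_left fun h => ?_
    rw [Subgroup.map_eq_bot_iff, QuotientGroup.ker_mk', ← commutator_eq_bot_iff_le_centralizer,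
      comp_perfect hJ'c] at h
    exact comp_ne_bot hJ'c h
  have hcomm_bot : ∀ S : Subgroup (↥H ⧸ Nk), ⁅S, Jb⁆ = ⊥ → S = ⊥ := fun S hS => by
    rw [eq_bot_iff, ← hCb, ← commutator_eq_bot_iff_le_centralizer]; exact hS
  have hlayer : layer (↥H ⧸ Nk) = Jb := le_antisymm (sSup_le fun L hL => by
    by_contra h
    exact comp_ne_bot hL (hcomm_bot L (comp_commute hL hJbc fun e => h (e ▸ le_rfl))))
    (comp_le_layer hJbc)
  have hfit : fittingSubgroup (↥H ⧸ Nk) = ⊥ := hcomm_bot _ (by
    rw [commutator_comm, ← hlayer]; exact layer_commute_fitting)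
  have hgen : generalizedFittingSubgroup (↥H ⧸ Nk) = Jb := by
    rw [generalizedFittingSubgroup, hlayer, hfit, sup_bot_eq]
  have h1 : HasQuasisimpleGeneralizedFitting (↥H ⧸ Nk) := by
    unfold HasQuasisimpleGeneralizedFitting
    rw [hgen]
    exact hJbc.2
  -- order of the image
  let fJ : ↥J →* ↥H ⧸ Nk := π.comp (Subgroup.inclusion hJH)
  have hfJr : fJ.range = Jb := by
    rw [MonoidHom.range_comp, hJb]
    congr 1
    ext y
    exact ⟨fun ⟨a, ha⟩ => ha ▸ a.2, fun hy => ⟨⟨_, hy⟩, rfl⟩⟩
  have hfJk : fJ.ker = center ↥J := by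
    ext j
    rw [MonoidHom.mem_ker, MonoidHom.comp_apply, hker, mem_centralizer_iff, mem_center_iff]
    constructor
    · intro h g
      exact Subtype.ext (show (g : X) * (j : X) = j * g from
        congrArg Subtype.val (h (Subgroup.inclusion hJH g) g.2))
    · intro h g hg
      exact Subtype.ext (congrArg Subtype.val (h ⟨g, hg⟩) :)
  have hcardJb : Nat.card ↥Jb = (center ↥J).index := by
    rw [← hfJk, index_ker, hfJr]
  have h2 : pPrimeCore p (↥H ⧸ Nk) = ⊥ := by
    rcases comp_le_or_commute hJbc (pPrimeCore_normal' (G := ↥H ⧸ Nk) p).isSubnormal with h | h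
    · exfalso
      have := (coprime_card_pPrimeCore (G := ↥H ⧸ Nk) p).coprime_dvd_left (Subgroup.card_dvd_of_le h)
      rw [hcardJb] at this
      exact (Fact.out : p.Prime).coprime_iff_not_dvd.1 this.symm hJp
    · exact hcomm_bot _ (by rw [commutator_comm]; exact h)
  have hBQ := hB H Nk h1 h2
  set xb := π ⟨x, hxH⟩ with hxb
  have hxb1 : xb ≠ 1 := by
    rw [hxb, Ne, hker, mem_centralizer_iff]
    intro h
    apply hxc
    rw [mem_centralizer_iff]
    exact fun j hj => congrArg Subtype.val (h ⟨j, hJH hj⟩ hj)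
  have hxbp : xb ^ p = 1 := by
    rw [hxb, ← map_pow, hker, mem_centralizer_iff]
    intro g hg
    exact Subtype.ext (mem_centralizer_iff.1 hxp (g : X) hg)
  have hord : orderOf xb = p := orderOf_eq_prime hxbp hxb1
  set C := centralizer ({xb} : Set (↥H ⧸ Nk)) with hC
  have hWH : W ≤ H := inf_le_left.trans hJH
  let fW : ↥W →* ↥C := (π.comp (Subgroup.inclusion hWH)).codRestrict C fun w => by
    rw [hC, mem_centralizer_singleton_iff, hxb, MonoidHom.comp_apply, ← map_mul, ← map_mul]
    exact congrArg π (Subtype.ext (mem_centralizer_singleton_iff.1 (mem_inf.1 w.2).2))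
  have hfker : fW.ker ≤ center ↥W := by
    intro w hw
    have hw' : π (Subgroup.inclusion hWH w) = 1 := congrArg Subtype.val hw
    rw [hker, mem_centralizer_iff] at hw'
    rw [mem_center_iff]
    intro g
    exact Subtype.ext (show (g : X) * (w : X) = w * g from
      congrArg Subtype.val (hw' (Subgroup.inclusion hWH g) (mem_inf.1 g.2).1))
  -- the image is normal in the centralizer
  haveI hrange : fW.range.Normal := by
    refine ⟨fun n hn g => ?_⟩
    obtain ⟨w, rfl⟩ := hn
    obtain ⟨g, hg⟩ := g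
    obtain ⟨h, rfl⟩ := hπs g
    have hh : h⁻¹ * ⟨x, hxH⟩⁻¹ * h * ⟨x, hxH⟩ ∈ Nk := by
      rw [← QuotientGroup.eq_one_iff]
      have := mem_centralizer_singleton_iff.1 hg
      show π (h⁻¹ * ⟨x, hxH⟩⁻¹ * h * ⟨x, hxH⟩) = 1
      simp only [map_mul, map_inv]
      rw [← hxb, mul_assoc, this]
      group
    obtain ⟨c, hcdef⟩ : ∃ c, c = h⁻¹ * ⟨x, hxH⟩⁻¹ * h * ⟨x, hxH⟩ := ⟨_, rfl⟩
    rw [← hcdef, mem_centralizer_iff] at hh
    have hc : ∀ j ∈ J, (c : X) * j = j * c := fun j hj =>
      (congrArg Subtype.val (hh ⟨j, hJH hj⟩ hj)).symm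
    have hmem : (h : X) * (w : X) * (h : X)⁻¹ ∈ W := by
      have hhJ : (h : X) * (w : X) * (h : X)⁻¹ ∈ J :=
        (mem_normalizer_iff.1 (hHJ h.2) _).1 (mem_inf.1 w.2).1
      refine mem_inf.2 ⟨hhJ, mem_centralizer_singleton_iff.2 ?_⟩
      have hcv : (c : X) = (h : X)⁻¹ * x⁻¹ * h * x := by rw [hcdef]; simp
      have hwx : x * (w : X) = (w : X) * x := (mem_centralizer_singleton_iff.1 (mem_inf.1 w.2).2).symm
      have hcw : (c : X) * w = w * c := hc _ (mem_inf.1 w.2).1
      have h3 : (h : X) * x = x * h * c := by rw [hcv]; group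
      calc (h : X) * w * (h : X)⁻¹ * x = (h : X) * w * ((h : X)⁻¹ * x) := by group
        _ = (h : X) * w * (x * (c : X)⁻¹ * (h : X)⁻¹) := by rw [hcv]; group
        _ = (h : X) * ((w : X) * x) * (c : X)⁻¹ * (h : X)⁻¹ := by group
        _ = (h : X) * x * ((w : X) * (c : X)⁻¹) * (h : X)⁻¹ := by rw [← hwx]; group
        _ = x * (h : X) * c * ((w : X) * (c : X)⁻¹) * (h : X)⁻¹ := by rw [h3]
        _ = x * (h : X) * ((c : X) * w) * (c : X)⁻¹ * (h : X)⁻¹ := by group
        _ = x * ((h : X) * w * (h : X)⁻¹) := by rw [hcw]; group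
    refine ⟨⟨_, hmem⟩, Subtype.ext ?_⟩
    show π (Subgroup.inclusion hWH ⟨_, hmem⟩) = π h * π (Subgroup.inclusion hWH w) * (π h)⁻¹
    rw [← map_inv, ← map_mul, ← map_mul]
    rfl
  set KW := K.subgroupOf W with hKW
  set KC := KW.map fW with hKC
  have hKCsn : KC.IsSubnormal := by
    have h : KC = (KW.map fW.rangeRestrict).map fW.range.subtype := by
      rw [hKC, map_map, MonoidHom.subtype_comp_rangeRestrict]
    rw [h]
    exact isSubnormal_map_subtype hrange.isSubnormal (hK.2.1.map fW.rangeRestrict_surjective)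
  have hOle : pPrimeCore p ↥W ≤ (pPrimeCore p ↥C).comap fW := by
    rw [← map_le_iff_le_comap]
    refine le_pPrimeCore_of_subnormal ?_ ((coprime_card_pPrimeCore p).coprime_dvd_left (card_map_dvd _ _))
    have h : (pPrimeCore p ↥W).map fW = ((pPrimeCore p ↥W).map fW.rangeRestrict).map fW.range.subtype := by
      rw [map_map, MonoidHom.subtype_comp_rangeRestrict]
    rw [h]
    exact isSubnormal_map_subtype hrange.isSubnormal
      (((pPrimeCore_normal' p).map _ fW.rangeRestrict_surjective).isSubnormal)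
  have hKWne : ∀ (N : Subgroup ↥KW) [N.Normal], (N.index).Coprime p → N = ⊤ := fun N _ h =>
    pcomp_eq_top_of_coprime_index hK.2 N h
  set qC := QuotientGroup.mk' (pPrimeCore p ↥C) with hqC
  have hne : KC.map qC ≠ ⊥ := by
    intro h
    rw [Subgroup.map_eq_bot_iff, hqC, QuotientGroup.ker_mk'] at h
    have hidx : ((fW.ker).comap KW.subtype).index.Coprime p := by
      rw [MonoidHom.comap_ker, index_ker, MonoidHom.range_comp, range_subtype]
      exact (coprime_card_pPrimeCore p).coprime_dvd_left (Subgroup.card_dvd_of_le h)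
    have hN := hKWne _ hidx
    have hKZ : KW ≤ center ↥W := fun w hw => hfker (hN.ge (mem_top (⟨w, hw⟩ : ↥KW)))
    apply pcomp_ne_bot hK.2
    rw [← pcomp_perfect hK.2, ← le_bot_iff]
    exact (commutator_mono hKZ le_top).trans
      (by rw [commutator_comm, commutator_top_left_eq_bot_iff_le_center.2 le_rfl])
  let g : ↥W ⧸ pPrimeCore p ↥W →* ↥C ⧸ pPrimeCore p ↥C :=
    QuotientGroup.map _ _ fW hOle
  have hg : KC.map qC = (KW.map (QuotientGroup.mk' (pPrimeCore p ↥W))).map g := by
    rw [hKC, map_map, map_map]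
    congr 1
  have hcompC : IsComponent (KC.map qC) := by
    refine ⟨hKCsn.quotient, ?_⟩
    haveI : Nontrivial ↥((KW.map (QuotientGroup.mk' (pPrimeCore p ↥W))).map g) :=
      (Subgroup.nontrivial_iff_ne_bot _).2 (hg ▸ hne)
    rw [hg]
    exact qs_of_surjective hK.2.2.1.2 (g.subgroupMap _) (g.subgroupMap_surjective _)
  obtain ⟨M, hM, hMimg⟩ := exists_pcomp hcompC
  have hMqs : IsQuasisimple ↥M := hBQ.2 xb hord M hM
  have hMle : M ≤ KC := pcomp_le_of_image_le hM hKCsn hMimg.le
  have hMc : IsComponent M := ⟨hM.1, hMqs⟩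
  set O := pPrimeCore p ↥C with hO
  have hMO : ⁅M, O⁆ = ⊥ := by
    rcases comp_le_or_commute hMc (pPrimeCore_normal' p).isSubnormal with h | h
    · exact absurd h (pcomp_not_le_core hM)
    · exact h
  have hOn : O ≤ normalizer (M : Set ↥C) := by
    refine le_trans ?_ (centralizer_le_normalizer _)
    rw [← commutator_eq_bot_iff_le_centralizer, commutator_comm]
    exact hMO
  have hKCle : KC ≤ M ⊔ O := by
    have h := comap_map_q (p := p) M
    rw [hMimg] at h
    exact (le_comap_map _ _).trans h.le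
  have hnorm : M ⊔ O ≤ normalizer (M : Set ↥C) := sup_le le_normalizer hOn
  let i : ↥KW →* ↥C := fW.comp KW.subtype
  have hir : i.range = KC := by rw [MonoidHom.range_comp, range_subtype]
  haveI : (M.comap i).Normal := ⟨fun n hn g =>
    mem_comap.2 (by
      rw [map_mul, map_mul, map_inv]
      exact (mem_normalizer_iff.1 (hnorm (hKCle (hir.le ⟨g, rfl⟩))) _).1 hn)⟩
  have hidx : (M.comap i).index.Coprime p := by
    rw [index_comap, hir]
    haveI : (M.subgroupOf (M ⊔ O)).Normal := normal_subgroupOf_of_le_normalizer hnorm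
    have h1 : M.relIndex KC ∣ (M.subgroupOf (M ⊔ O)).relIndex (O.subgroupOf (M ⊔ O)) := by
      rw [← relIndex_sup_left (K := M.subgroupOf (M ⊔ O)) (H := O.subgroupOf (M ⊔ O)),
        ← subgroupOf_sup le_sup_left le_sup_right, ← relIndex_subgroupOf hKCle]
      exact relIndex_dvd_relIndex_of_normal_left _ (comap_mono hKCle)
    refine (coprime_card_pPrimeCore (G := ↥C) p).coprime_dvd_left (h1.trans ((relIndex_dvd_card _ _).trans ?_))
    rw [Nat.card_congr (subgroupOfEquivOfLe (le_sup_right : O ≤ M ⊔ O)).toEquiv]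
  have htop := hKWne _ hidx
  have hKCM : KC = M := le_antisymm (by
    rintro _ ⟨w, hw, rfl⟩
    exact htop.ge (mem_top (⟨w, hw⟩ : ↥KW))) hMle
  have hKWqs : IsQuasisimple ↥KW := by
    haveI : Nontrivial ↥KW := (Subgroup.nontrivial_iff_ne_bot _).2 (pcomp_ne_bot hK.2)
    refine qs_of_central_ker ?_ (fW.subgroupMap KW) (fW.subgroupMap_surjective KW) ?_ ?_
    · apply Subgroup.map_injective KW.subtype_injective
      rw [map_commutator, ← MonoidHom.range_eq_map, range_subtype]
      exact pcomp_perfect hK.2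
    · intro w hw
      have hw' : fW w = 1 := congrArg Subtype.val hw
      rw [mem_center_iff]
      intro y
      exact Subtype.ext (mem_center_iff.1 (hfker (MonoidHom.mem_ker.2 hw')) (y : ↥W))
    · rw [← hKC, hKCM]; exact hMqs
  exact (qs_subgroupOf hK.1).1 hKWqs

omit [Fact p.Prime] in
theorem qsComps_conj {J : Subgroup X} (h : IsPComponent p J ∧ IsQuasisimple ↥J) (g : X) :
    IsPComponent p (J.map (MulAut.conj g).toMonoidHom) ∧
      IsQuasisimple ↥(J.map (MulAut.conj g).toMonoidHom) :=
  ⟨pcomp_conj h.1 g, (qs_map _ (MulAut.conj g).injective).2 h.2⟩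

omit [Fact p.Prime] in
theorem nqComps_conj {J : Subgroup X} (h : IsPComponent p J ∧ ¬ IsQuasisimple ↥J) (g : X) :
    IsPComponent p (J.map (MulAut.conj g).toMonoidHom) ∧
      ¬ IsQuasisimple ↥(J.map (MulAut.conj g).toMonoidHom) :=
  ⟨pcomp_conj h.1 g, fun e => h.2 ((qs_map _ (MulAut.conj g).injective).1 e)⟩

omit [Fact p.Prime] [Finite X] in
theorem centralizer_subgroupOf_normal (A : Subgroup X) :
    ((centralizer (A : Set X)).subgroupOf (normalizer (A : Set X))).Normal := by
  refine ⟨fun n hn g => ?_⟩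
  simp only [mem_subgroupOf, mem_centralizer_iff, Subgroup.coe_mul, InvMemClass.coe_inv] at hn ⊢
  intro a ha
  have h := hn _ ((mem_normalizer_iff.1 (inv_mem g.2) a).1 ha)
  rw [inv_inv] at h
  calc a * ((g : X) * n * (g : X)⁻¹) = g * ((g : X)⁻¹ * a * g * n) * (g : X)⁻¹ := by group
    _ = g * (n * ((g : X)⁻¹ * a * g)) * (g : X)⁻¹ := by rw [h]
    _ = (g : X) * n * (g : X)⁻¹ * a := by group

omit [Fact p.Prime] in
theorem nq_eq : nonQuasisimplePLayer p X =
    sSup {K : Subgroup X | IsPComponent p K ∧ ¬ IsQuasisimple ↥K} := by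
  rw [sSup_eq_iSup']
  rfl

set_option maxHeartbeats 1000000 in
/-- the local step, inside the normalizer of the smaller `p`-group -/
theorem local_step {Y T : Subgroup X} [T.Normal] (hT : IsPGroup p T) {x : X} (hxp : x ^ p ∈ T)
    (hY : Y = centralizer (T : Set X) ⊓ centralizer ({x} : Set X))
    (hfix : ∀ J, IsPComponent p J → IsQuasisimple ↥J → x ∈ normalizer (J : Set X) →
      ∀ K, IsPComponentOf p K (J ⊓ centralizer ({x} : Set X)) → IsQuasisimple ↥K)
    {K : Subgroup X} (hK : IsPComponentOf p K Y) (hKL : K ≤ pLayer p X) :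
    IsQuasisimple ↥K ∨ K ≤ nonQuasisimplePLayer p X := by
  classical
  rw [nq_eq]
  set Q := {J : Subgroup X | IsPComponent p J ∧ IsQuasisimple ↥J} with hQ
  set NQ := {J : Subgroup X | IsPComponent p J ∧ ¬ IsQuasisimple ↥J} with hNQ
  have hCT : ∀ J, IsPComponent p J → J ≤ centralizer (T : Set X) := fun J hJ => by
    refine (commutator_eq_bot_iff_le_centralizer.1 (pcomp_commute_pCore hJ)).trans ?_
    exact centralizer_le (le_pCore hT)
  have hQc : ∀ J ∈ Q, IsComponent J := fun J hJ => ⟨hJ.1.1, hJ.2⟩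
  have hKperf := pcompOf_perfect hK
  have hKne := pcompOf_ne_bot hK
  have hKx : K ≤ centralizer ({x} : Set X) := hK.1.trans (hY.le.trans inf_le_right)
  have hfixed : ∀ A : Subgroup X, A ≤ centralizer (T : Set X) →
      A ⊓ centralizer ({x} : Set X) = A ⊓ Y := fun A hA => by
    rw [hY, ← inf_assoc, inf_eq_left.2 hA]
  have hsn : ∀ A : Subgroup X, A.IsSubnormal → ((A ⊓ Y).subgroupOf Y).IsSubnormal := fun A hA => by
    rw [inf_subgroupOf_right]; exact hA.subgroupOf
  -- two commuting halves
  have two : ∀ A B : Subgroup X, ⁅A, B⁆ = ⊥ → A ≤ centralizer (T : Set X) → B ≤ centralizer (T : Set X) →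
      ((A ⊓ Y).subgroupOf Y).IsSubnormal → ((B ⊓ Y).subgroupOf Y).IsSubnormal →
      (∀ a ∈ A, x * a * x⁻¹ ∈ A) → (∀ b ∈ B, x * b * x⁻¹ ∈ B) → K ≤ A ⊔ B → K ≤ A ∨ K ≤ B := by
    intro A B hAB hA hB hAs hBs hxA hxB hle
    have h := split_fixed hAB hxA hxB hle hKperf hKx
    rw [hfixed A hA, hfixed B hB] at h
    exact (pcompOf_le_left_or_right hK inf_le_right inf_le_right hAs hBs h).imp
      (fun h => h.trans inf_le_left) (fun h => h.trans inf_le_left)
  have hNQst : ∀ g : X, ∀ L ∈ NQ, L.map (MulAut.conj g).toMonoidHom ∈ NQ := fun g L hL => by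
    rw [hNQ] at hL ⊢
    exact nqComps_conj hL g
  have hQst : ∀ g : X, ∀ L ∈ Q, L.map (MulAut.conj g).toMonoidHom ∈ Q := fun g L hL => by
    rw [hQ] at hL ⊢
    exact qsComps_conj hL g
  haveI hNQn : (sSup NQ).Normal :=
    ⟨fun n hn g => conj_mem_sSup (S := NQ) (x := g) (hNQst g) hn⟩
  have hQT : ∀ S ⊆ Q, sSup S ≤ centralizer (T : Set X) := fun S hS =>
    sSup_le fun J hJ => hCT J (hS hJ).1
  have hNQT : sSup NQ ≤ centralizer (T : Set X) := sSup_le fun J hJ => hCT J hJ.1
  have hQNQ : ⁅sSup Q, sSup NQ⁆ = ⊥ := by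
    rw [commutator_eq_bot_iff_le_centralizer]
    refine sSup_le fun J hJ => le_centralizer_iff.1 (sSup_le fun M hM => ?_)
    rw [← commutator_eq_bot_iff_le_centralizer, commutator_comm]
    exact (comp_le_or_commute (hQc J hJ) hM.1.1).resolve_left fun h =>
      hM.2 (pcomp_eq_of_le hJ.1 hM.1 h ▸ hJ.2)
  have hKsum : K ≤ sSup Q ⊔ sSup NQ := hKL.trans (sSup_le fun J hJ => by
    by_cases h : IsQuasisimple ↥J
    · exact le_sup_of_le_left (le_sSup ⟨hJ, h⟩)
    · exact le_sup_of_le_right (le_sSup ⟨hJ, h⟩))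
  rcases two _ _ hQNQ (hQT Q subset_rfl) hNQT (hsn _ (sSup_isSubnormal hQc))
      (hsn _ hNQn.isSubnormal) (fun a ha => conj_mem_sSup (S := Q) (x := x) (hQst x) ha)
      (fun b hb => conj_mem_sSup (S := NQ) (x := x) (hNQst x) hb) hKsum with hKQ | hKNQ
  swap
  · exact Or.inr hKNQ
  left
  -- reduce to one orbit
  have key : ∀ n, ∀ S : Set (Subgroup X), S ⊆ Q → S.ncard ≤ n →
      (∀ L ∈ S, L.map (MulAut.conj x).toMonoidHom ∈ S ∧ L.map (MulAut.conj x⁻¹).toMonoidHom ∈ S) →
      K ≤ sSup S → ∃ J ∈ Q, K ≤ sSup (orbit' J x) := by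
    intro n
    induction n with
    | zero =>
      intro S _ hc _ hle
      have : S = ∅ := (Set.ncard_eq_zero (Set.toFinite _)).1 (Nat.le_zero.1 hc)
      rw [this, sSup_empty, le_bot_iff] at hle
      exact absurd hle hKne
    | succ n ih =>
      intro S hSQ hc hst hle
      rcases S.eq_empty_or_nonempty with h | ⟨J, hJ⟩
      · rw [h, sSup_empty, le_bot_iff] at hle
        exact absurd hle hKne
      have horb : orbit' J x ⊆ S := by
        rintro L ⟨i, rfl⟩
        induction i using Int.induction_on with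
        | zero => rw [zpow_zero, conj_one_map]; exact hJ
        | succ i hi =>
          have := (hst _ hi).1
          rwa [conj_conj_map, ← zpow_one_add, add_comm] at this
        | pred i hi =>
          have := (hst _ hi).2
          rwa [conj_conj_map, ← zpow_neg_one, ← zpow_add, add_comm, ← sub_eq_add_neg] at this
      set rest := S \ orbit' J x with hrest
      have horbst : ∀ L ∈ orbit' J x, L.map (MulAut.conj x).toMonoidHom ∈ orbit' J x := by
        rintro L ⟨i, rfl⟩
        exact ⟨1 + i, by rw [conj_conj_map, zpow_one_add]⟩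
      have horbst' : ∀ L ∈ orbit' J x, L.map (MulAut.conj x⁻¹).toMonoidHom ∈ orbit' J x := by
        rintro L ⟨i, rfl⟩
        exact ⟨-1 + i, by rw [conj_conj_map, zpow_add, zpow_neg_one]⟩
      have hrst : ∀ L ∈ rest, L.map (MulAut.conj x).toMonoidHom ∈ rest ∧
          L.map (MulAut.conj x⁻¹).toMonoidHom ∈ rest := by
        intro L hL
        refine ⟨⟨(hst L hL.1).1, fun h => hL.2 ?_⟩, ⟨(hst L hL.1).2, fun h => hL.2 ?_⟩⟩
        · have := horbst' _ h
          rwa [conj_conj_map, inv_mul_cancel, conj_one_map] at this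
        · have := horbst _ h
          rwa [conj_conj_map, mul_inv_cancel, conj_one_map] at this
      have hle' : K ≤ sSup (orbit' J x) ⊔ sSup rest := by
        refine hle.trans (sSup_le fun L hL => ?_)
        by_cases h : L ∈ orbit' J x
        · exact le_sup_of_le_left (le_sSup h)
        · exact le_sup_of_le_right (le_sSup ⟨hL, h⟩)
      have hrQ : rest ⊆ Q := fun L hL => hSQ hL.1
      have hoQ : orbit' J x ⊆ Q := horb.trans hSQ
      rcases two _ _ (sSup_commute (fun L hL => hQc L (hoQ hL)) (fun L hL => hQc L (hrQ hL))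
          fun L hL hL' => hL'.2 hL) (hQT _ hoQ) (hQT _ hrQ)
          (hsn _ (sSup_isSubnormal fun L hL => hQc L (hoQ hL)))
          (hsn _ (sSup_isSubnormal fun L hL => hQc L (hrQ hL)))
          (fun a ha => conj_mem_sSup (S := orbit' J x) (x := x) horbst ha)
          (fun a ha => conj_mem_sSup (S := rest) (x := x) (fun L hL => (hrst L hL).1) ha) hle' with h | h
      · exact ⟨J, hSQ hJ, h⟩
      · refine ih rest hrQ ?_ hrst h
        have hlt : rest.ncard < S.ncard := Set.ncard_lt_ncard
          ⟨Set.sdiff_subset, fun h => (h hJ).2 (orbit'_self J x)⟩ (Set.toFinite _)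
        omega
  obtain ⟨J, hJQ, hKJ⟩ := key _ Q subset_rfl le_rfl
    (fun L hL => ⟨hQst x L hL, hQst x⁻¹ L hL⟩) hKQ
  have hJc := hQc J hJQ
  have hJT := hCT J hJQ.1
  by_cases hxJ : x ∈ normalizer (J : Set X)
  · have hsingle : sSup (orbit' J x) ≤ J := sSup_le fun L ⟨i, hi⟩ => by
      rw [hi]
      exact (mem_normalizer_iff_map_conj_eq.1 (zpow_mem hxJ i)).le
    have hKW : K ≤ J ⊓ Y := le_inf (hKJ.trans hsingle) hK.1
    refine hfix J hJQ.1 hJQ.2 hxJ K ?_
    rw [hfixed J hJT]
    exact (pcompOf_trans inf_le_right (hsn J hJc.1) hKW).2 hK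
  · have hxpJ : x ^ p ∈ centralizer (J : Set X) := by
      rw [mem_centralizer_iff]
      exact fun j hj => (mem_centralizer_iff.1 (hJT hj) _ hxp).symm
    obtain ⟨δ, hδ, hdec⟩ := exists_delta hJc hxJ hxpJ
    have hoQ : orbit' J x ⊆ Q := fun L ⟨i, hi⟩ => hi ▸ hQst (x ^ i) J hJQ
    have hδY : δ.range ≤ Y := by
      rintro _ ⟨j, rfl⟩
      rw [hY]
      exact mem_inf.2 ⟨hQT _ hoQ (mem_inf.1 (hδ j)).1, (mem_inf.1 (hδ j)).2⟩
    have hKδ : K ≤ δ.range := by
      refine le_trans hKperf.ge ?_
      rw [commutator_le]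
      intro k hk k' hk'
      obtain ⟨j, hj⟩ := hdec k (mem_inf.2 ⟨hKJ hk, hKx hk⟩)
      obtain ⟨j', hj'⟩ := hdec k' (mem_inf.2 ⟨hKJ hk', hKx hk'⟩)
      have hcz : ∀ z ∈ centralizer ((sSup (orbit' J x) : Subgroup X) : Set X),
          ∀ e ∈ sSup (orbit' J x), Commute e z := fun z hz e he => mem_centralizer_iff.1 hz e he
      have hz'O : (δ j')⁻¹ * k' ∈ sSup (orbit' J x) :=
        mul_mem (inv_mem (mem_inf.1 (hδ j')).1) (hKJ hk')
      have h := commutator_mul_mul (hcz _ hj' _ (mem_inf.1 (hδ j)).1)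
        (hcz _ hj _ (mem_inf.1 (hδ j')).1) (hcz _ hj _ (mem_inf.1 (hδ j)).1)
        (hcz _ hj' _ (mem_inf.1 (hδ j')).1)
      rw [commutatorElement_eq_one_iff_mul_comm.2 (hcz _ hj _ hz'O).symm.eq, mul_one,
        mul_inv_cancel_left, mul_inv_cancel_left, ← map_commutatorElement] at h
      exact ⟨⁅j, j'⁆, h.symm⟩
    haveI : Nontrivial ↥δ.range := (Subgroup.nontrivial_iff_ne_bot _).2 fun h =>
      hKne (le_bot_iff.1 (h ▸ hKδ))
    have hΔ : IsQuasisimple ↥δ.range := qs_of_surjective hJc.2 δ.rangeRestrict δ.rangeRestrict_surjective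
    have hKsn : (K.subgroupOf δ.range).IsSubnormal := by
      have h := hK.2.1.subgroupOf (K := δ.range.subgroupOf Y)
      have e : K.subgroupOf δ.range = ((K.subgroupOf Y).subgroupOf (δ.range.subgroupOf Y)).map
          (subgroupOfEquivOfLe hδY).toMonoidHom := by
        ext a
        simp only [mem_map, mem_subgroupOf]
        constructor
        · intro ha
          exact ⟨⟨⟨a, hδY a.2⟩, a.2⟩, ha, rfl⟩
        · rintro ⟨b, hb, rfl⟩
          exact hb
      rw [e]
      exact h.map (subgroupOfEquivOfLe hδY).surjective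
    rcases qs_subnormal_eq_top_or_le_center hΔ hKsn with h | h
    · have : δ.range ≤ K := subgroupOf_eq_top.1 h
      rw [le_antisymm hKδ this]
      exact hΔ
    · exfalso
      apply hKne
      have h2 : ⁅K, K⁆ = ⊥ := by
        refine commutator_map_subtype_eq_bot hKδ hKδ ?_
        rw [← le_bot_iff]
        exact (commutator_mono h le_top).trans
          (by rw [commutator_comm, commutator_top_left_eq_bot_iff_le_center.2 le_rfl])
      rw [← hKperf, h2]

set_option maxHeartbeats 1000000 in
/-- the main induction -/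
theorem centralizer_step
    (hB : ∀ (H : Subgroup X) (N : Subgroup ↥H) [N.Normal], HasQuasisimpleGeneralizedFitting (↥H ⧸ N) →
      pPrimeCore p (↥H ⧸ N) = ⊥ → HasBpProperty p (↥H ⧸ N))
    (hS : ∀ (H : Subgroup X) (N : Subgroup ↥H) [N.Normal], HasQuasisimpleGeneralizedFitting (↥H ⧸ N) →
      pPrimeCore p (↥H ⧸ N) = ⊥ →
        Group.IsSolvable (Out (↥(generalizedFittingSubgroup (↥H ⧸ N)) ⧸
          center ↥(generalizedFittingSubgroup (↥H ⧸ N))))) :
    ∀ n, ∀ R : Subgroup X, IsPGroup p R → Nat.card R ≤ n → ∀ K : Subgroup X,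
      IsPComponentOf p K (centralizer (R : Set X)) → ¬ IsQuasisimple ↥K →
        K ≤ nonQuasisimplePLayer p X := by
  have hp : p.Prime := Fact.out
  intro n
  induction n with
  | zero => intro R _ hc; exact absurd hc (by have := Nat.card_pos (α := R); omega)
  | succ n ih =>
    intro R hR hc K hK hKq
    obtain ⟨k, hk⟩ := IsPGroup.iff_card.1 hR
    rcases k with _ | k
    · have hRbot : R = ⊥ := R.eq_bot_of_card_eq (by simpa using hk)
      have htop : centralizer (R : Set X) = ⊤ := by
        rw [hRbot, eq_top_iff]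
        intro g _
        rw [mem_centralizer_iff]
        intro h hh
        rw [mem_bot.1 hh, one_mul, mul_one]
      rw [htop] at hK
      rw [nq_eq]
      exact le_sSup ⟨pcompOf_top hK, hKq⟩
    -- a subgroup of index p
    obtain ⟨T0, hT0⟩ := Sylow.exists_subgroup_card_pow_prime (G := ↥R) p (n := k)
      (hk ▸ pow_dvd_pow p (by omega))
    have hidx : T0.index = p := by
      have := T0.card_mul_index
      rw [hT0, hk, pow_succ] at this
      exact Nat.eq_of_mul_eq_mul_left (pow_pos hp.pos k) this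
    haveI : T0.Normal := normal_of_index_eq_minFac_card (by
      rw [hidx, hk, Nat.pow_minFac (Nat.succ_ne_zero k), hp.minFac_eq])
    have hT0t : T0 ≠ ⊤ := by
      intro h
      rw [h, index_top] at hidx
      exact hp.ne_one hidx.symm
    obtain ⟨x0, hx0⟩ : ∃ x0, x0 ∉ T0 := by
      by_contra h
      push Not at h
      exact hT0t (eq_top_iff.2 fun a _ => h a)
    have hgen : T0 ⊔ zpowers x0 = ⊤ := by
      have hd := Subgroup.index_dvd_of_le (le_sup_left : T0 ≤ T0 ⊔ zpowers x0)
      rw [hidx, Nat.dvd_prime hp] at hd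
      rcases hd with h | h
      · exact index_eq_one.1 h
      · exfalso
        have h1 := relIndex_mul_index (le_sup_left : T0 ≤ T0 ⊔ zpowers x0)
        rw [hidx, h] at h1
        have h2 : T0.relIndex (T0 ⊔ zpowers x0) = 1 :=
          Nat.eq_of_mul_eq_mul_right hp.pos (h1.trans (one_mul p).symm)
        exact hx0 (relIndex_eq_one.1 h2 (le_sup_right (a := T0) (mem_zpowers x0)))
    set T := T0.map R.subtype with hT
    have hTR : T ≤ R := map_subtype_le _
    have hTp : IsPGroup p T := hR.to_le hTR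
    have hTcard : Nat.card T ≤ n := by
      rw [hT, ← Nat.card_congr (T0.equivMapOfInjective _ R.subtype_injective).toEquiv, hT0]
      have : p ^ k < p ^ (k + 1) := Nat.pow_lt_pow_right hp.one_lt (by omega)
      omega
    set N := normalizer (T : Set X) with hN
    have hRN : R ≤ N := by
      have h := le_normalizer_map (H := T0) R.subtype
      rw [normalizer_eq_top, ← MonoidHom.range_eq_map, range_subtype] at h
      exact h
    set x : X := (x0 : X) with hx
    have hxR : x ∈ R := x0.2
    have hxp : x ^ p ∈ T := ⟨x0 ^ p, hidx ▸ T0.pow_index_mem x0, by simp [hx]⟩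
    have hRgen : R ≤ T ⊔ zpowers x := by
      have h := congrArg (Subgroup.map R.subtype) hgen
      rw [Subgroup.map_sup, MonoidHom.map_zpowers, ← MonoidHom.range_eq_map, range_subtype] at h
      exact h.ge
    set C := centralizer (R : Set X) with hCdef
    have hCN : C ≤ N := (centralizer_le hTR).trans (centralizer_le_normalizer _)
    set T' := T.subgroupOf N with hT'
    haveI : T'.Normal := normal_subgroupOf_of_le_normalizer le_rfl
    have hT'p : IsPGroup p T' := hTp.of_equiv (subgroupOfEquivOfLe le_normalizer).symm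
    set x' : ↥N := ⟨x, hRN hxR⟩ with hx'
    have hx'p : x' ^ p ∈ T' := hxp
    set Y := C.subgroupOf N with hYdef
    have hY : Y = centralizer (T' : Set ↥N) ⊓ centralizer ({x'} : Set ↥N) := by
      ext g
      simp only [hYdef, mem_subgroupOf, mem_inf, mem_centralizer_iff, hCdef,
        Set.mem_singleton_iff, forall_eq]
      constructor
      · intro h
        exact ⟨fun t ht => Subtype.ext (h t (hTR ht)), Subtype.ext (h x hxR)⟩
      · rintro ⟨h1, h2⟩
        have hle : T ⊔ zpowers x ≤ centralizer ({(g : X)} : Set X) := by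
          refine sup_le (fun t ht => ?_) (zpowers_le.2 ?_)
          · exact mem_centralizer_singleton_iff.2
              (congrArg Subtype.val (h1 ⟨t, le_normalizer ht⟩ ht))
          · exact mem_centralizer_singleton_iff.2 (congrArg Subtype.val h2)
        exact fun h hh => mem_centralizer_singleton_iff.1 (hle (hRgen hh))
    set K' := K.subgroupOf N with hK'
    have hKN : K ≤ N := hK.1.trans hCN
    have hKX : K'.map N.subtype = K := map_subgroupOf_eq_of_le hKN
    have hYX : Y.map N.subtype = C := map_subgroupOf_eq_of_le hCN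
    have hK'Y : IsPComponentOf p K' Y := by
      rw [← pcompOf_map_iff N.subtype N.subtype_injective, hKX, hYX]
      exact hK
    -- L-balance in `N`
    have hKL : K' ≤ pLayer p ↥N := by
      set R' := R.subgroupOf N with hR'
      have hR'p : IsPGroup p R' := hR.of_equiv (subgroupOfEquivOfLe hRN).symm
      have hYc : Y = centralizer (R' : Set ↥N) := by
        ext g
        simp only [hYdef, mem_subgroupOf, hCdef, mem_centralizer_iff]
        exact ⟨fun h r hr => Subtype.ext (h r hr),
          fun h r hr => congrArg Subtype.val (h ⟨r, hRN hr⟩ hr)⟩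
      have hle : Y ≤ normalizer (R' : Set ↥N) := hYc ▸ centralizer_le_normalizer _
      have hsn : (Y.subgroupOf (normalizer (R' : Set ↥N))).IsSubnormal := by
        rw [hYc]
        exact (centralizer_subgroupOf_normal R').isSubnormal
      have hKR := (pcompOf_trans hle hsn hK'Y.1).1 hK'Y
      refine le_trans ?_ (pLayer_local_le (out_comp_solvable hS N) hR'p)
      rw [← map_subgroupOf_eq_of_le hKR.1]
      exact Subgroup.map_mono (le_sSup hKR.2)
    have hstep := local_step hT'p hx'p hY (fun J hJ hJq hxJ K₀ hK₀ => by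
      have hJT : J ≤ centralizer (T' : Set ↥N) :=
        (commutator_eq_bot_iff_le_centralizer.1 (pcomp_commute_pCore hJ)).trans
          (centralizer_le (le_pCore hT'p))
      rw [← qs_map N.subtype N.subtype_injective]
      refine fixed_case hB (J := J.map N.subtype) (x := x) ((qs_map _ N.subtype_injective).2 hJq)
        ?_ ?_ ?_ ?_
      · have he := index_map_equiv (center ↥J) (J.equivMapOfInjective N.subtype N.subtype_injective)
        rw [← center_map_equiv (J.equivMapOfInjective N.subtype N.subtype_injective)]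
        refine he.symm ▸ ?_
        by_contra hnd
        exact qs_center_ne_top hJq
          (pcomp_eq_top_of_coprime_index hJ (center ↥J) (hp.coprime_iff_not_dvd.2 hnd).symm)
      · exact le_normalizer_map N.subtype ⟨x', hxJ, rfl⟩
      · rw [mem_centralizer_iff]
        rintro _ ⟨j, hj, rfl⟩
        exact congrArg Subtype.val (mem_centralizer_iff.1 (hJT hj) _ hx'p).symm
      · have e : J.map N.subtype ⊓ centralizer ({x} : Set X)
            = (J ⊓ centralizer ({x'} : Set ↥N)).map N.subtype := by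
          ext g
          simp only [mem_inf, mem_map, mem_centralizer_singleton_iff]
          constructor
          · rintro ⟨⟨j, hj, rfl⟩, hg⟩
            exact ⟨j, ⟨hj, Subtype.ext hg⟩, rfl⟩
          · rintro ⟨j, ⟨hj, hg⟩, rfl⟩
            exact ⟨⟨j, hj, rfl⟩, congrArg Subtype.val hg⟩
        rw [e]
        exact (pcompOf_map_iff N.subtype N.subtype_injective).2 hK₀) hK'Y hKL
    rcases hstep with h | h
    · exact absurd ((qs_subgroupOf hKN).1 h) hKq
    refine le_trans (hKX ▸ Subgroup.map_mono h) ?_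
    -- the non-quasisimple part of `N` goes into that of `X`
    rw [nq_eq, sSup_eq_iSup, Subgroup.map_iSup]
    refine iSup_le fun M => ?_
    rw [Subgroup.map_iSup]
    refine iSup_le fun hM => ?_
    have hMT : M.map N.subtype ≤ centralizer (T : Set X) := by
      rintro _ ⟨m, hm, rfl⟩
      rw [mem_centralizer_iff]
      intro t ht
      exact congrArg Subtype.val (mem_centralizer_iff.1
        ((commutator_eq_bot_iff_le_centralizer.1 (pcomp_commute_pCore hM.1)).trans
          (centralizer_le (le_pCore hT'p)) hm) ⟨t, le_normalizer ht⟩ ht)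
    have hMN : IsPComponentOf p (M.map N.subtype) N := by
      refine ⟨map_subtype_le M, ?_⟩
      rw [show (M.map N.subtype).subgroupOf N = M from comap_map_eq_self_of_injective N.subtype_injective M]
      exact hM.1
    have hMC := (pcompOf_trans (centralizer_le_normalizer (T : Set X))
      (centralizer_subgroupOf_normal T).isSubnormal hMT).2 hMN
    exact ih T hTp hTcard _ hMC fun e => hM.2 ((qs_map _ N.subtype_injective).1 e)

theorem main
    (hB : ∀ (H : Subgroup X) (N : Subgroup ↥H) [N.Normal], HasQuasisimpleGeneralizedFitting (↥H ⧸ N) →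
      pPrimeCore p (↥H ⧸ N) = ⊥ → HasBpProperty p (↥H ⧸ N))
    (hS : ∀ (H : Subgroup X) (N : Subgroup ↥H) [N.Normal], HasQuasisimpleGeneralizedFitting (↥H ⧸ N) →
      pPrimeCore p (↥H ⧸ N) = ⊥ →
        Group.IsSolvable (Out (↥(generalizedFittingSubgroup (↥H ⧸ N)) ⧸
          center ↥(generalizedFittingSubgroup (↥H ⧸ N)))))
    (R : Subgroup X) (hR : IsPGroup p R) :
    (nonQuasisimplePLayer p ↥(normalizer (R : Set X))).map (normalizer (R : Set X)).subtype
      ≤ nonQuasisimplePLayer p X := by
  set N := normalizer (R : Set X) with hN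
  rw [nq_eq, sSup_eq_iSup, Subgroup.map_iSup]
  refine iSup_le fun M => ?_
  rw [Subgroup.map_iSup]
  refine iSup_le fun hM => ?_
  have hMC : M.map N.subtype ≤ centralizer (R : Set X) := by
    have h := commutator_eq_bot_iff_le_centralizer.1 (pcomp_commute_pCore hM.1)
    have h2 := pGroup_le_pCore_normalizer hR
    rintro _ ⟨m, hm, rfl⟩
    rw [mem_centralizer_iff]
    intro r hr
    obtain ⟨r', hr', rfl⟩ := h2 hr
    exact congrArg Subtype.val (mem_centralizer_iff.1 (h hm) r' hr')
  have hMN : IsPComponentOf p (M.map N.subtype) N := by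
    refine ⟨map_subtype_le M, ?_⟩
    rw [show (M.map N.subtype).subgroupOf N = M from comap_map_eq_self_of_injective N.subtype_injective M]
    exact hM.1
  have hMC' := (pcompOf_trans (centralizer_le_normalizer (R : Set X))
    (centralizer_subgroupOf_normal R).isSubnormal hMC).2 hMN
  exact centralizer_step hB hS _ R hR le_rfl _ hMC' fun e => hM.2 ((qs_map _ N.subtype_injective).1 e)

end Cfsg.Lib.Components.BpBalance
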