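import Cfsg.Agent.Components.Cores
import Cfsg.Agent.Components.Local
import Cfsg.Agent.Transfer.IndexPrimeTo
import Cfsg.Agent.Coprime.Basic
import Cfsg.Prelude.Def_Local
import Mathlib.GroupTheory.SchurZassenhaus

/-!
`O_p(N/C_N(H))` and `O_{p',p}(N)` for a normal `p`-subgroup `H` of `N`.
-/

set_option linter.style.haveILetI false
set_option linter.unusedSectionVars false

namespace Cfsg.Lib.LocalIndex

open Subgroup

universe u

variable {N : Type u} [Group N] [Finite N] {p : ℕ} [hp : Fact p.Prime]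

theorem dvd_pow_not_dvd {a k : ℕ} (h1 : a ∣ p ^ k) (h2 : ¬ p ∣ a) : a = 1 := by
  obtain ⟨j, -, rfl⟩ := (Nat.dvd_prime_pow hp.out).1 h1
  cases j with
  | zero => simp
  | succ j => exact absurd (dvd_pow_self p j.succ_ne_zero) h2

theorem relIndex_dvd_index (S C : Subgroup N) [hC : C.Normal] : (S ⊓ C).relIndex C ∣ S.index := by
  have h1 := relIndex_mul_relIndex (S ⊓ C) C (S ⊔ C) inf_le_right le_sup_right
  have h2 := relIndex_mul_relIndex (S ⊓ C) S (S ⊔ C) inf_le_left le_sup_left
  rw [relIndex_sup_right] at h1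
  have h3 : (S ⊓ C).relIndex S = C.relIndex S := by rw [inf_comm, inf_relIndex_right]
  rw [h3] at h2
  have h4 : C.relIndex S * (S ⊓ C).relIndex C = C.relIndex S * S.relIndex (S ⊔ C) := by rw [mul_comm, h1, h2]
  rw [Nat.eq_of_mul_eq_mul_left (Nat.pos_of_ne_zero index_ne_zero_of_finite) h4]
  exact relIndex_dvd_index_of_le le_sup_left

theorem centralizer_le_sup (H : Subgroup N) [hH : H.Normal] (hHp : IsPGroup p H) (S : Sylow p N)
    (hS : (S : Subgroup N) ⊓ centralizer (H : Set N) ≤ H) :
    centralizer (H : Set N) ≤ Cfsg.pPrimeCore p N ⊔ H ∧ Cfsg.pPrimeCore p N ≤ centralizer (H : Set N) := by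
  set C := centralizer (H : Set N)
  haveI : C.Normal := normal_centralizer
  haveI : (Cfsg.pPrimeCore p N).Normal := Cfsg.Lib.Components.pPrimeCore_normal' p
  refine ⟨?_, fun d hd => mem_centralizer_iff.2 fun h hh => ?_⟩
  · set Z : Subgroup C := H.subgroupOf C with hZ
    haveI : Z.Normal := normal_subgroupOf
    have hZc : ∀ z ∈ Z, ∀ c : C, z * c = c * z := fun z hz c =>
      Subtype.ext (mem_centralizer_iff.1 c.2 z hz)
    have hZp : IsPGroup p Z := hHp.comap_subtype
    have hidx : ¬ p ∣ Z.index := by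
      intro hd
      have h1 : ((S : Subgroup N) ⊓ C).subgroupOf C ≤ Z := fun x hx => hS hx
      have h2 : Z.index ∣ (((S : Subgroup N) ⊓ C).subgroupOf C).index := index_dvd_of_le h1
      exact Sylow.not_dvd_index S ((hd.trans h2).trans (relIndex_dvd_index (S : Subgroup N) C))
    obtain ⟨k, hk⟩ := IsPGroup.iff_card.1 hZp
    have hco : (Nat.card Z).Coprime Z.index := by
      rw [hk]
      exact Nat.Coprime.pow_left _ ((hp.out.coprime_iff_not_dvd).2 hidx)
    obtain ⟨K, hK⟩ := exists_right_complement'_of_coprime hco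
    have hKcard : Nat.card K = Z.index := hK.symm.index_eq_card.symm
    have hKco : (Nat.card K).Coprime p := by
      rw [hKcard]
      exact ((hp.out.coprime_iff_not_dvd).2 hidx).symm
    -- `K` is the set of `p'`-elements of `C`
    have key : ∀ x : C, x ∈ K ↔ (orderOf x).Coprime p := by
      intro x
      refine ⟨fun hx => hKco.coprime_dvd_left (Subgroup.orderOf_dvd_natCard K hx), fun hx => ?_⟩
      obtain ⟨⟨⟨z, hz⟩, ⟨c, hc⟩⟩, rfl⟩ := hK.2 x
      obtain ⟨i, hi⟩ := hZp ⟨z, hz⟩
      have hi' : z ^ p ^ i = 1 := congrArg Subtype.val hi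
      have h1 : (z * c) ^ p ^ i = c ^ p ^ i := by
        rw [Commute.mul_pow (hZc z hz c), hi', one_mul]
      have h2 : z * c ∈ zpowers ((z * c) ^ p ^ i) := by
        have := (Nat.Coprime.pow_right i hx)
        obtain ⟨m, hm⟩ := exists_pow_eq_self_of_coprime this.symm
        exact ⟨(m : ℤ), by simpa using hm⟩
      rw [h1] at h2
      exact (zpowers_le.2 (pow_mem hc _)) h2
    haveI : (K.map C.subtype).Normal := ⟨by
      rintro _ ⟨x, hx, rfl⟩ g
      refine ⟨⟨g * (x : N) * g⁻¹, (inferInstance : C.Normal).conj_mem _ x.2 g⟩, (key _).2 ?_, rfl⟩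
      rw [← Subgroup.orderOf_coe]
      have h2 := MulEquiv.orderOf_eq (MulAut.conj g) (x : N)
      simp only [MulAut.conj_apply] at h2
      show (orderOf (g * (x : N) * g⁻¹)).Coprime p
      rw [h2, Subgroup.orderOf_coe]
      exact (key x).1 hx⟩
    have hKD : K.map C.subtype ≤ Cfsg.pPrimeCore p N := Cfsg.Lib.Components.le_pPrimeCore
      (by rw [card_map_of_injective C.subtype_injective]; exact hKco)
    intro x hx
    obtain ⟨⟨⟨z, hz⟩, ⟨c, hc⟩⟩, hzc⟩ := hK.2 ⟨x, hx⟩
    have e : (z : N) * (c : N) = x := congrArg Subtype.val hzc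
    rw [← e]
    exact mul_mem (mem_sup_right hz) (mem_sup_left (hKD ⟨c, hc, rfl⟩))
  · exact Subgroup.commute_of_normal_of_disjoint H (Cfsg.pPrimeCore p N) inferInstance inferInstance
      (disjoint_iff.2 (Cfsg.Lib.Components.coprime_pGroup_disjoint hHp
        (Cfsg.Lib.Components.coprime_card_pPrimeCore p))) h d hh hd

theorem local_index (H C : Subgroup N) [hH : H.Normal] [hCn : C.Normal] (hC : C = centralizer (H : Set N))
    (hHp : IsPGroup p H) (S : Sylow p N) :
    (H ≤ (Cfsg.pCore p (N ⧸ C)).comap (QuotientGroup.mk' C) ∧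
      ¬ p ∣ H.relIndex ((Cfsg.pCore p (N ⧸ C)).comap (QuotientGroup.mk' C))) ↔
    ((S : Subgroup N) ⊓ C ≤ H ∧ Cfsg.pPrimePCore p N = H ⊔ C) := by
  haveI : (Cfsg.pCore p (N ⧸ C)).Normal := Cfsg.Lib.Components.pCore_normal' p
  set Q := (Cfsg.pCore p (N ⧸ C)).comap (QuotientGroup.mk' C) with hQ
  haveI : Q.Normal := inferInstance
  have hCQ : C ≤ Q := fun x hx => by
    show QuotientGroup.mk' C x ∈ Cfsg.pCore p (N ⧸ C)
    rw [show QuotientGroup.mk' C x = 1 from (QuotientGroup.eq_one_iff x).2 hx]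
    exact one_mem _
  have hHQ : H ≤ Q := by
    rw [hQ, ← map_le_iff_le_comap]
    haveI : (H.map (QuotientGroup.mk' C)).Normal := hH.map _ (QuotientGroup.mk'_surjective C)
    exact Cfsg.Lib.Components.le_pCore (hHp.map _)
  obtain ⟨a, ha⟩ : ∃ a, C.relIndex Q = p ^ a := by
    obtain ⟨a, ha⟩ := IsPGroup.iff_card.1 (Cfsg.Lib.Components.isPGroup_pCore (G := N ⧸ C) p)
    refine ⟨a, ?_⟩
    rw [← ha, relIndex, hQ]
    have e : C.subgroupOf Q = ((QuotientGroup.mk' C).comp Q.subtype).ker := by
      ext x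
      simp [mem_subgroupOf, MonoidHom.mem_ker, QuotientGroup.eq_one_iff]
    have e2 : ((QuotientGroup.mk' C).comp Q.subtype).range = Cfsg.pCore p (N ⧸ C) := by
      rw [MonoidHom.range_comp, range_subtype, hQ]
      exact map_comap_eq_self_of_surjective (QuotientGroup.mk'_surjective C) _
    rw [← hQ, e, index_ker, e2]
  -- under the Sylow condition `Q = O_{p',p}(N)`
  have main : (S : Subgroup N) ⊓ C ≤ H → Cfsg.pPrimePCore p N = Q := by
    intro hS
    obtain ⟨hCDH, hDC⟩ := centralizer_le_sup H hHp S (hC ▸ hS)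
    rw [← hC] at hCDH hDC
    set D := Cfsg.pPrimeCore p N
    haveI : D.Normal := Cfsg.Lib.Components.pPrimeCore_normal' p
    haveI : (Cfsg.pCore p (N ⧸ D)).Normal := Cfsg.Lib.Components.pCore_normal' p
    refine le_antisymm (fun x hx => ?_) (fun x hx => ?_)
    · -- `M ≤ Q`
      let f : N ⧸ D →* N ⧸ C := QuotientGroup.map D C (MonoidHom.id N) (by simpa using hDC)
      have hf : Function.Surjective f := fun q => by
        obtain ⟨y, rfl⟩ := QuotientGroup.mk'_surjective C q
        exact ⟨QuotientGroup.mk' D y, rfl⟩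
      haveI : ((Cfsg.pCore p (N ⧸ D)).map f).Normal := Normal.map inferInstance f hf
      have h' := Cfsg.Lib.Components.le_pCore ((Cfsg.Lib.Components.isPGroup_pCore (G := N ⧸ D) p).map f)
      show QuotientGroup.mk' C x ∈ Cfsg.pCore p (N ⧸ C)
      exact h' ⟨QuotientGroup.mk' D x, hx, rfl⟩
    · -- `Q ≤ M`
      haveI : (Q.map (QuotientGroup.mk' D)).Normal := Normal.map inferInstance _ (QuotientGroup.mk'_surjective D)
      show QuotientGroup.mk' D x ∈ Cfsg.pCore p (N ⧸ D)
      refine Cfsg.Lib.Components.le_pCore (N := Q.map (QuotientGroup.mk' D)) ?_ (mem_map_of_mem _ hx)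
      obtain ⟨b, hb⟩ := IsPGroup.iff_card.1 hHp
      have h1 : D.relIndex C ∣ p ^ b := by
        have h := relIndex_mul_relIndex D C (D ⊔ H) hDC hCDH
        rw [relIndex_sup_left] at h
        rw [← hb]
        exact ((Dvd.intro _ h).trans (relIndex_dvd_card D H))
      have h2 : Nat.card (Q.map (QuotientGroup.mk' D)) ∣ p ^ (b + a) := by
        have e : (Q.map (QuotientGroup.mk' D)) = ((QuotientGroup.mk' D).comp Q.subtype).range := by
          rw [MonoidHom.range_comp, range_subtype]
        have e' : D.subgroupOf Q = ((QuotientGroup.mk' D).comp Q.subtype).ker := by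
          ext y
          simp [mem_subgroupOf, MonoidHom.mem_ker, QuotientGroup.eq_one_iff]
        rw [e, ← index_ker, ← e', pow_add]
        show D.relIndex Q ∣ _
        rw [← relIndex_mul_relIndex D C Q hDC hCQ, ha]
        exact Nat.mul_dvd_mul_right h1 _
      obtain ⟨j, -, hj⟩ := (Nat.dvd_prime_pow hp.out).1 h2
      exact IsPGroup.of_card hj
  constructor
  · rintro ⟨-, hnd⟩
    have hS : (S : Subgroup N) ⊓ C ≤ H := by
      have hK : IsPGroup p (H ⊔ ((S : Subgroup N) ⊓ C) : Subgroup N) :=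
        hHp.to_sup_of_normal_left (S.2.to_le inf_le_left)
      have h1 := relIndex_mul_relIndex H (H ⊔ ((S : Subgroup N) ⊓ C)) Q le_sup_left
        (sup_le hHQ (inf_le_right.trans hCQ))
      obtain ⟨b, hb⟩ := IsPGroup.iff_card.1 hK
      have h2 := dvd_pow_not_dvd (p := p) (a := H.relIndex (H ⊔ ((S : Subgroup N) ⊓ C)))
        ((relIndex_dvd_card _ _).trans hb.dvd) (fun h => hnd (h.trans (Dvd.intro _ h1)))
      exact le_sup_right.trans (relIndex_eq_one.1 h2)
    refine ⟨hS, (main hS).trans (le_antisymm ?_ (sup_le hHQ hCQ))⟩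
    have h1 := relIndex_mul_relIndex H (H ⊔ C) Q le_sup_left (sup_le hHQ hCQ)
    have h2 := relIndex_mul_relIndex C (H ⊔ C) Q le_sup_right (sup_le hHQ hCQ)
    exact relIndex_eq_one.1 (dvd_pow_not_dvd (p := p) (k := a) (ha ▸ Dvd.intro_left _ h2)
      (fun h => hnd (h.trans (Dvd.intro_left _ h1))))
  · rintro ⟨hS, he⟩
    refine ⟨hHQ, ?_⟩
    rw [← main hS, he, relIndex_sup_left]
    intro hd
    have h1 : H.relIndex C ∣ ((S : Subgroup N) ⊓ C).relIndex C := relIndex_dvd_of_le_left C hS
    exact Sylow.not_dvd_index S ((hd.trans h1).trans (relIndex_dvd_index (S : Subgroup N) C))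

theorem local_index_map {G : Type u} [Group G] [Finite G] (P : Sylow p G) (H : Subgroup G)
    (hHP : H ≤ (P : Subgroup G))
    (hSyl : ¬ p ∣ ((P : Subgroup G) ⊓ normalizer (H : Set G)).relIndex (normalizer (H : Set G)))
    [hC : ((centralizer (H : Set G)).subgroupOf (normalizer (H : Set G))).Normal] :
    (H ≤ ((Cfsg.pCore p (↥(normalizer (H : Set G)) ⧸
              (centralizer (H : Set G)).subgroupOf (normalizer (H : Set G)))).comap
            (QuotientGroup.mk' _)).map (normalizer (H : Set G)).subtype ∧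
      ¬ p ∣ H.relIndex (((Cfsg.pCore p (↥(normalizer (H : Set G)) ⧸
              (centralizer (H : Set G)).subgroupOf (normalizer (H : Set G)))).comap
            (QuotientGroup.mk' _)).map (normalizer (H : Set G)).subtype)) ↔
    ((P : Subgroup G) ⊓ centralizer (H : Set G) ≤ H ∧
      (Cfsg.pPrimePCore p ↥(normalizer (H : Set G))).map (normalizer (H : Set G)).subtype =
        H ⊔ centralizer (H : Set G)) := by
  set M := normalizer (H : Set G) with hM
  have hHM : H ≤ M := le_normalizer
  have hCM : centralizer (H : Set G) ≤ M := centralizer_le_normalizer _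
  set H' := H.subgroupOf M with hH'
  set C' := (centralizer (H : Set G)).subgroupOf M with hC'
  haveI : H'.Normal := normal_in_normalizer
  have hCeq : C' = centralizer (H' : Set M) := by
    ext x
    constructor
    · exact fun hx => mem_centralizer_iff.2 fun h hh => Subtype.ext (mem_centralizer_iff.1 hx h hh)
    · exact fun hx => mem_centralizer_iff.2 fun h hh =>
        congrArg Subtype.val (mem_centralizer_iff.1 hx ⟨h, hHM hh⟩ hh)
  have hS' : IsPGroup p (((P : Subgroup G) ⊓ M).subgroupOf M) := (P.2.to_le inf_le_left).comap_subtype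
  let S : Sylow p M := hS'.toSylow hSyl
  have hiso := local_index H' C' hCeq ((P.2.to_le hHP).comap_subtype) S
  set Q := (Cfsg.pCore p (M ⧸ C')).comap (QuotientGroup.mk' C') with hQ
  have e : H = H'.map M.subtype := (map_subgroupOf_eq_of_le hHM).symm
  have e1 : H ≤ Q.map M.subtype ↔ H' ≤ Q := by
    conv_lhs => rw [e]
    exact map_le_map_iff_of_injective M.subtype_injective
  have e2 : H.relIndex (Q.map M.subtype) = H'.relIndex Q := by
    conv_lhs => rw [e]
    exact relIndex_map_map_of_injective _ _ M.subtype_injective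
  have e3 : (P : Subgroup G) ⊓ centralizer (H : Set G) ≤ H ↔ (S : Subgroup M) ⊓ C' ≤ H' := by
    constructor
    · exact fun h x hx => h (mem_inf.mpr ⟨(mem_inf.1 (mem_inf.1 hx).1).1, (mem_inf.1 hx).2⟩)
    · intro h x hx
      exact h (x := ⟨x, hCM (mem_inf.1 hx).2⟩) (mem_inf.mpr ⟨mem_inf.mpr ⟨(mem_inf.1 hx).1, hCM (mem_inf.1 hx).2⟩, (mem_inf.1 hx).2⟩)
  have e4 : (Cfsg.pPrimePCore p M).map M.subtype = H ⊔ centralizer (H : Set G) ↔
      Cfsg.pPrimePCore p M = H' ⊔ C' := by
    constructor
    · intro h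
      refine map_injective M.subtype_injective ?_
      rw [h, Subgroup.map_sup, map_subgroupOf_eq_of_le hHM, map_subgroupOf_eq_of_le hCM]
    · intro h
      rw [h, Subgroup.map_sup, map_subgroupOf_eq_of_le hHM, map_subgroupOf_eq_of_le hCM]
  rw [e1, e2, e3, e4]
  exact hiso

end Cfsg.Lib.LocalIndex
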