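import Cfsg.Agent.SolvStruct.AlperinClassical

/-! Alperin's fusion theorem with `p`-elements as factors. -/

set_option linter.style.haveILetI false
set_option linter.unusedSectionVars false

namespace Cfsg.Lib.Misc.AlperinP

open Subgroup Cfsg.Lib.Transfer Cfsg.Lib.SolvStruct.Alperin
open scoped Pointwise

variable {G : Type*} [Group G] [Finite G] {p : ℕ} [hp : Fact p.Prime]

/-- Chains whose factors are `p`-elements unless the intersection is the whole of `P`. -/
inductive RChain (P : Sylow p G) : Set G → G → Prop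
  | one (A : Set G) : A ⊆ (P : Set G) → RChain P A 1
  | cons (A : Set G) (Q : Sylow p G) (x g : G) :
      A ⊆ (((P : Subgroup G) ⊓ (Q : Subgroup G) : Subgroup G) : Set G) → Tame P Q → x ∈ NI P Q →
      ((Q : Subgroup G) = (P : Subgroup G) ∨ ∃ k : ℕ, orderOf x = p ^ k) →
      RChain P (cj x A) g → RChain P A (x * g)

variable {P : Sylow p G}

theorem RChain.mono {A : Set G} {g : G} (h : RChain P A g) : ∀ B ⊆ A, RChain P B g := by
  induction h with
  | one A hA => exact fun B hB => RChain.one B (hB.trans hA)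
  | cons A Q x g hA hQ hx hxp _ ih =>
    exact fun B hB => RChain.cons B Q x g (hB.trans hA) hQ hx hxp (ih _ (cj_mono x hB))

theorem RChain.trans {A : Set G} {g : G} (h : RChain P A g) :
    ∀ k, RChain P (cj g A) k → RChain P A (g * k) := by
  induction h with
  | one A hA => intro k hk; rw [cj_one] at hk; rwa [one_mul]
  | cons A Q x g hA hQ hx hxp _ ih =>
    intro k hk
    rw [mul_assoc]
    exact RChain.cons A Q x _ hA hQ hx hxp (ih k (by rwa [cj_cj]))

theorem RChain.single {Q : Sylow p G} {A : Set G} {x : G}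
    (hA : A ⊆ (((P : Subgroup G) ⊓ (Q : Subgroup G) : Subgroup G) : Set G)) (hQ : Tame P Q)
    (hx : x ∈ NI P Q) (hxp : (Q : Subgroup G) = (P : Subgroup G) ∨ ∃ k : ℕ, orderOf x = p ^ k)
    (hx' : cj x A ⊆ (P : Set G)) : RChain P A x := by
  have := RChain.cons A Q x 1 hA hQ hx hxp (RChain.one _ hx')
  rwa [mul_one] at this

theorem RChain.exists_fin {A : Set G} {g : G} (h : RChain P A g) :
    ∃ (n : ℕ) (Q : Fin n → Sylow p G) (x : Fin n → G), (List.ofFn x).prod = g ∧
      (∀ i, x i ∈ NI P (Q i) ∧ Tame P (Q i) ∧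
        ((Q i : Subgroup G) = (P : Subgroup G) ∨ ∃ k : ℕ, orderOf (x i) = p ^ k)) ∧
      (∀ h : 0 < n, A ⊆ (((P : Subgroup G) ⊓ (Q ⟨0, h⟩ : Subgroup G) : Subgroup G) : Set G)) ∧
      ∀ i : Fin n, ∀ h : i.val + 1 < n,
        (fun a => (((List.ofFn x).take (i.val + 1)).prod)⁻¹ * a *
          ((List.ofFn x).take (i.val + 1)).prod) '' A ⊆
          (((P : Subgroup G) ⊓ (Q ⟨i.val + 1, h⟩ : Subgroup G) : Subgroup G) : Set G) := by
  induction h with
  | one A hA =>
    exact ⟨0, Fin.elim0, Fin.elim0, by simp, fun i => i.elim0, fun h => absurd h (lt_irrefl 0),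
      fun i => i.elim0⟩
  | cons A Q x g hA hQ hx hxp _ ih =>
    obtain ⟨n, Qs, xs, hprod, h1, h2, h3⟩ := ih
    refine ⟨n + 1, Fin.cons Q Qs, Fin.cons x xs, ?_, ?_, ?_, ?_⟩
    · rw [List.ofFn_cons, List.prod_cons, hprod]
    · refine Fin.cases ?_ fun j => ?_
      · exact ⟨hx, hQ, hxp⟩
      · simpa using h1 j
    · intro h
      exact hA
    · intro i hi
      change cj _ A ⊆ _
      rw [List.ofFn_cons, List.take_succ_cons, List.prod_cons, ← cj_cj]
      change cj _ (cj x A) ⊆
        (((P : Subgroup G) ⊓ (Qs ⟨i.val, by omega⟩ : Subgroup G) : Subgroup G) : Set G)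
      rcases Nat.eq_zero_or_pos i.val with h0 | h0
      · simp only [h0, List.take_zero, List.prod_nil, cj_one]
        exact h2 (by omega)
      · have h4 := h3 ⟨i.val - 1, by omega⟩ (by simp only; omega)
        simp only [Nat.sub_add_cancel h0] at h4
        exact h4

theorem exists_rchain (P : Sylow p G) : ∀ (n : ℕ) (A : Set G) (g : G), A ⊆ (P : Set G) →
    Nat.card P - A.ncard ≤ n → cj g A ⊆ (P : Set G) → RChain P A g := by
  intro n
  induction n using Nat.strong_induction_on with
  | _ n ih =>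
  intro A g hA hn hAg
  -- a single factor
  have hstep : ∀ Q : Sylow p G, Tame P Q → ∀ x ∈ NI P Q, ∀ C : Set G, C.ncard = A.ncard →
      C ⊆ (((P : Subgroup G) ⊓ (Q : Subgroup G) : Subgroup G) : Set G) → RChain P C x := by
    intro Q hQ x hx C hC hCH
    set H : Subgroup G := (P : Subgroup G) ⊓ (Q : Subgroup G) with hH
    have hnorm : ∀ w ∈ NI P Q, cj w (H : Set G) ⊆ (H : Set G) := by
      rintro w hw _ ⟨h, hh, rfl⟩
      have := (mem_normalizer_iff.1 (inv_mem hw) h).1 hh
      rw [inv_inv] at this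
      exact this
    have hHP' : (H : Set G) ⊆ (P : Set G) := fun _ ha => ha.1
    have hcl : Nat.card H ≤ Nat.card P := card_le_of_le inf_le_left
    have hCH' : C.ncard ≤ Nat.card H := by
      rw [← SetLike.coe_sort_coe, Nat.card_coe_set_eq]
      exact Set.ncard_le_ncard hCH
    by_cases hHP : H = (P : Subgroup G)
    · have hQP : (Q : Subgroup G) = (P : Subgroup G) := P.3 Q.2 (inf_eq_left.1 hHP)
      exact RChain.single hCH hQ hx (Or.inl hQP)
        (((cj_mono x hCH).trans (hnorm x hx)).trans hHP')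
    have hS := lt_inf_normalizer_of_lt P (inf_le_left.lt_of_ne hHP)
    set N := NI P Q with hNdef
    let E : Subgroup N := closure {z : N | ∃ k : ℕ, orderOf z = p ^ k}
    have hEW : ∀ z ∈ E, RChain P (H : Set G) (z : G) := by
      intro z hz
      induction hz using closure_induction'' with
      | one => exact RChain.one _ hHP'
      | mem z hz =>
        obtain ⟨k, hk⟩ := hz
        exact RChain.single subset_rfl hQ z.2 (Or.inr ⟨k, by rw [Subgroup.orderOf_coe, hk]⟩)
          ((hnorm z z.2).trans hHP')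
      | inv_mem z hz =>
        obtain ⟨k, hk⟩ := hz
        exact RChain.single subset_rfl hQ (z⁻¹).2
          (Or.inr ⟨k, by rw [Subgroup.orderOf_coe, orderOf_inv, hk]⟩) ((hnorm _ (z⁻¹).2).trans hHP')
      | mul z w _ _ hz hw =>
        exact hz.trans _ (hw.mono _ (hnorm z z.2))
    haveI hEn : E.Normal := by
      refine ⟨fun z hz w => ?_⟩
      have : E.map (MulAut.conj w).toMonoidHom ≤ E := by
        rw [MonoidHom.map_closure, closure_le]
        rintro _ ⟨y, ⟨k, hk⟩, rfl⟩
        exact subset_closure ⟨k, (orderOf_injective _ (MulAut.conj w).injective y).trans hk⟩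
      exact this ⟨z, hz, rfl⟩
    set S : Sylow p N :=
      ((P.2.to_le (inf_le_left : (P : Subgroup G) ⊓ N ≤ P)).comap_subtype (K := N)).toSylow hQ.1
    have hSE : (S : Subgroup N) ≤ E := fun z hz => by
      obtain ⟨k, hk⟩ := IsPGroup.iff_orderOf.1 S.2 ⟨z, hz⟩
      exact subset_closure ⟨k, (Subgroup.orderOf_coe (⟨z, hz⟩ : (S : Subgroup N))).trans hk⟩
    obtain ⟨w, hw, y, hy, hwy⟩ := Subgroup.mem_sup_of_normal_left.1
      (show (⟨x, hx⟩ : N) ∈ E ⊔ normalizer (S : Set N) by
        rw [sup_comm, Sylow.normalizer_sup_eq_top' (N := E) S hSE]; exact mem_top _)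
    have hxe : x = (w : G) * (y : G) := (congrArg Subtype.val hwy).symm
    -- the normalising part is handled on the larger subgroup `P ∩ N`
    have hyc : RChain P (H : Set G) (y : G) := by
      have hS' : cj (y : G) (((P : Subgroup G) ⊓ N : Subgroup G) : Set G) ⊆ (P : Set G) := by
        rintro _ ⟨s, hs, rfl⟩
        have h3 := (mem_normalizer_iff.1 (inv_mem hy) ⟨s, hs.2⟩).1 hs
        have h4 : ((y⁻¹ * ⟨s, hs.2⟩ * y⁻¹⁻¹ : N) : G) ∈ (P : Subgroup G) ⊓ N := h3
        push_cast at h4
        rw [inv_inv] at h4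
        exact h4.1
      have hlt : Nat.card H < Nat.card ↥((P : Subgroup G) ⊓ N) :=
        lt_of_le_of_ne (card_le_of_le hS.le) fun e => hS.ne (eq_of_le_of_card_ge hS.le e.ge)
      have hle2 : Nat.card ↥((P : Subgroup G) ⊓ N) ≤ Nat.card P := card_le_of_le inf_le_left
      refine (ih (Nat.card P - Nat.card ↥((P : Subgroup G) ⊓ N)) (by omega)
        (((P : Subgroup G) ⊓ N : Subgroup G) : Set G) (y : G) (fun _ ha => ha.1) ?_ hS').mono _ hS.le
      rw [← Nat.card_coe_set_eq, SetLike.coe_sort_coe]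
    rw [hxe]
    exact ((hEW w hw).trans _ (hyc.mono _ (hnorm w w.2))).mono _ hCH
  suffices ∀ (B : Set G) (k : G), Chain P B k → ∀ C : Set G, C.ncard = A.ncard → C ⊆ B →
      RChain P C k from this A g (exists_chain P A g hA hAg) A rfl subset_rfl
  intro B k hk
  induction hk with
  | one B hB => exact fun C _ hCB => RChain.one C (hCB.trans hB)
  | cons B Q x k hB hQ hx _ ihk =>
    intro C hC hCB
    refine (hstep Q hQ x hx C hC (hCB.trans hB)).trans _ (ihk _ ?_ (cj_mono x hCB))
    rw [cj, Set.ncard_image_of_injective _ (fun a b h => by simpa using h), hC]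

end Cfsg.Lib.Misc.AlperinP
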