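import Mathlib

/-! Subgroups `A₄` of `GL₂(ℤ/2^k)` are conjugate. -/

set_option autoImplicit false
set_option linter.unusedSectionVars false

open Matrix

namespace Cfsg.Lib.AltFourGL

variable {k : ℕ}

abbrev R2 (k : ℕ) := Matrix (Fin 2) (Fin 2) (ZMod (2 ^ k))

/-- reduction mod 2 -/
def red (hk : k ≠ 0) : ZMod (2 ^ k) →+* ZMod 2 := ZMod.castHom (dvd_pow_self 2 hk) (ZMod 2)

def rho (hk : k ≠ 0) : R2 k →+* Matrix (Fin 2) (Fin 2) (ZMod 2) := (red hk).mapMatrix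

theorem rho_two_smul (hk : k ≠ 0) (X : R2 k) : rho hk ((2 : ZMod (2 ^ k)) • X) = 0 := by
  ext i j
  show red hk ((2 : ZMod (2 ^ k)) * X i j) = 0
  rw [map_mul, map_ofNat, show (2 : ZMod 2) = 0 from rfl, zero_mul]

theorem exists_two_smul (hk : k ≠ 0) {A : R2 k} (h : rho hk A = 0) :
    ∃ X : R2 k, A = (2 : ZMod (2 ^ k)) • X := by
  have key : ∀ x : ZMod (2 ^ k), red hk x = 0 → ∃ y, x = 2 * y := by
    intro x hx
    obtain ⟨n, rfl⟩ := ZMod.natCast_zmod_surjective x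
    rw [map_natCast, ZMod.natCast_eq_zero_iff_even] at hx
    obtain ⟨m, rfl⟩ := hx
    exact ⟨m, by push_cast; ring⟩
  choose y hy using fun i j => key (A i j) (congrFun (congrFun h i) j)
  exact ⟨Matrix.of y, by ext i j; exact hy i j⟩

theorem rho_eq_zero_of_pow_smul (hk : k ≠ 0) {j : ℕ} (hj : j < k) {X : R2 k}
    (h : (2 : ZMod (2 ^ k)) ^ j • X = 0) : rho hk X = 0 := by
  ext a b
  show red hk (X a b) = 0
  have h1 : (2 : ZMod (2 ^ k)) ^ j * X a b = 0 := congrFun (congrFun h a) b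
  obtain ⟨n, hn⟩ := ZMod.natCast_zmod_surjective (X a b)
  rw [← hn] at h1 ⊢
  rw [map_natCast, ZMod.natCast_eq_zero_iff_even]
  have h2 : ((2 ^ j * n : ℕ) : ZMod (2 ^ k)) = 0 := by push_cast; exact h1
  rw [ZMod.natCast_eq_zero_iff] at h2
  obtain ⟨i, rfl⟩ := Nat.exists_eq_add_of_lt hj
  rw [show j + i + 1 = j + (i + 1) by ring, pow_add] at h2
  exact even_iff_two_dvd.2 ((dvd_pow_self 2 (Nat.succ_ne_zero i)).trans
    (Nat.dvd_of_mul_dvd_mul_left (pow_pos two_pos j) h2))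

theorem descent (hk : k ≠ 0) {A : R2 k} (hA : rho hk A = 0) {m : ℕ} (hm1 : 1 ≤ m)
    (step : ∀ j X, 1 ≤ j → j < m → A = (2 : ZMod (2 ^ k)) ^ j • X → rho hk X = 0) :
    ∀ j, j ≤ m → ∃ X : R2 k, A = (2 : ZMod (2 ^ k)) ^ j • X := by
  intro j
  induction j with
  | zero => exact fun _ => ⟨A, by rw [pow_zero, one_smul]⟩
  | succ j ih =>
    intro hj
    obtain ⟨X, hX⟩ := ih (by omega)
    have h0 : rho hk X = 0 := by
      rcases Nat.eq_zero_or_pos j with rfl | hj0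
      · rw [pow_zero, one_smul] at hX; exact hX ▸ hA
      · exact step j X hj0 (by omega) hX
    obtain ⟨Y, rfl⟩ := exists_two_smul hk h0
    exact ⟨Y, by rw [hX, smul_smul, ← pow_succ]⟩

theorem two_pow_eq_zero : (2 : ZMod (2 ^ k)) ^ k = 0 := by
  have h := ZMod.natCast_self (2 ^ k)
  push_cast at h
  exact h

theorem eq_zero_of_full (hk : k ≠ 0) {A : R2 k} (hA : rho hk A = 0)
    (step : ∀ j X, 1 ≤ j → j < k → A = (2 : ZMod (2 ^ k)) ^ j • X → rho hk X = 0) : A = 0 := by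
  obtain ⟨X, hX⟩ := descent hk hA (Nat.pos_of_ne_zero hk) step k le_rfl
  rw [hX, two_pow_eq_zero, zero_smul]

theorem red_three (hk : k ≠ 0) : red hk 3 = 1 := by rw [map_ofNat]; rfl

/-- an element of order 3 is nontrivial mod 2 -/
theorem rho_ne_one (hk : k ≠ 0) {t : R2 k} (ht3 : t ^ 3 = 1) (ht : t ≠ 1) : rho hk t ≠ 1 := by
  intro h
  apply ht
  rw [← sub_eq_zero]
  refine eq_zero_of_full hk (by rw [map_sub, h, map_one, sub_self]) fun j X hj hjk hX => ?_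
  have ht' : t = 1 + (2 : ZMod (2 ^ k)) ^ j • X := by rw [← hX, add_sub_cancel]
  set s := (2 : ZMod (2 ^ k)) ^ j
  have hexp : t ^ 3 = 1 + s • ((3 : ZMod (2 ^ k)) • X + (3 * s) • (X * X) + (s * s) • (X * X * X)) := by
    rw [ht', pow_succ, sq]
    simp only [mul_add, add_mul, one_mul, mul_one, Matrix.smul_mul, Matrix.mul_smul, smul_smul,
      smul_add, mul_assoc]
    module
  rw [ht3] at hexp
  have h1 := rho_eq_zero_of_pow_smul hk hjk (left_eq_add.1 hexp)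
  obtain ⟨i, rfl⟩ := Nat.exists_eq_add_of_le hj
  have hs : s = 2 * 2 ^ i := by show (2 : ZMod (2 ^ k)) ^ (1 + i) = _; rw [pow_add, pow_one]
  rw [hs, map_add, map_add, show (3 : ZMod (2 ^ k)) * (2 * 2 ^ i) = 2 * (3 * 2 ^ i) by ring,
    show (2 : ZMod (2 ^ k)) * 2 ^ i * (2 * 2 ^ i) = 2 * (2 ^ i * (2 * 2 ^ i)) by ring, mul_smul,
    mul_smul (2 : ZMod (2 ^ k)) (2 ^ i * (2 * 2 ^ i)), rho_two_smul, rho_two_smul, add_zero, add_zero]
    at h1
  ext a b
  have h2 : red hk ((3 : ZMod (2 ^ k)) * X a b) = 0 := congrFun (congrFun h1 a) b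
  rwa [map_mul, red_three, one_mul] at h2

theorem bar_facts : ∀ T : Matrix (Fin 2) (Fin 2) (ZMod 2), T ^ 3 = 1 → T ≠ 1 →
    T 1 0 = 1 ∧ T * T + T + 1 = 0 := by decide

theorem bar_cancel : ∀ T X : Matrix (Fin 2) (Fin 2) (ZMod 2), T ^ 3 = 1 → T ≠ 1 →
    (T - 1) * X = 0 → X = 0 := by decide

theorem min_poly (hk : k ≠ 0) {t : R2 k} (ht3 : t ^ 3 = 1) (ht : t ≠ 1) : t * t + t + 1 = 0 := by
  have hb3 : rho hk t ^ 3 = 1 := by rw [← map_pow, ht3, map_one]
  have hb1 := rho_ne_one hk ht3 ht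
  refine eq_zero_of_full hk (by rw [map_add, map_add, map_mul, map_one]; exact (bar_facts _ hb3 hb1).2)
    fun j X _ hjk hX => ?_
  have h0 : (t - 1) * (t * t + t + 1) = 0 := by
    have : (t - 1) * (t * t + t + 1) = t ^ 3 - 1 := by
      rw [pow_succ, sq]; noncomm_ring
    rw [this, ht3, sub_self]
  rw [hX, Matrix.mul_smul] at h0
  have h1 := rho_eq_zero_of_pow_smul hk hjk h0
  rw [map_mul, map_sub, map_one] at h1
  exact bar_cancel _ _ hb3 hb1 h1

/-- the companion matrix of `x² + x + 1` -/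
def C0 (k : ℕ) : R2 k := !![0, -1; 1, -1]

theorem C0_facts : C0 k ^ 3 = 1 ∧ (k ≠ 0 → C0 k ≠ 1) := by
  refine ⟨?_, fun hk h => ?_⟩
  · rw [pow_succ, sq]
    ext i j
    fin_cases i <;> fin_cases j <;>
      simp [C0, Matrix.mul_apply, Fin.sum_univ_two]
  · have h1 : (1 : ZMod (2 ^ k)) = 0 := by simpa [C0] using congrFun (congrFun h 1) 0
    have : Fact (1 < 2 ^ k) := ⟨Nat.one_lt_two_pow hk⟩
    exact one_ne_zero h1

theorem exists_conj_C0 (hk : k ≠ 0) {t : R2 k} (ht3 : t ^ 3 = 1) (ht : t ≠ 1) :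
    ∃ P : GL (Fin 2) (ZMod (2 ^ k)), t * (P : R2 k) = (P : R2 k) * C0 k := by
  have hb3 : rho hk t ^ 3 = 1 := by rw [← map_pow, ht3, map_one]
  have h10 : red hk (t 1 0) = 1 := (bar_facts _ hb3 (rho_ne_one hk ht3 ht)).1
  have hu : IsUnit (t 1 0) := by
    obtain ⟨n, hn⟩ := ZMod.natCast_zmod_surjective (t 1 0)
    rw [← hn, map_natCast] at h10
    rw [← hn, ZMod.isUnit_iff_coprime]
    refine Nat.Coprime.pow_right k ((Nat.prime_two.coprime_iff_not_dvd.2 fun hd => ?_).symm)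
    rw [(ZMod.natCast_eq_zero_iff_even).2 (even_iff_two_dvd.2 hd)] at h10
    exact zero_ne_one h10
  set P : R2 k := !![1, t 0 0; 0, t 1 0]
  have hdet : IsUnit P.det := by
    rw [Matrix.det_fin_two]
    simpa [P] using hu
  refine ⟨Matrix.GeneralLinearGroup.mk'' P hdet, ?_⟩
  have hm := min_poly hk ht3 ht
  have e : ∀ i : Fin 2, t i 0 * t 0 0 + t i 1 * t 1 0 = -(1 : R2 k) i 0 - t i 0 := by
    intro i
    have := congrFun (congrFun hm i) 0
    simp only [Matrix.add_apply, Matrix.mul_apply, Fin.sum_univ_two, Matrix.zero_apply] at this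
    linear_combination this
  show t * P = P * C0 k
  ext i j
  fin_cases i <;> fin_cases j
  · simp [P, C0, Matrix.mul_apply, Fin.sum_univ_two]
  · simp [P, C0, Matrix.mul_apply, Fin.sum_univ_two]
    linear_combination (norm := (simp; ring)) e 0
  · simp [P, C0, Matrix.mul_apply, Fin.sum_univ_two]
  · simp [P, C0, Matrix.mul_apply, Fin.sum_univ_two]
    linear_combination (norm := (simp; ring)) e 1

set_option synthInstance.maxSize 4000 in
theorem bar_inv_triv : ∀ T A : Matrix (Fin 2) (Fin 2) (ZMod 2), T ^ 3 = 1 → T ≠ 1 → A * A = 1 →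
    A * (T * A * (T * T)) = (T * T) * A * T → A * (T * A * (T * T)) = (T * A * (T * T)) * A →
    A = 1 := by decide

set_option synthInstance.maxSize 4000 in
theorem bar_idem : ∀ T X : Matrix (Fin 2) (Fin 2) (ZMod 2), T ^ 3 = 1 → T ≠ 1 → X * X = X →
    X * (T * X * (T * T)) = (T * X * (T * T)) * X →
    X + T * X * (T * T) + (T * T) * X * T = 0 → X = 0 := by decide

set_option synthInstance.maxSize 4000 in
theorem bar_unique : ∀ X Y : Matrix (Fin 2) (Fin 2) (ZMod 2),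
    X + !![0, -1; 1, -1] * X * (!![0, -1; 1, -1] * !![0, -1; 1, -1]) +
      (!![0, -1; 1, -1] * !![0, -1; 1, -1]) * X * !![0, -1; 1, -1] = 0 →
    Y + !![0, -1; 1, -1] * Y * (!![0, -1; 1, -1] * !![0, -1; 1, -1]) +
      (!![0, -1; 1, -1] * !![0, -1; 1, -1]) * Y * !![0, -1; 1, -1] = 0 →
    X ≠ 0 → Y = 0 ∨ Y = X ∨ Y = !![0, -1; 1, -1] * X * (!![0, -1; 1, -1] * !![0, -1; 1, -1]) ∨
      Y = (!![0, -1; 1, -1] * !![0, -1; 1, -1]) * X * !![0, -1; 1, -1] := by decide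

/-- the shape of the involutions -/
theorem involution_shape (hk : 2 ≤ k) {t a : R2 k} (ht3 : t ^ 3 = 1) (ht : t ≠ 1) (ha : a * a = 1)
    (hc1 : a * (t * a * (t * t)) = (t * t) * a * t)
    (hc2 : a * (t * a * (t * t)) = (t * a * (t * t)) * a) :
    ∃ X : R2 k, a = 1 + (2 : ZMod (2 ^ k)) ^ (k - 1) • X ∧
      rho (by omega) X + rho (by omega) t * rho (by omega) X * (rho (by omega) t * rho (by omega) t) +
        (rho (by omega) t * rho (by omega) t) * rho (by omega) X * rho (by omega) t = 0 := by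
  have hk0 : k ≠ 0 := by omega
  set T := rho hk0 t with hT
  have hb3 : T ^ 3 = 1 := by rw [hT, ← map_pow, ht3, map_one]
  have hb1 := rho_ne_one hk0 ht3 ht
  have h3 : t * (t * t) = 1 ∧ (t * t) * t = 1 :=
    ⟨by rw [← sq, ← pow_succ']; exact ht3, by rw [← sq, ← pow_succ]; exact ht3⟩
  have hrel : ∀ (j : ℕ) (X : R2 k), a = 1 + (2 : ZMod (2 ^ k)) ^ j • X →
      (2 : ZMod (2 ^ k)) ^ j • ((2 : ZMod (2 ^ k)) • X + (2 : ZMod (2 ^ k)) ^ j • (X * X)) = 0 ∧
      (2 : ZMod (2 ^ k)) ^ j • ((2 : ZMod (2 ^ k)) ^ j •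
        (X * (t * X * (t * t)) - (t * X * (t * t)) * X)) = 0 ∧
      (2 : ZMod (2 ^ k)) ^ j • (X + t * X * (t * t) - (t * t) * X * t +
        (2 : ZMod (2 ^ k)) ^ j • (X * (t * X * (t * t)))) = 0 := by
    intro j X haX
    set s := (2 : ZMod (2 ^ k)) ^ j
    have hb : t * a * (t * t) = 1 + s • (t * X * (t * t)) := by
      rw [haX, mul_add, mul_one, add_mul, h3.1, Matrix.mul_smul, Matrix.smul_mul]
    have hc : (t * t) * a * t = 1 + s • ((t * t) * X * t) := by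
      rw [haX, mul_add, mul_one, add_mul, h3.2, Matrix.mul_smul, Matrix.smul_mul]
    have hprod : ∀ Y Z : R2 k, (1 + s • Y) * (1 + s • Z) = 1 + s • (Y + Z + s • (Y * Z)) := by
      intro Y Z
      simp only [mul_add, add_mul, one_mul, mul_one, Matrix.smul_mul, Matrix.mul_smul, smul_add]
      abel
    refine ⟨?_, ?_, ?_⟩
    · have h := ha
      rw [haX, hprod, add_eq_left] at h
      rw [two_smul]; exact h
    · have h := hc2
      rw [hb, haX, hprod, hprod, add_right_inj, ← sub_eq_zero, ← smul_sub] at h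
      rw [← h]
      congr 1
      rw [smul_sub]; abel
    · have h := hc1
      rw [hb, hc, haX, hprod, add_right_inj, ← sub_eq_zero, ← smul_sub] at h
      rw [← h]
      congr 1
      abel
  have hA0 : rho hk0 (a - 1) = 0 := by
    rw [map_sub, map_one, sub_eq_zero]
    refine bar_inv_triv T _ hb3 hb1 (by rw [← map_mul, ha, map_one]) ?_ ?_
    · simp only [hT, ← map_mul]; exact congrArg _ hc1
    · simp only [hT, ← map_mul]; exact congrArg _ hc2
  have hlast : ∀ (j : ℕ) (X : R2 k), 1 ≤ j → j < k → a = 1 + (2 : ZMod (2 ^ k)) ^ j • X →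
      rho hk0 X + T * rho hk0 X * (T * T) + (T * T) * rho hk0 X * T = 0 := by
    intro j X hj hjk haX
    have h := rho_eq_zero_of_pow_smul hk0 hjk (hrel j X haX).2.2
    obtain ⟨i, rfl⟩ := Nat.exists_eq_add_of_le hj
    rw [pow_add, pow_one, mul_smul, map_add, rho_two_smul, add_zero, map_sub, map_add] at h
    simp only [map_mul] at h
    rw [sub_eq_add_neg] at h
    have e : ∀ M : Matrix (Fin 2) (Fin 2) (ZMod 2), -M = M := by
      intro M; ext p q; exact ZMod.neg_eq_self_mod_two _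
    rwa [e] at h
  obtain ⟨X, hX⟩ := descent hk0 hA0 (m := k - 1) (by omega) (fun j X hj hjm hX => by
    have haX : a = 1 + (2 : ZMod (2 ^ k)) ^ j • X := by rw [← hX, add_sub_cancel]
    obtain ⟨r1, r2, -⟩ := hrel j X haX
    rcases eq_or_lt_of_le hj with rfl | hj2
    · rw [pow_one] at r1 r2
      rw [← smul_add, smul_smul, ← sq] at r1
      rw [smul_smul, ← sq] at r2
      have h1 := rho_eq_zero_of_pow_smul hk0 (by omega : 2 < k) r1
      have h2 := rho_eq_zero_of_pow_smul hk0 (by omega : 2 < k) r2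
      rw [map_add, map_mul] at h1
      simp only [map_sub, map_mul, sub_eq_zero] at h2
      refine bar_idem T _ hb3 hb1 ?_ h2 (hlast 1 X le_rfl (by omega) haX)
      rw [add_comm] at h1
      rw [eq_neg_of_add_eq_zero_left h1]
      ext p q; exact ZMod.neg_eq_self_mod_two _
    · obtain ⟨i, rfl⟩ : ∃ i, j = i + 2 := ⟨j - 2, by omega⟩
      have r1' : (2 : ZMod (2 ^ k)) ^ (i + 2 + 1) •
          (X + (2 : ZMod (2 ^ k)) • ((2 : ZMod (2 ^ k)) ^ i • (X * X))) = 0 := by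
        rw [← r1]
        simp only [smul_add, smul_smul]
        congr 2 <;> ring
      have h1 := rho_eq_zero_of_pow_smul hk0 (by omega : i + 2 + 1 < k) r1'
      rwa [map_add, rho_two_smul, add_zero] at h1) (k - 1) le_rfl
  have haX : a = 1 + (2 : ZMod (2 ^ k)) ^ (k - 1) • X := by rw [← hX, add_sub_cancel]
  exact ⟨X, haX, hlast (k - 1) X (by omega) (by omega) haX⟩

theorem smul_eq_of_rho (hk : k ≠ 0) {X Y : R2 k} (h : rho hk X = rho hk Y) :
    (2 : ZMod (2 ^ k)) ^ (k - 1) • X = (2 : ZMod (2 ^ k)) ^ (k - 1) • Y := by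
  obtain ⟨Z, hZ⟩ := exists_two_smul hk (show rho hk (X - Y) = 0 by rw [map_sub, h, sub_self])
  rw [← sub_eq_zero, ← smul_sub, hZ, smul_smul, ← pow_succ, show k - 1 + 1 = k by omega,
    two_pow_eq_zero, zero_smul]

set_option maxRecDepth 20000 in
set_option synthInstance.maxSize 4000 in
theorem alt_facts : ∀ t v : Equiv.Perm (Fin 4), Equiv.Perm.sign t = 1 → Equiv.Perm.sign v = 1 →
    t ^ 3 = 1 → t ≠ 1 → v * v = 1 → v ≠ 1 →
      (v * (t * v * (t * t)) = (t * t) * v * t ∧ v * (t * v * (t * t)) = (t * v * (t * t)) * v) := by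
  decide

set_option maxRecDepth 20000 in
set_option synthInstance.maxSize 4000 in
theorem alt_cover : ∀ t g : Equiv.Perm (Fin 4), Equiv.Perm.sign t = 1 → Equiv.Perm.sign g = 1 →
    t ^ 3 = 1 → t ≠ 1 → g * g = 1 ∨ (g * t) * (g * t) = 1 ∨ (g * (t * t)) * (g * (t * t)) = 1 := by
  decide

set_option maxRecDepth 20000 in
set_option synthInstance.maxSize 4000 in
theorem alt_exist : ∃ t v : Equiv.Perm (Fin 4), Equiv.Perm.sign t = 1 ∧ Equiv.Perm.sign v = 1 ∧
    t ^ 3 = 1 ∧ t ≠ 1 ∧ v * v = 1 ∧ v ≠ 1 := by decide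

variable {H : Subgroup (GL (Fin 2) (ZMod (2 ^ k)))}

theorem transfer (e : ↥H ≃* ↥(alternatingGroup (Fin 4))) {t : H} (ht3 : t ^ 3 = 1) (ht : t ≠ 1) :
    (∃ v : H, v * v = 1 ∧ v ≠ 1) ∧
    (∀ v : H, v * v = 1 → v ≠ 1 →
      v * (t * v * (t * t)) = (t * t) * v * t ∧ v * (t * v * (t * t)) = (t * v * (t * t)) * v) ∧
    (∀ g : H, g * g = 1 ∨ (g * t) * (g * t) = 1 ∨ (g * (t * t)) * (g * (t * t)) = 1) := by
  have inj : Function.Injective (fun x : H => ((e x : alternatingGroup (Fin 4)) : Equiv.Perm (Fin 4))) :=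
    fun a b h => e.injective (Subtype.ext h)
  have hsig : ∀ x : H, Equiv.Perm.sign ((e x : alternatingGroup (Fin 4)) : Equiv.Perm (Fin 4)) = 1 :=
    fun x => Equiv.Perm.mem_alternatingGroup.1 (e x).2
  set f : H →* Equiv.Perm (Fin 4) := (alternatingGroup (Fin 4)).subtype.comp e.toMonoidHom
  have hf : Function.Injective f := inj
  have h3 : f t ^ 3 = 1 := by rw [← map_pow, ht3, map_one]
  have h1 : f t ≠ 1 := fun h => ht (hf (by rw [h, map_one]))
  refine ⟨?_, fun v hv hv1 => ?_, fun g => ?_⟩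
  · obtain ⟨-, v, -, hs, -, -, hv, hv1⟩ := alt_exist
    refine ⟨e.symm ⟨v, Equiv.Perm.mem_alternatingGroup.2 hs⟩, hf ?_, fun h => hv1 ?_⟩
    · show f (_ * _) = f 1
      rw [map_mul, map_one]
      simpa [f] using hv
    · have := congrArg f h
      simpa [f] using this
  · obtain ⟨a, b⟩ := alt_facts (f t) (f v) (hsig t) (hsig v) h3 h1 (by rw [← map_mul, hv, map_one])
      (fun h => hv1 (hf (by rw [h, map_one])))
    simp only [← map_mul] at a b
    exact ⟨hf a, hf b⟩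
  · rcases alt_cover (f t) (f g) (hsig t) (hsig g) h3 h1 with h | h | h <;>
      simp only [← map_mul, ← map_one f] at h
    · exact Or.inl (hf h)
    · exact Or.inr (Or.inl (hf h))
    · exact Or.inr (Or.inr (hf h))

theorem le_of_C0 (hk : 2 ≤ k) {H₁ H₂ : Subgroup (GL (Fin 2) (ZMod (2 ^ k)))}
    (e₁ : ↥H₁ ≃* ↥(alternatingGroup (Fin 4))) (e₂ : ↥H₂ ≃* ↥(alternatingGroup (Fin 4)))
    (C : GL (Fin 2) (ZMod (2 ^ k))) (hC : (C : R2 k) = C0 k) (h₁ : C ∈ H₁) (h₂ : C ∈ H₂) :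
    H₂ ≤ H₁ := by
  have hk0 : k ≠ 0 := by omega
  have hC3 : C ^ 3 = 1 := by
    apply Units.ext
    rw [Units.val_pow_eq_pow_val, hC, Units.val_one]
    exact C0_facts.1
  have hC1 : C ≠ 1 := fun h => C0_facts.2 hk0 (by rw [← hC, h, Units.val_one])
  have e00 : rho hk0 (C0 k) = !![0, -1; 1, -1] := by
    ext i j
    fin_cases i <;> fin_cases j <;> simp [rho, C0]
  have shape : ∀ (H : Subgroup (GL (Fin 2) (ZMod (2 ^ k)))) (_ : ↥H ≃* ↥(alternatingGroup (Fin 4)))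
      (_ : C ∈ H) (v : GL (Fin 2) (ZMod (2 ^ k))), v ∈ H → v * v = 1 → v ≠ 1 →
      ∃ X : R2 k, (v : R2 k) = 1 + (2 : ZMod (2 ^ k)) ^ (k - 1) • X ∧ rho hk0 X ≠ 0 ∧
        rho hk0 X + !![0, -1; 1, -1] * rho hk0 X * (!![0, -1; 1, -1] * !![0, -1; 1, -1]) +
          (!![0, -1; 1, -1] * !![0, -1; 1, -1]) * rho hk0 X * !![0, -1; 1, -1] = 0 := by
    intro H e hCH v hv hv2 hv1
    obtain ⟨-, hrel, -⟩ := transfer e (t := ⟨C, hCH⟩) (Subtype.ext hC3) (fun h => hC1 (congrArg Subtype.val h))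
    obtain ⟨a, b⟩ := hrel ⟨v, hv⟩ (Subtype.ext hv2) (fun h => hv1 (congrArg Subtype.val h))
    have a' := congrArg (fun x : H => ((x : GL (Fin 2) (ZMod (2 ^ k))) : R2 k)) a
    have b' := congrArg (fun x : H => ((x : GL (Fin 2) (ZMod (2 ^ k))) : R2 k)) b
    simp only [Subgroup.coe_mul, Units.val_mul, hC] at a' b'
    obtain ⟨X, hX, hrel'⟩ := involution_shape hk (C0_facts (k := k)).1 (C0_facts.2 hk0)
      (by rw [← Units.val_mul, hv2, Units.val_one]) a' b'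
    simp only [e00] at hrel'
    refine ⟨X, hX, fun h0 => hv1 (Units.ext ?_), hrel'⟩
    rw [hX, smul_eq_of_rho hk0 (show rho hk0 X = rho hk0 0 by rw [h0, map_zero]), smul_zero,
      add_zero, Units.val_one]
  obtain ⟨⟨⟨v, hv⟩, hv2, hv1⟩, -, -⟩ :=
    transfer e₁ (t := ⟨C, h₁⟩) (Subtype.ext hC3) (fun h => hC1 (congrArg Subtype.val h))
  have hv2' : v * v = 1 := congrArg Subtype.val hv2
  have hv1' : v ≠ 1 := fun h => hv1 (Subtype.ext h)
  obtain ⟨X, hX, hX0, hXr⟩ := shape H₁ e₁ h₁ v hv hv2' hv1'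
  have hinv : ∀ w ∈ H₂, w * w = 1 → w ∈ H₁ := by
    intro w hw hw2
    by_cases hw1 : w = 1
    · exact hw1 ▸ one_mem H₁
    obtain ⟨Y, hY, hY0, hYr⟩ := shape H₂ e₂ h₂ w hw hw2 hw1
    have hC' : (C : R2 k) * ((C : R2 k) * C) = 1 := by
      rw [← sq, ← pow_succ', hC]; exact C0_facts.1
    have hC'' : ((C : R2 k) * C) * C = 1 := by rw [mul_assoc]; exact hC'
    rcases bar_unique _ _ hXr hYr hX0 with h | h | h | h
    · exact absurd h hY0
    · have : w = v := Units.ext (by rw [hY, hX, smul_eq_of_rho hk0 h])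
      exact this ▸ hv
    · have : w = C * v * (C * C) := Units.ext (by
        simp only [Units.val_mul]
        rw [hY, hX, mul_add, mul_one, add_mul, hC', Matrix.mul_smul, Matrix.smul_mul]
        congr 1
        refine smul_eq_of_rho hk0 (h.trans ?_)
        simp only [map_mul, hC, e00])
      exact this ▸ H₁.mul_mem (H₁.mul_mem h₁ hv) (H₁.mul_mem h₁ h₁)
    · have : w = (C * C) * v * C := Units.ext (by
        simp only [Units.val_mul]
        rw [hY, hX, mul_add, mul_one, add_mul, hC'', Matrix.mul_smul, Matrix.smul_mul]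
        congr 1
        refine smul_eq_of_rho hk0 (h.trans ?_)
        simp only [map_mul, hC, e00])
      exact this ▸ H₁.mul_mem (H₁.mul_mem (H₁.mul_mem h₁ h₁) hv) h₁
  intro g hg
  obtain ⟨-, -, hcov⟩ :=
    transfer e₂ (t := ⟨C, h₂⟩) (Subtype.ext hC3) (fun h => hC1 (congrArg Subtype.val h))
  rcases hcov ⟨g, hg⟩ with h | h | h
  · exact hinv g hg (congrArg Subtype.val h)
  · exact (Subgroup.mul_mem_cancel_right H₁ h₁).1
      (hinv (g * C) (H₂.mul_mem hg h₂) (congrArg Subtype.val h))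
  · exact (Subgroup.mul_mem_cancel_right H₁ (H₁.mul_mem h₁ h₁)).1
      (hinv (g * (C * C)) (H₂.mul_mem hg (H₂.mul_mem h₂ h₂)) (congrArg Subtype.val h))

theorem main (hk : 2 ≤ k) (H₁ H₂ : Subgroup (GL (Fin 2) (ZMod (2 ^ k))))
    (h₁ : Nonempty (↥H₁ ≃* ↥(alternatingGroup (Fin 4))))
    (h₂ : Nonempty (↥H₂ ≃* ↥(alternatingGroup (Fin 4)))) :
    ∃ g : GL (Fin 2) (ZMod (2 ^ k)), H₂ = H₁.map (MulAut.conj g).toMonoidHom := by
  have hk0 : k ≠ 0 := by omega
  obtain ⟨e₁⟩ := h₁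
  obtain ⟨e₂⟩ := h₂
  have std : ∀ (H : Subgroup (GL (Fin 2) (ZMod (2 ^ k)))) (e : ↥H ≃* ↥(alternatingGroup (Fin 4))),
      ∃ P C : GL (Fin 2) (ZMod (2 ^ k)), (C : R2 k) = C0 k ∧
        C ∈ H.map (MulAut.conj P⁻¹).toMonoidHom := by
    intro H e
    obtain ⟨t, -, hs, -, h3, h1, -, -⟩ := alt_exist
    set u : H := e.symm ⟨t, Equiv.Perm.mem_alternatingGroup.2 hs⟩
    have hu3 : u ^ 3 = 1 := by rw [← map_pow, show (⟨t, Equiv.Perm.mem_alternatingGroup.2 hs⟩ : alternatingGroup (Fin 4)) ^ 3 = 1 from Subtype.ext h3, map_one]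
    have hu1 : u ≠ 1 := fun h => h1 (by
      have := congrArg e h
      rw [MulEquiv.apply_symm_apply, map_one] at this
      exact congrArg Subtype.val this)
    obtain ⟨P, hP⟩ := exists_conj_C0 hk0
      (t := ((u : GL (Fin 2) (ZMod (2 ^ k))) : R2 k))
      (by rw [← Units.val_pow_eq_pow_val, ← SubmonoidClass.coe_pow, hu3]; rfl)
      (fun h => hu1 (Subtype.ext (Units.ext h)))
    refine ⟨P, P⁻¹ * u * P, ?_, ⟨u, u.2, by simp⟩⟩
    rw [Units.val_mul, Units.val_mul, mul_assoc, hP, Units.inv_mul_cancel_left]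
  obtain ⟨P₁, C₁, hC₁, m₁⟩ := std H₁ e₁
  obtain ⟨P₂, C₂, hC₂, m₂⟩ := std H₂ e₂
  obtain rfl : C₁ = C₂ := Units.ext (hC₁.trans hC₂.symm)
  set K₁ := H₁.map (MulAut.conj P₁⁻¹).toMonoidHom
  set K₂ := H₂.map (MulAut.conj P₂⁻¹).toMonoidHom
  let f₁ : ↥K₁ ≃* ↥(alternatingGroup (Fin 4)) :=
    (Subgroup.equivMapOfInjective H₁ _ (MulAut.conj P₁⁻¹).injective).symm.trans e₁
  let f₂ : ↥K₂ ≃* ↥(alternatingGroup (Fin 4)) :=
    (Subgroup.equivMapOfInjective H₂ _ (MulAut.conj P₂⁻¹).injective).symm.trans e₂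
  have hK : K₂ = K₁ := le_antisymm (le_of_C0 hk f₁ f₂ C₁ hC₁ m₁ m₂) (le_of_C0 hk f₂ f₁ C₁ hC₁ m₂ m₁)
  refine ⟨P₂ * P₁⁻¹, ?_⟩
  have h2 : H₂ = K₂.map (MulAut.conj P₂).toMonoidHom := by
    rw [Subgroup.map_map]
    convert (Subgroup.map_id H₂).symm using 2
    apply MonoidHom.ext
    intro x
    show P₂ * (P₂⁻¹ * x * P₂⁻¹⁻¹) * P₂⁻¹ = x
    group
  rw [h2, hK, Subgroup.map_map]
  congr 1
  apply MonoidHom.ext
  intro x
  show P₂ * (P₁⁻¹ * x * P₁⁻¹⁻¹) * P₂⁻¹ = P₂ * P₁⁻¹ * x * (P₂ * P₁⁻¹)⁻¹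
  group

end Cfsg.Lib.AltFourGL
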