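import Cfsg.Agent.Components.GenFitting
import Mathlib

/-!
Alternating groups on a subset of the points, as subgroups of the symmetric group.
-/

namespace Cfsg.Lib.Components.AltOn

open Subgroup Equiv

variable {α : Type*} [Fintype α] [DecidableEq α]

/-- the even permutations fixing every point outside `C` -/
def altOn (C : Finset α) : Subgroup (Perm α) where
  carrier := {g | Perm.sign g = 1 ∧ ∀ x ∉ C, g x = x}
  one_mem' := ⟨map_one _, fun _ _ => rfl⟩
  mul_mem' {a b} ha hb := ⟨by rw [map_mul, ha.1, hb.1, mul_one], fun x hx => by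
    rw [Perm.mul_apply, hb.2 x hx, ha.2 x hx]⟩
  inv_mem' {a} ha := ⟨by rw [map_inv, ha.1, inv_one], fun x hx => by
    rw [Perm.inv_eq_iff_eq]; exact (ha.2 x hx).symm⟩

theorem mem_altOn {C : Finset α} {g : Perm α} :
    g ∈ altOn C ↔ Perm.sign g = 1 ∧ ∀ x ∉ C, g x = x := Iff.rfl

theorem apply_mem {C : Finset α} {g : Perm α} (hg : g ∈ altOn C) {x : α} (hx : x ∈ C) :
    g x ∈ C := by
  by_contra h
  have h1 := g.injective (hg.2 _ h)
  rw [h1] at h
  exact h hx

theorem altOn_mono {C D : Finset α} (h : C ⊆ D) : altOn C ≤ altOn D :=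
  fun _ hg => ⟨hg.1, fun x hx => hg.2 x fun hc => hx (h hc)⟩

theorem swap_mul_swap_mem {C : Finset α} {a b c d : α} (hab : a ≠ b) (hcd : c ≠ d)
    (ha : a ∈ C) (hb : b ∈ C) (hc : c ∈ C) (hd : d ∈ C) :
    swap a b * swap c d ∈ altOn C := by
  refine ⟨?_, fun x hx => ?_⟩
  · rw [map_mul, Perm.sign_swap hab, Perm.sign_swap hcd]; rfl
  · have n : ∀ {y}, y ∈ C → x ≠ y := fun hy he => hx (he ▸ hy)
    rw [Perm.mul_apply, swap_apply_of_ne_of_ne (n hc) (n hd), swap_apply_of_ne_of_ne (n ha) (n hb)]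

theorem exists_map {C : Finset α} (hC : 3 ≤ C.card) {z y : α} (hz : z ∈ C) (hy : y ∈ C) :
    ∃ k ∈ altOn C, k z = y := by
  rcases eq_or_ne z y with h | h
  · exact ⟨1, one_mem _, by simpa using h⟩
  obtain ⟨w, hw, hwn⟩ := Finset.exists_mem_notMem_of_card_lt_card
    (s := ({z, y} : Finset α)) (t := C) (by have := Finset.card_le_two (a := z) (b := y); omega)
  have hwz : w ≠ z := fun e => hwn (by simp [e])
  have hwy : w ≠ y := fun e => hwn (by simp [e])
  refine ⟨swap z y * swap y w, swap_mul_swap_mem h hwy.symm hz hy hy hw, ?_⟩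
  rw [Perm.mul_apply, swap_apply_of_ne_of_ne h hwz.symm, swap_apply_left]

theorem conj_mem {C : Finset α} (h : Perm α) {g : Perm α} (hg : g ∈ altOn C) :
    h * g * h⁻¹ ∈ altOn (C.image h) := by
  refine ⟨?_, fun x hx => ?_⟩
  · rw [map_mul, map_mul, map_inv, hg.1, mul_one, mul_inv_cancel]
  · have : (h⁻¹ : Perm α) x ∉ C := fun hc => hx (Finset.mem_image.mpr ⟨_, hc, by simp⟩)
    rw [Perm.mul_apply, Perm.mul_apply, hg.2 _ this]
    simp

theorem altOn_image_le {C : Finset α} {H : Subgroup (Perm α)} (hC : altOn C ≤ H)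
    {h : Perm α} (hh : h ∈ H) : altOn (C.image h) ≤ H := by
  intro g hg
  have h1 := conj_mem h⁻¹ hg
  have hi : (C.image h).image (h⁻¹ : Perm α) = C := by
    rw [Finset.image_image]
    have : ((h⁻¹ : Perm α) : α → α) ∘ h = id := by funext x; simp
    rw [this, Finset.image_id]
  rw [hi, inv_inv] at h1
  have h2 : h * (h⁻¹ * g * h) * h⁻¹ ∈ H := H.mul_mem (H.mul_mem hh (hC h1)) (H.inv_mem hh)
  simpa [mul_assoc] using h2

theorem commute_of_disjoint {C D : Finset α} (h : Disjoint C D) {a b : Perm α}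
    (ha : a ∈ altOn C) (hb : b ∈ altOn D) : a * b = b * a := by
  apply Perm.Disjoint.commute
  intro x
  by_cases hx : x ∈ C
  · exact Or.inr (hb.2 x (Finset.disjoint_left.mp h hx))
  · exact Or.inl (ha.2 x hx)

/-- one-point extension -/
theorem altOn_insert_le {C : Finset α} {H : Subgroup (Perm α)} (hC : altOn C ≤ H)
    (h3 : 3 ≤ C.card) {x : α} {c : Perm α} (hcH : c ∈ H)
    (hc : c ∈ altOn (insert x C)) (hcx : c x ≠ x) : altOn (insert x C) ≤ H := by
  have key : ∀ g ∈ altOn (insert x C), g x = x → g ∈ H := fun g hg hgx =>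
    hC ⟨hg.1, fun y hy => by
      rcases eq_or_ne y x with rfl | h
      · exact hgx
      · exact hg.2 y (by simp [h, hy])⟩
  intro g hg
  by_cases hgx : g x = x
  · exact key g hg hgx
  have hmem : ∀ k ∈ altOn (insert x C), k x ≠ x → k x ∈ C := fun k hk hkx =>
    (Finset.mem_insert.mp (apply_mem hk (Finset.mem_insert_self x C))).resolve_left hkx
  obtain ⟨k, hk, hkz⟩ := exists_map h3 (hmem c hc hcx) (hmem g hg hgx)
  have h1 : (k * c)⁻¹ * g ∈ altOn (insert x C) :=
    mul_mem (inv_mem (mul_mem (altOn_mono (Finset.subset_insert _ _) hk) hc)) hg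
  have h2 : ((k * c)⁻¹ * g) x = x := by
    rw [Perm.mul_apply, Perm.inv_eq_iff_eq, Perm.mul_apply, hkz]
  have h3' : (k * c) * ((k * c)⁻¹ * g) ∈ H := H.mul_mem (H.mul_mem (hC hk) hcH) (key _ h1 h2)
  rwa [mul_inv_cancel_left] at h3'

/-- a maximal set swallows every set of the same kind meeting it -/
theorem subset_of_maximal {C D : Finset α} {H : Subgroup (Perm α)} (hC : altOn C ≤ H)
    (h3 : 3 ≤ C.card) (hD : altOn D ≤ H) (hD3 : 3 ≤ D.card) (hmeet : ¬ Disjoint D C)
    (hmax : ∀ x ∉ C, ¬ altOn (insert x C) ≤ H) : D ⊆ C := by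
  intro x hxD
  by_contra hxC
  obtain ⟨a, haD, haC⟩ := Finset.not_disjoint_iff.mp hmeet
  have hax : a ≠ x := fun e => hxC (e ▸ haC)
  apply hmax x hxC
  by_cases hb : ∃ b ∈ D, b ∈ C ∧ b ≠ a
  · obtain ⟨b, hbD, hbC, hba⟩ := hb
    have hbx : b ≠ x := fun e => hxC (e ▸ hbC)
    refine altOn_insert_le hC h3 (c := swap a x * swap a b)
      (hD (swap_mul_swap_mem hax hba.symm haD hxD haD hbD))
      (swap_mul_swap_mem hax hba.symm (by simp [haC]) (by simp) (by simp [haC]) (by simp [hbC])) ?_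
    rw [Perm.mul_apply, swap_apply_of_ne_of_ne hax.symm hbx.symm, swap_apply_right]
    exact hax
  · push Not at hb
    obtain ⟨y, hy, hyn⟩ := Finset.exists_mem_notMem_of_card_lt_card
      (s := ({a, x} : Finset α)) (t := D) (by have := Finset.card_le_two (a := a) (b := x); omega)
    have hya : y ≠ a := fun e => hyn (by simp [e])
    have hyx : y ≠ x := fun e => hyn (by simp [e])
    have hyC : y ∉ C := fun hc => hya (hb y hy hc)
    obtain ⟨b, hbC, hba⟩ := Finset.exists_mem_ne (by omega : 1 < C.card) a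
    obtain ⟨e, heC, hen⟩ := Finset.exists_mem_notMem_of_card_lt_card
      (s := ({a, b} : Finset α)) (t := C) (by have := Finset.card_le_two (a := a) (b := b); omega)
    have hea : e ≠ a := fun h => hen (by simp [h])
    have heb : e ≠ b := fun h => hen (by simp [h])
    set d : Perm α := swap a y * swap a x with hd
    have hdD : d ∈ altOn D := swap_mul_swap_mem hya.symm hax haD hy haD hxD
    have hda : d a = x := by
      rw [hd, Perm.mul_apply, swap_apply_left, swap_apply_of_ne_of_ne hax.symm hyx.symm]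
    have hdb : d b = b := hdD.2 b fun h => hba (hb b h hbC)
    have hde : d e = e := hdD.2 e fun h => hea (hb e h heC)
    have hbx : b ≠ x := fun e => hxC (e ▸ hbC)
    have hex : e ≠ x := fun h => hxC (h ▸ heC)
    have h0 : swap a b * swap a e ∈ H := hC (swap_mul_swap_mem hba.symm hea.symm haC hbC haC heC)
    have hcc : d * (swap a b * swap a e) * d⁻¹ = swap x b * swap x e := by
      have e1 : d * swap a b * d⁻¹ = swap x b := by
        rw [← hda]; conv_rhs => rw [← hdb]
        exact (Equiv.swap_apply_apply d a b).symm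
      have e2 : d * swap a e * d⁻¹ = swap x e := by
        rw [← hda]; conv_rhs => rw [← hde]
        exact (Equiv.swap_apply_apply d a e).symm
      rw [← e1, ← e2]; group
    refine altOn_insert_le hC h3 (c := swap x b * swap x e) ?_
      (swap_mul_swap_mem hbx.symm hex.symm (by simp) (by simp [hbC]) (by simp) (by simp [heC])) ?_
    · rw [← hcc]; exact H.mul_mem (H.mul_mem (hD hdD) h0) (H.inv_mem (hD hdD))
    · rw [Perm.mul_apply, swap_apply_left, swap_apply_of_ne_of_ne hex heb]
      exact hex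

theorem exists_maximal {C₀ : Finset α} {H : Subgroup (Perm α)} (h₀ : altOn C₀ ≤ H) :
    ∃ C : Finset α, C₀ ⊆ C ∧ altOn C ≤ H ∧ ∀ x ∉ C, ¬ altOn (insert x C) ≤ H := by
  classical
  obtain ⟨C, hC, hmax⟩ := Finset.exists_max_image
    (Finset.univ.filter fun C : Finset α => C₀ ⊆ C ∧ altOn C ≤ H) Finset.card ⟨C₀, by simp [h₀]⟩
  simp only [Finset.mem_filter, Finset.mem_univ, true_and] at hC hmax
  refine ⟨C, hC.1, hC.2, fun x hx h => ?_⟩
  have := hmax (insert x C) ⟨hC.1.trans (Finset.subset_insert _ _), h⟩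
  rw [Finset.card_insert_of_notMem hx] at this
  omega

theorem image_eq_or_disjoint {C : Finset α} {H : Subgroup (Perm α)} (hC : altOn C ≤ H)
    (h3 : 3 ≤ C.card) (hmax : ∀ x ∉ C, ¬ altOn (insert x C) ≤ H) {h : Perm α} (hh : h ∈ H) :
    C.image h = C ∨ Disjoint (C.image h) C := by
  by_cases hd : Disjoint (C.image h) C
  · exact Or.inr hd
  have hcard : (C.image h).card = C.card := Finset.card_image_of_injective _ h.injective
  exact Or.inl (Finset.eq_of_subset_of_card_le
    (subset_of_maximal hC h3 (altOn_image_le hC hh) (by omega) hd hmax) hcard.ge)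

section transfer

variable {k : ℕ} (C : Finset α) (hk : C.card = k)

/-- permutations of `Fin k` as permutations supported on `C` -/
noncomputable def altHom : Perm (Fin k) →* Perm α :=
  (Perm.ofSubtype (p := fun x => x ∈ C)).comp
    ((C.equivFinOfCardEq hk).symm.permCongrHom.toMonoidHom)

theorem altHom_eq (u : Perm (Fin k)) :
    altHom C hk u = Perm.ofSubtype ((C.equivFinOfCardEq hk).symm.permCongr u) := rfl

theorem altHom_injective : Function.Injective (altHom C hk) :=
  Perm.ofSubtype_injective.comp (Equiv.injective _)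

theorem sign_altHom (u : Perm (Fin k)) : Perm.sign (altHom C hk u) = Perm.sign u := by
  rw [altHom_eq, Perm.sign_ofSubtype, Perm.sign_permCongr]

theorem altHom_apply (u : Perm (Fin k)) (i : Fin k) :
    altHom C hk u ((C.equivFinOfCardEq hk).symm i : α) = ((C.equivFinOfCardEq hk).symm (u i) : α) := by
  rw [altHom_eq, Perm.ofSubtype_apply_of_mem _ ((C.equivFinOfCardEq hk).symm i).2]
  simp [Equiv.permCongr_apply]

theorem altHom_apply_notMem (u : Perm (Fin k)) {x : α} (hx : x ∉ C) : altHom C hk u x = x := by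
  rw [altHom_eq]; exact Perm.ofSubtype_apply_of_not_mem _ hx

theorem altHom_mem {u : Perm (Fin k)} (hu : Perm.sign u = 1) : altHom C hk u ∈ altOn C :=
  ⟨by rw [sign_altHom, hu], fun _ hx => altHom_apply_notMem C hk u hx⟩

theorem exists_altHom {g : Perm α} (hg : ∀ x ∉ C, g x = x) : ∃ u, altHom C hk u = g := by
  have h1 : ∀ x, x ∈ C ↔ g x ∈ C := fun x => by
    by_cases hx : x ∈ C
    · simp only [hx, true_iff]
      by_contra h
      have e := g.injective (hg _ h)
      rw [e] at h
      exact h hx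
    · rw [hg x hx]
  refine ⟨(C.equivFinOfCardEq hk).permCongr (g.subtypePerm fun x => (h1 x).symm), ?_⟩
  rw [altHom_eq]
  have : (C.equivFinOfCardEq hk).symm.permCongr
      ((C.equivFinOfCardEq hk).permCongr (g.subtypePerm fun x => (h1 x).symm)) =
      g.subtypePerm fun x => (h1 x).symm := by
    ext x; simp [Equiv.permCongr_apply]
  rw [this]
  exact Perm.ofSubtype_subtypePerm _ fun x hx => by_contra fun hn => hx (hg x hn)

/-- the even permutations supported on `C` form an alternating group -/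
noncomputable def altEquiv : alternatingGroup (Fin k) ≃* altOn C :=
  MulEquiv.ofBijective
    (MonoidHom.codRestrict ((altHom C hk).comp (alternatingGroup (Fin k)).subtype) (altOn C)
      fun u => altHom_mem C hk (Perm.mem_alternatingGroup.mp u.2))
    ⟨fun a b h => Subtype.ext (altHom_injective C hk (Subtype.ext_iff.mp h)), fun g => by
      obtain ⟨u, hu⟩ := exists_altHom C hk g.2.2
      exact ⟨⟨u, Perm.mem_alternatingGroup.mpr (by rw [← sign_altHom C hk, hu]; exact g.2.1)⟩,
        Subtype.ext hu⟩⟩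

/-- statements about even permutations without fixed points pass from `Fin k` to `C` -/
theorem exists_altHom_moving {g : Perm α} (hg : g ∈ altOn C) (hm : ∀ x ∈ C, g x ≠ x) :
    ∃ u : Perm (Fin k), (Perm.sign u = 1 ∧ ∀ i, u i ≠ i) ∧ altHom C hk u = g := by
  obtain ⟨u, hu⟩ := exists_altHom C hk hg.2
  refine ⟨u, ⟨by rw [← sign_altHom C hk, hu]; exact hg.1, fun i hi => ?_⟩, hu⟩
  apply hm _ ((C.equivFinOfCardEq hk).symm i).2
  rw [← hu, altHom_apply, hi]

end transfer

set_option synthInstance.maxSize 1000 in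
theorem moving_commute : (∀ u v : Perm (Fin 3), (Perm.sign u = 1 ∧ ∀ i, u i ≠ i) →
      (Perm.sign v = 1 ∧ ∀ i, v i ≠ i) → u * v = v * u) ∧
    (∀ u v : Perm (Fin 4), (Perm.sign u = 1 ∧ ∀ i, u i ≠ i) →
      (Perm.sign v = 1 ∧ ∀ i, v i ≠ i) → u * v = v * u) := by
  decide +kernel

theorem moving_exists : (∃ u : Perm (Fin 3), Perm.sign u = 1 ∧ ∀ i, u i ≠ i) ∧
    (∃ u : Perm (Fin 4), Perm.sign u = 1 ∧ ∀ i, u i ≠ i) := by
  decide +kernel

set_option synthInstance.maxSize 1000 in
theorem moving_centralizer :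
    (∀ u : Perm (Fin 3), (Perm.sign u = 1 ∧ ∀ i, u i ≠ i) → ∀ a, a * u = u * a → ∀ b, b * u = u * b →
      a * b * a⁻¹ * b⁻¹ = 1 ∨ a * b * a⁻¹ * b⁻¹ = u) ∧
    (∀ u : Perm (Fin 4), (Perm.sign u = 1 ∧ ∀ i, u i ≠ i) → ∀ a, a * u = u * a → ∀ b, b * u = u * b →
      a * b * a⁻¹ * b⁻¹ = 1 ∨ a * b * a⁻¹ * b⁻¹ = u) := by
  decide +kernel

/-- a perfect group commuting with an even fixed-point-free permutation of at most four points is trivial -/
theorem perfect_eq_bot {k : ℕ} (hk : k = 3 ∨ k = 4) {u : Perm (Fin k)}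
    (hu : Perm.sign u = 1 ∧ ∀ i, u i ≠ i) {P : Subgroup (Perm (Fin k))} (hP : ⁅P, P⁆ = P)
    (hc : ∀ a ∈ P, a * u = u * a) : P = ⊥ := by
  have h2 : ∀ a ∈ P, ∀ b ∈ P, a * b * a⁻¹ * b⁻¹ = 1 ∨ a * b * a⁻¹ * b⁻¹ = u := fun a ha b hb => by
    rcases hk with rfl | rfl
    · exact moving_centralizer.1 u hu a (hc a ha) b (hc b hb)
    · exact moving_centralizer.2 u hu a (hc a ha) b (hc b hb)
  have h3 : ⁅P, P⁆ ≤ centralizer (P : Set (Perm (Fin k))) := by
    rw [commutator_le]
    intro a ha b hb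
    rw [mem_centralizer_iff]
    intro c hc'
    rw [commutatorElement_def]
    rcases h2 a ha b hb with h | h <;> rw [h]
    · simp
    · exact hc c hc'
  rw [hP] at h3
  rw [← hP]
  exact commutator_eq_bot_iff_le_centralizer.mpr h3

end Cfsg.Lib.Components.AltOn
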