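import Cfsg.Prelude.Def_LocalEven
import Cfsg.Agent.Components.Misc.AltOn
import Cfsg.Agent.SolvStruct.AltAutPrimeGraph
import Cfsg.Agent.PGroups.Basic
import Mathlib

/-!
`3`-minimal groups with alternating generalized Fitting subgroup.
-/

namespace Cfsg.Lib.Components.AltPMinimal

open Subgroup Equiv MulAction Cfsg.Lib.Components.AltOn

variable {n : ℕ}

/-- in a `p`-minimal group a nontrivial normal subgroup containing a Sylow subgroup is everything -/
theorem eq_top_of_pMinimal {X : Type*} [Group X] [Finite X] {p : ℕ} [Fact p.Prime]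
    (hX : Cfsg.IsPMinimal p X) (A : Subgroup X) [A.Normal] (S : Sylow p X)
    (hS : (S : Subgroup X) ≤ A) : A = ⊤ := by
  obtain ⟨hn, M, ⟨hMc, hSM⟩, huniq⟩ := hX S
  by_contra hA
  obtain ⟨M₁, hM₁, hAM₁⟩ := (eq_top_or_exists_le_coatom A).resolve_left hA
  have hN : normalizer ((S : Subgroup X) : Set X) ≠ ⊤ := fun h => hn (normalizer_eq_top_iff.mp h)
  obtain ⟨M₂, hM₂, hNM₂⟩ := (eq_top_or_exists_le_coatom _).resolve_left hN
  have e1 := huniq M₁ ⟨hM₁, hS.trans hAM₁⟩
  have e2 := huniq M₂ ⟨hM₂, le_normalizer.trans hNM₂⟩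
  subst e1 e2
  apply hMc.1
  have : normalizer ((S : Subgroup X) : Set X) ⊔ A = ⊤ :=
    Sylow.normalizer_sup_eq_top (S.subtype hS) |> fun h => by
      rw [Sylow.coe_subtype] at h
      rwa [map_subgroupOf_eq_of_le hS] at h
  exact top_le_iff.mp (this ▸ sup_le hNM₂ hAM₁)

variable {Q : Subgroup (Perm (Fin n))}

open Classical in
/-- orbit of a subgroup of the symmetric group -/
noncomputable def orb (Q : Subgroup (Perm (Fin n))) (x : Fin n) : Finset (Fin n) :=
  Finset.univ.filter fun y => ∃ g ∈ Q, g x = y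

theorem mem_orb {x y : Fin n} : y ∈ orb Q x ↔ ∃ g ∈ Q, g x = y := by
  simp [orb]

theorem self_mem_orb (x : Fin n) : x ∈ orb Q x := mem_orb.mpr ⟨1, one_mem _, rfl⟩

theorem orb_inv {g : Perm (Fin n)} (hg : g ∈ Q) (x y : Fin n) : g y ∈ orb Q x ↔ y ∈ orb Q x := by
  rw [mem_orb, mem_orb]
  constructor
  · rintro ⟨h, hh, e⟩
    exact ⟨g⁻¹ * h, Q.mul_mem (Q.inv_mem hg) hh, by simp [e]⟩
  · rintro ⟨h, hh, rfl⟩
    exact ⟨g * h, Q.mul_mem hg hh, rfl⟩

theorem orb_eq {x y : Fin n} (h : y ∈ orb Q x) : orb Q y = orb Q x := by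
  obtain ⟨g, hg, rfl⟩ := mem_orb.mp h
  ext z
  rw [mem_orb, mem_orb]
  constructor
  · rintro ⟨k, hk, rfl⟩; exact ⟨k * g, Q.mul_mem hk hg, rfl⟩
  · rintro ⟨k, hk, rfl⟩; exact ⟨k * g⁻¹, Q.mul_mem hk (Q.inv_mem hg), by simp⟩

theorem orb_disjoint {x y : Fin n} (h : y ∉ orb Q x) : Disjoint (orb Q x) (orb Q y) := by
  rw [Finset.disjoint_left]
  intro z hzx hzy
  exact h ((orb_eq hzx).symm.trans (orb_eq hzy) ▸ self_mem_orb y)

theorem card_orb [Fact (Nat.Prime 3)] (hQ : IsPGroup 3 Q) (x : Fin n) :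
    ∃ a : ℕ, (orb Q x).card = 3 ^ a := by
  obtain ⟨a, ha⟩ := hQ.card_orbit x
  refine ⟨a, ?_⟩
  rw [← ha, Nat.card_coe_set_eq, ← Set.ncard_coe_finset]
  congr 1
  ext y
  simp only [Finset.mem_coe, mem_orb, mem_orbit_iff, Subgroup.smul_def, Perm.smul_def]
  exact ⟨fun ⟨g, hg, e⟩ => ⟨⟨g, hg⟩, e⟩, fun ⟨g, e⟩ => ⟨g, g.2, e⟩⟩

/-- the setwise stabiliser -/
def setStab (C : Finset (Fin n)) : Subgroup (Perm (Fin n)) where
  carrier := {g | ∀ x, g x ∈ C ↔ x ∈ C}
  one_mem' := fun _ => Iff.rfl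
  mul_mem' := fun {g h} hg hh x => (hg (h x)).trans (hh x)
  inv_mem' := fun {g} hg x => by
    have := hg ((g⁻¹ : Perm (Fin n)) x)
    simp only [Perm.coe_inv, Equiv.apply_symm_apply] at this ⊢
    exact this.symm

theorem altOn_compl_le_setStab {C : Finset (Fin n)} : altOn Cᶜ ≤ setStab C := fun g hg x => by
  by_cases hx : x ∈ C
  · rw [hg.2 x (by simp [hx])]
  · have := apply_mem hg (Finset.mem_compl.mpr hx)
    simp [hx, Finset.mem_compl.mp this]

theorem altOn_le_setStab {C : Finset (Fin n)} : altOn C ≤ setStab C := fun g hg x => by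
  by_cases hx : x ∈ C
  · simp [hx, apply_mem hg hx]
  · rw [hg.2 x hx]

theorem le_setStab (x : Fin n) : Q ≤ setStab (orb Q x) := fun _ hg y => orb_inv hg x y

theorem alt_not_le_setStab (hn : 3 ≤ n) {C : Finset (Fin n)} {x y : Fin n} (hx : x ∈ C) (hy : y ∉ C) :
    ¬ alternatingGroup (Fin n) ≤ setStab C := by
  intro h
  obtain ⟨g, hg, rfl⟩ := exists_map (C := Finset.univ) (by simpa using hn) (Finset.mem_univ x)
    (Finset.mem_univ y)
  exact hy ((h (Perm.mem_alternatingGroup.mpr hg.1) x).mpr hx)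

theorem altOn_le_alt (C : Finset (Fin n)) : altOn C ≤ alternatingGroup (Fin n) :=
  fun _ hg => Perm.mem_alternatingGroup.mpr hg.1

theorem alt_le_of_altOn_univ {J : Subgroup (Perm (Fin n))} (h : altOn Finset.univ ≤ J) :
    alternatingGroup (Fin n) ≤ J :=
  fun _ hg => h ⟨Perm.mem_alternatingGroup.mp hg, fun x hx => absurd (Finset.mem_univ x) hx⟩

/-- a fixed-point-free central element on an orbit -/
theorem exists_central [Fact (Nat.Prime 3)] (hQ : IsPGroup 3 Q) {O : Finset (Fin n)}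
    (hO : ∀ g ∈ Q, ∀ x, g x ∈ O ↔ x ∈ O) (htr : ∀ x ∈ O, ∀ y ∈ O, ∃ g ∈ Q, g x = y)
    (h1 : 1 < O.card) :
    ∃ w : Perm (Fin n), w ^ 3 = 1 ∧ (∀ g ∈ Q, g * w = w * g) ∧ (∀ x ∈ O, w x ≠ x) ∧
      (∀ x ∉ O, w x = x) ∧ ∀ x ∈ O, ∃ g ∈ Q, g x = w x := by
  let r : ↥Q →* Perm (Fin n) := (Perm.ofSubtype (p := fun x => x ∈ O)).comp
    { toFun := fun g => (g : Perm (Fin n)).subtypePerm (fun x => hO g g.2 x)
      map_one' := by ext; simp
      map_mul' := fun a b => Equiv.ext fun x => Subtype.ext rfl }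
  have hr : ∀ (g : ↥Q) x, x ∈ O → r g x = (g : Perm (Fin n)) x := by
    intro g x hx
    simp [r, Perm.ofSubtype_apply_of_mem _ hx]
  have hr' : ∀ (g : ↥Q) x, x ∉ O → r g x = x := by
    intro g x hx
    exact Perm.ofSubtype_apply_of_not_mem _ hx
  obtain ⟨a, ha, b, hb, hab⟩ := Finset.one_lt_card.mp h1
  have hp : IsPGroup 3 r.range := hQ.of_surjective r.rangeRestrict r.rangeRestrict_surjective
  haveI : Nontrivial r.range := by
    obtain ⟨g, hg, hgx⟩ := htr a ha b hb
    rw [Subgroup.nontrivial_iff_ne_bot]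
    intro h
    have : r ⟨g, hg⟩ ∈ r.range := ⟨_, rfl⟩
    rw [h, mem_bot] at this
    have h2 := hr ⟨g, hg⟩ a ha
    rw [this] at h2
    exact hab (h2.trans hgx)
  haveI := hp.center_nontrivial
  have hc : IsPGroup 3 (center r.range) := hp.to_subgroup _
  obtain ⟨u, hu⟩ := exists_prime_orderOf_dvd_card' (G := center r.range) 3
    (by
      obtain ⟨m, hm, hm'⟩ := hc.nontrivial_iff_card.mp inferInstance
      rw [hm']; exact dvd_pow_self 3 hm.ne')
  obtain ⟨p₀, hp₀⟩ := ((u : r.range)).2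
  set w : Perm (Fin n) := ((u : r.range) : Perm (Fin n)) with hw
  have hne : w ≠ 1 := by
    intro h
    have : u = 1 := Subtype.ext (Subtype.ext h)
    rw [this, orderOf_one] at hu
    omega
  have hout : ∀ x ∉ O, w x = x := fun x hx => by rw [← hp₀]; exact hr' _ x hx
  have hin : ∀ x ∈ O, w x ∈ O := fun x hx => by
    rw [← hp₀, hr p₀ x hx, hO _ p₀.2]; exact hx
  have hcomm : ∀ g ∈ Q, g * w = w * g := by
    intro g hg
    have hz := mem_center_iff.mp u.2 ⟨r ⟨g, hg⟩, _, rfl⟩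
    have hz' : r ⟨g, hg⟩ * w = w * r ⟨g, hg⟩ := congrArg Subtype.val hz
    refine Equiv.ext fun x => ?_
    rw [Perm.mul_apply, Perm.mul_apply]
    by_cases hx : x ∈ O
    · have := congrArg (fun f : Perm (Fin n) => f x) hz'
      simp only [Perm.mul_apply] at this
      rwa [hr ⟨g, hg⟩ x hx, hr ⟨g, hg⟩ _ (hin x hx)] at this
    · rw [hout x hx, hout (g x) (fun h => hx ((hO g hg x).mp h))]
  refine ⟨w, ?_, hcomm, ?_, hout, fun x hx => ⟨p₀, p₀.2, by rw [← hp₀, hr p₀ x hx]⟩⟩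
  · have := pow_orderOf_eq_one u
    rw [hu] at this
    exact congrArg (fun v : center r.range => ((v : r.range) : Perm (Fin n))) this
  · intro x hx hfix
    apply hne
    refine Equiv.ext fun y => ?_
    by_cases hy : y ∈ O
    · obtain ⟨g, hg, rfl⟩ := htr x hx y hy
      rw [← Perm.mul_apply, ← hcomm g hg, Perm.mul_apply, hfix]; rfl
    · exact hout y hy

theorem sign_of_pow_three {w : Perm (Fin n)} (h : w ^ 3 = 1) : Perm.sign w = 1 := by
  have := congrArg Perm.sign h
  rw [map_pow, map_one] at this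
  rcases Int.units_eq_one_or (Perm.sign w) with e | e
  · exact e
  · rw [e] at this; exact absurd this (by decide)

/-- exchanging two orbits of a fixed-point-free element of order three -/
theorem exists_exchange {z : Perm (Fin n)} (h3 : ∀ x, z (z (z x)) = x) (hf : ∀ x, z x ≠ x)
    {a b : Fin n} (h0 : b ≠ a) (h1 : b ≠ z a) (h2 : b ≠ z (z a)) :
    ∃ k : Perm (Fin n), Perm.sign k = -1 ∧ k a = b ∧ k * z = z * k ∧
      ∀ x, (x ≠ a ∧ x ≠ z a ∧ x ≠ z (z a) ∧ x ≠ b ∧ x ≠ z b ∧ x ≠ z (z b)) → k x = x := by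
  have hf2 : ∀ x, z (z x) ≠ x := fun x h => hf x (by have := h3 x; rwa [h] at this)
  have i1 : z a ≠ a := hf a
  have i2 : z (z a) ≠ a := hf2 a
  have i3 : z (z a) ≠ z a := hf _
  have j1 : z b ≠ b := hf b
  have j2 : z (z b) ≠ b := hf2 b
  have j3 : z (z b) ≠ z b := hf _
  have c1 : z b ≠ a := fun h => h2 (by rw [← h, h3])
  have c2 : z b ≠ z a := fun h => h0 (z.injective h)
  have c3 : z b ≠ z (z a) := fun h => h1 (z.injective h)
  have c4 : z (z b) ≠ a := fun h => h1 (by rw [← h, h3])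
  have c5 : z (z b) ≠ z a := fun h => c1 (z.injective h)
  have c6 : z (z b) ≠ z (z a) := fun h => c2 (z.injective h)
  refine ⟨swap a b * swap (z a) (z b) * swap (z (z a)) (z (z b)), ?_, ?_, ?_, ?_⟩
  · rw [map_mul, map_mul, Perm.sign_swap h0.symm, Perm.sign_swap c2.symm, Perm.sign_swap c6.symm]
    rfl
  · rw [Perm.mul_apply, Perm.mul_apply, swap_apply_of_ne_of_ne i2.symm c4.symm,
      swap_apply_of_ne_of_ne i1.symm c1.symm, swap_apply_left]
  · refine Equiv.ext fun x => ?_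
    simp only [Perm.mul_apply]
    rcases eq_or_ne x a with rfl | e1
    · simp [swap_apply_def, i1, i1.symm, i2, i2.symm, i3, i3.symm, h0, h0.symm, h1, h1.symm, h2, h2.symm, j1, j1.symm, j2, j2.symm, j3, j3.symm, c1, c1.symm, c2, c2.symm, c3, c3.symm, c4, c4.symm, c5, c5.symm, c6, c6.symm]
    rcases eq_or_ne x (z a) with rfl | e2
    · simp [swap_apply_def, h3, i1, i1.symm, i2, i2.symm, i3, i3.symm, h0, h0.symm, h1, h1.symm, h2, h2.symm, j1, j1.symm, j2, j2.symm, j3, j3.symm, c1, c1.symm, c2, c2.symm, c3, c3.symm, c4, c4.symm, c5, c5.symm, c6, c6.symm]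
    rcases eq_or_ne x (z (z a)) with rfl | e3
    · simp [swap_apply_def, h3, i1, i1.symm, i2, i2.symm, i3, i3.symm, h0, h0.symm, h1, h1.symm, h2, h2.symm, j1, j1.symm, j2, j2.symm, j3, j3.symm, c1, c1.symm, c2, c2.symm, c3, c3.symm, c4, c4.symm, c5, c5.symm, c6, c6.symm]
    rcases eq_or_ne x b with rfl | e4
    · simp [swap_apply_def, i1, i1.symm, i2, i2.symm, i3, i3.symm, h0, h0.symm, h1, h1.symm, h2, h2.symm, j1, j1.symm, j2, j2.symm, j3, j3.symm, c1, c1.symm, c2, c2.symm, c3, c3.symm, c4, c4.symm, c5, c5.symm, c6, c6.symm]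
    rcases eq_or_ne x (z b) with rfl | e5
    · simp [swap_apply_def, h3, i1, i1.symm, i2, i2.symm, i3, i3.symm, h0, h0.symm, h1, h1.symm, h2, h2.symm, j1, j1.symm, j2, j2.symm, j3, j3.symm, c1, c1.symm, c2, c2.symm, c3, c3.symm, c4, c4.symm, c5, c5.symm, c6, c6.symm]
    rcases eq_or_ne x (z (z b)) with rfl | e6
    · simp [swap_apply_def, h3, i1, i1.symm, i2, i2.symm, i3, i3.symm, h0, h0.symm, h1, h1.symm, h2, h2.symm, j1, j1.symm, j2, j2.symm, j3, j3.symm, c1, c1.symm, c2, c2.symm, c3, c3.symm, c4, c4.symm, c5, c5.symm, c6, c6.symm]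
    · rw [swap_apply_of_ne_of_ne e3 e6, swap_apply_of_ne_of_ne e2 e5, swap_apply_of_ne_of_ne e1 e4]
      have f1 : z x ≠ z a := fun h => e1 (z.injective h)
      have f2 : z x ≠ z (z a) := fun h => e2 (z.injective h)
      have f3 : z x ≠ a := fun h => e3 (by rw [← h, h3])
      have f4 : z x ≠ z b := fun h => e4 (z.injective h)
      have f5 : z x ≠ z (z b) := fun h => e5 (z.injective h)
      have f6 : z x ≠ b := fun h => e6 (by rw [← h, h3])
      rw [swap_apply_of_ne_of_ne f2 f5, swap_apply_of_ne_of_ne f1 f4, swap_apply_of_ne_of_ne f3 f6]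
  · rintro x ⟨e1, e2, e3, e4, e5, e6⟩
    simp only [Perm.mul_apply]
    rw [swap_apply_of_ne_of_ne e3 e6, swap_apply_of_ne_of_ne e2 e5, swap_apply_of_ne_of_ne e1 e4]

/-- an alternating group on a union of at least three orbits of `z` and the centraliser of `z`
generate the alternating group -/
theorem alt_le_of_centralizer {J : Subgroup (Perm (Fin n))} {z : Perm (Fin n)}
    (h3 : ∀ x, z (z (z x)) = x) (hf : ∀ x, z x ≠ x) {B : Finset (Fin n)}
    (hB : ∀ x, z x ∈ B ↔ x ∈ B) (hB9 : 9 ≤ B.card) (hBJ : altOn B ≤ J)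
    (hzJ : ∀ h ∈ alternatingGroup (Fin n), h * z = z * h → h ∈ J) :
    alternatingGroup (Fin n) ≤ J := by
  obtain ⟨C, hBC, hC, hmax⟩ := exists_maximal hBJ
  have hC3 : 3 ≤ C.card := by have := Finset.card_le_card hBC; omega
  suffices C = Finset.univ by subst this; exact alt_le_of_altOn_univ hC
  refine Finset.eq_univ_of_forall fun b => ?_
  by_contra hb
  have hbB : b ∉ B := fun h => hb (hBC h)
  obtain ⟨a, ha⟩ := Finset.card_pos.mp (by omega : 0 < B.card)
  obtain ⟨c, hc, hcn⟩ := Finset.exists_mem_notMem_of_card_lt_card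
    (s := ({a, z a, z (z a)} : Finset (Fin n))) (t := B)
    (lt_of_le_of_lt Finset.card_le_three (by omega))
  obtain ⟨d, hd, hdn⟩ := Finset.exists_mem_notMem_of_card_lt_card
    (s := ({a, z a, z (z a), c, z c, z (z c)} : Finset (Fin n))) (t := B)
    (lt_of_le_of_lt Finset.card_le_six (by omega))
  simp only [Finset.mem_insert, Finset.mem_singleton, not_or] at hcn hdn
  obtain ⟨hca, hcza, hczza⟩ := hcn
  obtain ⟨hda, hdza, hdzza, hdc, hdzc, hdzzc⟩ := hdn
  have hza : z a ∈ B := (hB a).mpr ha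
  have hzza : z (z a) ∈ B := (hB _).mpr hza
  have hzbB : z b ∉ B := fun h => hbB ((hB b).mp h)
  have hzzbB : z (z b) ∉ B := fun h => hzbB ((hB _).mp h)
  obtain ⟨k₁, hk₁s, hk₁a, hk₁z, hk₁f⟩ := exists_exchange h3 hf
    (a := a) (b := b) (fun h => hbB (h ▸ ha)) (fun h => hbB (h ▸ hza)) (fun h => hbB (h ▸ hzza))
  obtain ⟨k₂, hk₂s, hk₂c, hk₂z, hk₂f⟩ := exists_exchange h3 hf (a := c) (b := d) hdc hdzc hdzzc
  have hzc : z c ∈ B := (hB c).mpr hc
  have hzd : z d ∈ B := (hB d).mpr hd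
  have hkA : k₁ * k₂ ∈ alternatingGroup (Fin n) := by
    rw [Perm.mem_alternatingGroup, map_mul, hk₁s, hk₂s]; rfl
  have hkz : k₁ * k₂ * z = z * (k₁ * k₂) := by
    rw [mul_assoc, hk₂z, ← mul_assoc, hk₁z, mul_assoc]
  have hkJ := hzJ _ hkA hkz
  have hk₂a : k₂ a = a := by
    refine hk₂f a ⟨(Ne.symm hca), fun h => hczza ?_, fun h => hcza ?_, (Ne.symm hda), fun h => hdzza ?_,
      fun h => hdza ?_⟩
    · rw [h, h3]
    · rw [h, h3]
    · rw [h, h3]
    · rw [h, h3]
  have hka : (k₁ * k₂) a = b := by rw [Perm.mul_apply, hk₂a, hk₁a]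
  have hkc : (k₁ * k₂) c = d := by
    rw [Perm.mul_apply, hk₂c]
    exact hk₁f d ⟨hda, hdza, hdzza, fun h => hbB (h ▸ hd), fun h => hzbB (h ▸ hd),
      fun h => hzzbB (h ▸ hd)⟩
  rcases image_eq_or_disjoint hC hC3 hmax hkJ with he | hdis
  · exact hb (he ▸ Finset.mem_image.mpr ⟨a, hBC ha, hka⟩)
  · exact Finset.disjoint_left.mp hdis (Finset.mem_image.mpr ⟨c, hBC hc, hkc⟩) (hBC hd)

/-- the arithmetic conclusion -/
theorem degree [Fact (Nat.Prime 3)] (hn : 5 ≤ n) (hQ : IsPGroup 3 Q)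
    (M : Subgroup (Perm (Fin n))) (hMA : ¬ alternatingGroup (Fin n) ≤ M)
    (hM : ∀ H : Subgroup (Perm (Fin n)), Q ≤ H → ¬ alternatingGroup (Fin n) ≤ H →
      H ⊓ alternatingGroup (Fin n) ≤ M) :
    n = 6 ∨ n = 9 ∨ ∃ a : ℕ, 2 ≤ a ∧ n = 3 ^ a + 1 := by
  classical
  have hcentral : ∀ z : Perm (Fin n), z ^ 3 = 1 → (∀ x, z x ≠ x) → (∀ g ∈ Q, g * z = z * g) →
      ∀ h ∈ alternatingGroup (Fin n), h * z = z * h → h ∈ M := by
    intro z hz hzf hzQ h hhA hhz
    refine hM (centralizer {z}) (fun g hg => mem_centralizer_singleton_iff.mpr (hzQ g hg)) ?_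
      ⟨mem_centralizer_singleton_iff.mpr hhz, hhA⟩
    intro hle
    have hzA : z ∈ alternatingGroup (Fin n) := Perm.mem_alternatingGroup.mpr (sign_of_pow_three hz)
    have hc : (⟨z, hzA⟩ : alternatingGroup (Fin n)) ∈ center _ := by
      rw [mem_center_iff]
      exact fun g => Subtype.ext (mem_centralizer_singleton_iff.mp (hle g.2))
    rw [alternatingGroup.center_eq_bot (by simp; omega), mem_bot] at hc
    have hz1 : z = 1 := congrArg Subtype.val hc
    exact hzf ⟨0, by omega⟩ (by rw [hz1]; rfl)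
  have hset : ∀ x y : Fin n, y ∉ orb Q x →
      altOn (orb Q x)ᶜ ≤ M ∧ altOn (orb Q x) ≤ M := by
    intro x y hy
    have h := hM (setStab (orb Q x)) (le_setStab x)
      (alt_not_le_setStab (by omega) (self_mem_orb x) hy)
    exact ⟨fun g hg => h ⟨altOn_compl_le_setStab hg, altOn_le_alt _ hg⟩,
      fun g hg => h ⟨altOn_le_setStab hg, altOn_le_alt _ hg⟩⟩
  have pow3 : ∀ {z : Perm (Fin n)}, z ^ 3 = 1 → ∀ x, z (z (z x)) = x := fun {z} hz x => by
    rw [← Perm.mul_apply, ← Perm.mul_apply, ← pow_three', hz]; rfl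
  set x₀ : Fin n := ⟨0, by omega⟩
  by_cases hall : ∀ y, y ∈ orb Q x₀
  · -- a single orbit
    have huniv : orb Q x₀ = Finset.univ := Finset.eq_univ_of_forall hall
    obtain ⟨a, ha⟩ := card_orb hQ x₀
    rw [huniv, Finset.card_univ, Fintype.card_fin] at ha
    rcases a with _ | _ | _ | a
    · simp at ha; omega
    · simp at ha; omega
    · right; left; simpa using ha
    exfalso
    have htr : ∀ x y : Fin n, ∃ g ∈ Q, g x = y := fun x y => by
      have := hall y
      rw [← orb_eq (hall x)] at this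
      exact mem_orb.mp this
    obtain ⟨w, hw3, hwQ, hwf, -, hwg⟩ := exists_central hQ (O := Finset.univ) (by simp)
      (fun x _ y _ => htr x y) (by simp; omega)
    obtain ⟨p₀, hp₀, hp₀w⟩ := hwg x₀ (Finset.mem_univ _)
    have hwfix : ∀ x, w x ≠ x := fun x => hwf x (Finset.mem_univ x)
    have hn27 : 27 ≤ n := by
      rw [ha]
      exact le_trans (by norm_num) (Nat.pow_le_pow_right (by norm_num) (by omega : 3 ≤ a + 1 + 1 + 1))
    set w' : ↥Q := ⟨p₀, hp₀⟩
    -- the stabiliser of the orbit of `w` through `x₀`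
    let K₀ : Subgroup ↥Q :=
      { carrier := {g | (g : Perm (Fin n)) x₀ = x₀ ∨ (g : Perm (Fin n)) x₀ = w x₀ ∨
          (g : Perm (Fin n)) x₀ = w (w x₀)}
        one_mem' := Or.inl rfl
        mul_mem' := fun {g h} hg hh => by
          have e : ∀ y, ((g : Perm (Fin n))) (w y) = w ((g : Perm (Fin n)) y) := fun y => by
            rw [← Perm.mul_apply, hwQ g g.2, Perm.mul_apply]
          simp only [Set.mem_setOf_eq, Subgroup.coe_mul, Perm.mul_apply] at hg hh ⊢
          rcases hh with h1 | h1 | h1 <;> rcases hg with h2 | h2 | h2 <;>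
            simp [h1, h2, e, pow3 hw3]
        inv_mem' := fun {g} hg => by
          have e : ∀ y, ((g : Perm (Fin n))) (w y) = w ((g : Perm (Fin n)) y) := fun y => by
            rw [← Perm.mul_apply, hwQ g g.2, Perm.mul_apply]
          simp only [Set.mem_setOf_eq, Subgroup.coe_inv, Perm.inv_eq_iff_eq] at hg ⊢
          rcases hg with h2 | h2 | h2
          · exact Or.inl h2.symm
          · right; right; rw [e, e, h2, pow3 hw3]
          · right; left; rw [e, h2, pow3 hw3] }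
    have hK₀ : K₀ ≠ ⊤ := by
      intro h
      have hsub : Finset.univ ⊆ ({x₀, w x₀, w (w x₀)} : Finset (Fin n)) := by
        intro y _
        obtain ⟨g, hg, rfl⟩ := htr x₀ y
        have : (⟨g, hg⟩ : ↥Q) ∈ K₀ := h ▸ mem_top _
        simp only [Finset.mem_insert, Finset.mem_singleton]
        exact this
      have := (Finset.card_le_card hsub).trans Finset.card_le_three
      simp at this
      omega
    obtain ⟨R, hR, hKR⟩ := (eq_top_or_exists_le_coatom K₀).resolve_left hK₀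
    obtain ⟨hRn, hRi⟩ := Cfsg.Lib.PGroups.coatom_normal_index hQ hR
    set RR : Subgroup (Perm (Fin n)) := R.map Q.subtype
    set B : Finset (Fin n) := orb RR x₀ with hB
    have hRRQ : RR ≤ Q := map_subtype_le R
    have hconj : ∀ g ∈ Q, ∀ r ∈ RR, g * r * g⁻¹ ∈ RR := by
      rintro g hg _ ⟨r, hr, rfl⟩
      exact ⟨⟨g, hg⟩ * r * ⟨g, hg⟩⁻¹, hRn.conj_mem r hr _, rfl⟩
    have hmove : ∀ g ∈ Q, ∀ x y, y ∈ orb RR x → g y ∈ orb RR (g x) := by
      intro g hg x y hy
      obtain ⟨r, hr, rfl⟩ := mem_orb.mp hy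
      exact mem_orb.mpr ⟨g * r * g⁻¹, hconj g hg r hr, by simp⟩
    let St : Subgroup (Perm (Fin n)) :=
      { carrier := {g | ∀ x y, g y ∈ orb RR (g x) ↔ y ∈ orb RR x}
        one_mem' := fun x y => Iff.rfl
        mul_mem' := fun {g h} hg hh x y => (hg (h x) (h y)).trans (hh x y)
        inv_mem' := fun {g} hg x y => by
          have := hg ((g⁻¹ : Perm (Fin n)) x) ((g⁻¹ : Perm (Fin n)) y)
          simp only [Perm.coe_inv, Equiv.apply_symm_apply] at this ⊢
          exact this.symm }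
    have hQSt : Q ≤ St := fun g hg x y =>
      ⟨fun h => by simpa using hmove g⁻¹ (Q.inv_mem hg) _ _ h, hmove g hg x y⟩
    have hBne : ∃ y, y ∉ B := by
      by_contra hh
      push Not at hh
      apply hR.1
      refine eq_top_iff.mpr fun g _ => ?_
      obtain ⟨_, ⟨r, hr, rfl⟩, hrx⟩ := mem_orb.mp (hh ((g : Perm (Fin n)) x₀))
      have : r⁻¹ * g ∈ K₀ := by
        left
        simp only [Subgroup.coe_mul, Subgroup.coe_inv, Perm.mul_apply]
        rw [← hrx]; simp
      have := R.mul_mem hr (hKR this)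
      rwa [mul_inv_cancel_left] at this
    have hB9 : 9 ≤ B.card := by
      obtain ⟨g, hg⟩ : ∃ g : ↥Q, g ∉ R := by
        by_contra hh
        push Not at hh
        exact hR.1 (eq_top_iff.mpr fun g _ => hh g)
      have hsub : Finset.univ ⊆ B ∪ B.image (g : Perm (Fin n)) ∪
          B.image ((g : Perm (Fin n)) * (g : Perm (Fin n))) := by
        intro y _
        obtain ⟨k, hk, rfl⟩ := htr x₀ y
        haveI : Fact (Nat.card (↥Q ⧸ R)).Prime := ⟨by rw [← index_eq_card, hRi]; norm_num⟩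
        have hgen := zpowers_eq_top_of_prime_card (G := ↥Q ⧸ R) (p := Nat.card (↥Q ⧸ R)) rfl
          (g := QuotientGroup.mk g) (by rwa [ne_eq, QuotientGroup.eq_one_iff])
        have hmem : (QuotientGroup.mk ⟨k, hk⟩ : ↥Q ⧸ R) ∈ Submonoid.powers (QuotientGroup.mk g) := by
          rw [mem_powers_iff_mem_zpowers, hgen]; exact mem_top _
        obtain ⟨i, hi⟩ := hmem
        have hord : (QuotientGroup.mk g : ↥Q ⧸ R) ^ 3 = 1 := by
          have := pow_card_eq_one' (x := (QuotientGroup.mk g : ↥Q ⧸ R))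
          rwa [← index_eq_card, hRi] at this
        have hi' : (QuotientGroup.mk g : ↥Q ⧸ R) ^ (i % 3) = QuotientGroup.mk ⟨k, hk⟩ := by
          rw [← hi]; exact (pow_eq_pow_mod _ hord).symm
        rw [← QuotientGroup.mk_pow, QuotientGroup.eq] at hi'
        have hmemB : ((((g ^ (i % 3))⁻¹ * ⟨k, hk⟩ : ↥Q)) : Perm (Fin n)) x₀ ∈ B :=
          mem_orb.mpr ⟨_, ⟨_, hi', rfl⟩, rfl⟩
        have h3 : i % 3 = 0 ∨ i % 3 = 1 ∨ i % 3 = 2 := by omega
        simp only [Finset.mem_union, Finset.mem_image]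
        rcases h3 with e | e | e <;> rw [e] at hmemB
        · left; left; simpa using hmemB
        · left; right; exact ⟨_, hmemB, by simp⟩
        · right; exact ⟨_, hmemB, by simp [pow_two]⟩
      have := (Finset.card_le_card hsub).trans ((Finset.card_union_le _ _).trans
        (Nat.add_le_add_right (Finset.card_union_le _ _) _))
      rw [Finset.card_image_of_injective _ (Equiv.injective _),
        Finset.card_image_of_injective _ (Equiv.injective _), Finset.card_univ,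
        Fintype.card_fin] at this
      omega
    have hSt : ¬ alternatingGroup (Fin n) ≤ St := by
      intro hle
      obtain ⟨y, hy⟩ := hBne
      obtain ⟨b, hb, hbx⟩ := Finset.exists_mem_ne (by omega : 1 < B.card) x₀
      obtain ⟨e, he, hen⟩ := Finset.exists_mem_notMem_of_card_lt_card
        (s := ({x₀, b} : Finset (Fin n))) (t := B) (lt_of_le_of_lt Finset.card_le_two (by omega))
      simp only [Finset.mem_insert, Finset.mem_singleton, not_or] at hen
      have hyb : y ≠ b := fun h => hy (h ▸ hb)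
      have hye : y ≠ e := fun h => hy (h ▸ he)
      have hyx : y ≠ x₀ := fun h => hy (h ▸ self_mem_orb x₀)
      have hg : swap b y * swap b e ∈ alternatingGroup (Fin n) := by
        rw [Perm.mem_alternatingGroup, map_mul, Perm.sign_swap hyb.symm, Perm.sign_swap (Ne.symm hen.2)]
        rfl
      have := hle hg x₀ e
      rw [Perm.mul_apply, Perm.mul_apply, swap_apply_right, swap_apply_left,
        swap_apply_of_ne_of_ne hbx.symm (Ne.symm hen.1), swap_apply_of_ne_of_ne hbx.symm hyx.symm] at this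
      exact hy (this.mpr he)
    have hBM : altOn B ≤ M := by
      refine fun g hg => hM St hQSt hSt ⟨fun x y => ?_, altOn_le_alt _ hg⟩
      have key : ∀ z, orb RR (g z) = orb RR z := fun z => by
        by_cases hz : z ∈ B
        · rw [orb_eq hz, orb_eq (apply_mem hg hz)]
        · rw [hg.2 z hz]
      rw [key x]
      constructor
      · intro h
        rw [← orb_eq h, key y]
        exact self_mem_orb y
      · intro h
        rw [← orb_eq h, ← key y]
        exact self_mem_orb _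
    have hwB : ∀ x, w x ∈ B ↔ x ∈ B := by
      have hwR : w' ∈ R := hKR (Or.inr (Or.inl hp₀w))
      have h0 : w x₀ ∈ B := mem_orb.mpr ⟨p₀, ⟨w', hwR, rfl⟩, hp₀w⟩
      have hfwd : ∀ x ∈ B, w x ∈ B := by
        intro x hx
        obtain ⟨r, hr, rfl⟩ := mem_orb.mp hx
        rw [← Perm.mul_apply, ← hwQ r (hRRQ hr), Perm.mul_apply]
        exact (orb_inv hr x₀ (w x₀)).mpr h0
      intro x
      refine ⟨fun h => ?_, hfwd x⟩
      have := hfwd _ (hfwd _ h)
      rwa [pow3 hw3] at this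
    exact hMA (alt_le_of_centralizer (pow3 hw3) hwfix hwB hB9 hBM (hcentral w hw3 hwfix hwQ))
  push Not at hall
  obtain ⟨x₁, hx₁⟩ := hall
  by_cases hthree : ∃ x₂, x₂ ∉ orb Q x₀ ∧ x₂ ∉ orb Q x₁
  · -- at least three orbits
    exfalso
    obtain ⟨x₂, h20, h21⟩ := hthree
    have d01 := orb_disjoint hx₁
    have d02 := orb_disjoint h20
    have d12 := orb_disjoint h21
    have hsum : (orb Q x₀).card + (orb Q x₁).card + (orb Q x₂).card ≤ n := by
      rw [← Finset.card_union_of_disjoint d01,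
        ← Finset.card_union_of_disjoint (Finset.disjoint_union_left.mpr ⟨d02, d12⟩)]
      simpa using Finset.card_le_univ (orb Q x₀ ∪ orb Q x₁ ∪ orb Q x₂)
    have p0 := Finset.card_pos.mpr ⟨x₀, self_mem_orb (Q := Q) x₀⟩
    have p1 := Finset.card_pos.mpr ⟨x₁, self_mem_orb (Q := Q) x₁⟩
    have p2 := Finset.card_pos.mpr ⟨x₂, self_mem_orb (Q := Q) x₂⟩
    have key : ∀ a b c : Fin n, b ∉ orb Q a → c ∉ orb Q a → c ∉ orb Q b →
        3 ≤ (orb Q a)ᶜ.card → 3 ≤ (orb Q b)ᶜ.card → False := by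
      intro a b c hba hca hcb ha hb
      obtain ⟨hA, -⟩ := hset a c hca
      obtain ⟨hBc, -⟩ := hset b c hcb
      obtain ⟨C, hC0, hC, hmax⟩ := exists_maximal hA
      have hC3 : 3 ≤ C.card := le_trans ha (Finset.card_le_card hC0)
      have hsub := subset_of_maximal hC hC3 hBc hb (fun h => Finset.disjoint_left.mp h
        (Finset.mem_compl.mpr hcb) (hC0 (Finset.mem_compl.mpr hca))) hmax
      apply hMA
      have : C = Finset.univ := Finset.eq_univ_of_forall fun y => by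
        by_cases hy : y ∈ orb Q a
        · refine hsub (Finset.mem_compl.mpr fun h => ?_)
          exact Finset.disjoint_left.mp (orb_disjoint hba) hy h
        · exact hC0 (Finset.mem_compl.mpr hy)
      subst this
      exact alt_le_of_altOn_univ hC
    have hc : ∀ a : Fin n, (orb Q a)ᶜ.card = n - (orb Q a).card := fun a => by
      rw [Finset.card_compl, Fintype.card_fin]
    have h10 : x₀ ∉ orb Q x₁ := fun h => hx₁ (orb_eq h ▸ self_mem_orb x₁)
    have h02 : x₀ ∉ orb Q x₂ := fun h => h20 (orb_eq h ▸ self_mem_orb x₂)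
    have h12 : x₁ ∉ orb Q x₂ := fun h => h21 (orb_eq h ▸ self_mem_orb x₂)
    by_cases h0 : 3 ≤ n - (orb Q x₀).card
    · by_cases h1 : 3 ≤ n - (orb Q x₁).card
      · exact key x₀ x₁ x₂ hx₁ h20 h21 (by rw [hc]; exact h0) (by rw [hc]; exact h1)
      · exact key x₀ x₂ x₁ h20 hx₁ h12 (by rw [hc]; exact h0) (by rw [hc]; omega)
    · exact key x₁ x₂ x₀ h21 h10 h02 (by rw [hc]; omega) (by rw [hc]; omega)
  -- exactly two orbits
  push Not at hthree
  have hcover : ∀ y, y ∈ orb Q x₀ ∨ y ∈ orb Q x₁ := fun y => by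
    by_cases h : y ∈ orb Q x₀
    · exact Or.inl h
    · exact Or.inr (hthree y h)
  have hcard : (orb Q x₀).card + (orb Q x₁).card = n := by
    rw [← Finset.card_union_of_disjoint (orb_disjoint hx₁)]
    have : orb Q x₀ ∪ orb Q x₁ = Finset.univ :=
      Finset.eq_univ_of_forall fun y => Finset.mem_union.mpr (hcover y)
    rw [this, Finset.card_univ, Fintype.card_fin]
  obtain ⟨a, ha⟩ := card_orb hQ x₀
  obtain ⟨b, hb⟩ := card_orb hQ x₁
  rw [ha, hb] at hcard
  by_cases ha0 : a = 0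
  · right; right
    refine ⟨b, ?_, by rw [← hcard, ha0]; omega⟩
    rcases b with _ | _ | b <;> simp [ha0] at hcard <;> omega
  by_cases hb0 : b = 0
  · right; right
    refine ⟨a, ?_, by rw [← hcard, hb0]; omega⟩
    rcases a with _ | _ | a <;> simp [hb0] at hcard <;> omega
  by_cases h11 : a = 1 ∧ b = 1
  · left; rw [← hcard, h11.1, h11.2]; rfl
  exfalso
  have hbig : ∃ x, 9 ≤ (orb Q x).card ∧ ∃ y, y ∉ orb Q x := by
    by_cases h : 2 ≤ a
    · exact ⟨x₀, ha ▸ le_trans (by norm_num) (Nat.pow_le_pow_right (by norm_num) h), x₁, hx₁⟩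
    · refine ⟨x₁, hb ▸ le_trans (by norm_num) (Nat.pow_le_pow_right (by norm_num) (by omega : 2 ≤ b)),
        x₀, fun h => hx₁ (orb_eq h ▸ self_mem_orb x₁)⟩
  have hgt : ∀ x, 1 < (orb Q x).card := fun x => by
    rcases hcover x with h | h
    · rw [orb_eq h, ha]; exact Nat.one_lt_pow ha0 (by norm_num)
    · rw [orb_eq h, hb]; exact Nat.one_lt_pow hb0 (by norm_num)
  have htrO : ∀ c, ∀ x ∈ orb Q c, ∀ y ∈ orb Q c, ∃ g ∈ Q, g x = y := fun c x hx y hy => by
    rw [← orb_eq hx] at hy; exact mem_orb.mp hy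
  obtain ⟨u, hu3, huQ, huf, hu', hug⟩ := exists_central hQ (O := orb Q x₀)
    (fun g hg x => orb_inv hg x₀ x) (htrO x₀) (hgt x₀)
  obtain ⟨v, hv3, hvQ, hvf, hv', hvg⟩ := exists_central hQ (O := orb Q x₁)
    (fun g hg x => orb_inv hg x₁ x) (htrO x₁) (hgt x₁)
  have hdis : ∀ y, y ∈ orb Q x₀ → y ∉ orb Q x₁ := fun y h =>
    Finset.disjoint_left.mp (orb_disjoint hx₁) h
  have huv : Perm.Disjoint u v := fun x => by
    by_cases hx : x ∈ orb Q x₀
    · exact Or.inr (hv' x (hdis x hx))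
    · exact Or.inl (hu' x hx)
  set z := u * v with hz
  have hz3 : z ^ 3 = 1 := by rw [hz, huv.commute.mul_pow, hu3, hv3, mul_one]
  have hzQ : ∀ g ∈ Q, g * z = z * g := fun g hg => by
    rw [hz, ← mul_assoc, huQ g hg, mul_assoc, hvQ g hg, mul_assoc]
  have hzval : ∀ x, (z x ≠ x) ∧ ∃ g ∈ Q, g x = z x := by
    intro x
    rcases hcover x with hx | hx
    · have : z x = u x := by rw [hz, Perm.mul_apply, hv' x (hdis x hx)]
      rw [this]; exact ⟨huf x hx, hug x hx⟩
    · have h1 : v x ∈ orb Q x₁ := by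
        obtain ⟨g, hg, e⟩ := hvg x hx
        rw [← e]; exact (orb_inv hg x₁ x).mpr hx
      have : z x = v x := by
        rw [hz, Perm.mul_apply, hu' _ (fun h => hdis _ h h1)]
      rw [this]; exact ⟨hvf x hx, hvg x hx⟩
  obtain ⟨x, hx9, y, hy⟩ := hbig
  refine hMA (alt_le_of_centralizer (pow3 hz3) (fun x => (hzval x).1) ?_ hx9 (hset x y hy).2
    (hcentral z hz3 (fun x => (hzval x).1) hzQ))
  intro w
  obtain ⟨g, hg, e⟩ := (hzval w).2
  rw [← e]; exact orb_inv hg x w

end Cfsg.Lib.Components.AltPMinimal
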