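import Cfsg.Prelude.Def_Local
import Cfsg.Prelude.Def_CaseTheorems
import Mathlib

/-! The point stabiliser of four points in an alternating group is standard. -/

set_option autoImplicit false
set_option linter.style.haveILetI false

open Subgroup Equiv

namespace Cfsg.Lib.AltStandard

variable {n : ℕ}

def PK (n : ℕ) : Subgroup (alternatingGroup (Fin n)) where
  carrier := {g | ∀ a : Fin n, a.val < 4 → (g : Perm (Fin n)) a = a}
  one_mem' := fun a _ => rfl
  mul_mem' := fun {x y} hx hy a ha => by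
    show (x : Perm (Fin n)) ((y : Perm (Fin n)) a) = a
    rw [hy a ha, hx a ha]
  inv_mem' := fun {x} hx a ha => by
    show (x : Perm (Fin n))⁻¹ a = a
    rw [Perm.inv_eq_iff_eq, hx a ha]

theorem iInf_eq (h4 : 4 ≤ n) :
    (⨅ i : Fin 4, MulAction.stabilizer ↥(alternatingGroup (Fin n)) (Fin.castLE h4 i : Fin n)) = PK n := by
  ext g
  rw [Subgroup.mem_iInf]
  exact ⟨fun h a ha => h ⟨a, ha⟩, fun h i => h (Fin.castLE h4 i) i.2⟩

/-- `g` preserves the last `n - 4` points. -/
def Pres (g : Perm (Fin n)) : Prop := ∀ b : Fin n, 4 ≤ b.val → 4 ≤ (g b).val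

theorem pres_inv {g : Perm (Fin n)} (h : Pres g) : Pres g⁻¹ := by
  classical
  intro b hb
  set s := (Finset.univ : Finset (Fin n)).filter (fun a => 4 ≤ a.val)
  have heq : s.image g = s := Finset.eq_of_subset_of_card_le
    (fun x hx => by
      obtain ⟨a, ha, rfl⟩ := Finset.mem_image.1 hx
      exact Finset.mem_filter.2 ⟨Finset.mem_univ _, h a (Finset.mem_filter.1 ha).2⟩)
    (le_of_eq (Finset.card_image_of_injective s g.injective).symm)
  obtain ⟨a, ha, e⟩ := Finset.mem_image.1 (heq.symm ▸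
    Finset.mem_filter.2 ⟨Finset.mem_univ b, hb⟩ : b ∈ s.image g)
  rw [← e]
  simpa using (Finset.mem_filter.1 ha).2

theorem threeCycle_mem {a b c : Fin n} (hab : a ≠ b) (hbc : b ≠ c)
    (ha : 4 ≤ a.val) (hb : 4 ≤ b.val) (hc : 4 ≤ c.val) :
    ∃ τ ∈ PK n, (τ : Perm (Fin n)) = swap a b * swap b c := by
  refine ⟨⟨swap a b * swap b c, ?_⟩, fun i hi => ?_, rfl⟩
  · rw [Perm.mem_alternatingGroup, map_mul, Perm.sign_swap hab, Perm.sign_swap hbc]
    rfl
  · show swap a b (swap b c i) = i
    have h1 : ∀ d : Fin n, 4 ≤ d.val → i ≠ d := fun d hd h => by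
      have := congrArg Fin.val h; omega
    rw [swap_apply_of_ne_of_ne (h1 b hb) (h1 c hc), swap_apply_of_ne_of_ne (h1 a ha) (h1 b hb)]

theorem mem_centralizer_iff' (hn : 9 ≤ n) {g : alternatingGroup (Fin n)} :
    g ∈ centralizer (PK n : Set (alternatingGroup (Fin n))) ↔
      ∀ b : Fin n, 4 ≤ b.val → (g : Perm (Fin n)) b = b := by
  constructor
  · intro hg a ha
    set σ : Perm (Fin n) := (g : Perm (Fin n))
    have key : ∀ b c : Fin n, 4 ≤ b.val → 4 ≤ c.val → a ≠ b → b ≠ c → a ≠ c →
        σ a = a ∨ σ a = b ∨ σ a = c := by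
      intro b c hb hc hab hbc hac
      by_contra hne
      push Not at hne
      obtain ⟨τ, hτ, hτv⟩ := threeCycle_mem hab hbc ha hb hc
      have hcomm : (τ : Perm (Fin n)) * σ = σ * τ :=
        congrArg Subtype.val (Subgroup.mem_centralizer_iff.1 hg τ hτ)
      have h1 := congrArg (fun f : Perm (Fin n) => f a) hcomm
      simp only [Perm.mul_apply, hτv] at h1
      rw [swap_apply_of_ne_of_ne hne.2.1 hne.2.2, swap_apply_of_ne_of_ne hne.1 hne.2.1,
        swap_apply_of_ne_of_ne hab hac, swap_apply_left] at h1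
      exact hab (σ.injective h1)
    obtain ⟨k, l, i, j, hs⟩ : ∃ k l i j : Fin n, 4 ≤ k.val ∧ 4 ≤ l.val ∧ 4 ≤ i.val ∧ 4 ≤ j.val ∧
        a.val ≠ k.val ∧ a.val ≠ l.val ∧ a.val ≠ i.val ∧ a.val ≠ j.val ∧
        k.val ≠ l.val ∧ k.val ≠ i.val ∧ k.val ≠ j.val ∧ l.val ≠ i.val ∧ l.val ≠ j.val ∧ i.val ≠ j.val := by
      refine ⟨⟨if a.val ≤ 4 then 5 else 4, by split_ifs <;> omega⟩,
        ⟨if a.val ≤ 5 then 6 else 5, by split_ifs <;> omega⟩,
        ⟨if a.val ≤ 6 then 7 else 6, by split_ifs <;> omega⟩,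
        ⟨if a.val ≤ 7 then 8 else 7, by split_ifs <;> omega⟩, ?_⟩
      dsimp only
      split_ifs <;> omega
    obtain ⟨hk, hl, hi, hj, h1, h2, h3, h4, h5, h6, h7, h8, h9, h10⟩ := hs
    rcases key k l hk hl (fun h => h1 (congrArg _ h)) (fun h => h5 (congrArg _ h))
      (fun h => h2 (congrArg _ h)) with h | h | h
    · exact h
    all_goals
      rcases key i j hi hj (fun h => h3 (congrArg _ h)) (fun h => h10 (congrArg _ h))
        (fun h => h4 (congrArg _ h)) with h' | h' | h'
      · exact h'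
      all_goals
        have := congrArg Fin.val (h.symm.trans h')
        omega
  · intro hg
    rw [Subgroup.mem_centralizer_iff]
    intro τ hτ
    apply Subtype.ext
    ext a : 1
    show (τ : Perm (Fin n)) ((g : Perm (Fin n)) a) = (g : Perm (Fin n)) ((τ : Perm (Fin n)) a)
    rcases Nat.lt_or_ge a.val 4 with ha | ha
    · rw [hτ a ha]
      refine hτ _ ?_
      by_contra hge
      have h1 := hg _ (not_lt.1 hge)
      rw [(g : Perm (Fin n)).injective h1] at hge
      omega
    · rw [hg a ha]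
      symm
      refine hg _ ?_
      by_contra hlt
      have h1 := hτ _ (not_le.1 hlt)
      rw [(τ : Perm (Fin n)).injective h1] at hlt
      omega

theorem mem_normalizer_of_pres {g : alternatingGroup (Fin n)} (hg : Pres (g : Perm (Fin n))) :
    g ∈ normalizer (PK n : Set (alternatingGroup (Fin n))) := by
  have main : ∀ h : alternatingGroup (Fin n), Pres (h : Perm (Fin n)) → ∀ x ∈ PK n,
      h * x * h⁻¹ ∈ PK n := by
    intro h hh x hx a ha
    show (h : Perm (Fin n)) ((x : Perm (Fin n)) ((h : Perm (Fin n))⁻¹ a)) = a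
    rw [hx _ ?_]
    · simp
    · by_contra hge
      have := hh _ (not_lt.1 hge)
      simp at this
      omega
  rw [Subgroup.mem_normalizer_iff]
  intro x
  refine ⟨main g hg x, fun hx => ?_⟩
  have := main g⁻¹ (pres_inv hg) _ hx
  simpa [mul_assoc] using this

theorem exists_four_move (h4 : 4 ≤ n) :
    ∃ y : alternatingGroup (Fin n), orderOf y = 2 ∧
      (∀ b : Fin n, 4 ≤ b.val → (y : Perm (Fin n)) b = b) ∧
      ∀ a : Fin n, a.val < 4 → (y : Perm (Fin n)) a ≠ a := by
  set p : Fin 4 → Fin n := Fin.castLE h4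
  have hp : ∀ i j : Fin 4, i ≠ j → p i ≠ p j := fun i j h e => h (Fin.castLE_injective h4 e)
  set σ : Perm (Fin n) := swap (p 0) (p 1) * swap (p 2) (p 3) with hσ
  have e0 : σ (p 0) = p 1 := by
    rw [hσ, Perm.mul_apply, swap_apply_of_ne_of_ne (hp 0 2 (by decide)) (hp 0 3 (by decide)),
      swap_apply_left]
  have e1 : σ (p 1) = p 0 := by
    rw [hσ, Perm.mul_apply, swap_apply_of_ne_of_ne (hp 1 2 (by decide)) (hp 1 3 (by decide)),
      swap_apply_right]
  have e2 : σ (p 2) = p 3 := by
    rw [hσ, Perm.mul_apply, swap_apply_left,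
      swap_apply_of_ne_of_ne (hp 3 0 (by decide)) (hp 3 1 (by decide))]
  have e3 : σ (p 3) = p 2 := by
    rw [hσ, Perm.mul_apply, swap_apply_right,
      swap_apply_of_ne_of_ne (hp 2 0 (by decide)) (hp 2 1 (by decide))]
  have hfix : ∀ b : Fin n, 4 ≤ b.val → σ b = b := by
    intro b hb
    have h1 : ∀ i : Fin 4, b ≠ p i := fun i h => by
      have := congrArg Fin.val h; simp [p] at this; omega
    rw [hσ, Perm.mul_apply, swap_apply_of_ne_of_ne (h1 2) (h1 3), swap_apply_of_ne_of_ne (h1 0) (h1 1)]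
  have hmove : ∀ a : Fin n, a.val < 4 → σ a ≠ a ∧ σ (σ a) = a := by
    intro a ha
    obtain ⟨i, rfl⟩ : ∃ i : Fin 4, p i = a := ⟨⟨a, ha⟩, rfl⟩
    fin_cases i
    · show σ (p 0) ≠ p 0 ∧ σ (σ (p 0)) = p 0
      rw [e0, e1]; exact ⟨hp 1 0 (by decide), rfl⟩
    · show σ (p 1) ≠ p 1 ∧ σ (σ (p 1)) = p 1
      rw [e1, e0]; exact ⟨hp 0 1 (by decide), rfl⟩
    · show σ (p 2) ≠ p 2 ∧ σ (σ (p 2)) = p 2
      rw [e2, e3]; exact ⟨hp 3 2 (by decide), rfl⟩
    · show σ (p 3) ≠ p 3 ∧ σ (σ (p 3)) = p 3
      rw [e3, e2]; exact ⟨hp 2 3 (by decide), rfl⟩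
  refine ⟨⟨σ, by
    rw [Perm.mem_alternatingGroup, hσ, map_mul, Perm.sign_swap (hp 0 1 (by decide)),
      Perm.sign_swap (hp 2 3 (by decide))]
    rfl⟩, orderOf_eq_prime (Subtype.ext ?_) ?_, hfix, fun a ha => (hmove a ha).1⟩
  · show σ ^ 2 = 1
    ext a : 1
    rw [sq, Perm.mul_apply, Perm.one_apply]
    rcases Nat.lt_or_ge a.val 4 with ha | ha
    · exact (hmove a ha).2
    · rw [hfix a ha, hfix a ha]
  · intro h
    exact (hmove (p 0) (by simp [p])).1 (by rw [show σ = 1 from congrArg Subtype.val h]; rfl)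

theorem pres_of_normalizer_centralizer (hn : 9 ≤ n) {g : alternatingGroup (Fin n)}
    (hg : g ∈ normalizer (centralizer (PK n : Set (alternatingGroup (Fin n))) : Set (alternatingGroup (Fin n)))) :
    Pres (g : Perm (Fin n)) := by
  intro b hb
  by_contra hlt
  obtain ⟨y, -, hyfix, hymove⟩ := exists_four_move (n := n) (by omega)
  have h := (Subgroup.mem_normalizer_iff.1 (inv_mem hg) y).1 ((mem_centralizer_iff' hn).2 hyfix)
  have h2 : (g : Perm (Fin n))⁻¹ ((y : Perm (Fin n)) ((g : Perm (Fin n))⁻¹⁻¹ b)) = b :=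
    (mem_centralizer_iff' hn).1 h b hb
  rw [inv_inv, Perm.inv_eq_iff_eq] at h2
  exact hymove _ (not_le.1 hlt) h2

noncomputable def emb (n : ℕ) :
    alternatingGroup {a : Fin n // 4 ≤ a.val} →* alternatingGroup (Fin n) :=
  (Perm.ofSubtype.comp (alternatingGroup {a : Fin n // 4 ≤ a.val}).subtype).codRestrict _ fun x => by
    rw [Perm.mem_alternatingGroup, MonoidHom.comp_apply, Perm.sign_ofSubtype]
    exact Perm.mem_alternatingGroup.1 x.2

theorem emb_range : (emb n).range = PK n := by
  ext g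
  constructor
  · rintro ⟨x, rfl⟩ a ha
    exact Perm.ofSubtype_apply_of_not_mem _ (by omega)
  · intro hg
    have hp : ∀ a, 4 ≤ ((g : Perm (Fin n)) a).val ↔ 4 ≤ a.val := by
      intro a
      constructor
      · intro h
        by_contra hlt
        rw [hg a (not_le.1 hlt)] at h
        exact hlt h
      · intro h
        by_contra hlt
        have := hg _ (not_le.1 hlt)
        rw [(g : Perm (Fin n)).injective this] at hlt
        exact hlt h
    have hof : Perm.ofSubtype ((g : Perm (Fin n)).subtypePerm hp) = (g : Perm (Fin n)) :=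
      Perm.ofSubtype_subtypePerm hp fun a ha => by
        by_contra hlt
        exact ha (hg a (not_le.1 hlt))
    refine ⟨⟨(g : Perm (Fin n)).subtypePerm hp, ?_⟩, Subtype.ext hof⟩
    rw [Perm.mem_alternatingGroup, ← Perm.sign_ofSubtype, hof]
    exact Perm.mem_alternatingGroup.1 g.2

theorem main (hn : 9 ≤ n) : Cfsg.IsStandardSubgroup (PK n) := by
  classical
  set A := {a : Fin n // 4 ≤ a.val}
  have hcardA : 5 ≤ Fintype.card A := by
    refine le_of_le_of_eq ?_ (Fintype.card_congr (Equiv.refl A))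
    have := Fintype.card_le_of_injective (fun i : Fin 5 => (⟨⟨4 + i.val, by omega⟩, by simp⟩ : A))
      (fun i j h => by
        have := congrArg (fun x : A => x.1.val) h
        exact Fin.ext (by simpa using this))
    simpa using this
  haveI hs : IsSimpleGroup (alternatingGroup A) :=
    alternatingGroup.isSimpleGroup (by rw [Nat.card_eq_fintype_card]; exact hcardA)
  have hinj : Function.Injective (emb n) := fun x y h =>
    Subtype.ext (Perm.ofSubtype_injective (congrArg Subtype.val h))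
  let e : alternatingGroup A ≃* PK n := (MonoidHom.ofInjective hinj).trans (MulEquiv.subgroupCongr emb_range)
  haveI hsK : IsSimpleGroup (PK n) := e.symm.isSimpleGroup
  have hnc : ¬ ∀ x y : PK n, x * y = y * x := by
    intro h
    have hcen : Subgroup.center (alternatingGroup A) = ⊤ := by
      rw [eq_top_iff]
      intro x _
      rw [Subgroup.mem_center_iff]
      intro y
      exact e.injective (by rw [map_mul, map_mul]; exact h _ _)
    rw [alternatingGroup.center_eq_bot (by rw [Nat.card_eq_fintype_card]; omega)] at hcen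
    exact bot_ne_top hcen
  have hZ : Subgroup.center (PK n) = ⊥ := by
    rcases (inferInstance : (Subgroup.center (PK n)).Normal).eq_bot_or_eq_top with h | h
    · exact h
    · exact absurd (fun x y => Subgroup.mem_center_iff.1 (h ▸ Subgroup.mem_top y) x) hnc
  have hperf : ⁅(⊤ : Subgroup (PK n)), (⊤ : Subgroup (PK n))⁆ = ⊤ := by
    rcases (inferInstance : (⁅(⊤ : Subgroup (PK n)), (⊤ : Subgroup (PK n))⁆).Normal).eq_bot_or_eq_top with h | h
    · exact absurd (fun x y => Subgroup.mem_centralizer_iff.1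
        (Subgroup.commutator_eq_bot_iff_le_centralizer.1 h (Subgroup.mem_top y)) x (Subgroup.mem_top x)) hnc
    · exact h
  refine ⟨⟨⟨?_⟩, ?_⟩, ⟨?_, fun g hg => ?_⟩, fun g hne hcomm => ?_, ?_⟩
  · exact hperf
  · exact ((QuotientGroup.quotientMulEquivOfEq hZ).trans (QuotientGroup.quotientBot)).isSimpleGroup
  · obtain ⟨y, hy2, hyfix, -⟩ := exists_four_move (n := n) (by omega)
    rw [even_iff_two_dvd, ← hy2]
    exact Subgroup.orderOf_dvd_natCard _ ((mem_centralizer_iff' hn).2 hyfix)
  · rw [← Nat.not_even_iff_odd, even_iff_two_dvd]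
    intro hd
    haveI : Fact (Nat.Prime 2) := ⟨Nat.prime_two⟩
    obtain ⟨⟨x, hx⟩, hx2⟩ := exists_prime_orderOf_dvd_card' 2 hd
    rw [Subgroup.orderOf_mk] at hx2
    obtain ⟨hxC, z, hzC, hzx⟩ := Subgroup.mem_inf.1 hx
    have hnp : ¬ Pres (g : Perm (Fin n)) := fun h => hg
      ((Subgroup.mem_normalizer_iff.2 fun w => by
        have hN := mem_normalizer_of_pres h
        rw [mem_centralizer_iff' hn, mem_centralizer_iff' hn]
        constructor
        · intro hw b hb
          show (g : Perm (Fin n)) ((w : Perm (Fin n)) ((g : Perm (Fin n))⁻¹ b)) = b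
          rw [hw _ (pres_inv h b hb)]
          simp
        · intro hw b hb
          have := hw _ (h b hb)
          change (g : Perm (Fin n)) ((w : Perm (Fin n)) ((g : Perm (Fin n))⁻¹ ((g : Perm (Fin n)) b))) = _ at this
          simpa using this))
    unfold Pres at hnp
    push Not at hnp
    obtain ⟨b, hb, hgb⟩ := hnp
    have hxfix := (mem_centralizer_iff' hn).1 hxC
    have hxb : (x : Perm (Fin n)) ((g : Perm (Fin n)) b) = (g : Perm (Fin n)) b := by
      rw [← hzx]
      show (g : Perm (Fin n)) ((z : Perm (Fin n)) ((g : Perm (Fin n))⁻¹ ((g : Perm (Fin n)) b))) = _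
      rw [Perm.inv_eq_iff_eq.2 rfl, (mem_centralizer_iff' hn).1 hzC b hb]
    set σ : Perm (Fin n) := (x : Perm (Fin n))
    have hσ2 : orderOf σ = 2 := by rw [show σ = ((x : alternatingGroup (Fin n)) : Perm (Fin n)) from rfl,
      Subgroup.orderOf_coe, hx2]
    let p : Fin 4 → Fin n := Fin.castLE (by omega)
    have hsub : σ.support ⊆ (Finset.univ.image p).erase ((g : Perm (Fin n)) b) := by
      intro a ha
      rw [Perm.mem_support] at ha
      have ha4 : a.val < 4 := by
        by_contra hge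
        exact ha (hxfix a (not_lt.1 hge))
      exact Finset.mem_erase.2 ⟨fun h => ha (h ▸ hxb), Finset.mem_image.2 ⟨⟨a, ha4⟩, Finset.mem_univ _, rfl⟩⟩
    have hle : σ.support.card ≤ 3 := by
      have h1 := Finset.card_le_card hsub
      rw [Finset.card_erase_of_mem (show (g : Perm (Fin n)) b ∈ Finset.univ.image p from
        Finset.mem_image.2 ⟨⟨_, hgb⟩, Finset.mem_univ _, rfl⟩),
        Finset.card_image_of_injective _ (Fin.castLE_injective _), Finset.card_univ, Fintype.card_fin] at h1
      omega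
    have hsgn : Perm.sign σ = 1 := Perm.mem_alternatingGroup.1 (x : alternatingGroup (Fin n)).2
    rcases Nat.lt_or_ge σ.support.card 2 with h | h
    · rw [(Perm.card_support_le_one (f := σ)).1 (by omega)] at hσ2
      simp at hσ2
    rcases Nat.lt_or_ge σ.support.card 3 with h' | h'
    · rw [(Perm.card_support_eq_two.1 (by omega)).sign_eq] at hsgn
      exact absurd hsgn (by decide)
    · rw [(card_support_eq_three_iff.1 (by omega : σ.support.card = 3)).orderOf] at hσ2
      omega
  · -- two conjugates never commute elementwise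
    have hle : (PK n).map (MulAut.conj g).toMonoidHom ≤ centralizer (PK n : Set (alternatingGroup (Fin n))) := by
      rw [Subgroup.commutator_comm] at hcomm
      exact Subgroup.commutator_eq_bot_iff_le_centralizer.1 hcomm
    obtain ⟨τ, hτ, hτv⟩ := threeCycle_mem (n := n) (a := ⟨4, by omega⟩) (b := ⟨5, by omega⟩)
      (c := ⟨6, by omega⟩) (by simp) (by simp) le_rfl (by simp) (by simp)
    have hmap : ∀ x ∈ PK n, ∀ b : Fin n, 4 ≤ b.val →
        (g : Perm (Fin n)) ((x : Perm (Fin n)) ((g : Perm (Fin n))⁻¹ b)) = b :=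
      fun x hx b hb => (mem_centralizer_iff' hn).1 (hle ⟨x, hx, rfl⟩) b hb
    -- every point above three is moved back inside `{0,1,2,3}`
    have hall : ∀ b : Fin n, 4 ≤ b.val → ((g : Perm (Fin n))⁻¹ b).val < 4 := by
      intro b hb
      by_contra hge
      set a := (g : Perm (Fin n))⁻¹ b
      obtain ⟨k, hk, hka⟩ : ∃ k : Fin n, 4 ≤ k.val ∧ a ≠ k := by
        by_cases h4 : a.val = 4
        · exact ⟨⟨5, by omega⟩, by simp, fun h => by simp [h] at h4⟩
        · exact ⟨⟨4, by omega⟩, le_rfl, fun h => h4 (congrArg Fin.val h)⟩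
      obtain ⟨l, hl, hla, hlk⟩ : ∃ l : Fin n, 4 ≤ l.val ∧ a ≠ l ∧ k ≠ l := by
        by_contra hno
        push Not at hno
        have h6 := hno ⟨6, by omega⟩ (by simp)
        have h7 := hno ⟨7, by omega⟩ (by simp)
        have h8 := hno ⟨8, by omega⟩ (by simp)
        by_cases e6 : a = ⟨6, by omega⟩
        · have a7 : a ≠ ⟨7, by omega⟩ := by rw [e6]; simp
          have a8 : a ≠ ⟨8, by omega⟩ := by rw [e6]; simp
          exact absurd ((h7 a7).symm.trans (h8 a8)) (by simp)
        · by_cases e7 : a = ⟨7, by omega⟩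
          · have a8 : a ≠ ⟨8, by omega⟩ := by rw [e7]; simp
            exact absurd ((h6 e6).symm.trans (h8 a8)) (by simp)
          · exact absurd ((h6 e6).symm.trans (h7 e7)) (by simp)
      obtain ⟨τ', hτ', hv⟩ := threeCycle_mem hka hlk (not_lt.1 hge) hk hl
      have h1 := hmap τ' hτ' b hb
      rw [hv, Perm.mul_apply, swap_apply_of_ne_of_ne hka hla, swap_apply_left] at h1
      apply hka
      rw [show a = (g : Perm (Fin n))⁻¹ b from rfl, Perm.inv_eq_iff_eq, h1]
    have hc := Fintype.card_le_of_injective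
      (fun i : Fin 5 => (⟨((g : Perm (Fin n))⁻¹ ⟨4 + i.val, by omega⟩).val, hall _ (by simp)⟩ : Fin 4))
      (fun i j h => by
        simp only [Fin.mk.injEq] at h
        have := (g : Perm (Fin n))⁻¹.injective (Fin.ext h)
        exact Fin.ext (by simpa using congrArg Fin.val this))
    simp at hc
  · refine le_antisymm (fun g hg => ?_) (fun g hg => mem_normalizer_of_pres (pres_of_normalizer_centralizer hn hg))
    have main : ∀ h ∈ normalizer (PK n : Set (alternatingGroup (Fin n))),
        ∀ w ∈ centralizer (PK n : Set (alternatingGroup (Fin n))),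
        h * w * h⁻¹ ∈ centralizer (PK n : Set (alternatingGroup (Fin n))) := by
      intro h hh w hw
      rw [Subgroup.mem_centralizer_iff]
      intro x hx
      have h1 := Subgroup.mem_centralizer_iff.1 hw _ ((Subgroup.mem_normalizer_iff.1 (inv_mem hh) x).1 hx)
      calc x * (h * w * h⁻¹) = h * ((h⁻¹ * x * h⁻¹⁻¹) * w) * h⁻¹ := by group
        _ = h * (w * (h⁻¹ * x * h⁻¹⁻¹)) * h⁻¹ := by rw [h1]
        _ = h * w * h⁻¹ * x := by group
    rw [Subgroup.mem_normalizer_iff]
    intro w
    exact ⟨main g hg w, fun hw => by simpa [mul_assoc] using main g⁻¹ (inv_mem hg) _ hw⟩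

end Cfsg.Lib.AltStandard
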