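import Cfsg.Agent.Components.Misc.BenderPair
import Cfsg.Agent.Components.PxQ
import Cfsg.Prelude.Def_EvenTechniques

/-!
Bender's relation `M ↝ N` between maximal subgroups of a simple group.
-/

set_option autoImplicit false
set_option linter.unusedSectionVars false

namespace Cfsg.Lib.Misc.BenderLeads

open Subgroup Cfsg.Lib.Components Cfsg.Lib.Misc.BenderPair
open scoped commutatorElement

universe u

variable {G : Type u} [Group G] [Finite G]

/-- the centre of the core -/
abbrev zr (r : ℕ) (M : Subgroup G) : Subgroup G := cr r M ⊓ centralizer (cr r M : Set G)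

/-- the layer of `M` as a subgroup of `G` -/
abbrev lr (M : Subgroup G) : Subgroup G := (layer M).map M.subtype

theorem mem_of_primary {C : Subgroup G} (x : G)
    (h : ∀ s : ℕ, s.Prime → ∀ y ∈ zpowers x, IsPGroup s (zpowers y) → y ∈ C) : x ∈ C := by
  have key : (C.subgroupOf (zpowers x)).index = 1 := by
    by_contra hne
    obtain ⟨s, hs, hdvd⟩ := Nat.exists_prime_and_dvd hne
    haveI := Fact.mk hs
    obtain ⟨P⟩ := (inferInstance : Nonempty (Sylow s ↥(zpowers x)))
    refine P.not_dvd_index (hdvd.trans (Subgroup.index_dvd_of_le fun y hy => ?_))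
    refine h s hs y y.2 ?_
    have : zpowers (y : G) ≤ (P : Subgroup ↥(zpowers x)).map (zpowers x).subtype :=
      zpowers_le.mpr ⟨y, hy, rfl⟩
    exact (P.isPGroup'.map _).to_le this
  exact (subgroupOf_eq_top.mp (index_eq_one.mp key)) (mem_zpowers x)

theorem subgroupOf_isPGroup {s : ℕ} {H M : Subgroup G} (h : IsPGroup s H) : IsPGroup s (H.subgroupOf M) :=
  h.comap_of_injective _ M.subtype_injective

theorem le_cr_of_le_fitting {s : ℕ} {M H : Subgroup G} (h : H ≤ (fittingSubgroup M).map M.subtype)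
    (hH : IsPGroup s H) : H ≤ cr s M := by
  have hM : H ≤ M := h.trans (map_subtype_le _)
  have h1 : H.subgroupOf M ≤ fittingSubgroup M := fun y hy => by
    obtain ⟨z, hz, e⟩ := h (mem_subgroupOf.mp hy)
    rwa [show y = z from Subtype.ext e.symm]
  have h2 := map_mono (f := M.subtype) (le_pCore_of_le_fitting h1 (subgroupOf_isPGroup hH))
  rwa [map_subgroupOf_eq_of_le hM] at h2

theorem cr_le_fitting {r : ℕ} (hr : r.Prime) (M : Subgroup G) :
    cr r M ≤ (fittingSubgroup M).map M.subtype := by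
  haveI := Fact.mk hr
  exact map_mono (le_fitting (isPGroup_pCore r).isNilpotent)

theorem cr_le_genFitting {r : ℕ} (hr : r.Prime) (M : Subgroup G) :
    cr r M ≤ (generalizedFittingSubgroup M).map M.subtype :=
  (cr_le_fitting hr M).trans (map_mono fitting_le_genFitting)

theorem cr_comm {r s : ℕ} [Fact r.Prime] [Fact s.Prime] (hrs : r ≠ s) (M : Subgroup G) :
    cr r M ≤ centralizer (cr s M : Set G) :=
  commutator_eq_bot_iff_le_centralizer.mp (cr_commute hrs (cr_le r M) (cr_le s M))

theorem fitting_le_of_cr (M C : Subgroup G) (h : ∀ r : ℕ, r.Prime → cr r M ≤ C) :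
    (fittingSubgroup M).map M.subtype ≤ C := by
  rw [map_le_iff_le_comap, fitting_eq_iSup_pCore]
  exact iSup_le fun r => map_le_iff_le_comap.mp (h r.1 r.2)

theorem normalizer_le_normalizer_cent (P : Subgroup G) :
    normalizer (P : Set G) ≤ normalizer (centralizer (P : Set G) : Set G) := by
  have key : ∀ g : G, g ∈ normalizer (P : Set G) → ∀ c ∈ centralizer (P : Set G),
      g * c * g⁻¹ ∈ centralizer (P : Set G) := fun g hg c hc x hx => by
    have hx' : g⁻¹ * x * g ∈ P := (mem_normalizer_iff.mp hg _).mpr (by simpa [mul_assoc] using hx)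
    have h := hc _ hx'
    calc x * (g * c * g⁻¹) = g * ((g⁻¹ * x * g) * c) * g⁻¹ := by group
      _ = g * (c * (g⁻¹ * x * g)) * g⁻¹ := by rw [h]
      _ = g * c * g⁻¹ * x := by group
  intro g hg
  rw [mem_normalizer_iff]
  refine fun c => ⟨key g hg c, fun hc => ?_⟩
  have := key g⁻¹ (inv_mem hg) _ hc
  simpa [mul_assoc] using this

theorem zr_le (r : ℕ) (M : Subgroup G) : zr r M ≤ M := inf_le_left.trans (cr_le r M)

theorem zr_normalizer (r : ℕ) (M : Subgroup G) : M ≤ normalizer (zr r M : Set G) := fun g hg =>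
  inf_normalizer_le_normalizer_inf
    ⟨cr_normalizer r M hg, normalizer_le_normalizer_cent _ (cr_normalizer r M hg)⟩

theorem zr_ne_bot {r : ℕ} [Fact r.Prime] {M : Subgroup G} (h : cr r M ≠ ⊥) : zr r M ≠ ⊥ := by
  haveI : Nontrivial ↥(cr r M) := (Subgroup.nontrivial_iff_ne_bot _).mpr h
  haveI := (isPGroup_cr (p := r) M).center_nontrivial
  obtain ⟨z, hz⟩ := exists_ne (1 : center ↥(cr r M))
  intro hb
  have hmem : ((z : ↥(cr r M)) : G) ∈ zr r M :=
    ⟨z.1.2, fun x hx => congrArg Subtype.val (mem_center_iff.mp z.2 ⟨x, hx⟩)⟩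
  rw [hb, mem_bot] at hmem
  exact hz (Subtype.ext (Subtype.ext hmem))

theorem zr_le_cent_fitting {r : ℕ} [Fact r.Prime] (M : Subgroup G) :
    zr r M ≤ centralizer ((fittingSubgroup M).map M.subtype : Set G) := by
  rw [le_centralizer_iff]
  refine fitting_le_of_cr M _ fun s hs => ?_
  haveI := Fact.mk hs
  by_cases h : s = r
  · subst h
    exact le_centralizer_iff.mp inf_le_right
  · exact (cr_comm h M).trans (centralizer_le inf_le_left)

theorem lr_le_cent_fitting (M : Subgroup G) :
    lr M ≤ centralizer ((fittingSubgroup M).map M.subtype : Set G) := by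
  rw [← commutator_eq_bot_iff_le_centralizer, ← map_commutator, layer_commute_fitting, Subgroup.map_bot]

theorem lr_normalizer (M : Subgroup G) : M ≤ normalizer (lr M : Set G) := by
  have key : ∀ g ∈ M, ∀ x ∈ lr M, g * x * g⁻¹ ∈ lr M := by
    rintro g hg _ ⟨y, hy, rfl⟩
    exact ⟨⟨g, hg⟩ * y * ⟨g, hg⟩⁻¹, (inferInstance : (layer M).Normal).conj_mem y hy _, rfl⟩
  intro g hg
  rw [mem_normalizer_iff]
  refine fun x => ⟨key g hg x, fun hx => ?_⟩
  have := key g⁻¹ (inv_mem hg) _ hx
  simpa [mul_assoc] using this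

theorem normalizer_eq [IsSimpleGroup G] {L X : Subgroup G} (hL : IsCoatom L) (hXL : X ≤ L) (hX : X ≠ ⊥)
    (hn : L ≤ normalizer (X : Set G)) : normalizer (X : Set G) = L := by
  refine (hL.le_iff.mp hn).resolve_left fun htop => ?_
  rcases (normalizer_eq_top_iff.mp htop).eq_bot_or_eq_top with h | h
  · exact hX h
  · exact hL.1 (top_le_iff.mp (h ▸ hXL))

variable {M N Q : Subgroup G}

/-- what `M ↝ N` by `Q` gives -/
theorem lead_le (hQ : Q ≤ (fittingSubgroup M).map M.subtype)
    (hN : (generalizedFittingSubgroup M).map M.subtype ⊓ normalizer (Q : Set G) ≤ N) :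
    lr M ≤ N ∧ ∀ r : ℕ, r.Prime → zr r M ≤ N ∧ cr r M ⊓ normalizer (Q : Set G) ≤ N := by
  refine ⟨fun x hx => hN ⟨map_mono layer_le_genFitting hx,
    centralizer_le_normalizer _ (centralizer_le hQ (lr_le_cent_fitting M hx))⟩, fun r hr => ⟨?_, ?_⟩⟩
  · haveI := Fact.mk hr
    exact fun x hx => hN ⟨cr_le_genFitting hr M hx.1,
      centralizer_le_normalizer _ (centralizer_le hQ (zr_le_cent_fitting M hx))⟩
  · exact fun x hx => hN ⟨cr_le_genFitting hr M hx.1, hx.2⟩

/-- the part of a core normalising `Q` contains its own centraliser in the core -/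
theorem selfcent (hQ : Q ≤ (fittingSubgroup M).map M.subtype) {r : ℕ} [Fact r.Prime] :
    cr r M ⊓ centralizer ((cr r M ⊓ normalizer (Q : Set G) : Subgroup G) : Set G) ≤
      cr r M ⊓ normalizer (Q : Set G) := by
  rintro c ⟨hc, hcD⟩
  refine ⟨hc, centralizer_le_normalizer _ (mem_centralizer_iff.mpr fun x hx => ?_)⟩
  have : x ∈ centralizer ({c} : Set G) := mem_of_primary x fun s hs y hy hyp => by
    haveI := Fact.mk hs
    have hyQ : y ∈ Q := (zpowers_le.mpr hx) hy
    have hy' : y ∈ cr s M := le_cr_of_le_fitting (zpowers_le.mpr (hQ hyQ)) hyp (mem_zpowers y)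
    rw [mem_centralizer_singleton_iff]
    by_cases hsr : s = r
    · subst hsr
      exact hcD y ⟨hy', le_normalizer hyQ⟩
    · exact (cr_comm hsr M hy' c hc).symm
  exact mem_centralizer_singleton_iff.mp this

/-- for a prime outside `π(F(M))` the core of `N` meets `M` trivially -/
theorem cr_inf_eq_bot (hQ : Q ≤ (fittingSubgroup M).map M.subtype)
    (hN : (generalizedFittingSubgroup M).map M.subtype ⊓ normalizer (Q : Set G) ≤ N)
    {q : ℕ} [Fact q.Prime] (hq : cr q M = ⊥) : cr q N ⊓ M = ⊥ := by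
  obtain ⟨hlN, hrN⟩ := lead_le hQ hN
  set Y := cr q N ⊓ M with hY
  have hYp : IsPGroup q Y := (isPGroup_cr (p := q) N).to_le inf_le_left
  have hNMY : ∀ X : Subgroup G, X ≤ N → X ≤ M → X ≤ normalizer (Y : Set G) := fun X h1 h2 x hx =>
    inf_normalizer_le_normalizer_inf ⟨cr_normalizer q N (h1 hx), le_normalizer (h2 hx)⟩
  have hYF : Y ≤ centralizer ((fittingSubgroup M).map M.subtype : Set G) := by
    rw [le_centralizer_iff]
    refine fitting_le_of_cr M _ fun r hr => ?_
    haveI := Fact.mk hr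
    by_cases hrq : r = q
    · subst hrq; rw [hq]; exact bot_le
    set P := cr r M ⊓ normalizer (Q : Set G) with hP
    have hPp : IsPGroup r P := (isPGroup_cr (p := r) M).to_le inf_le_left
    have hPn := hNMY P (hrN r hr).2 (inf_le_left.trans (cr_le r M))
    have hYP : Y ≤ centralizer (P : Set G) := by
      rw [← commutator_eq_bot_iff_le_centralizer, eq_bot_iff]
      refine (le_inf (le_normalizer_iff_commutator_le_left.mp hPn) ?_).trans
        (IsPGroup.disjoint_of_ne q r (Ne.symm hrq) _ _ hYp (isPGroup_cr (p := r) M)).le_bot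
      rw [commutator_comm]
      exact (commutator_mono inf_le_left le_rfl).trans
        (le_normalizer_iff_commutator_le_left.mp (inf_le_right.trans (cr_normalizer r M)))
    rw [le_centralizer_iff]
    refine pxq hPp (isPGroup_cr (p := r) M) ?_ hYP ((inf_le_left.trans (cr_le r M)).trans (cr_normalizer r M))
      (inf_le_right.trans (cr_normalizer r M)) (hYP.trans (centralizer_le (selfcent hQ)))
    obtain ⟨n, hn⟩ := IsPGroup.iff_card.mp hYp
    rw [hn]
    exact ((Nat.coprime_primes (Fact.out : q.Prime) hr).mpr (Ne.symm hrq)).pow_left n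
  set Y' := Y.subgroupOf M with hY'
  have hY'p : IsPGroup q Y' := subgroupOf_isPGroup hYp
  haveI := hY'p.isNilpotent
  have hYlay : Y' ≤ centralizer (layer M : Set M) := by
    rw [le_centralizer_iff]
    refine sSup_le fun L hL => commutator_eq_bot_iff_le_centralizer.mp
      (comp_commute_of_solvable hL inferInstance fun g hg => ?_)
    have hgN : (g : G) ∈ N := hlN (mem_map_of_mem _ (comp_le_layer hL hg))
    have hgn : (g : G) ∈ normalizer (Y : Set G) := hNMY (N ⊓ M) inf_le_left inf_le_right ⟨hgN, g.2⟩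
    rw [mem_normalizer_iff]
    intro x
    exact mem_normalizer_iff.mp hgn (x : G)
  have hYfit : Y' ≤ centralizer (fittingSubgroup M : Set M) := fun y hy f hf =>
    Subtype.ext (hYF hy (f : G) (mem_map_of_mem _ hf))
  have hYgen : Y' ≤ centralizer (generalizedFittingSubgroup M : Set M) := by
    rw [le_centralizer_iff, generalizedFittingSubgroup]
    exact sup_le (le_centralizer_iff.mp hYlay) (le_centralizer_iff.mp hYfit)
  have hC : centralizer (generalizedFittingSubgroup M : Set M) ≤ fittingSubgroup M := by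
    refine le_fitting (class_two_nilpotent ?_)
    rw [show ⁅centralizer (generalizedFittingSubgroup M : Set M), centralizer (generalizedFittingSubgroup M : Set M)⁆ = ⊥
      from commutator_eq_bot_iff_le_centralizer.mpr (fun a ha b hb => (ha b (centralizer_genFitting_le hb))),
      commutator_bot_left]
  have h2 : pCore q M = ⊥ := (map_eq_bot_iff_of_injective _ M.subtype_injective).mp hq
  have h1 := le_pCore_of_le_fitting (hYgen.trans hC) hY'p
  rw [h2, le_bot_iff] at h1
  have h3 := congrArg (Subgroup.map M.subtype) h1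
  rwa [hY', map_subgroupOf_eq_of_le inf_le_right, Subgroup.map_bot] at h3

/-- with two primes in `π(F(M))` the cores of `N` for these primes lie in `M` -/
theorem cr_le_of_two [IsSimpleGroup G] (hM : IsCoatom M) (hQ : Q ≤ (fittingSubgroup M).map M.subtype)
    (hN : (generalizedFittingSubgroup M).map M.subtype ⊓ normalizer (Q : Set G) ≤ N)
    {p q : ℕ} [Fact p.Prime] [Fact q.Prime] (hpq : p ≠ q) (hp : cr p M ≠ ⊥) (hq : cr q M ≠ ⊥) :
    cr q N ≤ M := by
  obtain ⟨-, hrN⟩ := lead_le hQ hN
  have hNp := normalizer_eq hM (zr_le p M) (zr_ne_bot hp) (zr_normalizer p M)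
  have hNq := normalizer_eq hM (zr_le q M) (zr_ne_bot hq) (zr_normalizer q M)
  set W := cr q N with hW
  set Y := W ⊓ M with hY
  have hPn : zr p M ≤ normalizer (W : Set G) := (hrN p Fact.out).1.trans (cr_normalizer q N)
  have hQn : zr q M ≤ normalizer (W : Set G) := (hrN q Fact.out).1.trans (cr_normalizer q N)
  have hPp : IsPGroup p (zr p M) := (isPGroup_cr (p := p) M).to_le inf_le_left
  have hZq : IsPGroup q (zr q M) := (isPGroup_cr (p := q) M).to_le inf_le_left
  have hYc : zr p M ≤ centralizer (Y : Set G) := by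
    rw [← commutator_eq_bot_iff_le_centralizer, eq_bot_iff]
    refine (le_inf (le_normalizer_iff_commutator_le_left.mp (inf_le_right.trans (zr_normalizer p M))) ?_).trans
      (IsPGroup.disjoint_of_ne p q hpq _ _ hPp ((isPGroup_cr (p := q) N).to_le inf_le_left : IsPGroup q Y)).le_bot
    rw [commutator_comm]
    exact le_normalizer_iff_commutator_le_left.mp fun x hx =>
      inf_normalizer_le_normalizer_inf ⟨hPn hx, le_normalizer (zr_le p M hx)⟩
  have h1 : zr p M ≤ centralizer (W : Set G) := by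
    refine pxq hZq (isPGroup_cr (p := q) N) ?_ ?_ hQn hPn (hYc.trans (centralizer_le ?_))
    · obtain ⟨n, hn⟩ := IsPGroup.iff_card.mp hPp
      rw [hn]
      exact ((Nat.coprime_primes Fact.out Fact.out).mpr hpq).pow_left n
    · exact inf_le_left.trans ((cr_comm hpq M).trans (centralizer_le inf_le_left))
    · exact fun x hx => ⟨hx.1, hNq ▸ centralizer_le_normalizer _ hx.2⟩
  rw [← hNp]
  exact (le_centralizer_iff.mp h1).trans (centralizer_le_normalizer _)

/-- for mutual leads the two sets of primes agree -/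
theorem cr_ne_bot_of_leads {Q' : Subgroup G} (hQ : Q ≤ (fittingSubgroup M).map M.subtype)
    (hN : (generalizedFittingSubgroup M).map M.subtype ⊓ normalizer (Q : Set G) ≤ N)
    (hQ' : Q' ≤ (fittingSubgroup N).map N.subtype)
    (hM : (generalizedFittingSubgroup N).map N.subtype ⊓ normalizer (Q' : Set G) ≤ M)
    {q : ℕ} [Fact q.Prime] (hq : cr q M ≠ ⊥) : cr q N ≠ ⊥ := by
  intro h
  refine zr_ne_bot hq (le_bot_iff.mp ?_)
  rw [← cr_inf_eq_bot hQ' hM h]
  exact le_inf inf_le_left ((lead_le hQ hN).2 q Fact.out).1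

/-- one prime: the components of `M` lie in `N`'s layer -/
theorem lr_le_lr {Q' : Subgroup G} (hQ : Q ≤ (fittingSubgroup M).map M.subtype)
    (hN : (generalizedFittingSubgroup M).map M.subtype ⊓ normalizer (Q : Set G) ≤ N)
    (hQ' : Q' ≤ (fittingSubgroup N).map N.subtype)
    (hM : (generalizedFittingSubgroup N).map N.subtype ⊓ normalizer (Q' : Set G) ≤ M)
    {p : ℕ} [Fact p.Prime] (hp : ∀ r : ℕ, r.Prime → cr r N ≠ ⊥ → r = p) : lr M ≤ lr N := by
  obtain ⟨hlN, -⟩ := lead_le hQ hN
  obtain ⟨hlM, hrM⟩ := lead_le hQ' hM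
  set W := cr p N with hW
  set Y := W ⊓ M with hY
  have hYp : IsPGroup p Y := (isPGroup_cr (p := p) N).to_le inf_le_left
  refine map_le_iff_le_comap.mpr (sSup_le fun L hL => map_le_iff_le_comap.mp ?_)
  set L₀ := L.map M.subtype with hL₀
  have hL₀M : L₀ ≤ M := map_subtype_le L
  have hL₀N : L₀ ≤ N := (map_mono (comp_le_layer hL)).trans hlN
  have hperf : ⁅L₀, L₀⁆ = L₀ := by rw [hL₀, ← map_commutator, comp_perfect hL]
  have hLY : L₀ ≤ normalizer (Y : Set G) := fun x hx =>
    inf_normalizer_le_normalizer_inf ⟨cr_normalizer p N (hL₀N hx), le_normalizer (hL₀M hx)⟩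
  haveI : Group.IsNilpotent ↥(Y.subgroupOf M) := (subgroupOf_isPGroup hYp).isNilpotent
  have hYc : L₀ ≤ centralizer (Y : Set G) := by
    rw [← commutator_eq_bot_iff_le_centralizer]
    refine commutator_map_subtype_eq_bot hL₀M inf_le_right ?_
    rw [hL₀, subgroupOf, comap_map_eq_self_of_injective M.subtype_injective]
    refine comp_commute_of_solvable hL inferInstance fun g hg => ?_
    rw [mem_normalizer_iff]
    intro x
    exact mem_normalizer_iff.mp (hLY (mem_map_of_mem _ hg)) (x : G)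
  have hsub : W ⊓ centralizer (Y : Set G) ≤ Y := fun w hw => by
    refine ⟨hw.1, ?_⟩
    have h1 := selfcent hQ' (r := p)
      (show w ∈ cr p N ⊓ centralizer ((cr p N ⊓ normalizer (Q' : Set G) : Subgroup G) : Set G) from
        ⟨hw.1, centralizer_le (SetLike.coe_subset_coe.mpr (le_inf inf_le_left (hrM p Fact.out).2)) hw.2⟩)
    exact (hrM p Fact.out).2 h1
  have hLW : L₀ ≤ centralizer (W : Set G) := by
    refine perfect_le_of_pPrime_elements (p := p) hperf
      ((hL₀N.trans (cr_normalizer p N)).trans (normalizer_le_normalizer_cent _)) fun x hx hxc => ?_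
    refine mem_centralizer_iff.mpr fun w hw => mem_centralizer_singleton_iff.mp
      (pxq_element hxc hYp (hYc hx) W (isPGroup_cr (p := p) N)
        (inf_le_left.trans le_normalizer) (cr_normalizer p N (hL₀N hx)) ?_ hw)
    intro c hc
    exact mem_centralizer_singleton_iff.mpr (mem_centralizer_iff.mp (hYc hx) c (hsub hc))
  have hLF : L₀ ≤ centralizer ((fittingSubgroup N).map N.subtype : Set G) := by
    rw [le_centralizer_iff]
    refine fitting_le_of_cr N _ fun r hr => ?_
    by_cases h : cr r N = ⊥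
    · rw [h]; exact bot_le
    · rw [hp r hr h]; exact le_centralizer_iff.mp hLW
  rcases comp_le_or_commute_of_normalizes hL (H := (lr N).subgroupOf M) (fun g hg => by
    rw [mem_normalizer_iff]
    intro x
    exact mem_normalizer_iff.mp (lr_normalizer N (hL₀N (mem_map_of_mem _ hg))) (x : G)) with h | h
  · rintro _ ⟨x, hx, rfl⟩
    exact h hx
  exfalso
  have hLE : L₀ ≤ centralizer (lr N : Set G) := by
    rw [← commutator_eq_bot_iff_le_centralizer]
    refine commutator_map_subtype_eq_bot hL₀M hlM ?_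
    rwa [hL₀, subgroupOf, comap_map_eq_self_of_injective M.subtype_injective]
  have hgen : L₀.subgroupOf N ≤ centralizer (generalizedFittingSubgroup N : Set N) := by
    rw [le_centralizer_iff, generalizedFittingSubgroup]
    exact sup_le (fun y hy x hx => Subtype.ext (hLE hx (y : G) (mem_map_of_mem _ hy)).symm)
      (fun y hy x hx => Subtype.ext (hLF hx (y : G) (mem_map_of_mem _ hy)).symm)
  apply comp_ne_bot hL
  have hab : ⁅L₀.subgroupOf N, L₀.subgroupOf N⁆ = ⊥ :=
    commutator_eq_bot_iff_le_centralizer.mpr fun a ha b hb =>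
      (hgen ha b (centralizer_genFitting_le (hgen hb)))
  have h2 := commutator_map_subtype_eq_bot hL₀N hL₀N hab
  rw [hperf] at h2
  exact (map_eq_bot_iff_of_injective _ M.subtype_injective).mp h2

theorem dvd_fitting_iff {M : Subgroup G} {q : ℕ} [Fact q.Prime] :
    q ∣ Nat.card ↥(fittingSubgroup ↥M) ↔ cr q M ≠ ⊥ := by
  constructor
  · intro h hb
    obtain ⟨x, hx⟩ := exists_prime_orderOf_dvd_card' q h
    have hxp : IsPGroup q (zpowers (((x : M)) : G)) :=
      IsPGroup.of_card (n := 1) (by rw [Nat.card_zpowers, Subgroup.orderOf_coe, Subgroup.orderOf_coe, hx, pow_one])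
    have := le_cr_of_le_fitting (zpowers_le.mpr (mem_map_of_mem M.subtype x.2)) hxp (mem_zpowers _)
    rw [hb, mem_bot] at this
    rw [show x = 1 from Subtype.ext (Subtype.ext this), orderOf_one] at hx
    exact (Fact.out : q.Prime).ne_one hx.symm
  · intro h
    obtain ⟨n, hn⟩ := IsPGroup.iff_card.mp (isPGroup_cr (p := q) M)
    have hd : Nat.card (cr q M) ∣ Nat.card ↥((fittingSubgroup ↥M).map M.subtype) :=
      card_dvd_of_le (cr_le_fitting Fact.out M)
    rw [← Nat.card_congr ((fittingSubgroup ↥M).equivMapOfInjective _ M.subtype_injective).toEquiv, hn] at hd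
    refine (dvd_pow_self q fun h0 => h ?_).trans hd
    apply eq_bot_of_card_eq
    rw [hn, h0, pow_zero]

theorem sylow_fitting_le {q : ℕ} (R : Sylow q ↥(fittingSubgroup ↥N)) :
    ((R : Subgroup ↥(fittingSubgroup ↥N)).map (fittingSubgroup ↥N).subtype).map N.subtype ≤ cr q N :=
  le_cr_of_le_fitting (map_mono (map_subtype_le _)) ((R.isPGroup'.map _).map _)

theorem main_one [IsSimpleGroup G] (hM : IsCoatom M) (hMN : leadsTo M N) :
    ((∃ q₁ q₂ : ℕ, q₁.Prime ∧ q₂.Prime ∧ q₁ ≠ q₂ ∧ q₁ ∣ Nat.card ↥(fittingSubgroup ↥M) ∧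
        q₂ ∣ Nat.card ↥(fittingSubgroup ↥M)) →
      ∀ q : ℕ, q.Prime → q ∣ Nat.card ↥(fittingSubgroup ↥M) →
        ∀ R : Sylow q ↥(fittingSubgroup ↥N),
          ((R : Subgroup ↥(fittingSubgroup ↥N)).map (fittingSubgroup ↥N).subtype).map N.subtype ≤ M) ∧
    (∀ q : ℕ, q.Prime → ¬ q ∣ Nat.card ↥(fittingSubgroup ↥M) →
      ∀ R : Sylow q ↥(fittingSubgroup ↥N),
        ((R : Subgroup ↥(fittingSubgroup ↥N)).map (fittingSubgroup ↥N).subtype).map N.subtype ⊓ M = ⊥) := by
  obtain ⟨Q, -, hQ, hN⟩ := hMN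
  constructor
  · rintro ⟨q₁, q₂, h1, h2, hne, d1, d2⟩ q hq dq R
    haveI := Fact.mk h1
    haveI := Fact.mk h2
    haveI := Fact.mk hq
    refine (sylow_fitting_le R).trans ?_
    by_cases h : q₁ = q
    · subst h
      exact cr_le_of_two hM hQ hN (Ne.symm hne) (dvd_fitting_iff.mp d2) (dvd_fitting_iff.mp d1)
    · exact cr_le_of_two hM hQ hN h (dvd_fitting_iff.mp d1) (dvd_fitting_iff.mp dq)
  · intro q hq ndq R
    haveI := Fact.mk hq
    rw [dvd_fitting_iff, not_not] at ndq
    exact le_bot_iff.mp ((inf_le_inf_right M (sylow_fitting_le R)).trans (cr_inf_eq_bot hQ hN ndq).le)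

theorem main_two [IsSimpleGroup G] (hna : ¬ IsMulCommutative G) (hM : IsCoatom M) (hN : IsCoatom N)
    (hMN : leadsTo M N) (hNM : leadsTo N M) :
    M = N ∨ ∃ p : ℕ, p.Prime ∧ IsPGroup p ↥(generalizedFittingSubgroup ↥M) ∧
      IsPGroup p ↥(generalizedFittingSubgroup ↥N) := by
  by_cases hne : M = N
  · exact Or.inl hne
  right
  obtain ⟨Q, hQ1, hQ, hQN⟩ := hMN
  obtain ⟨Q', -, hQ', hQM⟩ := hNM
  obtain ⟨p, hp, hpM⟩ : ∃ p : ℕ, p.Prime ∧ cr p M ≠ ⊥ := by
    by_contra h
    push Not at h
    exact hQ1 (le_bot_iff.mp (hQ.trans (fitting_le_of_cr M ⊥ fun r hr => (h r hr).le)))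
  haveI := Fact.mk hp
  by_cases htwo : ∃ q : ℕ, q.Prime ∧ q ≠ p ∧ cr q M ≠ ⊥
  · obtain ⟨q, hq, hqp, hqM⟩ := htwo
    haveI := Fact.mk hq
    have side : ∀ (M N Q Q' : Subgroup G), IsCoatom N → Q ≤ (fittingSubgroup M).map M.subtype →
        (generalizedFittingSubgroup M).map M.subtype ⊓ normalizer (Q : Set G) ≤ N →
        Q' ≤ (fittingSubgroup N).map N.subtype →
        (generalizedFittingSubgroup N).map N.subtype ⊓ normalizer (Q' : Set G) ≤ M →
        cr p N ≠ ⊥ → cr q N ≠ ⊥ →
        (generalizedFittingSubgroup M).map M.subtype ≤ N := by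
      intro M N Q Q' hN hQ hQN hQ' hQM hpN hqN
      rw [generalizedFittingSubgroup, Subgroup.map_sup]
      refine sup_le (lead_le hQ hQN).1 (fitting_le_of_cr M _ fun r hr => ?_)
      haveI := Fact.mk hr
      by_cases hr0 : cr r M = ⊥
      · rw [hr0]; exact bot_le
      have hrN := cr_ne_bot_of_leads hQ hQN hQ' hQM hr0
      by_cases hrp : r = p
      · subst hrp
        exact cr_le_of_two hN hQ' hQM hqp hqN hrN
      · exact cr_le_of_two hN hQ' hQM (Ne.symm hrp) hpN hrN
    exact exists_prime hna hM hN hne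
      (side M N Q Q' hN hQ hQN hQ' hQM (cr_ne_bot_of_leads hQ hQN hQ' hQM hpM)
        (cr_ne_bot_of_leads hQ hQN hQ' hQM hqM))
      (side N M Q' Q hM hQ' hQM hQ hQN hpM hqM)
  push Not at htwo
  have hMp : ∀ r : ℕ, r.Prime → cr r M ≠ ⊥ → r = p := fun r hr h => by
    by_contra hrp; exact h (htwo r hr hrp)
  have hNp : ∀ r : ℕ, r.Prime → cr r N ≠ ⊥ → r = p := fun r hr h => by
    haveI := Fact.mk hr
    exact hMp r hr (cr_ne_bot_of_leads hQ' hQM hQ hQN h)
  have hE : lr M = lr N :=
    le_antisymm (lr_le_lr hQ hQN hQ' hQM hNp) (lr_le_lr hQ' hQM hQ hQN hMp)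
  have hEb : lr M = ⊥ := by
    by_contra hb
    apply hne
    have e1 : normalizer (lr M : Set G) = M := normalizer_eq hM (map_subtype_le _) hb (lr_normalizer M)
    have e2 : normalizer (lr N : Set G) = N :=
      normalizer_eq hN (map_subtype_le _) (hE ▸ hb) (lr_normalizer N)
    rw [← e1, hE, e2]
  have hgen : ∀ L : Subgroup G, lr L = ⊥ → (∀ r : ℕ, r.Prime → cr r L ≠ ⊥ → r = p) →
      IsPGroup p ↥(generalizedFittingSubgroup ↥L) := by
    intro L hl hr
    refine (isPGroup_pCore p).to_le ?_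
    rw [generalizedFittingSubgroup, (map_eq_bot_iff_of_injective _ L.subtype_injective).mp hl, bot_sup_eq,
      fitting_eq_iSup_pCore]
    refine iSup_le fun r => ?_
    by_cases h : cr r.1 L = ⊥
    · rw [(map_eq_bot_iff_of_injective _ L.subtype_injective).mp h]; exact bot_le
    · rw [hr r.1 r.2 h]
  exact ⟨p, hp, hgen M hEb hMp, hgen N (hE ▸ hEb) hNp⟩

end Cfsg.Lib.Misc.BenderLeads
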