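import Cfsg.Agent.Components.LBalance
import Cfsg.Agent.Components.Local
import Cfsg.Agent.Components.PComponentsExtra
import Cfsg.Prelude.Def_EvenTechniques
import Cfsg.Prelude.Def_ClassificationStages

/-!
Preliminaries for the balance of the non-quasisimple part of the `p`-layer: `p`-components of
subgroups, sets of components permuted by an element, and the product over an orbit.
-/

set_option linter.style.haveILetI false
set_option linter.unusedSectionVars false

namespace Cfsg.Lib.Components.BpBalance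

open Subgroup
open scoped commutatorElement

universe u v

variable {G : Type u} [Group G] [Finite G] {G' : Type v} [Group G'] [Finite G'] {p : ℕ}

theorem center_map_equiv (e : G ≃* G') : (center G).map e.toMonoidHom = center G' := by
  ext x
  simp only [mem_map, mem_center_iff]
  constructor
  · rintro ⟨y, hy, rfl⟩ g
    obtain ⟨g, rfl⟩ := e.surjective g
    simp only [MulEquiv.toMonoidHom_eq_coe, MonoidHom.coe_coe, ← map_mul]
    rw [hy]
  · intro hx
    refine ⟨e.symm x, fun g => ?_, by simp⟩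
    apply e.injective
    simpa using hx (e g)

theorem out_solvable_congr {A B : Type u} [Group A] [Group B] (e : A ≃* B)
    (h : Group.IsSolvable (Out A)) : Group.IsSolvable (Out B) := by
  let Φ : MulAut A →* MulAut B := (MulAut.congr e).toMonoidHom
  have hI : Inn A ≤ (Inn B).comap Φ := by
    rintro _ ⟨g, rfl⟩
    refine ⟨e g, ?_⟩
    ext x
    simp [Φ, MulAut.congr]
  haveI := h
  refine Group.isSolvable_of_surjective (f := QuotientGroup.map (Inn A) (Inn B) Φ hI) ?_
  intro y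
  obtain ⟨a, rfl⟩ := QuotientGroup.mk_surjective y
  exact ⟨QuotientGroup.mk ((MulAut.congr e).symm a),
    congrArg QuotientGroup.mk ((MulAut.congr e).apply_symm_apply a)⟩

/-! ### `p`-components of subgroups -/

theorem pcompOf_map_iff (f : G →* G') (hf : Function.Injective f) {K H : Subgroup G} :
    IsPComponentOf p (K.map f) (H.map f) ↔ IsPComponentOf p K H := by
  let e := H.equivMapOfInjective f hf
  have he : (K.subgroupOf H).map e.toMonoidHom = (K.map f).subgroupOf (H.map f) := by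
    ext ⟨_, x, hx, rfl⟩
    simp only [mem_map, mem_subgroupOf]
    constructor
    · rintro ⟨y, hy, hxy⟩
      exact ⟨y, hy, congrArg Subtype.val hxy⟩
    · rintro ⟨y, hy, hxy⟩
      obtain rfl := hf hxy
      exact ⟨⟨y, hx⟩, hy, rfl⟩
  unfold IsPComponentOf
  rw [map_le_map_iff_of_injective hf, ← he]
  refine and_congr_right fun _ => ⟨fun h => ?_, fun h => pcomp_map_equiv h e⟩
  have := pcomp_map_equiv h e.symm
  rwa [map_map, show e.symm.toMonoidHom.comp e.toMonoidHom = MonoidHom.id H from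
    MonoidHom.ext fun x => e.symm_apply_apply x, map_id] at this

theorem pcompOf_top {K : Subgroup G} (h : IsPComponentOf p K ⊤) : IsPComponent p K := by
  have := (pcomp_map_subtype_iff IsSubnormal.top).2 h.2
  rwa [map_subgroupOf_eq_of_le h.1] at this

theorem pcompOf_trans {K H₁ H : Subgroup G} (hle : H₁ ≤ H) (hsn : (H₁.subgroupOf H).IsSubnormal)
    (hK : K ≤ H₁) : IsPComponentOf p K H₁ ↔ IsPComponentOf p K H := by
  have h0 : H₁ = (H₁.subgroupOf H).map H.subtype := (map_subgroupOf_eq_of_le hle).symm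
  have h1 : K = (K.subgroupOf H).map H.subtype := (map_subgroupOf_eq_of_le (hK.trans hle)).symm
  constructor
  · intro h
    rw [h0, h1] at h
    have h2 := (pcompOf_map_iff H.subtype H.subtype_injective).1 h
    refine ⟨hK.trans hle, ?_⟩
    have h3 := (pcomp_map_subtype_iff hsn).2 h2.2
    rwa [map_subgroupOf_eq_of_le h2.1] at h3
  · intro h
    rw [h0, h1, pcompOf_map_iff H.subtype H.subtype_injective]
    have hK' : K.subgroupOf H ≤ H₁.subgroupOf H := comap_mono hK
    refine ⟨hK', (pcomp_map_subtype_iff hsn).1 ?_⟩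
    rw [map_subgroupOf_eq_of_le hK']
    exact h.2

theorem pcompOf_perfect {K H : Subgroup G} (h : IsPComponentOf p K H) : ⁅K, K⁆ = K := by
  have := congrArg (Subgroup.map H.subtype) (pcomp_perfect h.2)
  rwa [map_commutator, map_subgroupOf_eq_of_le h.1] at this

theorem pcompOf_ne_bot {K H : Subgroup G} (h : IsPComponentOf p K H) : K ≠ ⊥ := fun e => by
  apply pcomp_ne_bot h.2
  rw [e, bot_subgroupOf]

theorem qs_subgroupOf {K H : Subgroup G} (h : K ≤ H) :
    IsQuasisimple ↥(K.subgroupOf H) ↔ IsQuasisimple ↥K := isQuasisimple_congr (subgroupOfEquivOfLe h)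

theorem qs_map {K : Subgroup G} (f : G →* G') (hf : Function.Injective f) :
    IsQuasisimple ↥(K.map f) ↔ IsQuasisimple ↥K :=
  (isQuasisimple_congr (K.equivMapOfInjective f hf)).symm

/-- a `p`-component in the join of two subnormal subgroups lies in one of them -/
theorem pcomp_le_left_or_right {K A B : Subgroup G} (hK : IsPComponent p K) (hA : A.IsSubnormal)
    (hB : B.IsSubnormal) (hAB : K ≤ A ⊔ B) : K ≤ A ∨ K ≤ B := by
  rcases pcomp_le_or_commute hK hA with h | h
  · exact Or.inl h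
  rcases pcomp_le_or_commute hK hB with h' | h'
  · exact Or.inr h'
  exfalso
  apply comp_ne_bot hK.2.1
  set f := QuotientGroup.mk' (pPrimeCore p G) with hf
  have hA0 : ∀ S : Subgroup G, ⁅K, S⁆ ≤ pPrimeCore p G →
      S.map f ≤ centralizer (K.map f : Set (G ⧸ pPrimeCore p G)) := by
    intro S hS
    rw [← commutator_eq_bot_iff_le_centralizer, commutator_comm, ← map_commutator,
      Subgroup.map_eq_bot_iff, hf, QuotientGroup.ker_mk']
    exact hS
  have : K.map f ≤ centralizer (K.map f : Set (G ⧸ pPrimeCore p G)) :=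
    (Subgroup.map_mono hAB).trans (by rw [Subgroup.map_sup]; exact sup_le (hA0 A h) (hA0 B h'))
  rw [← comp_perfect hK.2.1]
  exact commutator_eq_bot_iff_le_centralizer.2 this

theorem pcompOf_le_left_or_right {K A B Y : Subgroup G} (hK : IsPComponentOf p K Y) (hA : A ≤ Y)
    (hB : B ≤ Y) (hAs : (A.subgroupOf Y).IsSubnormal) (hBs : (B.subgroupOf Y).IsSubnormal)
    (hAB : K ≤ A ⊔ B) : K ≤ A ∨ K ≤ B := by
  have h : K.subgroupOf Y ≤ A.subgroupOf Y ⊔ B.subgroupOf Y := by
    rw [← subgroupOf_sup hA hB]; exact comap_mono hAB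
  rcases pcomp_le_left_or_right hK.2 hAs hBs h with h | h
  · left
    have := Subgroup.map_mono (f := Y.subtype) h
    rwa [map_subgroupOf_eq_of_le hK.1, map_subgroupOf_eq_of_le hA] at this
  · right
    have := Subgroup.map_mono (f := Y.subtype) h
    rwa [map_subgroupOf_eq_of_le hK.1, map_subgroupOf_eq_of_le hB] at this

/-! ### commutators across commuting subgroups -/

omit [Finite G] in
theorem commutator_mul_mul {a b a' b' : G} (h1 : Commute a b') (h2 : Commute a' b)
    (h3 : Commute a b) (h4 : Commute a' b') : ⁅a * b, a' * b'⁆ = ⁅a, a'⁆ * ⁅b, b'⁆ := by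
  have h5 : Commute (b * b' * b⁻¹) a⁻¹ :=
    ((h3.symm.mul_left h1.symm).mul_left h3.symm.inv_left).inv_right
  have h6 : Commute (b * b' * b⁻¹ * b'⁻¹) a'⁻¹ :=
    (((h2.symm.mul_left h4.symm).mul_left h2.symm.inv_left).mul_left h4.symm.inv_left).inv_right
  simp only [commutatorElement_def, mul_inv_rev]
  calc a * b * (a' * b') * (b⁻¹ * a⁻¹) * (b'⁻¹ * a'⁻¹)
      = a * (b * a') * b' * b⁻¹ * a⁻¹ * b'⁻¹ * a'⁻¹ := by group
    _ = a * (a' * b) * b' * b⁻¹ * a⁻¹ * b'⁻¹ * a'⁻¹ := by rw [h2.symm.eq]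
    _ = a * a' * (b * b' * b⁻¹ * a⁻¹) * b'⁻¹ * a'⁻¹ := by group
    _ = a * a' * (a⁻¹ * (b * b' * b⁻¹)) * b'⁻¹ * a'⁻¹ := by rw [h5.eq]
    _ = a * a' * a⁻¹ * (b * b' * b⁻¹ * b'⁻¹ * a'⁻¹) := by group
    _ = a * a' * a⁻¹ * (a'⁻¹ * (b * b' * b⁻¹ * b'⁻¹)) := by rw [h6.eq]
    _ = a * a' * a⁻¹ * a'⁻¹ * (b * b' * b⁻¹ * b'⁻¹) := by group

/-- a perfect subgroup of `A ⊔ B` fixed by `x` lies in the join of the fixed points -/
theorem split_fixed {A B K : Subgroup G} {x : G} (hAB : ⁅A, B⁆ = ⊥)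
    (hxA : ∀ a ∈ A, x * a * x⁻¹ ∈ A) (hxB : ∀ b ∈ B, x * b * x⁻¹ ∈ B)
    (hK : K ≤ A ⊔ B) (hperf : ⁅K, K⁆ = K) (hKx : K ≤ centralizer ({x} : Set G)) :
    K ≤ (A ⊓ centralizer ({x} : Set G)) ⊔ (B ⊓ centralizer ({x} : Set G)) := by
  have hc : ∀ a ∈ A, ∀ b ∈ B, Commute a b := fun a ha b hb => commute_of_commutator_eq_bot hAB ha hb
  have hn : B ≤ normalizer (A : Set G) := by
    refine le_trans ?_ (centralizer_le_normalizer _)
    rw [← commutator_eq_bot_iff_le_centralizer, commutator_comm]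
    exact hAB
  have dec : ∀ k ∈ K, ∃ a ∈ A, ∃ b ∈ B, a * b = k ∧
      ∃ z ∈ A ⊓ B, x * a * x⁻¹ = a * z ∧ ∃ w ∈ A ⊓ B, x * b * x⁻¹ = b * w := by
    intro k hk
    have hmem : k ∈ ((A ⊔ B : Subgroup G) : Set G) := hK hk
    rw [coe_mul_of_right_le_normalizer_left _ _ hn] at hmem
    obtain ⟨a, ha, b, hb, rfl⟩ := hmem
    have he : x * a * x⁻¹ * (x * b * x⁻¹) = a * b := by
      have h := mem_centralizer_singleton_iff.1 (hKx hk)
      calc x * a * x⁻¹ * (x * b * x⁻¹) = x * (a * b) * x⁻¹ := by group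
        _ = a * b * x * x⁻¹ := by rw [h]
        _ = a * b := by group
    have hz : a⁻¹ * (x * a * x⁻¹) = b * (x * b * x⁻¹)⁻¹ := by
      rw [eq_mul_inv_iff_mul_eq, mul_assoc, he, inv_mul_cancel_left]
    have hzA : a⁻¹ * (x * a * x⁻¹) ∈ A := A.mul_mem (A.inv_mem ha) (hxA a ha)
    have hzB : a⁻¹ * (x * a * x⁻¹) ∈ B := hz ▸ B.mul_mem hb (B.inv_mem (hxB b hb))
    refine ⟨a, ha, b, hb, rfl, _, mem_inf.2 ⟨hzA, hzB⟩, (mul_inv_cancel_left _ _).symm,
      (a⁻¹ * (x * a * x⁻¹))⁻¹, mem_inf.2 ⟨A.inv_mem hzA, B.inv_mem hzB⟩, ?_⟩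
    have hcomm := hc _ hzA b hb
    rw [hcomm.inv_left.symm.eq, hz]
    group
  refine le_trans hperf.ge ?_
  rw [commutator_le]
  intro k hk k' hk'
  obtain ⟨a, ha, b, hb, rfl, z, hz, hxa, w, hw, hxb⟩ := dec k hk
  obtain ⟨a', ha', b', hb', rfl, z', hz', hxa', w', hw', hxb'⟩ := dec k' hk'
  rw [commutator_mul_mul (hc a ha b' hb') (hc a' ha' b hb) (hc a ha b hb) (hc a' ha' b' hb')]
  obtain ⟨hzA, hzB⟩ := mem_inf.1 hz
  obtain ⟨hzA', hzB'⟩ := mem_inf.1 hz'
  obtain ⟨hwA, hwB⟩ := mem_inf.1 hw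
  obtain ⟨hwA', hwB'⟩ := mem_inf.1 hw'
  refine mul_mem_sup (mem_inf.2 ⟨?_, ?_⟩) (mem_inf.2 ⟨?_, ?_⟩)
  · exact A.mul_mem (A.mul_mem (A.mul_mem ha ha') (A.inv_mem ha)) (A.inv_mem ha')
  · rw [mem_centralizer_singleton_iff]
    have h : x * ⁅a, a'⁆ * x⁻¹ = ⁅x * a * x⁻¹, x * a' * x⁻¹⁆ := by
      simp only [commutatorElement_def]; group
    rw [hxa, hxa', commutator_mul_mul (hc a ha z' hzB') (hc a' ha' z hzB) (hc a ha z hzB)
      (hc a' ha' z' hzB'), commutatorElement_eq_one_iff_mul_comm.2 (hc z hzA z' hzB').eq, mul_one] at h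
    exact (mul_inv_eq_iff_eq_mul.1 h).symm
  · exact B.mul_mem (B.mul_mem (B.mul_mem hb hb') (B.inv_mem hb)) (B.inv_mem hb')
  · rw [mem_centralizer_singleton_iff]
    have h : x * ⁅b, b'⁆ * x⁻¹ = ⁅x * b * x⁻¹, x * b' * x⁻¹⁆ := by
      simp only [commutatorElement_def]; group
    rw [hxb, hxb', commutator_mul_mul (hc w' hwA' b hb).symm (hc w hwA b' hb').symm
      (hc w hwA b hb).symm (hc w' hwA' b' hb').symm,
      commutatorElement_eq_one_iff_mul_comm.2 (hc w hwA w' hwB').eq, mul_one] at h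
    exact (mul_inv_eq_iff_eq_mul.1 h).symm

/-! ### sets of components -/

omit [Finite G] in
theorem conj_conj_map (A : Subgroup G) (a b : G) :
    (A.map (MulAut.conj b).toMonoidHom).map (MulAut.conj a).toMonoidHom
      = A.map (MulAut.conj (a * b)).toMonoidHom := by
  rw [map_map]
  congr 1
  ext y
  simp [mul_assoc]

omit [Finite G] in
theorem conj_one_map (A : Subgroup G) : A.map (MulAut.conj (1 : G)).toMonoidHom = A := by
  rw [map_one]
  exact map_id A

omit [Finite G] in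
theorem conj_mem_sSup {S : Set (Subgroup G)} {x : G}
    (hx : ∀ L ∈ S, L.map (MulAut.conj x).toMonoidHom ∈ S) {a : G} (ha : a ∈ sSup S) :
    x * a * x⁻¹ ∈ sSup S := by
  have h : (sSup S).map (MulAut.conj x).toMonoidHom ≤ sSup S := by
    rw [sSup_eq_iSup, Subgroup.map_iSup]
    refine iSup_le fun L => ?_
    rw [Subgroup.map_iSup]
    exact iSup_le fun hL => le_iSup_of_le (L.map (MulAut.conj x).toMonoidHom) (le_iSup_of_le (hx L hL) le_rfl)
  exact h (mem_map_of_mem (MulAut.conj x).toMonoidHom ha)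

theorem sSup_commute {S S' : Set (Subgroup G)} (hS : ∀ L ∈ S, IsComponent L)
    (hS' : ∀ L ∈ S', IsComponent L) (hd : ∀ L ∈ S, L ∉ S') : ⁅sSup S, sSup S'⁆ = ⊥ := by
  rw [commutator_eq_bot_iff_le_centralizer]
  refine sSup_le fun L hL => le_centralizer_iff.1 (sSup_le fun M hM => ?_)
  rw [← commutator_eq_bot_iff_le_centralizer]
  exact comp_commute (hS' M hM) (hS L hL) fun e => hd L hL (e ▸ hM)

theorem sSup_isSubnormal {S : Set (Subgroup G)} (hS : ∀ L ∈ S, IsComponent L) :
    (sSup S).IsSubnormal := by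
  haveI : (layer G).Normal := inferInstance
  refine isSubnormal_of_normal_in (Normal.isSubnormal (inferInstance : (layer G).Normal))
    (sSup_le fun L hL => comp_le_layer (hS L hL)) ?_
  intro g hg
  rw [mem_normalizer_iff_map_conj_eq, sSup_eq_iSup, Subgroup.map_iSup]
  refine iSup_congr fun L => ?_
  rw [Subgroup.map_iSup]
  exact iSup_congr fun hL =>
    mem_normalizer_iff_map_conj_eq.mp (comp_normal_in_layer (hS L hL) hg)

/-! ### the product over an orbit -/

/-- the orbit of `J` under conjugation by `x` -/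
def orbit' (J : Subgroup G) (x : G) : Set (Subgroup G) :=
  {L | ∃ i : ℤ, L = J.map (MulAut.conj (x ^ i)).toMonoidHom}

omit [Finite G] in
theorem orbit'_self (J : Subgroup G) (x : G) : J ∈ orbit' J x :=
  ⟨0, by rw [zpow_zero, conj_one_map]⟩

/-- product of the first `n` conjugates of `j` -/
def orbitProd (x j : G) : ℕ → G
  | 0 => 1
  | n + 1 => orbitProd x j n * (x ^ n * j * (x ^ n)⁻¹)

theorem exists_delta {J : Subgroup G} (hJ : IsComponent J) {x : G} [Fact p.Prime]
    (hxJ : x ∉ normalizer (J : Set G)) (hxp : x ^ p ∈ centralizer (J : Set G)) :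
    ∃ δ : ↥J →* G, (∀ j, δ j ∈ sSup (orbit' J x) ⊓ centralizer ({x} : Set G)) ∧
      ∀ c ∈ sSup (orbit' J x) ⊓ centralizer ({x} : Set G),
        ∃ j, (δ j)⁻¹ * c ∈ centralizer ((sSup (orbit' J x) : Subgroup G) : Set G) := by
  have hp : p.Prime := Fact.out
  have hne : ∀ i, 0 < i → i < p → J.map (MulAut.conj (x ^ i)).toMonoidHom ≠ J := by
    intro i hi hip he
    apply hxJ
    have h1 : x ^ i ∈ normalizer (J : Set G) := mem_normalizer_iff_map_conj_eq.2 he
    have h2 : x ^ p ∈ normalizer (J : Set G) := centralizer_le_normalizer _ hxp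
    have hco : Nat.gcd i p = 1 := Nat.Coprime.symm (hp.coprime_iff_not_dvd.2 fun hd =>
      absurd (Nat.le_of_dvd hi hd) (by omega))
    have hg := Nat.gcd_eq_gcd_ab i p
    rw [hco] at hg
    have : x = (x ^ i) ^ (Nat.gcdA i p) * (x ^ p) ^ (Nat.gcdB i p) := by
      rw [← zpow_natCast x i, ← zpow_natCast x p, ← zpow_mul, ← zpow_mul, ← zpow_add, ← hg,
        Nat.cast_one, zpow_one]
    rw [this]
    exact mul_mem (zpow_mem h1 _) (zpow_mem h2 _)
  have hdist : ∀ l i, l < i → i < p → J.map (MulAut.conj (x ^ l)).toMonoidHom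
      ≠ J.map (MulAut.conj (x ^ i)).toMonoidHom := by
    intro l i hl hi he
    apply hne (i - l) (by omega) (by omega)
    apply Subgroup.map_injective (f := (MulAut.conj (x ^ l)).toMonoidHom) (MulAut.conj (x ^ l)).injective
    rw [conj_conj_map, ← pow_add, Nat.add_sub_cancel' hl.le, he]
  have hJc : ∀ i : ℕ, IsComponent (J.map (MulAut.conj (x ^ i)).toMonoidHom) := fun i => comp_conj hJ _
  have hmemc : ∀ (i : ℕ) {j : G}, j ∈ J →
      x ^ i * j * (x ^ i)⁻¹ ∈ J.map (MulAut.conj (x ^ i)).toMonoidHom := fun i j hj =>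
    mem_map_of_mem (MulAut.conj (x ^ i)).toMonoidHom hj
  -- (a)
  have hcomm : ∀ n i, n ≤ i → i < p → ∀ j ∈ J, ∀ j' ∈ J,
      Commute (orbitProd x j n) (x ^ i * j' * (x ^ i)⁻¹) := by
    intro n
    induction n with
    | zero => intro i _ _ j _ j' _; exact Commute.one_left _
    | succ n ih =>
      intro i hni hip j hj j' hj'
      exact (ih i (by omega) hip j hj j' hj').mul_left (commute_of_commutator_eq_bot
        (comp_commute (hJc n) (hJc i) (hdist n i (by omega) hip)) (hmemc n hj) (hmemc i hj'))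
  -- (b)
  have hmul : ∀ n, n ≤ p → ∀ j ∈ J, ∀ j' ∈ J,
      orbitProd x (j * j') n = orbitProd x j n * orbitProd x j' n := by
    intro n
    induction n with
    | zero => intro _ j _ j' _; simp [orbitProd]
    | succ n ih =>
      intro hn j hj j' hj'
      have h := (hcomm n n le_rfl (by omega) j' hj' j hj).symm
      show orbitProd x (j * j') n * (x ^ n * (j * j') * (x ^ n)⁻¹) = _
      rw [ih (by omega) j hj j' hj']
      show _ = orbitProd x j n * (x ^ n * j * (x ^ n)⁻¹) * (orbitProd x j' n * (x ^ n * j' * (x ^ n)⁻¹))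
      have e : x ^ n * (j * j') * (x ^ n)⁻¹ = (x ^ n * j * (x ^ n)⁻¹) * (x ^ n * j' * (x ^ n)⁻¹) := by
        group
      rw [e]
      exact h.symm.mul_mul_mul_comm _ _
  -- (c)
  have hshift : ∀ (j : G) n, j * (x * orbitProd x j n * x⁻¹) = orbitProd x j (n + 1) := by
    intro j n
    induction n with
    | zero => simp [orbitProd]
    | succ n ih =>
      show j * (x * (orbitProd x j n * (x ^ n * j * (x ^ n)⁻¹)) * x⁻¹)
        = orbitProd x j (n + 1) * (x ^ (n + 1) * j * (x ^ (n + 1))⁻¹)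
      rw [← ih, pow_succ' x n]
      group
  obtain ⟨m, hm⟩ : ∃ m, p = m + 1 := ⟨p - 1, by have := hp.pos; omega⟩
  have hpj : ∀ j ∈ J, x ^ p * j * (x ^ p)⁻¹ = j := fun j hj => by
    rw [← mem_centralizer_iff.1 hxp j hj, mul_inv_cancel_right]
  have hdp : ∀ j, orbitProd x j p = j * (x * orbitProd x j m * x⁻¹) := fun j => by
    rw [hm, hshift]
  have hrj : ∀ j ∈ J, ∀ j' ∈ J, Commute (x * orbitProd x j m * x⁻¹) j' := by
    intro j hj j' hj'
    have h := hcomm m m le_rfl (by omega) j hj j' hj'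
    have h' := h.map (MulAut.conj x).toMonoidHom
    simp only [MulEquiv.toMonoidHom_eq_coe, MonoidHom.coe_coe, MulAut.conj_apply] at h'
    have e : x * (x ^ m * j' * (x ^ m)⁻¹) * x⁻¹ = x ^ p * j' * (x ^ p)⁻¹ := by
      rw [hm, pow_succ']; group
    rwa [e, hpj j' hj'] at h'
  have hfix : ∀ j ∈ J, orbitProd x j p ∈ centralizer ({x} : Set G) := by
    intro j hj
    rw [mem_centralizer_singleton_iff]
    set d := orbitProd x j p with hd
    set r := x * orbitProd x j m * x⁻¹ with hr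
    have h1 : j * (x * d * x⁻¹) = d * j := by
      rw [hd, hshift]
      show orbitProd x j p * (x ^ p * j * (x ^ p)⁻¹) = _
      rw [hpj j hj]
    have h2 : d = j * r := hdp j
    have h3 : x * d * x⁻¹ = d := by
      rw [← mul_right_inj j, h1, h2, mul_assoc, (hrj j hj j hj).eq]
    rw [mul_inv_eq_iff_eq_mul] at h3
    exact h3.symm
  -- (e)
  set R0 := sSup (orbit' J x \ {J}) with hR0
  have hr0 : ∀ j ∈ J, x * orbitProd x j m * x⁻¹ ∈ R0 := by
    intro j hj
    have key : ∀ n, n ≤ m → x * orbitProd x j n * x⁻¹ ∈ R0 := by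
      intro n
      induction n with
      | zero => intro _; simp [orbitProd]
      | succ n ih =>
        intro hn
        show x * (orbitProd x j n * (x ^ n * j * (x ^ n)⁻¹)) * x⁻¹ ∈ R0
        have e : x * (orbitProd x j n * (x ^ n * j * (x ^ n)⁻¹)) * x⁻¹
            = (x * orbitProd x j n * x⁻¹) * (x ^ (n + 1) * j * (x ^ (n + 1))⁻¹) := by
          rw [pow_succ']; group
        rw [e]
        refine R0.mul_mem (ih (by omega)) ?_
        refine le_sSup (s := orbit' J x \ {J}) ⟨⟨(n + 1 : ℕ), by rw [zpow_natCast]⟩, ?_⟩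
          (hmemc (n + 1) hj)
        exact hne (n + 1) (by omega) (by omega)
    exact key m le_rfl
  have hJO : J ≤ sSup (orbit' J x) := le_sSup (orbit'_self J x)
  have hR0O : R0 ≤ sSup (orbit' J x) := sSup_le_sSup fun L hL => hL.1
  have hOc : ∀ L ∈ orbit' J x, IsComponent L := fun L ⟨i, hi⟩ => hi ▸ comp_conj hJ _
  let δ : ↥J →* G :=
    { toFun := fun j => orbitProd x (j : G) p
      map_one' := by
        have h := hmul p le_rfl 1 J.one_mem 1 J.one_mem
        rw [mul_one] at h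
        simpa using h
      map_mul' := fun j j' => by simp only [Subgroup.coe_mul]; exact hmul p le_rfl _ j.2 _ j'.2 }
  refine ⟨δ, fun j => mem_inf.2 ⟨?_, hfix _ j.2⟩, ?_⟩
  · show orbitProd x (j : G) p ∈ sSup (orbit' J x)
    rw [hdp]
    exact mul_mem (hJO j.2) (hR0O (hr0 _ j.2))
  intro c hc
  obtain ⟨hcO, hcx⟩ := mem_inf.1 hc
  have hJR : ⁅J, R0⁆ = ⊥ := by
    have := sSup_commute (S := {J}) (S' := orbit' J x \ {J}) (by rintro L rfl; exact hJ)
      (fun L hL => hOc L hL.1) (fun L hL hL' => hL'.2 hL)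
    rwa [sSup_singleton] at this
  have hn : R0 ≤ normalizer (J : Set G) := by
    refine le_trans ?_ (centralizer_le_normalizer _)
    rw [← commutator_eq_bot_iff_le_centralizer, commutator_comm]
    exact hJR
  have hsup : sSup (orbit' J x) ≤ J ⊔ R0 := sSup_le fun L hL => by
    by_cases h : L = J
    · exact h ▸ le_sup_left
    · exact le_sup_of_le_right (le_sSup ⟨hL, h⟩)
  have hmem : c ∈ ((J ⊔ R0 : Subgroup G) : Set G) := hsup hcO
  rw [coe_mul_of_right_le_normalizer_left _ _ hn] at hmem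
  obtain ⟨j, hj, r0, hr0', rfl⟩ := hmem
  refine ⟨⟨j, hj⟩, ?_⟩
  show (orbitProd x j p)⁻¹ * (j * r0) ∈ _
  have hz : (orbitProd x j p)⁻¹ * (j * r0) ∈ R0 := by
    rw [hdp, mul_inv_rev, mul_assoc, inv_mul_cancel_left]
    exact R0.mul_mem (R0.inv_mem (hr0 j hj)) hr0'
  have hzx : Commute ((orbitProd x j p)⁻¹ * (j * r0)) x :=
    mem_centralizer_singleton_iff.1 (mul_mem (inv_mem (hfix j hj)) hcx)
  rw [mem_centralizer_iff]
  intro g hg
  have hle : sSup (orbit' J x) ≤ centralizer ({(orbitProd x j p)⁻¹ * (j * r0)} : Set G) := by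
    refine sSup_le ?_
    rintro L ⟨i, rfl⟩ _ ⟨y, hy, rfl⟩
    rw [mem_centralizer_singleton_iff]
    have h1 : Commute y ((orbitProd x j p)⁻¹ * (j * r0)) := commute_of_commutator_eq_bot hJR hy hz
    have h2 : Commute (x ^ i) ((orbitProd x j p)⁻¹ * (j * r0)) := (hzx.symm).zpow_left i
    exact ((h2.mul_left h1).mul_left h2.inv_left).eq
  exact mem_centralizer_singleton_iff.1 (hle hg)

end Cfsg.Lib.Components.BpBalance
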