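import Cfsg.Agent.Components.Signalizer.Sft.Tools
import Cfsg.Prelude.Def_CaseTheorems

/-!
A normal four-group of a Sylow 2-subgroup in a group of characteristic 2 type lies in `O_2(C(u))` for each
of its involutions `u`.
-/

set_option linter.style.haveILetI false
set_option linter.unusedSectionVars false

namespace Cfsg.Lib.CharTwoFour

open Subgroup Cfsg.Lib.Sft

universe u

variable {G : Type u} [Group G] [Finite G]

theorem mem_zpowers_two {u x : G} (hu : u * u = 1) (h : x ∈ zpowers u) : x = 1 ∨ x = u := by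
  obtain ⟨n, rfl⟩ := mem_zpowers_iff.mp h
  have h2 : u ^ (2 : ℤ) = 1 := by rw [zpow_two, hu]
  rcases Int.even_or_odd' n with ⟨k, rfl | rfl⟩
  · exact Or.inl (by rw [zpow_mul, h2, one_zpow])
  · exact Or.inr (by rw [zpow_add, zpow_mul, h2, one_zpow, one_mul, zpow_one])

theorem orderOf_of_sq {u : G} (hu : u * u = 1) (hu1 : u ≠ 1) : orderOf u = 2 :=
  orderOf_eq_prime (p := 2) (by rw [pow_two, hu]) hu1

theorem centralizer_eq_normalizer {u : G} (hu : u * u = 1) (hu1 : u ≠ 1) :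
    centralizer ({u} : Set G) = normalizer (zpowers u : Set G) := by
  ext g
  constructor
  · intro hg
    refine mem_normalizer_of_conj fun x hx => ?_
    rcases mem_zpowers_two hu hx with rfl | rfl
    · simp
    · rw [(mem_centralizer_singleton_iff.mp hg), mul_inv_cancel_right]; exact hx
  · intro hg
    rw [mem_centralizer_singleton_iff]
    rcases mem_zpowers_two hu ((mem_normalizer_iff.mp hg u).mp (mem_zpowers u)) with h | h
    · exact absurd (conj_eq_one_iff.mp h) hu1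
    · exact mul_inv_eq_iff_eq_mul.mp h

/-- in a group of characteristic 2, a subgroup stabilising a chain below `O_2` lies in `O_2` -/
theorem le_qcore_of_stab {H U : Subgroup G} {u : G}
    (hchar : ∀ x ∈ H, (∀ q ∈ qcore 2 H, q * x = x * q) → x ∈ qcore 2 H)
    (hu : u * u = 1) (huH : ∀ h ∈ H, h * u = u * h) (hUH : U ≤ H)
    (hstab : ∀ w ∈ U, ∀ q ∈ qcore 2 H, w * q * w⁻¹ * q⁻¹ ∈ zpowers u) : U ≤ qcore 2 H := by
  set Q := qcore 2 H with hQ
  have hQn : ∀ h ∈ H, ∀ q ∈ Q, h * q * h⁻¹ ∈ Q := fun h hh q hq =>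
    (mem_normalizer_iff.mp (le_normalizer_qcore (le_normalizer hh)) q).mp hq
  have hfixc : ∀ h ∈ H, ∀ c ∈ zpowers u, h * c * h⁻¹ = c := by
    intro h hh c hc
    rcases mem_zpowers_two hu hc with rfl | rfl
    · simp
    · rw [huH h hh, mul_inv_cancel_right]
  let X : Subgroup G :=
    { carrier := {h | h ∈ H ∧ ∀ q ∈ Q, h * q * h⁻¹ * q⁻¹ ∈ zpowers u}
      one_mem' := ⟨one_mem H, fun q _ => by simp⟩
      mul_mem' := by
        rintro h k ⟨hh, h'⟩ ⟨hk, k'⟩
        refine ⟨mul_mem hh hk, fun q hq => ?_⟩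
        have e : h * k * q * (h * k)⁻¹ * q⁻¹ =
            h * (k * q * k⁻¹ * q⁻¹) * h⁻¹ * (h * q * h⁻¹ * q⁻¹) := by group
        rw [e, hfixc h hh _ (k' q hq)]
        exact mul_mem (k' q hq) (h' q hq)
      inv_mem' := by
        rintro h ⟨hh, h'⟩
        refine ⟨inv_mem hh, fun q hq => ?_⟩
        have hq' : h⁻¹ * q * h ∈ Q := by
          simpa using hQn h⁻¹ (inv_mem hh) q hq
        have hc := inv_mem (h' _ hq')
        rwa [show (h * (h⁻¹ * q * h) * h⁻¹ * (h⁻¹ * q * h)⁻¹)⁻¹ = h⁻¹ * q * h⁻¹⁻¹ * q⁻¹ by group] at hc }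
  have hXH : X ≤ H := fun _ h => h.1
  have hXn : H ≤ normalizer (X : Set G) := by
    intro g hg
    refine mem_normalizer_of_conj ?_
    rintro h ⟨hh, h'⟩
    refine ⟨mul_mem (mul_mem hg hh) (inv_mem hg), fun q hq => ?_⟩
    have hq' : g⁻¹ * q * g ∈ Q := by simpa using hQn g⁻¹ (inv_mem hg) q hq
    have hc := h' _ hq'
    have e : g * h * g⁻¹ * q * (g * h * g⁻¹)⁻¹ * q⁻¹ =
        g * (h * (g⁻¹ * q * g) * h⁻¹ * (g⁻¹ * q * g)⁻¹) * g⁻¹ := by group
    rw [e, hfixc g hg _ hc]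
    exact hc
  have hX2 : IsPGroup 2 X := by
    intro ⟨h, hh, h'⟩
    have hsq : h * h ∈ Q := by
      refine hchar _ (mul_mem hh hh) fun q hq => ?_
      have hc := h' q hq
      have e : h * h * q * (h * h)⁻¹ * q⁻¹ = h * (h * q * h⁻¹ * q⁻¹) * h⁻¹ * (h * q * h⁻¹ * q⁻¹) := by
        group
      rw [hfixc h hh _ hc] at e
      have hone : (h * q * h⁻¹ * q⁻¹) * (h * q * h⁻¹ * q⁻¹) = 1 := by
        rcases mem_zpowers_two hu hc with h0 | h0 <;> rw [h0]
        · simp
        · exact hu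
      rw [hone, mul_inv_eq_one, mul_inv_eq_iff_eq_mul] at e
      exact e.symm
    obtain ⟨k, hk⟩ := isPGroup_qcore (q := 2) (K := H) ⟨h * h, hsq⟩
    refine ⟨k + 1, Subtype.ext ?_⟩
    have hk' : (h * h) ^ 2 ^ k = 1 := congrArg Subtype.val hk
    show h ^ 2 ^ (k + 1) = 1
    rw [pow_succ', pow_mul, pow_two]
    exact hk'
  have hXQ : X ≤ Q := le_qcore hXH hXn hX2
  exact fun w hw => hXQ ⟨hUH hw, hstab w hw⟩

/-- the involution of the centre of a conjugate of a subgroup with cyclic centre is unique -/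
theorem center_involution_unique {P S : Subgroup G} (hP : IsCyclic ↥(P ⊓ centralizer (P : Set G))) {g : G}
    (hS : ∀ x, x ∈ S ↔ g⁻¹ * x * g ∈ P) {a b : G} (ha : a ∈ S) (haC : ∀ s ∈ S, s * a = a * s)
    (hb : b ∈ S) (hbC : ∀ s ∈ S, s * b = b * s) (ha2 : a * a = 1) (hb2 : b * b = 1) (ha1 : a ≠ 1) :
    b = 1 ∨ b = a := by
  classical
  haveI := hP
  set Z := P ⊓ centralizer (P : Set G) with hZ
  have key : ∀ c ∈ S, (∀ s ∈ S, s * c = c * s) → g⁻¹ * c * g ∈ Z := fun c hc hC => by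
    refine ⟨(hS c).mp hc, mem_centralizer_iff.mpr fun y hy => ?_⟩
    have hy' : g * y * g⁻¹ ∈ S := by
      rw [hS]; rwa [show g⁻¹ * (g * y * g⁻¹) * g = y by group]
    have h := hC _ hy'
    calc y * (g⁻¹ * c * g) = g⁻¹ * (g * y * g⁻¹ * c) * g := by group
      _ = g⁻¹ * (c * (g * y * g⁻¹)) * g := by rw [h]
      _ = g⁻¹ * c * g * y := by group
  let α : Z := ⟨g⁻¹ * a * g, key a ha haC⟩
  let β : Z := ⟨g⁻¹ * b * g, key b hb hbC⟩
  have hα : α ^ 2 = 1 := Subtype.ext (by
    show (g⁻¹ * a * g) ^ 2 = 1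
    rw [pow_two, show g⁻¹ * a * g * (g⁻¹ * a * g) = g⁻¹ * (a * a) * g by group, ha2]; group)
  have hβ : β ^ 2 = 1 := Subtype.ext (by
    show (g⁻¹ * b * g) ^ 2 = 1
    rw [pow_two, show g⁻¹ * b * g * (g⁻¹ * b * g) = g⁻¹ * (b * b) * g by group, hb2]; group)
  haveI := Fintype.ofFinite Z
  have hle := IsCyclic.card_pow_eq_one_le (α := Z) (n := 2) two_pos
  by_contra hcon
  push Not at hcon
  have hsub : ({1, α, β} : Finset Z) ⊆ Finset.univ.filter (fun x : Z => x ^ 2 = 1) := by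
    intro x hx
    simp only [Finset.mem_insert, Finset.mem_singleton] at hx
    rcases hx with rfl | rfl | rfl <;> simp [hα, hβ]
  have hα1 : (1 : Z) ≠ α := fun h => ha1 (by
    have h' : (1 : G) = g⁻¹ * a * g := congrArg Subtype.val h
    calc a = g * (g⁻¹ * a * g) * g⁻¹ := by group
      _ = 1 := by rw [← h']; group)
  have hβ1 : (1 : Z) ≠ β := fun h => hcon.1 (by
    have h' : (1 : G) = g⁻¹ * b * g := congrArg Subtype.val h
    calc b = g * (g⁻¹ * b * g) * g⁻¹ := by group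
      _ = 1 := by rw [← h']; group)
  have hαβ : α ≠ β := fun h => hcon.2 (by
    have h' : g⁻¹ * a * g = g⁻¹ * b * g := congrArg Subtype.val h
    exact (mul_left_cancel (mul_right_cancel h')).symm)
  have h3 : ({1, α, β} : Finset Z).card = 3 :=
    Finset.card_eq_three.mpr ⟨1, α, β, hα1, hβ1, hαβ, rfl⟩
  have := (Finset.card_le_card hsub).trans hle
  omega

/-- five elements do not fit in a subgroup of order four -/
theorem not_five {U : Subgroup G} (hU4 : Nat.card U = 4) {a b c d : G} (ha : a ∈ U) (hb : b ∈ U) (hc : c ∈ U)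
    (hd : d ∈ U) (h1a : a ≠ 1) (h1b : b ≠ 1) (h1c : c ≠ 1) (h1d : d ≠ 1) (hab : a ≠ b) (hac : a ≠ c)
    (had : a ≠ d) (hbc : b ≠ c) (hbd : b ≠ d) (hcd : c ≠ d) : False := by
  classical
  haveI := Fintype.ofFinite U
  have h5 : ({(1 : U), ⟨a, ha⟩, ⟨b, hb⟩, ⟨c, hc⟩, ⟨d, hd⟩} : Finset U).card = 5 := by
    simp [Subtype.ext_iff, Ne.symm h1a, Ne.symm h1b, Ne.symm h1c, Ne.symm h1d, hab, hac, had, hbc, hbd, hcd]
  have h := Finset.card_le_univ ({(1 : U), ⟨a, ha⟩, ⟨b, hb⟩, ⟨c, hc⟩, ⟨d, hd⟩} : Finset U)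
  rw [h5, ← Nat.card_eq_fintype_card, hU4] at h
  omega

/-- `Ω₁(Z(R)) = U` when `R` has index two in `S` and `Z(S)` has one involution; hence `S` normalises `U` -/
theorem le_normalizer_of_index_two {R S U : Subgroup G} {u : G} (hRS : R ≤ S)
    (hcard : Nat.card S = 2 * Nat.card R)
    (hU : ∀ x ∈ U, x ∈ R ∧ x * x = 1 ∧ ∀ r ∈ R, r * x = x * r) (hU4 : Nat.card U = 4) (hu1 : u ≠ 1)
    (hu2 : u * u = 1)
    (huniq : ∀ b ∈ S, (∀ s ∈ S, s * b = b * s) → b * b = 1 → b = 1 ∨ b = u) :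
    S ≤ normalizer (U : Set G) := by
  classical
  have hidx : (R.subgroupOf S).index = 2 := by
    have h := (R.subgroupOf S).card_mul_index
    rw [Nat.card_congr (subgroupOfEquivOfLe hRS).toEquiv, hcard, mul_comm 2] at h
    exact Nat.eq_of_mul_eq_mul_left Nat.card_pos h
  haveI : (R.subgroupOf S).Normal := normal_of_index_eq_two hidx
  have hRn : ∀ s ∈ S, ∀ r ∈ R, s * r * s⁻¹ ∈ R := fun s hs r hr =>
    mem_subgroupOf.mp (Subgroup.Normal.conj_mem inferInstance (⟨r, hRS hr⟩ : S) (mem_subgroupOf.mpr hr) ⟨s, hs⟩)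
  let W : Subgroup G :=
    { carrier := {x | x ∈ R ∧ x * x = 1 ∧ ∀ r ∈ R, r * x = x * r}
      one_mem' := ⟨one_mem R, one_mul 1, fun r _ => by simp⟩
      mul_mem' := by
        rintro a b ⟨ha, ha2, haC⟩ ⟨hb, hb2, hbC⟩
        refine ⟨mul_mem ha hb, ?_, fun r hr => ?_⟩
        · rw [show a * b * (a * b) = a * (b * a) * b by group, haC b hb,
            show a * (a * b) * b = a * a * (b * b) by group, ha2, hb2, one_mul]
        · rw [← mul_assoc, haC r hr, mul_assoc, hbC r hr, mul_assoc]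
      inv_mem' := by
        rintro a ⟨ha, ha2, haC⟩
        rw [inv_eq_of_mul_eq_one_right ha2]
        exact ⟨ha, ha2, haC⟩ }
  have hUW : U ≤ W := fun x hx => hU x hx
  have hWS : ∀ s ∈ S, ∀ x ∈ W, s * x * s⁻¹ ∈ W := by
    rintro s hs x ⟨hx, hx2, hxC⟩
    refine ⟨hRn s hs x hx, ?_, fun r hr => ?_⟩
    · rw [show s * x * s⁻¹ * (s * x * s⁻¹) = s * (x * x) * s⁻¹ by group, hx2]; group
    · have hr' : s⁻¹ * r * s ∈ R := by simpa using hRn s⁻¹ (inv_mem hs) r hr
      calc r * (s * x * s⁻¹) = s * (s⁻¹ * r * s * x) * s⁻¹ := by group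
        _ = s * (x * (s⁻¹ * r * s)) * s⁻¹ := by rw [hxC _ hr']
        _ = s * x * s⁻¹ * r := by group
  obtain ⟨s, hs, hsR⟩ : ∃ s, s ∈ S ∧ s ∉ R := by
    by_contra! h
    have := le_antisymm hRS h
    rw [this] at hcard
    have : 0 < Nat.card S := Nat.card_pos
    omega
  have hss : s * s ∈ R := by
    have h := Subgroup.sq_mem_of_index_two hidx (⟨s, hs⟩ : S)
    rw [pow_two, mem_subgroupOf] at h
    exact h
  have hcov : ∀ t ∈ S, t ∈ R ∨ ∃ r ∈ R, t = r * s := by
    intro t ht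
    by_cases htR : t ∈ R
    · exact Or.inl htR
    · refine Or.inr ⟨t * s⁻¹, ?_, by group⟩
      have h := (mul_mem_iff_of_index_two hidx (a := (⟨t, ht⟩ : S)) (b := (⟨s, hs⟩ : S)⁻¹)).mpr
        (iff_of_false (fun h => htR (mem_subgroupOf.mp h))
          (fun h => hsR (by simpa using mem_subgroupOf.mp h)))
      exact mem_subgroupOf.mp h
  have hcomm : ∀ a ∈ W, ∀ b ∈ W, a * b = b * a := fun a ha b hb => hb.2.2 a ha.1
  let f : W →* G :=
    { toFun := fun x => (x : G) * (s * x * s⁻¹)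
      map_one' := by simp
      map_mul' := fun x y => by
        have h := hcomm _ y.2 _ (hWS s hs _ x.2)
        show (x : G) * y * (s * ((x : G) * y) * s⁻¹) = (x : G) * (s * x * s⁻¹) * ((y : G) * (s * y * s⁻¹))
        calc (x : G) * y * (s * ((x : G) * y) * s⁻¹)
            = (x : G) * ((y : G) * (s * x * s⁻¹)) * (s * y * s⁻¹) := by group
          _ = (x : G) * ((s * x * s⁻¹) * (y : G)) * (s * y * s⁻¹) := by rw [h]
          _ = _ := by group }
  have hfix : ∀ b ∈ W, s * b * s⁻¹ = b → b = 1 ∨ b = u := by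
    intro b hb hsb
    refine huniq b (hRS hb.1) (fun t ht => ?_) hb.2.1
    rcases hcov t ht with h | ⟨r, hr, rfl⟩
    · exact hb.2.2 t h
    · rw [mul_assoc, mul_inv_eq_iff_eq_mul.mp hsb, ← mul_assoc, hb.2.2 r hr, mul_assoc]
  have hker : Nat.card f.ker ≤ 2 := by
    have hmap : f.ker.map W.subtype ≤ zpowers u := by
      rintro _ ⟨x, hx, rfl⟩
      have h : (x : G) * (s * x * s⁻¹) = 1 := hx
      have h2 : s * (x : G) * s⁻¹ = x := by
        rw [eq_inv_of_mul_eq_one_right h, inv_eq_of_mul_eq_one_right x.2.2.1]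
      rcases hfix _ x.2 h2 with h' | h' <;> rw [coe_subtype, h']
      · exact one_mem _
      · exact mem_zpowers u
    have h := card_le_of_le hmap
    rw [card_map_of_injective W.subtype_injective, Nat.card_zpowers, orderOf_of_sq hu2 hu1] at h
    exact h
  have hrange : Nat.card f.range ≤ 2 := by
    have hmap : f.range ≤ zpowers u := by
      rintro _ ⟨x, rfl⟩
      have hy : (x : G) * (s * x * s⁻¹) ∈ W := mul_mem x.2 (hWS s hs _ x.2)
      have h2 : s * ((x : G) * (s * x * s⁻¹)) * s⁻¹ = (x : G) * (s * x * s⁻¹) := by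
        have h3 : s * (s * (x : G) * s⁻¹) * s⁻¹ = x := by
          rw [show s * (s * (x : G) * s⁻¹) * s⁻¹ = s * s * x * (s * s)⁻¹ by group, x.2.2.2 _ hss,
            mul_inv_cancel_right]
        calc s * ((x : G) * (s * x * s⁻¹)) * s⁻¹ = s * x * s⁻¹ * (s * (s * x * s⁻¹) * s⁻¹) := by group
          _ = s * x * s⁻¹ * (x : G) := by rw [h3]
          _ = (x : G) * (s * x * s⁻¹) := hcomm _ (hWS s hs _ x.2) _ x.2
      rcases hfix _ hy h2 with h' | h'
      · show (x : G) * (s * x * s⁻¹) ∈ zpowers u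
        rw [h']; exact one_mem _
      · show (x : G) * (s * x * s⁻¹) ∈ zpowers u
        rw [h']; exact mem_zpowers u
    have h := card_le_of_le hmap
    rwa [Nat.card_zpowers, orderOf_of_sq hu2 hu1] at h
  have hW4 : Nat.card W ≤ 4 := by
    rw [← f.ker.card_mul_index, index_ker]
    calc Nat.card f.ker * Nat.card f.range ≤ 2 * 2 := Nat.mul_le_mul hker hrange
      _ = 4 := rfl
  have hWU : U = W := eq_of_le_of_card_ge hUW (hU4.symm ▸ hW4)
  intro t ht
  refine mem_normalizer_of_conj fun x hx => ?_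
  rw [hWU] at hx ⊢
  exact hWS t ht x hx

/-- the key step: `U ≤ O_2(C(u))` -/
theorem le_qcore_centralizer (hchar : IsCharacteristicTwoType G)
    (P : Sylow 2 G) (U : Subgroup G) (hUP : U ≤ (P : Subgroup G))
    (hUn : (P : Subgroup G) ≤ normalizer (U : Set G)) (hU4 : Nat.card U = 4)
    (hUsq : ∀ x ∈ U, x * x = 1)
    (hUZ : ¬ IsCyclic ↥((P : Subgroup G) ⊓ centralizer ((P : Subgroup G) : Set G)) →
      U ≤ centralizer ((P : Subgroup G) : Set G))
    {u : G} (hu : u ∈ U) (hu1 : u ≠ 1) : U ≤ qcore 2 (centralizer ({u} : Set G)) := by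
  classical
  haveI : Fact (Nat.Prime 2) := ⟨Nat.prime_two⟩
  set H := centralizer ({u} : Set G) with hH
  have hu2 := hUsq u hu
  have huH : ∀ h ∈ H, h * u = u * h := fun h hh => mem_centralizer_singleton_iff.mp hh
  have hinv : ∀ a ∈ U, a⁻¹ = a := fun a ha => inv_eq_of_mul_eq_one_right (hUsq a ha)
  have hUc : ∀ a ∈ U, ∀ b ∈ U, a * b = b * a := fun a ha b hb => by
    rw [← hinv _ (mul_mem ha hb), mul_inv_rev, hinv a ha, hinv b hb]
  have hUH : U ≤ H := fun w hw => mem_centralizer_singleton_iff.mpr (hUc w hw u hu)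
  have hc2 : ∀ x ∈ H, (∀ q ∈ qcore 2 H, q * x = x * q) → x ∈ qcore 2 H := by
    have h := hchar.2 (zpowers u) (IsPGroup.of_card (n := 1)
      (by rw [Nat.card_zpowers, orderOf_of_sq hu2 hu1]; rfl))
      (by simp [zpowers_eq_bot, hu1])
    rw [← centralizer_eq_normalizer hu2 hu1] at h
    intro x hx hq
    rw [mem_qcore_iff hx]
    refine h (mem_centralizer_iff.mpr fun y hy => Subtype.ext ?_)
    exact hq y ⟨y, hy, rfl⟩
  set R := (P : Subgroup G) ⊓ H with hR
  have hR2 : IsPGroup 2 R := P.2.to_le inf_le_left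
  obtain ⟨S', hS'⟩ := (hR2.comap_of_injective H.subtype H.subtype_injective).exists_le_sylow
  set S : Subgroup G := (S' : Subgroup H).map H.subtype with hS
  have hSH : S ≤ H := map_subtype_le _
  have hS2 : IsPGroup 2 S := S'.2.map _
  have hRS : R ≤ S := by
    have h := map_mono (f := H.subtype) hS'
    have e : R.comap H.subtype = R.subgroupOf H := rfl
    rwa [e, map_subgroupOf_eq_of_le inf_le_right] at h
  have hQS : qcore 2 H ≤ S := map_mono (Cfsg.Lib.Coprime.pCore_le_sylow 2 S')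
  have hfin : S ≤ normalizer (U : Set G) → U ≤ qcore 2 H := by
    intro hn
    refine le_qcore_of_stab hc2 hu2 huH hUH fun w hw q hq => ?_
    have hqH : q ∈ H := qcore_le hq
    set v := q * w * q⁻¹ with hv
    have hvU : v ∈ U := (mem_normalizer_iff.mp (hn (hQS hq)) _).mp hw
    have he : w * q * w⁻¹ * q⁻¹ = w * v := by rw [hinv w hw, hv]; group
    rw [he]
    by_cases hvw : v = w
    · rw [hvw, hUsq w hw]; exact one_mem _
    by_cases hw1 : w = 1
    · exact absurd (by rw [hv, hw1]; group) hvw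
    by_cases hwu : w = u
    · exact absurd (by rw [hv, hwu, huH q hqH, mul_inv_cancel_right]) hvw
    have hv1 : v ≠ 1 := fun h => hw1 (conj_eq_one_iff.mp h)
    have hvu : v ≠ u := fun h => hwu (by
      have h' : q * w = u * q := mul_inv_eq_iff_eq_mul.mp h
      rw [← huH q hqH] at h'
      exact mul_left_cancel h')
    by_cases hvuw : v = u * w
    · rw [hvuw, hUc u hu w hw, ← mul_assoc, hUsq w hw, one_mul]; exact mem_zpowers u
    refine (not_five hU4 hu hw hvU (mul_mem hu hw) hu1 hw1 hv1 ?_ (Ne.symm hwu) (Ne.symm hvu) ?_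
      (Ne.symm hvw) ?_ hvuw).elim
    · exact fun h => hwu (by rw [← inv_eq_of_mul_eq_one_right h, hinv u hu])
    · exact fun h => hw1 (mul_eq_left.mp h.symm)
    · exact fun h => hu1 (mul_eq_right.mp h.symm)
  by_cases hPH : (P : Subgroup G) ≤ H
  · have hPS : (P : Subgroup G) ≤ S := (le_inf le_rfl hPH).trans hRS
    exact hfin (P.3 hS2 hPS ▸ hUn)
  by_cases hSR : S ≤ R
  · exact hfin ((hSR.trans inf_le_left).trans hUn)
  -- the index two case: the centre of `P` is cyclic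
  have hcyc : IsCyclic ↥((P : Subgroup G) ⊓ centralizer ((P : Subgroup G) : Set G)) := by
    by_contra h
    exact hPH fun y hy => mem_centralizer_singleton_iff.mpr (mem_centralizer_iff.mp (hUZ h hu) y hy)
  haveI : Group.IsNilpotent ↥(P : Subgroup G) := P.2.isNilpotent
  haveI : (U.subgroupOf (P : Subgroup G)).Normal := normal_subgroupOf_of_le_normalizer hUn
  obtain ⟨z, hzU, hzC, hz1⟩ : ∃ z, z ∈ U ∧ (∀ y ∈ (P : Subgroup G), y * z = z * y) ∧ z ≠ 1 := by
    have h := Cfsg.Lib.Coprime.inf_center_ne_bot (U.subgroupOf (P : Subgroup G)) (fun h => hu1 (by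
      have h' : (⟨u, hUP hu⟩ : (P : Subgroup G)) ∈ U.subgroupOf (P : Subgroup G) := hu
      rw [h, mem_bot] at h'
      exact congrArg Subtype.val h'))
    rw [Subgroup.ne_bot_iff_exists_ne_one] at h
    obtain ⟨⟨z, hzU, hzC⟩, hz1⟩ := h
    refine ⟨z, hzU, fun y hy => congrArg Subtype.val (mem_center_iff.mp hzC ⟨y, hy⟩), fun h => hz1 ?_⟩
    exact Subtype.ext (Subtype.ext h)
  have hzu : z ≠ u := fun h => hPH fun y hy => mem_centralizer_singleton_iff.mpr (h ▸ hzC y hy)
  have hcases : ∀ w ∈ U, w = 1 ∨ w = z ∨ w = u ∨ w = z * u := by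
    intro w hw
    by_contra! h
    refine not_five hU4 hzU hu (mul_mem hzU hu) hw hz1 hu1 ?_ h.1 hzu ?_ (Ne.symm h.2.1) ?_
      (Ne.symm h.2.2.1) (Ne.symm h.2.2.2)
    · exact fun h => hzu (by rw [← inv_eq_of_mul_eq_one_right h, hinv z hzU])
    · exact fun h => hu1 (mul_eq_left.mp h.symm)
    · exact fun h => hz1 (mul_eq_right.mp h.symm)
  have horb : ∀ y ∈ (P : Subgroup G), y ∉ R → y * u * y⁻¹ = z * u := by
    intro y hy hyR
    have hm := (mem_normalizer_iff.mp (hUn hy) u).mp hu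
    rcases hcases _ hm with h | h | h | h
    · exact absurd (conj_eq_one_iff.mp h) hu1
    · refine absurd ?_ hzu
      have h' : y * u = y * z := by
        rw [mul_inv_eq_iff_eq_mul.mp h]; exact (hzC y hy).symm
      exact (mul_left_cancel h').symm
    · exact absurd ⟨hy, mem_centralizer_singleton_iff.mpr (mul_inv_eq_iff_eq_mul.mp h)⟩ hyR
    · exact h
  have hPR : Nat.card (P : Subgroup G) ≤ 2 * Nat.card R := by
    obtain ⟨y, hy, hyH⟩ := SetLike.not_le_iff_exists.mp hPH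
    have hyR : y ∉ R := fun h => hyH h.2
    have hi : (R.subgroupOf (P : Subgroup G)).index ≤ 2 := by
      refine le_of_eq (Subgroup.index_eq_two_iff.mpr ⟨⟨y, hy⟩, fun b => ?_⟩)
      by_cases hb : (b : G) ∈ R
      · refine Or.inr ⟨mem_subgroupOf.mpr hb, fun h => hyR ?_⟩
        have h' : (b : G) * y ∈ R := mem_subgroupOf.mp h
        have := mul_mem (inv_mem hb) h'
        rwa [inv_mul_cancel_left] at this
      · refine Or.inl ⟨mem_subgroupOf.mpr ?_, fun h => hb (mem_subgroupOf.mp h)⟩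
        refine ⟨mul_mem b.2 hy, mem_centralizer_singleton_iff.mpr ?_⟩
        show (b : G) * y * u = u * ((b : G) * y)
        rw [← mul_inv_eq_iff_eq_mul,
          show (b : G) * y * u * ((b : G) * y)⁻¹ = b * (y * u * y⁻¹) * (b : G)⁻¹ by group, horb y hy hyR,
          show (b : G) * (z * u) * (b : G)⁻¹ = (b * z * (b : G)⁻¹) * (b * u * (b : G)⁻¹) by group,
          horb b b.2 hb, mul_inv_eq_iff_eq_mul.mpr (hzC b b.2), ← mul_assoc, hUsq z hzU, one_mul]
    rw [← (R.subgroupOf (P : Subgroup G)).card_mul_index,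
      Nat.card_congr (subgroupOfEquivOfLe (inf_le_left : R ≤ _)).toEquiv, mul_comm]
    exact Nat.mul_le_mul_right _ hi
  obtain ⟨T, hT⟩ := hS2.exists_le_sylow
  have hTP : Nat.card (T : Subgroup G) = Nat.card (P : Subgroup G) :=
    Nat.card_congr (T.equiv P).toEquiv
  have h2R : 2 * Nat.card R ≤ Nat.card S := by
    have hi : 2 ≤ (R.subgroupOf S).index :=
      Nat.lt_of_le_of_ne (Nat.one_le_iff_ne_zero.mpr index_ne_zero_of_finite) fun h => hSR (by
        rw [← Subgroup.subgroupOf_eq_top]; exact index_eq_one.mp h.symm)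
    rw [← (R.subgroupOf S).card_mul_index, Nat.card_congr (subgroupOfEquivOfLe hRS).toEquiv, mul_comm 2]
    exact Nat.mul_le_mul_left _ hi
  have hST : S = T := eq_of_le_of_card_ge hT (hTP.le.trans (hPR.trans h2R))
  have hScard : Nat.card S = 2 * Nat.card R := le_antisymm ((hST ▸ hTP).le.trans hPR) h2R
  obtain ⟨g, hg⟩ := MulAction.exists_smul_eq G P T
  have hmem : ∀ x, x ∈ S ↔ g⁻¹ * x * g ∈ (P : Subgroup G) := fun x => by
    rw [hST, ← hg, Sylow.coe_subgroup_smul, mem_pointwise_smul_iff_inv_smul_mem]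
    simp [MulAut.smul_def]
  refine hfin (le_normalizer_of_index_two hRS hScard (fun x hx => ?_) hU4 hu1 hu2
    fun b hb hbC hb2 => ?_)
  · refine ⟨⟨hUP hx, hUH hx⟩, hUsq x hx, fun r hr => ?_⟩
    rcases hcases x hx with rfl | rfl | rfl | rfl
    · simp
    · exact hzC r hr.1
    · exact huH r hr.2
    · rw [← mul_assoc, hzC r hr.1, mul_assoc, huH r hr.2, mul_assoc]
  · exact center_involution_unique hcyc hmem (hRS ⟨hUP hu, hUH hu⟩) (fun s hs => huH s (hSH hs)) hb hbC hu2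
      hb2 hu1

end Cfsg.Lib.CharTwoFour
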