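import Cfsg.Agent.Components.Misc.CharTwoFourGroup
import Cfsg.Agent.Components.CharP
import Cfsg.Agent.PGroups.NormalFour
import Cfsg.Agent.S1324

/-!
With involution centralisers of characteristic 2, a Sylow 2-subgroup containing an elementary abelian group of
order 8 normalises no nontrivial subgroup of odd order.
-/

set_option linter.style.haveILetI false
set_option linter.unusedSectionVars false

namespace Cfsg.Lib.CharTwoSignalizer

open Subgroup Cfsg.Lib.Sft Cfsg.Lib.Components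

universe u

variable {G : Type u} [Group G] [Finite G]

theorem eq_bot_of_large_centralizer (S : Sylow 2 G) {Y : Subgroup G} (hY : Odd (Nat.card Y)) {w : G}
    (hYw : Y ≤ centralizer ({w} : Set G)) (hH : CharPGroup 2 ↥(centralizer ({w} : Set G)))
    (hR : Nat.card (S : Subgroup G) ≤ 2 * Nat.card ↥((S : Subgroup G) ⊓ centralizer ({w} : Set G)))
    (hRY : (S : Subgroup G) ⊓ centralizer ({w} : Set G) ≤ normalizer (Y : Set G)) : Y = ⊥ := by
  haveI : Fact (Nat.Prime 2) := ⟨Nat.prime_two⟩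
  set H := centralizer ({w} : Set G)
  set R := (S : Subgroup G) ⊓ H with hR'
  set Q := qcore 2 H with hQ
  have hR2 : IsPGroup 2 R := S.2.to_le inf_le_left
  obtain ⟨T', hT'⟩ := (hR2.comap_of_injective H.subtype H.subtype_injective).exists_le_sylow
  set T : Subgroup G := (T' : Subgroup H).map H.subtype with hT
  have hT2 : IsPGroup 2 T := T'.2.map _
  have hRT : R ≤ T := by
    have h := map_mono (f := H.subtype) hT'
    have e : R.comap H.subtype = R.subgroupOf H := rfl
    rwa [e, map_subgroupOf_eq_of_le inf_le_right] at h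
  have hQT : Q ≤ T := map_mono (Cfsg.Lib.Coprime.pCore_le_sylow 2 T')
  have hle2 : R.relIndex Q ≤ 2 := by
    refine (relIndex_le_of_le_right hQT index_ne_zero_of_finite).trans ?_
    obtain ⟨T₁, hT₁⟩ := hT2.exists_le_sylow
    have h1 : Nat.card T ≤ Nat.card (S : Subgroup G) :=
      (card_le_of_le hT₁).trans (Nat.card_congr (T₁.equiv S).toEquiv).le
    have h2 : R.relIndex T * Nat.card R = Nat.card T := by
      rw [← Nat.card_congr (subgroupOfEquivOfLe hRT).toEquiv, relIndex, mul_comm]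
      exact (R.subgroupOf T).card_mul_index
    exact Nat.le_of_mul_le_mul_right (h2.le.trans (h1.trans hR)) Nat.card_pos
  have hQn : ∀ y ∈ H, ∀ q ∈ Q, y * q * y⁻¹ ∈ Q := fun y hy q hq =>
    (mem_normalizer_iff.mp (le_normalizer_qcore (le_normalizer hy)) q).mp hq
  rw [eq_bot_iff]
  intro y hy
  have hyH := hYw hy
  have hY2 : ∀ c ∈ Y, c ∈ Q → c = 1 := by
    intro c hc hcQ
    obtain ⟨k, hk⟩ := (IsPGroup.iff_orderOf.mp (isPGroup_qcore (q := 2) (K := H))) ⟨c, hcQ⟩
    rw [orderOf_mk] at hk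
    rw [← orderOf_eq_one_iff]
    exact Nat.eq_one_of_dvd_coprimes (hY.coprime_two_left.pow_left k) hk.dvd (orderOf_dvd_natCard Y hc)
  have hfix : ∀ q ∈ Q, q ∈ R → y * q = q * y := by
    intro q hq hqR
    have h1 : y * q * y⁻¹ * q⁻¹ = 1 := by
      refine hY2 _ ?_ (mul_mem (hQn y hyH q hq) (inv_mem hq))
      have h := (mem_normalizer_iff.mp (hRY hqR) y⁻¹).mp (inv_mem hy)
      have := mul_mem hy h
      rwa [show y * (q * y⁻¹ * q⁻¹) = y * q * y⁻¹ * q⁻¹ by group] at this
    rw [mul_inv_eq_one, mul_inv_eq_iff_eq_mul] at h1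
    exact h1
  have hall : ∀ q ∈ Q, y * q = q * y := by
    intro q hq
    by_cases hqR : q ∈ R
    · exact hfix q hq hqR
    have hidx : (R.subgroupOf Q).index = 2 := by
      refine le_antisymm hle2 (Nat.lt_of_le_of_ne (Nat.one_le_iff_ne_zero.mpr index_ne_zero_of_finite) ?_)
      intro h
      exact hqR (mem_subgroupOf.mp ((index_eq_one.mp h.symm).ge (mem_top (⟨q, hq⟩ : Q))))
    set c := y * q * y⁻¹ * q⁻¹ with hc
    have hcQ : c ∈ Q := mul_mem (hQn y hyH q hq) (inv_mem hq)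
    have hcR : c ∈ R := by
      by_cases hyq : y * q * y⁻¹ ∈ R
      · exfalso
        have h := hfix _ (hQn y hyH q hq) hyq
        refine hqR ?_
        have e : y * q * y⁻¹ = q := by
          calc y * q * y⁻¹ = y⁻¹ * (y * (y * q * y⁻¹)) := by group
            _ = y⁻¹ * (y * q * y⁻¹ * y) := by rw [h]
            _ = q := by group
        rwa [e] at hyq
      · exact mem_subgroupOf.mp ((mul_mem_iff_of_index_two hidx (a := (⟨_, hQn y hyH q hq⟩ : Q))
          (b := (⟨q, hq⟩ : Q)⁻¹)).mpr (iff_of_false (fun h => hyq (mem_subgroupOf.mp h))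
            (fun h => hqR (by simpa using mem_subgroupOf.mp h))))
    have hyc : Commute y c := hfix c hcQ hcR
    have hiter : ∀ m : ℕ, y ^ m * q * (y ^ m)⁻¹ = c ^ m * q := by
      intro m
      induction m with
      | zero => simp
      | succ m ih =>
        calc y ^ (m + 1) * q * (y ^ (m + 1))⁻¹ = y * (y ^ m * q * (y ^ m)⁻¹) * y⁻¹ := by
              rw [pow_succ']; group
          _ = y * c ^ m * y⁻¹ * (y * q * y⁻¹ * q⁻¹) * q := by rw [ih]; group
          _ = c ^ (m + 1) * q := by rw [(hyc.pow_right m).eq, mul_inv_cancel_right, pow_succ]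
    have h1 := hiter (orderOf y)
    rw [pow_orderOf_eq_one, one_mul, inv_one, mul_one] at h1
    have hc1 : c = 1 := by
      obtain ⟨k, hk⟩ := (IsPGroup.iff_orderOf.mp (isPGroup_qcore (q := 2) (K := H))) ⟨c, hcQ⟩
      rw [orderOf_mk] at hk
      rw [← orderOf_eq_one_iff]
      refine Nat.eq_one_of_dvd_coprimes ?_ hk.dvd (orderOf_dvd_of_pow_eq_one (mul_eq_right.mp h1.symm))
      exact ((hY.coprime_two_left).pow_left k).coprime_dvd_right (orderOf_dvd_natCard Y hy)
    rw [hc, mul_inv_eq_one, mul_inv_eq_iff_eq_mul] at hc1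
    exact hc1
  rw [mem_bot]
  refine hY2 y hy ?_
  rw [hQ, mem_qcore_iff hyH]
  exact hH (mem_centralizer_iff.mpr fun z hz => Subtype.ext (hall z ⟨z, hz, rfl⟩).symm)

theorem odd_invariant_eq_bot (S : Sylow 2 G) (hS3 : ∃ E : Subgroup G, E ≤ (S : Subgroup G) ∧
      Cfsg.IsElementaryAbelian 2 E ∧ Nat.card E = 8)
    (hchar : ∀ t : G, orderOf t = 2 → CharPGroup 2 ↥(centralizer ({t} : Set G)))
    {X : Subgroup G} (hX : Odd (Nat.card X)) (hSX : (S : Subgroup G) ≤ normalizer (X : Set G)) : X = ⊥ := by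
  haveI : Fact (Nat.Prime 2) := ⟨Nat.prime_two⟩
  obtain ⟨E, hES, hE, hE8⟩ := hS3
  obtain ⟨U', hU'n, hU'⟩ := Cfsg.Lib.PGroups.exists_normal_four S.2 (E.subgroupOf (S : Subgroup G))
    (by rw [Nat.card_congr (subgroupOfEquivOfLe hES).toEquiv, hE8])
    (fun e he => Subtype.ext (by simpa [pow_two] using hE.2 _ (mem_subgroupOf.mp he)))
  haveI := hU'
  set U := U'.map (S : Subgroup G).subtype with hU
  have hUS : U ≤ (S : Subgroup G) := map_subtype_le _
  have hU4 : Nat.card U = 4 := by rw [hU, card_map_of_injective (subtype_injective _), IsKleinFour.card_four]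
  have hUsq : ∀ x ∈ U, x * x = 1 := by
    rintro _ ⟨x, hx, rfl⟩
    rw [← map_mul]
    have h : x * x = 1 := congrArg Subtype.val (IsKleinFour.mul_self (⟨x, hx⟩ : U'))
    rw [h, map_one]
  have hinv : ∀ x ∈ U, x⁻¹ = x := fun x hx => inv_eq_of_mul_eq_one_right (hUsq x hx)
  have hcomm : ∀ a ∈ U, ∀ b ∈ U, a * b = b * a := fun a ha b hb => by
    rw [← hinv _ (mul_mem ha hb), mul_inv_rev, hinv a ha, hinv b hb]
  have hUn : (S : Subgroup G) ≤ normalizer (U : Set G) := by
    intro s hs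
    refine mem_normalizer_of_conj ?_
    rintro _ ⟨x, hx, rfl⟩
    exact ⟨_, hU'n.conj_mem x hx ⟨s, hs⟩, rfl⟩
  have hUe : Cfsg.IsElementaryAbelian 2 U :=
    ⟨⟨⟨fun a b => Subtype.ext (hcomm _ a.2 _ b.2)⟩⟩, fun x hx => by rw [pow_two, hUsq x hx]⟩
  haveI := hU'n
  haveI : Group.IsNilpotent ↥(S : Subgroup G) := S.2.isNilpotent
  obtain ⟨z, hzU, hzC, hz1⟩ : ∃ z, z ∈ U ∧ (∀ y ∈ (S : Subgroup G), y * z = z * y) ∧ z ≠ 1 := by
    have h := Cfsg.Lib.Coprime.inf_center_ne_bot U' (fun h => by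
      have h4 : Nat.card U' = 4 := IsKleinFour.card_four
      rw [h, card_bot] at h4
      omega)
    rw [Subgroup.ne_bot_iff_exists_ne_one] at h
    obtain ⟨⟨z, hzU, hzC⟩, hz1⟩ := h
    refine ⟨z, ⟨z, hzU, rfl⟩, fun y hy => congrArg Subtype.val (mem_center_iff.mp hzC ⟨y, hy⟩),
      fun h => hz1 ?_⟩
    exact Subtype.ext (Subtype.ext h)
  have hidx : ∀ w ∈ U, w ≠ 1 →
      Nat.card (S : Subgroup G) ≤ 2 * Nat.card ↥((S : Subgroup G) ⊓ centralizer ({w} : Set G)) := by
    intro w hw hw1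
    by_cases hSH : (S : Subgroup G) ≤ centralizer ({w} : Set G)
    · rw [inf_eq_left.mpr hSH]; omega
    obtain ⟨y, hy, hyH⟩ := SetLike.not_le_iff_exists.mp hSH
    have hzw : z ≠ w := fun h => hyH (mem_centralizer_singleton_iff.mpr (h ▸ hzC y hy))
    have horb : ∀ g ∈ (S : Subgroup G), g ∉ centralizer ({w} : Set G) → g * w * g⁻¹ = z * w := by
      intro g hg hgH
      by_contra h
      refine Cfsg.Lib.CharTwoFour.not_five hU4 hzU hw (mul_mem hzU hw)
        ((mem_normalizer_iff.mp (hUn hg) w).mp hw) hz1 hw1 ?_ (fun h1 => hw1 (conj_eq_one_iff.mp h1)) hzw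
        ?_ ?_ ?_ ?_ (Ne.symm h)
      · exact fun h1 => hzw (by rw [← inv_eq_of_mul_eq_one_right h1, hinv z hzU])
      · exact fun h1 => hw1 (mul_eq_left.mp h1.symm)
      · intro h1
        have h2 : g * w = g * z := by
          rw [hzC g hg]; exact mul_inv_eq_iff_eq_mul.mp h1.symm
        exact hzw (mul_left_cancel h2).symm
      · exact fun h1 => hz1 (mul_eq_right.mp h1.symm)
      · exact fun h1 => hgH (mem_centralizer_singleton_iff.mpr (mul_inv_eq_iff_eq_mul.mp h1.symm))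
    set R := (S : Subgroup G) ⊓ centralizer ({w} : Set G) with hR
    have hyR : y ∉ R := fun h => hyH h.2
    have hi : (R.subgroupOf (S : Subgroup G)).index ≤ 2 := by
      refine le_of_eq (Subgroup.index_eq_two_iff.mpr ⟨⟨y, hy⟩, fun b => ?_⟩)
      by_cases hb : (b : G) ∈ R
      · refine Or.inr ⟨mem_subgroupOf.mpr hb, fun h => hyR ?_⟩
        have h' : (b : G) * y ∈ R := mem_subgroupOf.mp h
        have := mul_mem (inv_mem hb) h'
        rwa [inv_mul_cancel_left] at this
      · refine Or.inl ⟨mem_subgroupOf.mpr ?_, fun h => hb (mem_subgroupOf.mp h)⟩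
        refine ⟨mul_mem b.2 hy, mem_centralizer_singleton_iff.mpr ?_⟩
        show (b : G) * y * w = w * ((b : G) * y)
        rw [← mul_inv_eq_iff_eq_mul,
          show (b : G) * y * w * ((b : G) * y)⁻¹ = b * (y * w * y⁻¹) * (b : G)⁻¹ by group, horb y hy hyH,
          show (b : G) * (z * w) * (b : G)⁻¹ = (b * z * (b : G)⁻¹) * (b * w * (b : G)⁻¹) by group,
          horb b b.2 (fun h => hb ⟨b.2, h⟩), mul_inv_eq_iff_eq_mul.mpr (hzC b b.2), ← mul_assoc,
          hUsq z hzU, one_mul]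
    rw [← (R.subgroupOf (S : Subgroup G)).card_mul_index,
      Nat.card_congr (subgroupOfEquivOfLe (inf_le_left : R ≤ _)).toEquiv, mul_comm]
    exact Nat.mul_le_mul_right _ hi
  rw [Cfsg.Agent.S1324.result 2 U X hUe hU4.ge
    (fun h => Nat.not_even_iff_odd.mpr hX (even_iff_two_dvd.mpr h)) (hUS.trans hSX), eq_bot_iff]
  refine iSup_le fun B => ?_
  obtain ⟨B, hBU, hBi⟩ := B
  have hB1 : B ≠ ⊥ := fun h => by
    rw [h, relIndex_bot_left, hU4] at hBi
    omega
  obtain ⟨⟨w, hwB⟩, hw1⟩ := Subgroup.ne_bot_iff_exists_ne_one.mp hB1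
  have hw1' : w ≠ 1 := fun h => hw1 (Subtype.ext h)
  refine le_trans (inf_le_inf_left X (centralizer_le (Set.singleton_subset_iff.mpr hwB))) (le_of_eq ?_)
  refine eq_bot_of_large_centralizer S ?_ inf_le_right
    (hchar w (Cfsg.Lib.CharTwoFour.orderOf_of_sq (hUsq w (hBU hwB)) hw1')) (hidx w (hBU hwB) hw1') ?_
  · exact Odd.of_dvd_nat hX (card_dvd_of_le inf_le_left)
  · exact Cfsg.Lib.Coprime.le_normalizer_inf ((inf_le_left).trans hSX) (inf_le_right.trans le_normalizer)

end Cfsg.Lib.CharTwoSignalizer
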