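import Cfsg.Agent.OddLocal.SmallAction
import Cfsg.Agent.Components.PComponents
import Cfsg.Agent.Blocks.FongFullDefect
import Cfsg.Agent.GaschutzYen.Basic
import Cfsg.Agent.PGroups.Basic
import Cfsg.Agent.S3888

/-! Chief factors of `p`-solvable groups of `p`-rank at most two. -/

set_option autoImplicit false
set_option linter.style.haveILetI false
set_option linter.unusedSectionVars false

open Subgroup

namespace Cfsg.Lib.ChiefRankTwo

universe u

variable {p : ℕ} [hp : Fact p.Prime]

theorem index_frattini_le_of_gens {J : Type*} [Group J] [Finite J] (hJ : IsPGroup p J) :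
    ∀ (s : List J), (closure {a | a ∈ s}).map (QuotientGroup.mk' (frattini J)) ≤ ⊤ ∧
      Nat.card ((closure {a | a ∈ s}).map (QuotientGroup.mk' (frattini J))) ≤ p ^ s.length := by
  haveI := Cfsg.Lib.PGroups.isMulCommutative_quotient_frattini hJ
  intro s
  induction s with
  | nil => simp
  | cons a s ih =>
    refine ⟨le_top, ?_⟩
    set q := QuotientGroup.mk' (frattini J)
    set A := (closure {b | b ∈ s}).map q
    have hle : (closure {b | b ∈ a :: s}).map q ≤ A ⊔ zpowers (q a) := by
      rw [Subgroup.map_le_iff_le_comap, closure_le]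
      intro b hb
      rcases List.mem_cons.1 hb with rfl | hb
      · exact Subgroup.mem_sup_right (mem_zpowers _)
      · exact Subgroup.mem_sup_left ⟨b, subset_closure hb, rfl⟩
    refine (Subgroup.card_le_of_le hle).trans ?_
    haveI : A.Normal := ⟨fun x hx g => by rwa [mul_comm' g x, mul_inv_cancel_right]⟩
    have h1 : Nat.card ↥(A ⊔ zpowers (q a)) = Nat.card A * A.relIndex (A ⊔ zpowers (q a)) := by
      have := Subgroup.relIndex_mul_relIndex ⊥ A (A ⊔ zpowers (q a)) bot_le le_sup_left
      simpa [relIndex_bot_left] using this.symm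
    rw [h1, Subgroup.relIndex_sup_left, List.length_cons, pow_succ]
    refine Nat.mul_le_mul ih.2 (Nat.le_of_dvd hp.out.pos ?_)
    refine (show A.relIndex (zpowers (q a)) ∣ Nat.card (zpowers (q a)) from ?_).trans ?_
    · show (A.subgroupOf (zpowers (q a))).index ∣ _
      exact Subgroup.index_dvd_card _
    · rw [Nat.card_zpowers]
      exact orderOf_dvd_of_pow_eq_one (Cfsg.Lib.PGroups.pow_prime_quotient_frattini hJ _)

theorem index_frattini_le {J : Type*} [Group J] [Finite J] (hJ : IsPGroup p J) (s : List J)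
    (hs : closure {a | a ∈ s} = ⊤) : (frattini J).index ≤ p ^ s.length := by
  have h := (index_frattini_le_of_gens hJ s).2
  rw [hs, Subgroup.map_top_of_surjective _ (QuotientGroup.mk'_surjective _), Subgroup.card_top,
    ← Subgroup.index_eq_card] at h
  exact h

/-- the key property -/
theorem frattini_split {J : Type u} [Group J] [Finite J] (hp2 : p ≠ 2) (hJ : IsPGroup p J)
    (hr : Cfsg.PRankLE p 2 J) :
    (frattini J).index ≤ p ^ 2 ∨ ∃ Zc : Subgroup J, Zc.Characteristic ∧ frattini J ≤ Zc ∧
      Zc.index ≤ p ^ 2 ∧ (frattini J).relIndex Zc ≤ p ^ 2 := by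
  obtain ⟨n, hn⟩ := hJ.exists_card_eq
  haveI := hJ.isNilpotent
  rcases Cfsg.Agent.S3888.result hp2 n hn hr with hm | ⟨-, x, y, z, hgen, -, -, -, hxz, hyz, -⟩ |
    ⟨-, s, x, y, z, -, hgen, -, -, -, -, -, hy⟩ | ⟨-, hn2, hcl⟩
  · left
    obtain ⟨N, hN, hNc, hQ⟩ := hm
    obtain ⟨⟨a, ha⟩, hag⟩ := hNc.exists_generator
    obtain ⟨b', hbg⟩ := hQ.exists_generator
    obtain ⟨b, rfl⟩ := QuotientGroup.mk_surjective b'
    refine index_frattini_le hJ [a, b] ((eq_top_iff' _).2 fun g => ?_)
    obtain ⟨i, hi⟩ := hbg (g : J ⧸ N)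
    have hg : (b ^ i)⁻¹ * g ∈ N := by
      rw [← QuotientGroup.eq]; exact hi
    obtain ⟨j, hj⟩ := hag ⟨_, hg⟩
    have hj' : a ^ j = (b ^ i)⁻¹ * g := congrArg Subtype.val hj
    rw [show g = b ^ i * a ^ j by rw [hj', mul_inv_cancel_left]]
    exact mul_mem (zpow_mem (subset_closure (by simp)) i) (zpow_mem (subset_closure (by simp)) j)
  · by_cases h2 : (frattini J).index ≤ p ^ 2
    · exact Or.inl h2
    right
    set Zc := center J ⊔ frattini J
    haveI : Zc.Characteristic := by
      rw [Subgroup.characteristic_iff_map_eq]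
      intro φ
      rw [Subgroup.map_sup, Subgroup.characteristic_iff_map_eq.1 inferInstance φ,
        Subgroup.characteristic_iff_map_eq.1 frattini_characteristic φ]
    have hFZ : frattini J ≤ Zc := le_sup_right
    have hz : z ∈ center J := by
      rw [mem_center_iff]
      intro g
      have hle : closure ({x, y, z} : Set J) ≤ centralizer ({z} : Set J) := by
        rw [closure_le]
        rintro w (rfl | rfl | rfl)
        · exact mem_centralizer_singleton_iff.2 hxz
        · exact mem_centralizer_singleton_iff.2 hyz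
        · exact mem_centralizer_singleton_iff.2 rfl
      rw [hgen] at hle
      exact mem_centralizer_singleton_iff.1 (hle (mem_top g))
    have h3 : (frattini J).index ≤ p ^ 3 := index_frattini_le hJ [x, y, z] (by
      rw [← hgen]; congr 1; ext a; simp)
    have hmul := Subgroup.relIndex_mul_index hFZ
    -- both factors are proper
    have hne : Zc ≠ ⊤ := by
      intro htop
      apply h2
      have hc : center J = ⊤ := frattini_nongenerating htop
      have hab : ∀ a b : J, a * b = b * a := fun a b =>
        (mem_center_iff.1 (hc ▸ mem_top b) a)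
      by_contra hlt
      -- an abelian group of rank two is two-generated
      have : Cfsg.IsMetacyclic J := by
        set V : Subgroup J :=
          { carrier := {a | a ^ p = 1}
            one_mem' := one_pow p
            mul_mem' := fun {a b} ha hb => by
              show (a * b) ^ p = 1
              rw [(show Commute a b from hab a b).mul_pow, ha, hb, one_mul]
            inv_mem' := fun {a} ha => by
              show a⁻¹ ^ p = 1
              rw [inv_pow, ha, inv_one] }
        have hV2 : Nat.card V ≤ p ^ 2 := hr V ⟨⟨fun a b => Subtype.ext (hab a b)⟩⟩ fun a ha => ha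
        obtain ⟨i, hi⟩ := (hJ.to_subgroup V).exists_card_eq
        rcases Nat.lt_or_ge i 2 with hi2 | hi2
        · -- cyclic
          haveI : IsCyclic J := by
            classical
            letI : CommGroup J := { (inferInstance : Group J) with mul_comm := hab }
            haveI : Fintype J := Fintype.ofFinite J
            refine isCyclic_of_card_pow_eq_one_le fun m hm => ?_
            obtain ⟨g, hg, hgm⟩ : ∃ k : ℕ, k = Nat.gcd m (p ^ n) ∧ ∀ a : J, a ^ m = 1 ↔ a ^ k = 1 := by
              refine ⟨_, rfl, fun a => ⟨fun ha => ?_, fun ha => ?_⟩⟩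
              · exact pow_gcd_eq_one.2 ⟨ha, by rw [← hn]; exact pow_card_eq_one'⟩
              · exact (pow_gcd_eq_one.1 ha).1
            obtain ⟨k, -, hk⟩ := (Nat.dvd_prime_pow hp.out).1 (Nat.gcd_dvd_right m (p ^ n))
            refine le_trans ?_ (Nat.le_of_dvd hm (Nat.gcd_dvd_left m (p ^ n)))
            rw [hk]
            have hcard : ∀ k : ℕ, Nat.card {a : J // a ^ p ^ k = 1} ≤ p ^ k := by
              intro k
              induction k with
              | zero =>
                haveI : Subsingleton {a : J // a ^ p ^ 0 = 1} := ⟨fun a b => Subtype.ext (by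
                  have := a.2; have := b.2; simp_all)⟩
                simpa using Finite.card_le_one_iff_subsingleton.2 inferInstance
              | succ k ihk =>
                set f : J →* J := powMonoidHom p
                let U : Subgroup J := (powMonoidHom (p ^ (k + 1)) : J →* J).ker
                let W : Subgroup J := (powMonoidHom (p ^ k) : J →* J).ker
                have hUeq : Nat.card {a : J // a ^ p ^ (k + 1) = 1} = Nat.card U :=
                  Nat.card_congr (Equiv.subtypeEquivRight fun a => Iff.rfl)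
                let r : U →* W := MonoidHom.codRestrict (f.comp U.subtype) W fun a => by
                  show ((a : J) ^ p) ^ p ^ k = 1
                  rw [← pow_mul, ← pow_succ']; exact a.2
                have hW : Nat.card W ≤ p ^ k :=
                  le_of_eq_of_le (Nat.card_congr (Equiv.subtypeEquivRight fun a => Iff.rfl)) ihk
                have hker : Nat.card r.ker ≤ p := by
                  refine le_trans (Nat.card_le_card_of_injective
                    (fun a : r.ker => (⟨((a : U) : J), congrArg Subtype.val a.2⟩ : V)) ?_) ?_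
                  · intro a b h; exact Subtype.ext (Subtype.ext (congrArg Subtype.val h :))
                  · rw [hi]
                    calc p ^ i ≤ p ^ 1 := Nat.pow_le_pow_right hp.out.pos (by omega)
                      _ = p := pow_one p
                rw [hUeq, ← r.ker.card_mul_index, pow_succ']
                refine Nat.mul_le_mul hker ?_
                rw [Subgroup.index_ker]
                exact (Subgroup.card_le_card_group _).trans hW
            refine le_trans (le_of_eq ?_) (hcard k)
            rw [Nat.card_eq_fintype_card, Fintype.card_subtype]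
            congr 1
            ext a
            simp only [Finset.mem_filter, Finset.mem_univ, true_and]
            rw [hgm, hg, hk]
          obtain ⟨g, hg⟩ := IsCyclic.exists_generator (α := J)
          refine Cfsg.Lib.PGroups.RankTwoOdd.meta_of_index hJ g ?_
          rw [Subgroup.index_eq_one.mpr ((Subgroup.eq_top_iff' (Subgroup.zpowers g)).mpr hg)]
          exact one_dvd p
        · refine Cfsg.Lib.PGroups.RankTwoOdd.meta_abelian hp2 hJ hab V ?_ fun a ha => ha
          rw [hi] at hV2 ⊢
          exact le_antisymm hV2 (Nat.pow_le_pow_right hp.out.pos hi2)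
      obtain ⟨N, hN, hNc, hQ⟩ := this
      obtain ⟨⟨a, ha⟩, hag⟩ := hNc.exists_generator
      obtain ⟨b', hbg⟩ := hQ.exists_generator
      obtain ⟨b, rfl⟩ := QuotientGroup.mk_surjective b'
      refine hlt (index_frattini_le hJ [a, b] ((eq_top_iff' _).2 fun g => ?_))
      obtain ⟨i, hi⟩ := hbg (g : J ⧸ N)
      have hg : (b ^ i)⁻¹ * g ∈ N := by
        rw [← QuotientGroup.eq]; exact hi
      obtain ⟨j, hj⟩ := hag ⟨_, hg⟩
      have hj' : a ^ j = (b ^ i)⁻¹ * g := congrArg Subtype.val hj
      rw [show g = b ^ i * a ^ j by rw [hj', mul_inv_cancel_left]]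
      exact mul_mem (zpow_mem (subset_closure (by simp)) i) (zpow_mem (subset_closure (by simp)) j)
    -- `J / Zc` is generated by the images of `x` and `y`
    have hidx : Zc.index ≤ p ^ 2 := by
      set q := QuotientGroup.mk' (frattini J)
      have h := (index_frattini_le_of_gens hJ [x, y]).2
      have hcov : (⊤ : Subgroup (J ⧸ frattini J)) ≤ Zc.map q ⊔ (closure {a | a ∈ [x, y]}).map q := by
        rw [← Subgroup.map_sup, ← Subgroup.map_top_of_surjective q (QuotientGroup.mk'_surjective _)]
        refine Subgroup.map_mono ?_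
        rw [← hgen, closure_le]
        rintro w (rfl | rfl | rfl)
        · exact Subgroup.mem_sup_right (subset_closure (by simp))
        · exact Subgroup.mem_sup_right (subset_closure (by simp))
        · exact Subgroup.mem_sup_left (Subgroup.mem_sup_left hz)
      haveI : (Zc.map q).Normal := Subgroup.Normal.map inferInstance q (QuotientGroup.mk'_surjective _)
      have e : Zc.index = (Zc.map q).index :=
        (Subgroup.index_map_eq _ (QuotientGroup.mk'_surjective _)
          (by rw [QuotientGroup.ker_mk']; exact hFZ)).symm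
      rw [e, ← Subgroup.relIndex_top_right, ← top_le_iff.1 hcov, Subgroup.relIndex_sup_left]
      refine le_trans ?_ h
      exact Nat.le_of_dvd Nat.card_pos (Subgroup.index_dvd_card _)
    refine ⟨Zc, inferInstance, hFZ, hidx, ?_⟩
    have hidx2 : p ≤ Zc.index := by
      obtain ⟨i, hi⟩ := (hJ.to_quotient Zc).exists_card_eq
      rw [← Subgroup.index_eq_card] at hi
      rw [hi]
      rcases Nat.eq_zero_or_pos i with rfl | hi0
      · exact absurd (Subgroup.index_eq_one.1 (by rw [hi, pow_zero])) hne
      · exact Nat.le_self_pow (by omega) p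
    by_contra hc
    have h4 := Nat.mul_le_mul (Nat.succ_le_of_lt (not_le.1 hc)) hidx2
    rw [hmul] at h4
    have h5 := h4.trans h3
    have h6 : p ^ 3 = p ^ 2 * p := by ring
    have h7 : 0 < p := hp.out.pos
    nlinarith
  · left
    refine index_frattini_le hJ [x, z] ?_
    rw [eq_top_iff, ← hgen, closure_le]
    rintro w (rfl | rfl | rfl)
    · exact subset_closure (by simp)
    · rw [show w = x⁻¹ * z * x * z⁻¹ by rw [hy, mul_inv_cancel_right]]
      exact mul_mem (mul_mem (mul_mem (inv_mem (subset_closure (by simp))) (subset_closure (by simp)))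
        (subset_closure (by simp))) (inv_mem (subset_closure (by simp)))
    · exact subset_closure (by simp)
  · left
    set L := fun i => (⊤ : Subgroup J).lowerCentralSeries i
    have hanti : ∀ i, L (i + 1) ≤ L i := fun i => Subgroup.lowerCentralSeries_antitone _ (Nat.le_succ i)
    have hstrict : ∀ i, L i ≠ ⊥ → L (i + 1) < L i := by
      intro i hi
      refine lt_of_le_of_ne (hanti i) fun he => ?_
      have hst : ∀ j, L (i + j) = L i := by
        intro j
        induction j with
        | zero => rfl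
        | succ j ih =>
          show (⊤ : Subgroup J).lowerCentralSeries (i + j + 1) = _
          rw [Subgroup.lowerCentralSeries_succ, show (⊤ : Subgroup J).lowerCentralSeries (i + j) = L i from ih,
            ← Subgroup.lowerCentralSeries_succ]
          exact he
      apply hi
      have hb : L (Group.nilpotencyClass J) = ⊥ :=
        Subgroup.lowerCentralSeries_eq_bot_iff_nilpotencyClass_le.mpr le_rfl
      rw [← hst (Group.nilpotencyClass J), eq_bot_iff, ← hb]
      exact Subgroup.lowerCentralSeries_antitone _ (Nat.le_add_left _ _)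
    have hcard : ∀ j, j ≤ n - 2 → p ^ (j + 1) ≤ Nat.card ↥(L (n - 2 - j)) := by
      intro j
      induction j with
      | zero =>
        intro _
        obtain ⟨i, hi⟩ := (hJ.to_subgroup (L (n - 2))).exists_card_eq
        simp only [Nat.sub_zero, Nat.zero_add, pow_one]
        rw [hi]
        rcases Nat.eq_zero_or_pos i with rfl | hi0
        · rw [pow_zero, Subgroup.card_eq_one] at hi
          exact absurd hi hcl
        · exact Nat.le_self_pow (by omega) p
      | succ j ih =>
        intro hj
        have h1 := ih (by omega)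
        have hne : L (n - 2 - (j + 1)) ≠ ⊥ := fun h => hcl (eq_bot_iff.2 (h ▸
          Subgroup.lowerCentralSeries_antitone _ (by omega)))
        have hlt := hstrict _ hne
        rw [show n - 2 - (j + 1) + 1 = n - 2 - j by omega] at hlt
        obtain ⟨a, ha⟩ := (hJ.to_subgroup (L (n - 2 - j))).exists_card_eq
        obtain ⟨b, hb⟩ := (hJ.to_subgroup (L (n - 2 - (j + 1)))).exists_card_eq
        rw [ha] at h1
        rw [hb]
        have h2 : p ^ a < p ^ b := by
          rw [← ha, ← hb]
          refine lt_of_le_of_ne (Subgroup.card_le_of_le hlt.le) fun e => hlt.ne ?_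
          exact Subgroup.eq_of_le_of_card_ge hlt.le e.ge
        refine Nat.pow_le_pow_right hp.out.pos ?_
        have := (Nat.pow_le_pow_iff_right hp.out.one_lt).1 h1
        have := (Nat.pow_lt_pow_iff_right hp.out.one_lt).1 h2
        omega
    rcases Nat.lt_or_ge n 3 with hn3 | hn3
    · refine (Nat.le_of_dvd Nat.card_pos (Subgroup.index_dvd_card _)).trans ?_
      rw [hn]
      exact Nat.pow_le_pow_right hp.out.pos (by omega)
    have h1 := hcard (n - 3) (by omega)
    rw [show n - 2 - (n - 3) = 1 by omega, show n - 3 + 1 = n - 2 by omega] at h1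
    have hLf : L 1 ≤ frattini J := by
      refine le_trans (le_of_eq ?_) (Cfsg.Lib.PGroups.commutator_le_frattini hJ)
      show (⊤ : Subgroup J).lowerCentralSeries 1 = _
      rw [Subgroup.lowerCentralSeries_succ, Subgroup.lowerCentralSeries_zero]
      rfl
    refine (Nat.le_of_dvd (Nat.pos_of_ne_zero Subgroup.index_ne_zero_of_finite)
      (Subgroup.index_dvd_of_le hLf)).trans ?_
    have h2 := (L 1).card_mul_index
    rw [hn] at h2
    by_contra hc
    have h3 := Nat.mul_le_mul h1 (Nat.succ_le_of_lt (not_le.1 hc))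
    rw [h2, Nat.mul_succ, ← pow_add, show n - 2 + 2 = n by omega] at h3
    have := Nat.pos_of_ne_zero (pow_ne_zero (n - 2) hp.out.ne_zero)
    omega

variable {G : Type u} [Group G] [Finite G]

theorem pRankLE_quotient (N : Subgroup G) [N.Normal] (hN : (Nat.card N).Coprime p)
    (hr : Cfsg.PRankLE p 2 G) : Cfsg.PRankLE p 2 (G ⧸ N) := by
  intro A hc he
  have hA : IsPGroup p A := fun a => ⟨1, Subtype.ext (by
    rw [pow_one]; exact he a a.2)⟩
  obtain ⟨Q, hQ⟩ := hA.exists_le_sylow
  obtain ⟨P₀⟩ : Nonempty (Sylow p G) := inferInstance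
  obtain ⟨g, hg⟩ := MulAction.exists_smul_eq (G ⧸ N) (P₀.mapSurjective (QuotientGroup.mk'_surjective N)) Q
  obtain ⟨g, rfl⟩ := QuotientGroup.mk_surjective g
  set P := g • P₀
  set q := QuotientGroup.mk' N
  have hAq : A ≤ (P : Subgroup G).map q := by
    refine hQ.trans (le_of_eq ?_)
    rw [← hg]
    show (((P₀ : Subgroup G).map q).map (MulAut.conj (g : G ⧸ N)).toMonoidHom) =
      ((P₀ : Subgroup G).map (MulAut.conj g).toMonoidHom).map q
    rw [Subgroup.map_map, Subgroup.map_map]
    congr 1
  have hinj : ∀ a ∈ (P : Subgroup G), ∀ b ∈ (P : Subgroup G), q a = q b → a = b := by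
    intro a ha b hb h
    have h1 : a⁻¹ * b ∈ N := QuotientGroup.eq.1 h
    obtain ⟨k, hk⟩ := P.2 ⟨a⁻¹ * b, mul_mem (inv_mem ha) hb⟩
    refine inv_mul_eq_one.1 (orderOf_eq_one_iff.1 (Nat.eq_one_of_dvd_coprimes ((hN.symm).pow_left k)
      (orderOf_dvd_of_pow_eq_one (congrArg Subtype.val hk)) (Subgroup.orderOf_dvd_natCard N h1)))
  set B := A.comap q ⊓ (P : Subgroup G)
  have hBc : IsMulCommutative B := ⟨⟨fun a b => Subtype.ext (hinj _
      (mul_mem (mem_inf.1 a.2).2 (mem_inf.1 b.2).2) _ (mul_mem (mem_inf.1 b.2).2 (mem_inf.1 a.2).2) (by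
        simp only [Subgroup.coe_mul, map_mul]
        exact congrArg Subtype.val
          (hc.is_comm.comm (⟨_, (mem_inf.1 a.2).1⟩ : A) ⟨_, (mem_inf.1 b.2).1⟩)))⟩⟩
  have hBe : ∀ b ∈ B, b ^ p = 1 := fun b hb => hinj _ (pow_mem (mem_inf.1 hb).2 p) 1 (one_mem _) (by
    rw [map_pow, map_one]; exact he _ (mem_inf.1 hb).1)
  refine le_trans ?_ (hr B hBc hBe)
  refine Nat.card_le_card_of_surjective
    (fun b : B => (⟨q b, (mem_inf.1 b.2).1⟩ : A)) fun a => ?_
  obtain ⟨x, hx, hxa⟩ := hAq a.2
  exact ⟨⟨x, mem_inf.2 ⟨show q x ∈ A from hxa ▸ a.2, hx⟩⟩, Subtype.ext hxa⟩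

/-- the `p`-part of `G / O_p(G)` -/
theorem index_pCore (hp2 : p ≠ 2) (hsol : Cfsg.IsPSolvable p G) (hO : Cfsg.pPrimeCore p G = ⊥)
    (hr : Cfsg.PRankLE p 2 G) : ¬ p ^ 2 ∣ (Cfsg.pCore p G).index := by
  set R := Cfsg.pCore p G
  haveI : R.Normal := Cfsg.Lib.Components.pCore_normal' p
  have hR : IsPGroup p R := Cfsg.Lib.Components.isPGroup_pCore p
  have hCR := Cfsg.Lib.Blocks.centralizer_pCore_le_of_isPSolvable p hsol hO
  obtain ⟨D, hDc, hDexp, hD⟩ := Cfsg.Lib.OddP.exists_exponent_critical hp2 hR
  set U := D.map R.subtype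
  have hUp : IsPGroup p U := (hR.to_subgroup D).map _
  have htopR : (⊤ : Subgroup G) ≤ normalizer (R : Set G) := by rw [Subgroup.normalizer_eq_top]
  have hU : (⊤ : Subgroup G) ≤ normalizer (U : Set G) := htopR.trans (Cfsg.Lib.OddP.le_normalizer_map_of_char D)
  have hexpU : ∀ y : U, y ^ p = 1 := by
    rintro ⟨_, y, hy, rfl⟩
    exact Subtype.ext (by show (y : G) ^ p = 1; rw [← SubgroupClass.coe_pow, hDexp y hy]; rfl)
  have hrU : Cfsg.PRankLE p 2 U := Cfsg.Lib.OddP.pRankLE_of_injective U.subtype U.subtype_injective hr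
  obtain ⟨k, hk, hkc⟩ := Cfsg.Lib.OddP.frattini_quotient_small hUp hrU hexpU
  let χ : G →* MulAut (U ⧸ frattini U) :=
    (Cfsg.Lib.OddP.frattiniAction U).comp
      ((MonoidHom.id G).codRestrict (normalizer (U : Set G)) fun g => hU (mem_top g))
  have hker : χ.ker ≤ R := by
    refine Cfsg.Lib.Components.le_pCore fun c => ?_
    obtain ⟨a, b, -, -, hab, ha, hb⟩ := Cfsg.Lib.Transfer.exists_pPart p c
    have hbC : (b : G) ∈ centralizer (R : Set G) := by
      have hcop : (Nat.card (zpowers (b : G))).Coprime p := by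
        rw [Nat.card_zpowers, Subgroup.orderOf_coe]; exact hb
      refine hD (zpowers (b : G)) (le_top.trans htopR) hcop ?_ (mem_zpowers _)
      refine Cfsg.Lib.OddP.le_centralizer_of_frattiniAction hUp hcop (le_top.trans hU) fun d hd => ?_
      obtain ⟨i, hi⟩ := mem_zpowers_iff.1 hd
      have : χ (d : G) = 1 := by
        rw [← hi, map_zpow, show χ (b : G) = 1 from b.2, one_zpow]
      exact this
    obtain ⟨i, hi⟩ := hR ⟨b, hCR hbC⟩
    have hb1 : b = 1 := by
      refine Subtype.ext (orderOf_eq_one_iff.1 (Nat.eq_one_of_dvd_coprimes ((hb.symm).pow_left i)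
        (orderOf_dvd_of_pow_eq_one (congrArg Subtype.val hi)) ?_))
      rw [Subgroup.orderOf_coe]
    obtain ⟨j, hj⟩ := ha
    refine ⟨j, ?_⟩
    rw [← hab, hb1, mul_one, ← hj, pow_orderOf_eq_one]
  intro hd
  have h1 : R.index ∣ Nat.card (MulAut (U ⧸ frattini U)) := by
    refine (Subgroup.index_dvd_of_le hker).trans ?_
    rw [Subgroup.index_ker]
    exact Subgroup.card_subgroup_dvd_card _
  haveI := Cfsg.Lib.PGroups.isMulCommutative_quotient_frattini hUp
  have hfr : (frattini (U ⧸ frattini U)).index = p ^ k := by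
    rw [Cfsg.Lib.SolvStruct.frattini_eq_bot_of_elementary (p := p)
      (Cfsg.Lib.PGroups.pow_prime_quotient_frattini hUp) (fun a b => mul_comm' a b), index_bot, hkc]
  have h2 := (hd.trans h1).trans (Cfsg.Lib.PGroups.card_aut_dvd hkc hfr)
  have hp1 : 1 < p := hp.out.one_lt
  rw [Nat.sub_self, mul_zero, pow_zero, one_mul] at h2
  interval_cases k
  · rw [Finset.prod_range_zero] at h2
    have := Nat.le_of_dvd one_pos h2
    nlinarith
  · rw [Finset.prod_range_one, pow_one, pow_zero] at h2
    have := Nat.le_of_dvd (by omega) h2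
    have : p ≤ p ^ 2 := Nat.le_self_pow two_ne_zero p
    omega
  · rw [Finset.prod_range_succ, Finset.prod_range_one, pow_zero, pow_one] at h2
    rw [show p ^ 2 - p = (p - 1) * p by rw [Nat.sub_mul, one_mul, sq], ← mul_assoc, sq p] at h2
    have h3 := Nat.dvd_of_mul_dvd_mul_right hp.out.pos h2
    rcases hp.out.dvd_mul.1 h3 with h4 | h4
    · have h5 : p ∣ p * p := dvd_mul_right p p
      have h6 : 1 ≤ p * p := Nat.one_le_iff_ne_zero.2 (by positivity)
      have h7 := Nat.dvd_sub h5 h4
      rw [show p * p - (p * p - 1) = 1 by omega, Nat.dvd_one] at h7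
      omega
    · have := Nat.le_of_dvd (by omega) h4
      omega

theorem core_case (hp2 : p ≠ 2) (hsol : Cfsg.IsPSolvable p G) (hO : Cfsg.pPrimeCore p G = ⊥)
    (hr : Cfsg.PRankLE p 2 G)
    (H K : Subgroup G) [H.Normal] [K.Normal] (hKH : K < H) (hpow : ∃ n : ℕ, K.relIndex H = p ^ n)
    (hchief : ∀ L : Subgroup G, L.Normal → K ≤ L → L ≤ H → L = K ∨ L = H) :
    K.relIndex H ≤ p ^ 2 := by
  obtain ⟨n, hn⟩ := hpow
  set R := Cfsg.pCore p G
  haveI : R.Normal := Cfsg.Lib.Components.pCore_normal' p
  have hR : IsPGroup p R := Cfsg.Lib.Components.isPGroup_pCore p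
  rcases hchief ((H ⊓ R) ⊔ K) inferInstance le_sup_right (sup_le inf_le_left hKH.le) with hc | hc
  · have hle : H ⊓ R ≤ K := le_sup_left.trans hc.le
    have h1 : p ^ n ∣ R.index := by
      rw [← hn]
      refine (Subgroup.relIndex_dvd_of_le_left H hle).trans ?_
      rw [Subgroup.inf_relIndex_left]
      exact Subgroup.relIndex_dvd_index_of_normal R H
    rw [hn]
    refine Nat.pow_le_pow_right hp.out.pos ?_
    by_contra h
    exact index_pCore hp2 hsol hO hr ((pow_dvd_pow p (show 2 ≤ n by omega)).trans h1)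
  set J := H ⊓ R
  have hJ : IsPGroup p J := hR.to_le inf_le_right
  set K' := J ⊓ K
  have heq : K.relIndex H = K'.relIndex J := by
    show _ = (J ⊓ K).relIndex J
    rw [← hc, Subgroup.relIndex_sup_right, Subgroup.inf_relIndex_left]
  rw [heq]
  have hne : K' ≠ J := fun h => hKH.ne (by
    rw [← hc, sup_eq_right.2 (h ▸ (inf_le_right : K' ≤ K))])
  have hchJ : ∀ L : Subgroup G, L.Normal → K' ≤ L → L ≤ J → L = K' ∨ L = J := by
    intro L hL hKL hLJ
    haveI := hL
    rcases hchief (L ⊔ K) inferInstance le_sup_right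
        (sup_le (hLJ.trans inf_le_left) hKH.le) with h | h
    · exact Or.inl (le_antisymm (le_inf hLJ (le_sup_left.trans h.le)) hKL)
    · refine Or.inr (le_antisymm hLJ ?_)
      have hJH : J ≤ L ⊔ K := h ▸ inf_le_left
      intro x hx
      obtain ⟨a, ha, b, hb, rfl⟩ := Subgroup.mem_sup_of_normal_left.1 (hJH hx)
      refine L.mul_mem ha (hKL (mem_inf.2 ⟨?_, hb⟩))
      have := J.mul_mem (J.inv_mem (hLJ ha)) hx
      rwa [inv_mul_cancel_left] at this
  have hrJ : Cfsg.PRankLE p 2 J := Cfsg.Lib.OddP.pRankLE_of_injective J.subtype J.subtype_injective hr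
  haveI : (frattini J).Characteristic := frattini_characteristic
  set K'' := K'.subgroupOf J
  have hstep : ∀ S : Subgroup J, S.Characteristic → S ≤ K'' ∨ S ⊔ K'' = ⊤ := by
    intro S hS
    haveI := hS
    haveI : (S.map J.subtype).Normal := inferInstance
    rcases hchJ (S.map J.subtype ⊔ K') inferInstance le_sup_right
        (sup_le (Subgroup.map_subtype_le S) inf_le_left) with h | h
    · exact Or.inl fun s hs => le_sup_left.trans h.le ⟨s, hs, rfl⟩
    · refine Or.inr ((eq_top_iff' _).2 fun x => ?_)
      obtain ⟨a, ⟨s, hs, rfl⟩, b, hb, hab⟩ := Subgroup.mem_sup_of_normal_left.1 (h.ge x.2)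
      have hx : x = s * ⟨b, (mem_inf.1 hb).1⟩ := Subtype.ext hab.symm
      exact hx ▸ mul_mem (Subgroup.mem_sup_left hs) (Subgroup.mem_sup_right hb)
  have hΦ : frattini J ≤ K'' := by
    refine (hstep _ inferInstance).resolve_right fun h => hne ?_
    rw [sup_comm] at h
    exact le_antisymm inf_le_left (Subgroup.subgroupOf_eq_top.1 (frattini_nongenerating h))
  show K''.index ≤ p ^ 2
  rcases frattini_split hp2 hJ hrJ with h | ⟨Zc, hZc, hFZ, hZi, hZr⟩
  · exact (Nat.le_of_dvd (Nat.pos_of_ne_zero Subgroup.index_ne_zero_of_finite)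
      (Subgroup.index_dvd_of_le hΦ)).trans h
  haveI := hZc
  rcases hstep Zc hZc with h | h
  · exact (Nat.le_of_dvd (Nat.pos_of_ne_zero Subgroup.index_ne_zero_of_finite)
      (Subgroup.index_dvd_of_le h)).trans hZi
  · haveI : K''.Normal := inferInstance
    rw [← Subgroup.relIndex_top_right, ← h, Subgroup.relIndex_sup_right]
    exact (Nat.le_of_dvd (Nat.pos_of_ne_zero Subgroup.index_ne_zero_of_finite)
      (Subgroup.relIndex_dvd_of_le_left Zc hΦ)).trans hZr

theorem main (hp2 : p ≠ 2) (hsol : Cfsg.IsPSolvable p G) (hr : Cfsg.PRankLE p 2 G)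
    (H K : Subgroup G) [H.Normal] [K.Normal] (hKH : K < H) (hpow : ∃ n : ℕ, K.relIndex H = p ^ n)
    (hchief : ∀ L : Subgroup G, L.Normal → K ≤ L → L ≤ H → L = K ∨ L = H) :
    K.relIndex H = p ∨ K.relIndex H = p ^ 2 := by
  obtain ⟨n, hn⟩ := hpow
  set N := Cfsg.pPrimeCore p G
  haveI : N.Normal := Cfsg.Lib.Components.pPrimeCore_normal' p
  have hNc := Cfsg.Lib.Components.coprime_card_pPrimeCore (G := G) p
  set q := QuotientGroup.mk' N
  have hqs : Function.Surjective q := QuotientGroup.mk'_surjective N
  have hHN : H ⊓ N ≤ K := by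
    intro x hx
    have h1 : K.relIndex (K ⊔ (H ⊓ N)) ∣ p ^ n := by
      rw [← hn, ← Subgroup.relIndex_mul_relIndex K (K ⊔ (H ⊓ N)) H le_sup_left (sup_le hKH.le inf_le_left)]
      exact dvd_mul_right _ _
    have h2 : K.relIndex (K ⊔ (H ⊓ N)) ∣ Nat.card N := by
      rw [Subgroup.relIndex_sup_left]
      exact (Subgroup.index_dvd_card _).trans (Subgroup.card_dvd_of_le inf_le_right)
    have h3 : K.relIndex (K ⊔ (H ⊓ N)) = 1 :=
      Nat.eq_one_of_dvd_coprimes ((hNc.symm).pow_left n) h1 h2
    exact Subgroup.relIndex_eq_one.1 h3 (Subgroup.mem_sup_right hx)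
  have hrel : (K.map q).relIndex (H.map q) = K.relIndex H := by
    rw [Subgroup.relIndex_map_map, QuotientGroup.ker_mk',
      show H ⊔ N = H ⊔ (K ⊔ N) by rw [← sup_assoc, sup_eq_left.2 hKH.le],
      Subgroup.relIndex_sup_right, ← Subgroup.inf_relIndex_right (K ⊔ N) H]
    congr 1
    refine le_antisymm (fun x hx => ?_) (le_inf le_sup_left hKH.le)
    obtain ⟨a, ha, b, hb, rfl⟩ := Subgroup.mem_sup_of_normal_left.1 (mem_inf.1 hx).1
    refine K.mul_mem ha (hHN (mem_inf.2 ⟨?_, hb⟩))
    have := H.mul_mem (H.inv_mem (hKH.le ha)) (mem_inf.1 hx).2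
    rwa [inv_mul_cancel_left] at this
  haveI : (H.map q).Normal := Subgroup.Normal.map inferInstance q hqs
  haveI : (K.map q).Normal := Subgroup.Normal.map inferInstance q hqs
  have h1 : K.relIndex H ≠ 1 := fun h => not_le_of_gt hKH (Subgroup.relIndex_eq_one.1 h)
  have hlt : K.map q < H.map q := lt_of_le_of_ne (Subgroup.map_mono hKH.le) fun e => h1 (by
    rw [← hrel, e, Subgroup.relIndex_self])
  have hch : ∀ L : Subgroup (G ⧸ N), L.Normal → K.map q ≤ L → L ≤ H.map q → L = K.map q ∨ L = H.map q := by
    intro L hL hKL hLH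
    haveI := hL
    have e : (L.comap q ⊓ H).map q = L := by
      refine le_antisymm ?_ fun y hy => ?_
      · rintro _ ⟨a, ha, rfl⟩; exact (mem_inf.1 ha).1
      · obtain ⟨a, ha, rfl⟩ := hLH hy
        exact ⟨a, mem_inf.2 ⟨hy, ha⟩, rfl⟩
    rcases hchief (L.comap q ⊓ H) inferInstance
        (le_inf (Subgroup.map_le_iff_le_comap.1 hKL) hKH.le) inf_le_right with h | h
    · exact Or.inl (by rw [← e, h])
    · exact Or.inr (by rw [← e, h])
  have hmain := core_case hp2 (Cfsg.Lib.GaschutzYen.isPSolvable_quotient N hsol)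
    Cfsg.Lib.Components.pPrimeCore_quotient_eq_bot (pRankLE_quotient N hNc hr) (H.map q) (K.map q) hlt
    ⟨n, hrel.trans hn⟩ hch
  rw [hrel, hn] at hmain
  have hn2 := (Nat.pow_le_pow_iff_right hp.out.one_lt).1 hmain
  interval_cases n
  · exact absurd hn (by rw [pow_zero]; exact h1)
  · exact Or.inl (by rw [hn, pow_one])
  · exact Or.inr hn

end Cfsg.Lib.ChiefRankTwo
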