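import Cfsg.Agent.Components.Misc.MaximalComponent

/-!
The three positions of a component of an involution centralizer relative to the components of the group,
when the 2-layer is the layer (solvability of odd order groups is a hypothesis).
-/

set_option autoImplicit false
set_option linter.unusedSectionVars false
set_option linter.style.haveILetI false

namespace Cfsg.Lib.Misc.ComponentTrichotomy

open Subgroup Cfsg.Lib.Components
open scoped commutatorElement

universe u

variable {G : Type u} [Group G] [Finite G]

theorem main (hodd : ∀ (H : Type u) [Group H] [Finite H], Odd (Nat.card H) → Group.IsSolvable H)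
    (hL2 : Cfsg.pLayer 2 G = Cfsg.layer G) (t : G) (ht : orderOf t = 2) (L : Subgroup G)
    (hLt : L ≤ centralizer ({t} : Set G)) (hL : IsComponent (L.subgroupOf (centralizer ({t} : Set G)))) :
    ∃ D : Subgroup G, IsComponent D ∧ (L = D ∨ (L < D ∧ D = ⁅D, zpowers t⁆) ∨
      (D.map (MulAut.conj t).toMonoidHom ≠ D ∧
        L = (Cfsg.layer ↥((D ⊔ D.map (MulAut.conj t).toMonoidHom) ⊓ centralizer ({t} : Set G))).map
          ((D ⊔ D.map (MulAut.conj t).toMonoidHom) ⊓ centralizer ({t} : Set G)).subtype)) := by
  set C := centralizer ({t} : Set G) with hC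
  have heven : 2 ∣ Nat.card L := by
    by_contra h
    refine comp_not_isSolvable hL (hodd _ ?_)
    rw [Nat.card_congr (subgroupOfEquivOfLe hLt).toEquiv, Nat.odd_iff]
    omega
  have hE := MaximalComponent.le_layer ht hL2.le hLt hL heven
  obtain ⟨D, hD, hcase⟩ := MaximalComponent.cases ht hLt hL hE
  have hperf : ⁅L, L⁆ = L := by
    have := congrArg (Subgroup.map C.subtype) (comp_perfect hL)
    rwa [map_commutator, map_subgroupOf_eq_of_le hLt] at this
  refine ⟨D, hD, ?_⟩
  set c := (MulAut.conj t).toMonoidHom
  rcases hcase with h | ⟨hne, -, -, π, hπ, hπr⟩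
  · by_cases hLD : L = D
    · exact Or.inl hLD
    refine Or.inr (Or.inl ⟨lt_of_le_of_ne h hLD, ?_⟩)
    have hLc : L.map c = L := by
      refine mem_normalizer_iff_map_conj_eq.mp (centralizer_le_normalizer _ ?_)
      exact mem_centralizer_iff.mpr fun l hl => mem_centralizer_singleton_iff.mp (hLt hl)
    have hDt : D.map c = D := by
      by_contra hne
      have h2 : L ≤ D.map c := hLc.ge.trans (Subgroup.map_mono h)
      have h3 := commutator_mono h h2
      rw [hperf, comp_commute hD (comp_conj hD t) (Ne.symm hne)] at h3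
      exact comp_ne_bot hL (by rw [le_bot_iff.mp h3, bot_subgroupOf])
    have htN : zpowers t ≤ normalizer (D : Set G) := zpowers_le.mpr (mem_normalizer_iff_map_conj_eq.mpr hDt)
    set M := ⁅D, zpowers t⁆ with hM
    have hMD : M ≤ D := le_normalizer_iff_commutator_le_left.mp htN
    haveI hMn : (M.subgroupOf D).Normal :=
      normal_subgroupOf_of_le_normalizer (normalizer_commutator_ge_left D (zpowers t))
    rcases qs_subnormal_eq_top_or_le_center hD.2 (Subgroup.Normal.isSubnormal hMn) with h1 | h1
    · exact le_antisymm (subgroupOf_eq_top.mp h1) hMD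
    exfalso
    apply hLD
    have h2 : ⁅M, D⁆ = ⊥ := by
      refine commutator_map_subtype_eq_bot hMD le_rfl ?_
      rw [← le_bot_iff, ← commutator_center_left (D.subgroupOf D)]
      exact commutator_mono h1 le_rfl
    have h3 : ⁅⁅D, D⁆, zpowers t⁆ = ⊥ :=
      commutator_commutator_eq_bot_of_rotate h2 (by rw [commutator_comm (zpowers t) D]; exact h2)
    rw [comp_perfect hD] at h3
    have hDC : D ≤ C := by
      refine (commutator_eq_bot_iff_le_centralizer.mp h3).trans (centralizer_le ?_)
      exact Set.singleton_subset_iff.mpr (mem_zpowers t)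
    have h4 := comp_eq_of_le hL (comp_subgroupOf hD hDC) (fun x hx => h hx)
    rw [← map_subgroupOf_eq_of_le hLt, h4, map_subgroupOf_eq_of_le hDC]
  refine Or.inr (Or.inr ⟨hne, ?_⟩)
  obtain ⟨π', hπ', -, -, hπM⟩ := Cfsg.Agent.S1314.result t ht D (comp_perfect hD)
    (comp_commute hD (comp_conj hD t) (Ne.symm hne))
  have hpp : π' = π := MonoidHom.ext fun l => (hπ' l).trans (hπ l).symm
  rw [hpp, hπr] at hπM
  set C2 := (D ⊔ D.map c) ⊓ C with hC2
  have hLC2 : L ≤ C2 := hπM.ge.trans (commutator_le_self C2)
  have hLcomp : IsComponent (L.subgroupOf C2) := by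
    have h1 := comp_subgroupOf hL (H := C2.subgroupOf C) (fun x hx => hLC2 hx)
    have hle : C2 ≤ C := inf_le_right
    have h2 := comp_map_equiv h1 (subgroupOfEquivOfLe hle)
    have e : ((L.subgroupOf C).subgroupOf (C2.subgroupOf C)).map (subgroupOfEquivOfLe hle).toMonoidHom =
        L.subgroupOf C2 := by
      ext x
      constructor
      · rintro ⟨y, hy, rfl⟩; exact hy
      · intro hx; exact ⟨⟨⟨x.1, hle x.2⟩, x.2⟩, hx, rfl⟩
    rwa [e] at h2
  have hlay : Cfsg.layer ↥C2 = L.subgroupOf C2 := by
    refine le_antisymm (sSup_le fun J hJ => ?_) (comp_le_layer hLcomp)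
    have h1 : J.map C2.subtype ≤ L := by
      calc J.map C2.subtype = (⁅J, J⁆).map C2.subtype := by rw [comp_perfect hJ]
        _ ≤ ⁅C2, C2⁆ := by
          rw [map_commutator]
          exact commutator_mono (map_subtype_le J) (map_subtype_le J)
        _ = L := hπM
    exact fun x hx => h1 ⟨x, hx, rfl⟩
  rw [hlay, map_subgroupOf_eq_of_le hLC2]

end Cfsg.Lib.Misc.ComponentTrichotomy
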