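import Cfsg.Agent.SolvStruct.AlperinClassical
import Cfsg.Agent.Transfer.IndexPrimeTo

/-! Control of strong fusion passes from a normal subgroup to the whole group. -/

set_option linter.style.haveILetI false
set_option linter.unusedSectionVars false

namespace Cfsg.Lib.Misc.ControlExtension

open Subgroup Cfsg.Lib.Transfer Cfsg.Lib.SolvStruct.Alperin

universe u

variable {G : Type u} [Group G] [Finite G] {p : ℕ} [hp : Fact p.Prime]

theorem relIndex_sup_of_le_normalizer {C K : Subgroup G} (h : K ≤ normalizer (C : Set G)) :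
    C.relIndex (C ⊔ K) = C.relIndex K := by
  set H := normalizer (C : Set G)
  haveI : (C.subgroupOf H).Normal := normal_in_normalizer
  rw [← relIndex_subgroupOf (sup_le le_normalizer h : C ⊔ K ≤ H), subgroupOf_sup le_normalizer h,
    relIndex_sup_left, relIndex_subgroupOf h]

/-- `g` factors through `L` on `A`. -/
def Ctrl (L A : Subgroup G) (g : G) : Prop := ∃ h ∈ L, ∃ c ∈ centralizer (A : Set G), g = h * c

/-- A Sylow subgroup of `N` inside `L` and control of `N`-fusion extend to `G`-fusion of `p`-subgroups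
of `L`. -/
theorem ctrl_of_normal (N : Subgroup G) [N.Normal] (L : Subgroup G)
    (hGL : ∀ g : G, ∃ x ∈ L, ∃ n ∈ N, g = x * n)
    (hK : ∀ A0 : Subgroup G, A0 ≤ L ⊓ N → IsPGroup p A0 → ∀ n ∈ N,
      A0.map (MulAut.conj n).toMonoidHom ≤ L → ∃ h ∈ L ⊓ N, ∃ c ∈ N ⊓ centralizer (A0 : Set G), n = h * c)
    (hsyl : ∀ T : Subgroup G, T ≤ N → IsPGroup p T → ∃ n ∈ N, T.map (MulAut.conj n).toMonoidHom ≤ L) :
    ∀ (k : ℕ) (A : Subgroup G), Nat.card G - Nat.card ↥(A ⊓ N) ≤ k → A ≤ L → IsPGroup p A →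
      ∀ g : G, A.map (MulAut.conj g).toMonoidHom ≤ L → Ctrl L A g := by
  intro k
  induction k using Nat.strong_induction_on with
  | _ k ih =>
  intro A hk hAL hAp g hg
  obtain ⟨x, hx, n, hn, rfl⟩ := hGL g
  set A0 := A ⊓ N with hA0
  have hA0p : IsPGroup p A0 := hAp.to_le inf_le_left
  have hnA : A.map (MulAut.conj n).toMonoidHom ≤ L := by
    rintro _ ⟨a, ha, rfl⟩
    have h1 := mul_mem (mul_mem (inv_mem hx) (hg ⟨a, ha, rfl⟩)) hx
    simpa [mul_assoc] using h1
  obtain ⟨h, hh, c, hc, rfl⟩ := hK A0 (le_inf (inf_le_left.trans hAL) inf_le_right) hA0p n hn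
    ((map_mono inf_le_left).trans hnA)
  have hcA : ∀ a ∈ A, c * a * c⁻¹ ∈ L := fun a ha => by
    have h1 := mul_mem (mul_mem (inv_mem (mem_inf.1 hh).1) (hnA ⟨a, ha, rfl⟩)) (mem_inf.1 hh).1
    simpa [mul_assoc] using h1
  set C := N ⊓ centralizer (A0 : Set G) with hC
  -- `A` normalizes `C`
  have hAC : A ≤ normalizer (C : Set G) := by
    refine le_normalizer_iff.2 fun a ha z hz => mem_inf.2 ⟨(inferInstance : N.Normal).conj_mem z hz.1 a, ?_⟩
    intro b hb
    have hb' : a⁻¹ * b * a ∈ A0 := mem_inf.2 ⟨mul_mem (mul_mem (inv_mem ha) hb.1) ha, by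
      simpa using (inferInstance : N.Normal).conj_mem b hb.2 a⁻¹⟩
    have h2 := hz.2 _ hb'
    calc b * (a * z * a⁻¹) = a * ((a⁻¹ * b * a) * z) * a⁻¹ := by group
      _ = a * (z * (a⁻¹ * b * a)) * a⁻¹ := by rw [h2]
      _ = _ := by group
  set Y := C ⊔ A with hY
  have hAY : A ≤ Y := le_sup_right
  have hCY : C ≤ Y := le_sup_left
  haveI hCn : (C.subgroupOf Y).Normal :=
    normal_subgroupOf_of_le_normalizer (sup_le le_normalizer hAC)
  -- a Sylow subgroup of `C` lies in `L`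
  obtain ⟨T, hT⟩ : ∃ T : Sylow p C, (T : Subgroup C).map C.subtype ≤ L := by
    obtain ⟨T⟩ : Nonempty (Sylow p C) := inferInstance
    set T' := (T : Subgroup C).map C.subtype
    have hT'C : T' ≤ C := map_subtype_le _
    have hTA : IsPGroup p ↥(A0 ⊔ T' : Subgroup G) := hA0p.to_sup_of_normal_left' (T.2.map _)
      (hT'C.trans (inf_le_right.trans (centralizer_le_normalizer _)))
    obtain ⟨n0, hn0, hle⟩ := hsyl _ (sup_le inf_le_right (hT'C.trans inf_le_left)) hTA
    obtain ⟨h0, hh0, c0, hc0, rfl⟩ := hK A0 (le_inf (inf_le_left.trans hAL) inf_le_right) hA0p n0 hn0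
      ((map_mono le_sup_left).trans hle)
    refine ⟨(⟨c0, hc0⟩ : C) • T, ?_⟩
    rintro _ ⟨_, ⟨t, ht, rfl⟩, rfl⟩
    have h1 := mul_mem (mul_mem (inv_mem (mem_inf.1 hh0).1)
      (hle ⟨(t : G), mem_sup_right ⟨t, ht, rfl⟩, rfl⟩)) (mem_inf.1 hh0).1
    simpa [mul_assoc] using h1
  -- hence a Sylow subgroup of `Y`
  set YL := Y ⊓ L with hYL
  obtain ⟨S0, hS0⟩ := ((hAp.comap_subtype (K := YL))).exists_le_sylow
  have hidx : ¬ p ∣ YL.relIndex Y := by
    intro hd
    have h2 : YL.relIndex Y ∣ (C ⊓ L).relIndex C := by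
      have e : Y = C ⊔ YL := le_antisymm (sup_le le_sup_left
        ((le_inf hAY hAL).trans le_sup_right)) (sup_le hCY inf_le_left)
      haveI := hCn
      have h3 := relIndex_mul_relIndex (C ⊓ L) C Y inf_le_left hCY
      have h4 := relIndex_mul_relIndex (C ⊓ L) YL Y (inf_le_inf_right L hCY) inf_le_left
      have h5 : (C ⊓ L).relIndex YL = C.relIndex Y := by
        have h6 : C ⊓ L = C ⊓ YL := by
          rw [hYL, ← inf_assoc, inf_eq_left.2 hCY]
        rw [h6, inf_relIndex_right]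
        conv_rhs => rw [e]
        exact (relIndex_sup_of_le_normalizer (show YL ≤ normalizer (C : Set G) from
          inf_le_left.trans (sup_le le_normalizer hAC))).symm
      rw [h5] at h4
      have h7 : C.relIndex Y * YL.relIndex Y = C.relIndex Y * (C ⊓ L).relIndex C := by
        rw [h4, ← h3, mul_comm]
      exact (Nat.eq_of_mul_eq_mul_left (Nat.pos_of_ne_zero index_ne_zero_of_finite) h7).dvd
    have h8 : (C ⊓ L).relIndex C ∣ ((T : Subgroup C).map C.subtype).relIndex C :=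
      relIndex_dvd_of_le_left C (le_inf (map_subtype_le _) hT)
    rw [relIndex, relIndex, subgroupOf, subgroupOf, comap_map_eq_self_of_injective C.subtype_injective] at h8
    exact T.not_dvd_index ((hd.trans h2).trans h8)
  set S0' := (S0 : Subgroup YL).map YL.subtype
  have hS0Y : S0' ≤ Y := (map_subtype_le _).trans inf_le_left
  have hS0L : S0' ≤ L := (map_subtype_le _).trans inf_le_right
  have hSi : ¬ p ∣ (S0'.subgroupOf Y).index := by
    intro hd
    have h1 : S0'.relIndex YL * YL.relIndex Y = S0'.relIndex Y :=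
      relIndex_mul_relIndex _ _ _ (map_subtype_le _) inf_le_left
    change p ∣ S0'.relIndex Y at hd
    rw [← h1] at hd
    refine (hp.out.dvd_mul.1 hd).elim (fun h => ?_) hidx
    rw [relIndex, subgroupOf, comap_map_eq_self_of_injective YL.subtype_injective] at h
    exact S0.not_dvd_index h
  set S : Sylow p Y := ((S0.2.map YL.subtype).comap_subtype (K := Y)).toSylow hSi
  have hSmem : ∀ y : Y, y ∈ (S : Subgroup Y) → (y : G) ∈ L := fun y hy => hS0L hy
  have hAS : ∀ a (ha : a ∈ A), (⟨a, hAY ha⟩ : Y) ∈ (S : Subgroup Y) := fun a ha =>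
    ⟨⟨a, hAY ha, hAL ha⟩, hS0 (x := ⟨a, hAY ha, hAL ha⟩) ha, rfl⟩
  have hcY : c ∈ Y := hCY hc
  -- move `c A c⁻¹` into `S`
  have hcp : IsPGroup p ((A.map (MulAut.conj c).toMonoidHom).subgroupOf YL) :=
    (hAp.map _).comap_subtype
  obtain ⟨S1, hS1⟩ := hcp.exists_le_sylow
  obtain ⟨l, hl⟩ := MulAction.exists_smul_eq YL S1 S0
  set y : Y := ⟨(l : G) * c, mul_mem (mem_inf.1 l.2).1 hcY⟩ with hy
  set AY : Set Y := ((A.subgroupOf Y : Subgroup Y) : Set Y)
  have hchain : Chain S AY y⁻¹ := by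
    refine exists_chain S AY y⁻¹ (fun a ha => hAS a ha) ?_
    rintro _ ⟨a, ha, rfl⟩
    have hca : c * (a : G) * c⁻¹ ∈ YL := mem_inf.2 ⟨mul_mem (mul_mem hcY a.2) (inv_mem hcY), hcA a ha⟩
    have h1 : l * ⟨_, hca⟩ * l⁻¹ ∈ (S0 : Subgroup YL) := by
      rw [← hl]
      exact ⟨_, hS1 (x := ⟨_, hca⟩) ⟨(a : G), ha, rfl⟩, rfl⟩
    refine ⟨l * ⟨_, hca⟩ * l⁻¹, h1, ?_⟩
    simp [hy, mul_assoc]
  -- follow the chain
  have main : ∀ (B : Set Y) (z : Y), Chain S B z → ∀ A1 : Subgroup G, A1 ≤ Y → A1 ≤ L →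
      IsPGroup p A1 → A1 ⊓ N = A0 → (∀ a : Y, (a : G) ∈ A1 → a ∈ B) → Ctrl L A1 (z : G)⁻¹ := by
    intro B z hz
    induction hz with
    | one B _ =>
      intro A1 _ _ _ _ _
      exact ⟨1, one_mem _, 1, one_mem _, by simp⟩
    | cons B Q q z hB hQ hq hrest ihz =>
      intro A1 hA1Y hA1L hA1p hA10 hA1B
      set D : Subgroup Y := (S : Subgroup Y) ⊓ (Q : Subgroup Y)
      set D' := D.map Y.subtype
      have hA1D : A1 ≤ D' := fun a ha =>
        ⟨⟨a, hA1Y ha⟩, hB (hA1B ⟨a, hA1Y ha⟩ ha), rfl⟩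
      have hD'L : D' ≤ L := by
        rintro _ ⟨d, hd, rfl⟩
        exact hSmem d (mem_inf.1 hd).1
      have hD'p : IsPGroup p D' := (S.2.to_le inf_le_left).map _
      have hA0D : A0 ≤ D' ⊓ N := hA10 ▸ inf_le_inf_right N hA1D
      have hstep : Ctrl L D' (q : G)⁻¹ := by
        rcases (card_le_of_le hA0D).eq_or_lt with heq | hlt
        · have hDN : D' ⊓ N = A0 := (eq_of_le_of_card_ge hA0D heq.ge).symm
          set M := NI S Q
          set E : Subgroup M := ((C.subgroupOf Y) ⊓ centralizer (D : Set Y)).subgroupOf M with hE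
          have hMn : ∀ m : M, ∀ d ∈ D, (m : Y) * d * (m : Y)⁻¹ ∈ D := fun m d hd =>
            (mem_normalizer_iff.1 m.2 d).1 hd
          haveI : E.Normal := ⟨fun e he m => by
            refine mem_inf.2 ⟨hCn.conj_mem _ he.1 _, fun d hd => ?_⟩
            have hd' : (m : Y)⁻¹ * d * m ∈ D := by
              have := hMn m⁻¹ d hd; simpa using this
            have h1 := he.2 _ hd'
            simp only [Subgroup.coe_subtype] at h1
            show d * ((m : Y) * e * (m : Y)⁻¹) = (m : Y) * e * (m : Y)⁻¹ * d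
            calc d * ((m : Y) * e * (m : Y)⁻¹) = m * (((m : Y)⁻¹ * d * m) * e) * (m : Y)⁻¹ := by group
              _ = m * ((e : Y) * ((m : Y)⁻¹ * d * m)) * (m : Y)⁻¹ := by rw [h1]
              _ = _ := by group⟩
          obtain ⟨b, hb⟩ := IsPGroup.iff_card.1 hA0p
          obtain ⟨i, hi⟩ := IsPGroup.iff_card.1 hAp
          have hYC : (C.subgroupOf Y).index ∣ p ^ i := by
            rw [← hi]
            show C.relIndex (C ⊔ A) ∣ _
            rw [relIndex_sup_of_le_normalizer hAC]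
            exact relIndex_dvd_card _ _
          have hpow : ∀ m : M, ∃ j, m ^ p ^ j ∈ E := by
            intro m
            set m' : Y := (m : Y) ^ p ^ i with hm'
            have hmC : m' ∈ C.subgroupOf Y := by
              obtain ⟨t, ht⟩ := hYC
              rw [hm', ht, pow_mul]
              exact pow_mem (pow_index_mem _ _) _
            refine ⟨i + b, ?_⟩
            have hmM : m' ∈ M := pow_mem m.2 _
            show ((m ^ p ^ (i + b) : M) : Y) ∈ (C.subgroupOf Y) ⊓ centralizer (D : Set Y)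
            rw [SubmonoidClass.coe_pow, pow_add, pow_mul, ← hm']
            refine mem_inf.2 ⟨pow_mem hmC _, fun d hd => Subtype.ext ?_⟩
            have hmC' : (m' : G) ∈ C := hmC
            set e : G := (d : G)⁻¹ * ((m' : G) * d * (m' : G)⁻¹) with he
            have hdd : (m' : G) * d * (m' : G)⁻¹ ∈ D' :=
              ⟨_, hMn ⟨m', hmM⟩ d hd, rfl⟩
            have heA : e ∈ A0 := hDN ▸ mem_inf.2 ⟨mul_mem (inv_mem ⟨d, hd, rfl⟩) hdd, by
              rw [he, show (d : G)⁻¹ * ((m' : G) * d * (m' : G)⁻¹) =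
                ((d : G)⁻¹ * m' * (d : G)⁻¹⁻¹) * (m' : G)⁻¹ by group]
              exact mul_mem ((inferInstance : N.Normal).conj_mem _ (mem_inf.1 hmC').1 _) (inv_mem (mem_inf.1 hmC').1)⟩
            have hcomm : Commute (m' : G) e := ((mem_inf.1 hmC').2 e heA).symm
            have hiter : ∀ r : ℕ, (m' : G) ^ r * d * ((m' : G) ^ r)⁻¹ = d * e ^ r := by
              intro r
              induction r with
              | zero => simp
              | succ r ihr =>
                calc (m' : G) ^ (r + 1) * d * ((m' : G) ^ (r + 1))⁻¹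
                    = m' * ((m' : G) ^ r * d * ((m' : G) ^ r)⁻¹) * (m' : G)⁻¹ := by group
                  _ = (m' * d * (m' : G)⁻¹) * ((m' : G) * e ^ r * (m' : G)⁻¹) := by rw [ihr]; group
                  _ = (d * e) * e ^ r := by
                    rw [(hcomm.pow_right r).eq, mul_inv_cancel_right, he]; group
                  _ = _ := by rw [pow_succ', mul_assoc]
            have h9 := hiter (p ^ b)
            rw [show e ^ p ^ b = 1 by
              rw [← hb, ← SubmonoidClass.coe_pow (⟨e, heA⟩ : A0), pow_card_eq_one']; rfl, mul_one] at h9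
            simp only [Subgroup.coe_mul, SubmonoidClass.coe_pow]
            exact (mul_inv_eq_iff_eq_mul.1 h9).symm
          have hquot : IsPGroup p (M ⧸ E) := by
            intro q
            obtain ⟨m, rfl⟩ := QuotientGroup.mk_surjective q
            obtain ⟨j, hj⟩ := hpow m
            exact ⟨j, by rw [← QuotientGroup.mk_pow]; exact (QuotientGroup.eq_one_iff _).2 hj⟩
          obtain ⟨r, hr⟩ := hquot.exists_card_eq
          rw [← index_eq_card] at hr
          set SM : Sylow p M :=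
            ((S.2.to_le (inf_le_left : (S : Subgroup Y) ⊓ M ≤ S)).comap_subtype (K := M)).toSylow hQ.1
          obtain ⟨e, he, s, hs, hes⟩ := mem_sup_of_normal_left.1
            ((sup_sylow_eq_top hr SM).symm ▸ mem_top (⟨q, hq⟩⁻¹ : M) :
              (⟨q, hq⟩⁻¹ : M) ∈ E ⊔ (SM : Subgroup M))
          refine ⟨((s : Y) : G), hSmem _ (show (s : Y) ∈ (S : Subgroup Y) ⊓ M from hs).1,
            ((s : Y) : G)⁻¹ * ((e : Y) : G) * ((s : Y) : G), ?_, ?_⟩
          · rintro _ ⟨d, hd, rfl⟩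
            have hd' : (s : Y) * d * (s : Y)⁻¹ ∈ D := hMn s d hd
            have h1 := congrArg Subtype.val (he.2 _ hd')
            simp only [Subgroup.coe_subtype, Subgroup.coe_mul, Subgroup.coe_inv] at h1
            show (d : G) * _ = _ * (d : G)
            calc (d : G) * (((s : Y) : G)⁻¹ * ((e : Y) : G) * ((s : Y) : G))
                = ((s : Y) : G)⁻¹ * ((((s : Y) : G) * d * ((s : Y) : G)⁻¹) * ((e : Y) : G)) * ((s : Y) : G) := by group
              _ = ((s : Y) : G)⁻¹ * (((e : Y) : G) * (((s : Y) : G) * d * ((s : Y) : G)⁻¹)) * ((s : Y) : G) := by rw [h1]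
              _ = _ := by group
          · have h2 := congrArg (fun m : M => ((m : Y) : G)) hes
            simp only [Subgroup.coe_mul, Subgroup.coe_inv] at h2
            rw [← h2]
            group
        · have hle : Nat.card ↥(D' ⊓ N) ≤ Nat.card G := card_le_card_group _
          refine ih (Nat.card G - Nat.card ↥(D' ⊓ N)) (lt_of_lt_of_le (by omega) hk) D' le_rfl hD'L hD'p _ ?_
          rintro _ ⟨_, ⟨d, hd, rfl⟩, rfl⟩
          have h1 : q⁻¹ * d * q⁻¹⁻¹ ∈ D := (mem_normalizer_iff.1 (inv_mem hq) d).1 hd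
          exact hD'L ⟨_, h1, by simp⟩
      obtain ⟨h1, hh1, c1, hc1, he1⟩ := hstep
      have hc1A : c1 ∈ centralizer (A1 : Set G) := centralizer_le hA1D hc1
      set A2 := A1.map (MulAut.conj (q : G)⁻¹).toMonoidHom
      have hA2D : A2 ≤ D' := by
        rintro _ ⟨a, ha, rfl⟩
        obtain ⟨d, hd, rfl⟩ := hA1D ha
        exact ⟨_, (mem_normalizer_iff.1 (inv_mem hq) d).1 hd, by simp⟩
      have hqA0 : ∀ a ∈ A0, (q : G)⁻¹ * a * (q : G) ∈ A0 := by
        have hYn : Y ≤ normalizer (A0 : Set G) :=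
          sup_le (inf_le_right.trans (centralizer_le_normalizer _))
            (le_normalizer_iff.2 fun a ha b hb => mem_inf.2 ⟨mul_mem (mul_mem ha hb.1) (inv_mem ha),
              (inferInstance : N.Normal).conj_mem b hb.2 a⟩)
        intro a ha
        have := (mem_normalizer_iff.1 (hYn (inv_mem q.2)) a).1 ha
        simpa using this
      have hA20 : A2 ⊓ N = A0 := by
        refine le_antisymm ?_ fun a ha => ?_
        · rintro _ ⟨⟨a, ha, rfl⟩, haN⟩
          have haN' : a ∈ N := by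
            have := (inferInstance : N.Normal).conj_mem _ haN (q : G)
            simpa [mul_assoc] using this
          simpa using hqA0 a (hA10 ▸ mem_inf.2 ⟨ha, haN'⟩)
        · have h2 : (q : G) * a * (q : G)⁻¹ ∈ A0 := by
            have hYn : Y ≤ normalizer (A0 : Set G) :=
              sup_le (inf_le_right.trans (centralizer_le_normalizer _))
                (le_normalizer_iff.2 fun a ha b hb => mem_inf.2 ⟨mul_mem (mul_mem ha hb.1) (inv_mem ha),
                  (inferInstance : N.Normal).conj_mem b hb.2 a⟩)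
            exact (mem_normalizer_iff.1 (hYn q.2) a).1 ha
          exact mem_inf.2 ⟨⟨_, (hA10.symm ▸ h2 : _ ∈ A1 ⊓ N).1, by simp [mul_assoc]⟩, ha.2⟩
      obtain ⟨h2, hh2, c2, hc2, he2⟩ := ihz A2 (hA2D.trans (map_subtype_le _)) (hA2D.trans hD'L)
        (hA1p.map _) hA20 fun a ha => by
          obtain ⟨b, hb, he⟩ := ha
          exact ⟨⟨b, hA1Y hb⟩, hA1B _ hb, Subtype.ext (by simpa using he)⟩
      refine ⟨h2 * h1, mul_mem hh2 hh1, h1⁻¹ * c2 * h1 * c1, mul_mem ?_ hc1A, ?_⟩
      · intro a ha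
        have h3 : h1 * a * h1⁻¹ ∈ A2 := by
          refine ⟨a, ha, ?_⟩
          show (q : G)⁻¹ * a * ((q : G)⁻¹)⁻¹ = h1 * a * h1⁻¹
          rw [he1, show h1 * c1 * a * (h1 * c1)⁻¹ = h1 * (c1 * a * c1⁻¹) * h1⁻¹ by group,
            ← hc1A a ha, mul_inv_cancel_right]
        have h4 := hc2 _ h3
        calc a * (h1⁻¹ * c2 * h1) = h1⁻¹ * ((h1 * a * h1⁻¹) * c2) * h1 := by group
          _ = h1⁻¹ * (c2 * (h1 * a * h1⁻¹)) * h1 := by rw [h4]
          _ = _ := by group
      · rw [Subgroup.coe_mul, mul_inv_rev, he1, he2]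
        group
  obtain ⟨hy', hhy, cy, hcy, hye⟩ := main AY y⁻¹ hchain A hAY hAL hAp rfl fun a ha => ha
  rw [Subgroup.coe_inv, inv_inv] at hye
  have hce : c = (l : G)⁻¹ * hy' * cy := by
    rw [mul_assoc, ← hye, hy]; group
  exact ⟨x * h * ((l : G)⁻¹ * hy'), mul_mem (mul_mem hx (mem_inf.1 hh).1) (mul_mem (inv_mem (mem_inf.1 l.2).2) hhy), cy, hcy,
    by rw [hce]; group⟩

theorem controls (N : Subgroup G) [N.Normal] (P : Sylow p G) (V : Subgroup G)
    (hV : V ≤ (P : Subgroup G) ⊓ N)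
    (hctrl : ∀ A : Subgroup G, A ≤ (P : Subgroup G) ⊓ N → ∀ n ∈ N,
      A.map (MulAut.conj n).toMonoidHom ≤ (P : Subgroup G) ⊓ N →
      ∃ h ∈ N ⊓ normalizer (V : Set G), ∃ c ∈ N ⊓ centralizer (A : Set G), n = h * c)
    (W : Subgroup G) (hW : W = closure (⋃ x ∈ normalizer (((P : Subgroup G) ⊓ N : Subgroup G) : Set G),
      ((V.map (MulAut.conj x).toMonoidHom : Subgroup G) : Set G))) :
    ∀ A : Subgroup G, A ≤ (P : Subgroup G) → ∀ g : G, A.map (MulAut.conj g).toMonoidHom ≤ (P : Subgroup G) →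
      ∃ h ∈ normalizer (W : Set G), ∃ c ∈ centralizer (A : Set G), g = h * c := by
  classical
  set R := (P : Subgroup G) ⊓ N with hR
  set NR := normalizer (R : Set G) with hNR
  have hNRconj : ∀ x ∈ NR, ∀ r ∈ R, x * r * x⁻¹ ∈ R := fun x hx r hr => (mem_normalizer_iff.1 hx r).1 hr
  -- simultaneous control for finitely many conjugates of `V`
  have hmany : ∀ T : Finset G, (∀ x ∈ T, x ∈ NR) → ∀ A ≤ R, ∀ n ∈ N,
      A.map (MulAut.conj n).toMonoidHom ≤ R →
      ∃ h ∈ N, (∀ x ∈ T, h ∈ normalizer ((V.map (MulAut.conj x).toMonoidHom : Subgroup G) : Set G)) ∧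
        ∃ c ∈ N ⊓ centralizer (A : Set G), n = h * c := by
    intro T
    induction T using Finset.induction_on with
    | empty =>
      exact fun _ A _ n hn _ => ⟨n, hn, fun x hx => absurd hx (Finset.notMem_empty x), 1, one_mem _,
        (mul_one n).symm⟩
    | insert x T hxT ihT =>
      intro hT A hA n hn hnA
      obtain ⟨h, hhN, hhT, c, hc, rfl⟩ := ihT (fun y hy => hT y (Finset.mem_insert_of_mem hy)) A hA n hn hnA
      set A1 := A ⊔ ⨆ y ∈ T, V.map (MulAut.conj y).toMonoidHom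
      have hxNR := hT x (Finset.mem_insert_self x T)
      have hVy : ∀ y ∈ T, V.map (MulAut.conj y).toMonoidHom ≤ R := by
        rintro y hy _ ⟨v, hv, rfl⟩
        exact hNRconj y (hT y (Finset.mem_insert_of_mem hy)) v (hV hv)
      have hA1 : A1 ≤ R := sup_le hA (iSup₂_le hVy)
      have hhA1 : A1.map (MulAut.conj h).toMonoidHom ≤ R := by
        rw [Subgroup.map_sup, sup_le_iff]
        refine ⟨?_, ?_⟩
        · rintro _ ⟨a, ha, rfl⟩
          have h1 := hnA ⟨a, ha, rfl⟩
          simp only [MulEquiv.coe_toMonoidHom, MulAut.conj_apply] at h1 ⊢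
          rw [show h * c * a * (h * c)⁻¹ = h * (c * a * c⁻¹) * h⁻¹ by group, ← hc.2 a ha,
            mul_inv_cancel_right] at h1
          exact h1
        · simp only [Subgroup.map_iSup]
          refine iSup₂_le fun y hy => ?_
          rintro _ ⟨v, hv, rfl⟩
          exact hVy y hy ((mem_normalizer_iff.1 (hhT y hy) v).1 hv)
      -- transport by `x`
      set A1x := A1.map (MulAut.conj x⁻¹).toMonoidHom
      have hA1x : A1x ≤ R := by
        rintro _ ⟨a, ha, rfl⟩
        exact hNRconj _ (inv_mem hxNR) a (hA1 ha)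
      obtain ⟨h', hh', c', hc', he⟩ := hctrl A1x hA1x (x⁻¹ * h * x)
        (by simpa using (inferInstance : N.Normal).conj_mem h hhN x⁻¹) (by
          rintro _ ⟨_, ⟨a, ha, rfl⟩, rfl⟩
          have h1 := hNRconj _ (inv_mem hxNR) _ (hhA1 ⟨a, ha, rfl⟩)
          simpa [mul_assoc] using h1)
      have hc2 : x * c' * x⁻¹ ∈ centralizer (A1 : Set G) := by
        intro a ha
        have h1 := (mem_inf.1 hc').2 (x⁻¹ * a * x) ⟨a, ha, by simp⟩
        calc a * (x * c' * x⁻¹) = x * ((x⁻¹ * a * x) * c') * x⁻¹ := by group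
          _ = x * (c' * (x⁻¹ * a * x)) * x⁻¹ := by rw [h1]
          _ = _ := by group
      have hhe : h = (x * h' * x⁻¹) * (x * c' * x⁻¹) := by
        calc h = x * (x⁻¹ * h * x) * x⁻¹ := by group
          _ = _ := by rw [he]; group
      refine ⟨x * h' * x⁻¹, (inferInstance : N.Normal).conj_mem h' (mem_inf.1 hh').1 x, ?_,
        (x * c' * x⁻¹) * c, mul_mem (mem_inf.2 ⟨(inferInstance : N.Normal).conj_mem c' (mem_inf.1 hc').1 x,
          centralizer_le (SetLike.coe_subset_coe.2 le_sup_left) hc2⟩) hc,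
        (congrArg (· * c) hhe).trans (mul_assoc _ _ _)⟩
      intro y hy
      rcases Finset.mem_insert.1 hy with rfl | hy
      · rw [← Subgroup.map_equiv_normalizer_eq V (MulAut.conj y)]
        exact ⟨h', (mem_inf.1 hh').2, rfl⟩
      · rw [show x * h' * x⁻¹ = h * (x * c' * x⁻¹)⁻¹ by
          conv_rhs => rw [hhe]
          group]
        refine mul_mem (hhT y hy) (centralizer_le_normalizer _ (inv_mem (centralizer_le ?_ hc2)))
        intro v hv
        exact mem_sup_right (mem_iSup_of_mem y (mem_iSup_of_mem hy hv))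
  set L := normalizer (W : Set G) with hL
  have hNRL : NR ≤ L := by
    rw [hL, le_normalizer_iff]
    intro x hx w hw
    suffices W.map (MulAut.conj x).toMonoidHom ≤ W from this ⟨w, hw, rfl⟩
    rw [hW, MonoidHom.map_closure, closure_le]
    rintro _ ⟨v, hv, rfl⟩
    simp only [Set.mem_iUnion] at hv
    obtain ⟨y, hy, v, hv', rfl⟩ := hv
    refine subset_closure ?_
    simp only [Set.mem_iUnion]
    exact ⟨x * y, mul_mem hx hy, v, hv', by simp [mul_assoc]⟩
  have hPL : (P : Subgroup G) ≤ L := le_trans (fun a ha => mem_normalizer_iff.2 fun r => by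
    constructor
    · intro hr
      exact mem_inf.2 ⟨mul_mem (mul_mem ha hr.1) (inv_mem ha), (inferInstance : N.Normal).conj_mem r hr.2 a⟩
    · intro hr
      have h1 := (mem_inf (p := (P : Subgroup G)) (p' := N)).2
        ⟨mul_mem (mul_mem (inv_mem ha) hr.1) ha, by simpa using (inferInstance : N.Normal).conj_mem _ hr.2 a⁻¹⟩
      rw [show r = a⁻¹ * (a * r * a⁻¹) * a by group]
      exact h1) hNRL
  have hRL : R ≤ L := inf_le_left.trans hPL
  obtain ⟨RN, hRN⟩ := Cfsg.Lib.Transfer.exists_sylow_subgroupOf P N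
  have hRN' : (RN : Subgroup N).map N.subtype = R := by rw [hRN, subgroupOf_map_subtype]
  -- a `p`-subgroup of `N` is conjugate into `R`
  have hconjR : ∀ T : Subgroup G, T ≤ N → IsPGroup p T →
      ∃ n ∈ N, T.map (MulAut.conj n).toMonoidHom ≤ R := by
    intro T hTN hT
    obtain ⟨S, hS⟩ := (hT.comap_subtype (K := N)).exists_le_sylow
    obtain ⟨n, hn⟩ := MulAction.exists_smul_eq N S RN
    refine ⟨n, n.2, ?_⟩
    rintro _ ⟨t, ht, rfl⟩
    rw [← hRN', ← hn]
    exact ⟨_, ⟨⟨t, hTN ht⟩, hS (x := ⟨t, hTN ht⟩) ht, rfl⟩, rfl⟩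
  -- and inside `L` by an element of `L`
  have hconjL : ∀ T : Subgroup G, T ≤ L ⊓ N → IsPGroup p T →
      ∃ n ∈ L ⊓ N, T.map (MulAut.conj n).toMonoidHom ≤ R := by
    intro T hTN hT
    have hidx : ¬ p ∣ (R.subgroupOf (L ⊓ N)).index := by
      intro hd
      have h1 : R.relIndex N = R.relIndex (L ⊓ N) * (L ⊓ N).relIndex N :=
        (relIndex_mul_relIndex _ _ _ (le_inf hRL inf_le_right) inf_le_right).symm
      refine RN.not_dvd_index ?_
      rw [hRN, ← inf_subgroupOf_right]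
      show p ∣ R.relIndex N
      rw [h1]
      exact Dvd.dvd.mul_right hd _
    set SL : Sylow p ↥(L ⊓ N) := ((P.2.to_le (inf_le_left : R ≤ P)).comap_subtype).toSylow hidx
    obtain ⟨S, hS⟩ := (hT.comap_subtype (K := L ⊓ N)).exists_le_sylow
    obtain ⟨n, hn⟩ := MulAction.exists_smul_eq (↥(L ⊓ N)) S SL
    refine ⟨n, n.2, ?_⟩
    rintro _ ⟨t, ht, rfl⟩
    have h1 : n * ⟨t, hTN ht⟩ * n⁻¹ ∈ (SL : Subgroup ↥(L ⊓ N)) := by
      rw [← hn]
      exact ⟨_, hS (x := ⟨t, hTN ht⟩) ht, rfl⟩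
    exact h1
  have hK : ∀ A0 : Subgroup G, A0 ≤ L ⊓ N → IsPGroup p A0 → ∀ n ∈ N,
      A0.map (MulAut.conj n).toMonoidHom ≤ L →
      ∃ h ∈ L ⊓ N, ∃ c ∈ N ⊓ centralizer (A0 : Set G), n = h * c := by
    intro A0 hA0 hA0p n hn hnA0
    have hnA0' : A0.map (MulAut.conj n).toMonoidHom ≤ L ⊓ N := le_inf hnA0 (by
      rintro _ ⟨a, ha, rfl⟩
      exact (inferInstance : N.Normal).conj_mem a (hA0 ha).2 n)
    obtain ⟨l0, hl0, hle0⟩ := hconjL A0 hA0 hA0p
    obtain ⟨l1, hl1, hle1⟩ := hconjL _ hnA0' (hA0p.map _)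
    obtain ⟨h, hhN, hh, c, hc, he⟩ := hmany (Set.toFinite (NR : Set G)).toFinset (by simp) _ hle0
      (l1 * n * l0⁻¹) (mul_mem (mul_mem (mem_inf.1 hl1).2 hn) (inv_mem (mem_inf.1 hl0).2)) (by
        rintro _ ⟨_, ⟨a, ha, rfl⟩, rfl⟩
        have h1 := hle1 ⟨_, ⟨a, ha, rfl⟩, rfl⟩
        simpa [mul_assoc] using h1)
    have hhL : h ∈ L := by
      have h2 : ∀ y ∈ NR, ∀ z ∈ V.map (MulAut.conj y).toMonoidHom,
          h * z * h⁻¹ ∈ V.map (MulAut.conj y).toMonoidHom :=
        fun y hy z hz => (mem_normalizer_iff.1 (hh y (by simpa using hy)) z).1 hz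
      have hle : W.map (MulAut.conj h).toMonoidHom ≤ W := by
        rw [hW, MonoidHom.map_closure, closure_le]
        rintro _ ⟨v, hv, rfl⟩
        simp only [Set.mem_iUnion] at hv
        obtain ⟨y, hy, hv⟩ := hv
        refine subset_closure ?_
        simp only [Set.mem_iUnion]
        exact ⟨y, hy, h2 y hy v hv⟩
      exact mem_normalizer_iff_map_conj_eq.2 (eq_of_le_of_card_ge hle
        (card_map_of_injective (MulAut.conj h).injective).ge)
    refine ⟨l1⁻¹ * h * l0, mul_mem (mul_mem (inv_mem hl1) (mem_inf.2 ⟨hhL, hhN⟩)) hl0,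
      l0⁻¹ * c * l0, mem_inf.2 ⟨mul_mem (mul_mem (inv_mem (mem_inf.1 hl0).2) hc.1) (mem_inf.1 hl0).2, ?_⟩, ?_⟩
    · intro a ha
      have h1 := hc.2 _ ⟨a, ha, rfl⟩
      simp only [MulEquiv.coe_toMonoidHom, MulAut.conj_apply] at h1
      calc a * (l0⁻¹ * c * l0) = l0⁻¹ * ((l0 * a * l0⁻¹) * c) * l0 := by group
        _ = l0⁻¹ * (c * (l0 * a * l0⁻¹)) * l0 := by rw [h1]
        _ = _ := by group
    · calc n = l1⁻¹ * (l1 * n * l0⁻¹) * l0 := by group
        _ = _ := by rw [he]; group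
  have hGL : ∀ g : G, ∃ x ∈ L, ∃ n ∈ N, g = x * n := by
    intro g
    have h1 : g ∈ NR ⊔ N := by
      rw [hNR, ← hRN', Sylow.normalizer_sup_eq_top RN]; trivial
    obtain ⟨x, hx, n, hn, e⟩ := mem_sup_of_normal_right.1 h1
    exact ⟨x, hNRL hx, n, hn, e.symm⟩
  intro A hA g hg
  exact ctrl_of_normal N L hGL hK
    (fun T hTN hT => let ⟨n, hn, h⟩ := hconjR T hTN hT; ⟨n, hn, h.trans hRL⟩) _ A le_rfl
    (hA.trans hPL) (P.2.to_le hA) g (hg.trans hPL)

end Cfsg.Lib.Misc.ControlExtension
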