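import Cfsg.Agent.Coprime.Generation
import Cfsg.Agent.Coprime.Sylow
import Cfsg.Prelude.Def_Transfer
import Mathlib.GroupTheory.SpecificGroups.Cyclic

/-!
A coprimely acted group is the product `XY` when the centralizers of the non-trivial elements factorise.
-/

set_option linter.style.haveILetI false
set_option linter.unusedSectionVars false

namespace Cfsg.Lib.CoprimeProduct

open Subgroup Cfsg.Lib.Coprime
open scoped Pointwise

universe u

variable {G : Type u} [Group G] [Finite G]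

theorem card_set_mul (X Y : Subgroup G) :
    Nat.card ↥((X : Set G) * (Y : Set G)) * Nat.card ↥(X ⊓ Y) = Nat.card X * Nat.card Y := by
  classical
  have h : ∀ z : ↥((X : Set G) * (Y : Set G)), ∃ x : X, ∃ y : Y, (x : G) * y = z := by
    rintro ⟨_, x, hx, y, hy, rfl⟩
    exact ⟨⟨x, hx⟩, ⟨y, hy⟩, rfl⟩
  choose fx fy hf using h
  rw [← Nat.card_prod, ← Nat.card_prod]
  refine Nat.card_eq_of_bijective (fun q : ↥((X : Set G) * (Y : Set G)) × ↥(X ⊓ Y) =>
    ((⟨(fx q.1 : G) * q.2, mul_mem (fx q.1).2 (mem_inf.1 q.2.2).1⟩ : X),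
     (⟨(q.2 : G)⁻¹ * fy q.1, mul_mem (inv_mem (mem_inf.1 q.2.2).2) (fy q.1).2⟩ : Y))) ⟨?_, ?_⟩
  · rintro ⟨z, d⟩ ⟨z', d'⟩ e
    simp only [Prod.mk.injEq, Subtype.mk.injEq] at e
    have ez : z = z' := by
      refine Subtype.ext ?_
      rw [← hf z, ← hf z', show (fx z : G) * fy z = (fx z * (d : G)) * ((d : G)⁻¹ * fy z) by group,
        e.1, e.2]
      group
    subst ez
    exact Prod.ext rfl (Subtype.ext (mul_left_cancel e.1))
  · rintro ⟨x, y⟩
    set z : ↥((X : Set G) * (Y : Set G)) := ⟨(x : G) * y, x, x.2, y, y.2, rfl⟩ with hz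
    have e : (fx z : G) * fy z = x * y := hf z
    have e2 : (fx z : G)⁻¹ * x = fy z * (y : G)⁻¹ := by
      rw [eq_mul_inv_iff_mul_eq, mul_assoc, ← e]
      group
    refine ⟨(z, ⟨(fx z : G)⁻¹ * x, mem_inf.mpr ⟨mul_mem (inv_mem (fx z).2) x.2, ?_⟩⟩), ?_⟩
    · rw [e2]
      exact mul_mem (fy z).2 (inv_mem y.2)
    · refine Prod.ext (Subtype.ext ?_) (Subtype.ext ?_)
      · show (fx z : G) * ((fx z : G)⁻¹ * x) = x
        group
      · show ((fx z : G)⁻¹ * x)⁻¹ * fy z = y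
        rw [e2]
        group

theorem mul_subset {X Y K : Subgroup G} (hX : X ≤ K) (hY : Y ≤ K) :
    (X : Set G) * (Y : Set G) ⊆ (K : Set G) := by
  rintro _ ⟨x, hx, y, hy, rfl⟩
  exact mul_mem (hX hx) (hY hy)

theorem le_normalizer_bot (A : Subgroup G) : A ≤ normalizer ((⊥ : Subgroup G) : Set G) :=
  le_top.trans (normalizer_eq_top_iff.2 inferInstance).ge

/-- the case of a `q`-group -/
theorem qgroup_subset {A S X Y : Subgroup G} {q : ℕ} [Fact q.Prime] [IsMulCommutative A]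
    (hA : ¬ IsCyclic A) (hS : IsPGroup q S) (hAS : A ≤ normalizer (S : Set G))
    (hcop : (Nat.card A).Coprime (Nat.card S)) (hX : X ≤ S) (hY : Y ≤ S)
    (hfac : ∀ a ∈ A, a ≠ 1 → ∀ s ∈ S ⊓ centralizer ({a} : Set G), s ∈ (X : Set G) * (Y : Set G)) :
    (S : Set G) ⊆ (X : Set G) * (Y : Set G) := by
  haveI := hS.isNilpotent
  let Z : ℕ → Subgroup G := fun n => (Subgroup.upperCentralSeries S n).map S.subtype
  have hZle : ∀ n, Z n ≤ S := fun n => map_subtype_le _
  have hZn : ∀ n, ∀ g ∈ normalizer (S : Set G), ∀ x ∈ Z n, g * x * g⁻¹ ∈ Z n := by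
    intro n g hg x hx
    obtain ⟨s, hs, rfl⟩ := hx
    haveI : (Subgroup.upperCentralSeries S n).Characteristic := inferInstance
    let φ : MulAut S :=
      { toFun := fun t => ⟨g * t * g⁻¹, (mem_normalizer_iff.1 hg t).1 t.2⟩
        invFun := fun t => ⟨g⁻¹ * t * g, by
          have := (mem_normalizer_iff.1 (inv_mem hg) t).1 t.2
          simpa using this⟩
        left_inv := fun t => Subtype.ext (by simp [mul_assoc])
        right_inv := fun t => Subtype.ext (by simp [mul_assoc])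
        map_mul' := fun a b => Subtype.ext (by simp [mul_assoc]) }
    refine ⟨φ s, ?_, rfl⟩
    have h := (Subgroup.characteristic_iff_map_eq.1
      (inferInstance : (Subgroup.upperCentralSeries S n).Characteristic)) φ
    exact h.le ⟨s, hs, rfl⟩
  have main : ∀ n, ∀ x ∈ X, ∀ z ∈ Z n, ∀ y ∈ Y, x * z * y ∈ (X : Set G) * (Y : Set G) := by
    intro n
    induction n with
    | zero =>
      intro x hx z hz y hy
      obtain ⟨s, hs, rfl⟩ := hz
      have : s = 1 := by simpa [Subgroup.upperCentralSeries_zero] using hs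
      subst this
      exact ⟨x, hx, y, hy, by simp⟩
    | succ n ih =>
      have hAZ : A ≤ normalizer (Z (n + 1) : Set G) := fun a ha =>
        Cfsg.Lib.Coprime.mem_normalizer_of_conj_mem (fun x hx => hZn (n + 1) a (hAS ha) x hx)
          (fun x hx => by simpa using hZn (n + 1) a⁻¹ (inv_mem (hAS ha)) x hx)
      have key : ∀ u ∈ closure {u : G | u ∈ Z (n + 1) ∧ ∃ a ∈ A, a ≠ 1 ∧ u ∈ centralizer ({a} : Set G)},
          u ∈ Z (n + 1) ∧ ∀ x ∈ X, ∀ z ∈ Z n, ∀ y ∈ Y, x * z * u * y ∈ (X : Set G) * (Y : Set G) := by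
        intro u hu
        have step : ∀ g : G, (g ∈ Z (n + 1) ∧ ∃ a ∈ A, a ≠ 1 ∧ g ∈ centralizer ({a} : Set G)) → ∀ v : G,
            (v ∈ Z (n + 1) ∧ ∀ x ∈ X, ∀ z ∈ Z n, ∀ y ∈ Y, x * z * v * y ∈ (X : Set G) * (Y : Set G)) →
            g * v ∈ Z (n + 1) ∧ ∀ x ∈ X, ∀ z ∈ Z n, ∀ y ∈ Y, x * z * (g * v) * y ∈ (X : Set G) * (Y : Set G) := by
          rintro g ⟨hg, a, ha, ha1, hga⟩ v ⟨hv, hrec⟩
          refine ⟨mul_mem hg hv, fun x hx z hz y hy => ?_⟩
          obtain ⟨x₁, hx₁, y₁, hy₁, he⟩ := hfac a ha ha1 g (mem_inf.mpr ⟨hZle _ hg, hga⟩)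
          have hc : y₁ * v * y₁⁻¹ * v⁻¹ ∈ Z n := by
            obtain ⟨t, ht, rfl⟩ := hv
            have h1 := Subgroup.mem_upperCentralSeries_succ_iff.1 ht ⟨y₁, hY hy₁⟩
            refine ⟨_, inv_mem h1, ?_⟩
            simp [commutatorElement_def, mul_assoc]
          have hz' : x₁⁻¹ * z * x₁ * (y₁ * v * y₁⁻¹ * v⁻¹) ∈ Z n := by
            refine mul_mem ?_ hc
            have := hZn n x₁⁻¹ (le_normalizer (inv_mem (hX hx₁))) z hz
            simpa using this
          have := hrec (x * x₁) (mul_mem hx hx₁) _ hz' (y₁ * y) (mul_mem hy₁ hy)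
          rw [← he]
          convert this using 1
          group
        induction hu using closure_induction_left with
        | one =>
          exact ⟨one_mem _, fun x hx z hz y hy => by simpa using ih x hx z hz y hy⟩
        | mul_left g hg v _ hv => exact step g hg v hv
        | inv_mul_cancel g hg v _ hv =>
          obtain ⟨h1, a, ha, ha1, h2⟩ := hg
          exact step g⁻¹ ⟨inv_mem h1, a, ha, ha1, inv_mem h2⟩ v hv
      intro x hx u hu y hy
      have hcopZ : (Nat.card A).Coprime (Nat.card (Z (n + 1))) := hcop.coprime_dvd_right (card_dvd_of_le (hZle _))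
      have hgen : Z (n + 1) ≤ closure {u : G | u ∈ Z (n + 1) ∧ ∃ a ∈ A, a ≠ 1 ∧ u ∈ centralizer ({a} : Set G)} := by
        conv_lhs => rw [← centralizerJoin_eq hA hAZ hcopZ]
        exact iSup₂_le fun a ha => fun w hw =>
          subset_closure ⟨(mem_inf.1 hw).1, a, ha.1, ha.2, (mem_inf.1 hw).2⟩
      have := (key u (hgen hu)).2 x hx 1 (one_mem _) y hy
      simpa using this
  intro s hs
  have htop : Subgroup.upperCentralSeries S (Group.nilpotencyClass S) = ⊤ := Subgroup.upperCentralSeries_nilpotencyClass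
  have := main (Group.nilpotencyClass S) 1 (one_mem _) s ⟨⟨s, hs⟩, htop.ge (mem_top _), rfl⟩ 1 (one_mem _)
  simpa using this

/-- Sylow subgroups described by their order -/
def IsSyl (q : ℕ) (P J : Subgroup G) : Prop :=
  P ≤ J ∧ Nat.card P = q ^ (Nat.card J).factorization q

theorem IsSyl.isPGroup {q : ℕ} [Fact q.Prime] {P J : Subgroup G} (h : IsSyl q P J) : IsPGroup q P :=
  IsPGroup.of_card h.2

theorem isSyl_of_sylow {q : ℕ} [Fact q.Prime] {J : Subgroup G} (P : Sylow q J) :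
    IsSyl q ((P : Subgroup J).map J.subtype) J :=
  ⟨map_subtype_le _, by rw [card_map_of_injective J.subtype_injective, P.card_eq_multiplicity]⟩

theorem card_dvd_syl {q : ℕ} [hq : Fact q.Prime] {U J : Subgroup G} (hU : IsPGroup q U) (hUJ : U ≤ J) :
    Nat.card U ∣ q ^ (Nat.card J).factorization q := by
  obtain ⟨k, hk⟩ := IsPGroup.iff_card.1 hU
  rw [hk]
  exact pow_dvd_pow q ((hq.out.pow_dvd_iff_le_factorization Nat.card_pos.ne').1 (hk ▸ card_dvd_of_le hUJ))

theorem isSyl_of_le {q : ℕ} [Fact q.Prime] {U V J : Subgroup G} (hU : IsSyl q U J) (hUV : U ≤ V)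
    (hV : IsPGroup q V) (hVJ : V ≤ J) : IsSyl q V J :=
  ⟨hVJ, Nat.dvd_antisymm (card_dvd_syl hV hVJ) (hU.2 ▸ card_dvd_of_le hUV)⟩

variable {A : Subgroup G} [hcomm : IsMulCommutative A]

theorem exists_syl {q : ℕ} [Fact q.Prime] {J U : Subgroup G} (hAJ : A ≤ normalizer (J : Set G))
    (hcop : (Nat.card A).Coprime (Nat.card J)) (hUJ : U ≤ J) (hU : IsPGroup q U)
    (hUA : A ≤ normalizer (U : Set G)) :
    ∃ P : Subgroup G, IsSyl q P J ∧ U ≤ P ∧ A ≤ normalizer (P : Set G) := by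
  obtain ⟨P, h1, h2⟩ := exists_invariant_sylow_ge hAJ hcop
    (Or.inl (Group.isSolvable_of_comm fun a b => mul_comm' a b)) q hUJ hU hUA
  exact ⟨_, isSyl_of_sylow P, h1, h2⟩

theorem syl_conj {q : ℕ} [Fact q.Prime] {J P Q : Subgroup G} (hAJ : A ≤ normalizer (J : Set G))
    (hcop : (Nat.card A).Coprime (Nat.card J)) (hP : IsSyl q P J) (hQ : IsSyl q Q J)
    (hPA : A ≤ normalizer (P : Set G)) (hQA : A ≤ normalizer (Q : Set G)) :
    ∃ c ∈ J ⊓ centralizer (A : Set G), conjMap c P = Q := by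
  let P' : Sylow q J := Sylow.ofCard (P.subgroupOf J)
    (by rw [Nat.card_congr (subgroupOfEquivOfLe hP.1).toEquiv, hP.2])
  let Q' : Sylow q J := Sylow.ofCard (Q.subgroupOf J)
    (by rw [Nat.card_congr (subgroupOfEquivOfLe hQ.1).toEquiv, hQ.2])
  have eP : (P' : Subgroup J).map J.subtype = P := by
    rw [Sylow.coe_ofCard, map_subgroupOf_eq_of_le hP.1]
  have eQ : (Q' : Subgroup J).map J.subtype = Q := by
    rw [Sylow.coe_ofCard, map_subgroupOf_eq_of_le hQ.1]
  obtain ⟨c, hc, e⟩ := invariant_sylow_conj hAJ hcop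
    (Or.inl (Group.isSolvable_of_comm fun a b => mul_comm' a b)) q P' Q'
    (by rw [eP]; exact hPA) (by rw [eQ]; exact hQA)
  refine ⟨c, mem_inf.mpr ⟨c.2, hc⟩, ?_⟩
  rw [← eQ, ← e, map_subtype_smul, eP]

theorem syl_inf {q : ℕ} [Fact q.Prime] {J P : Subgroup G} (hAJ : A ≤ normalizer (J : Set G))
    (hcop : (Nat.card A).Coprime (Nat.card J)) (hP : IsSyl q P J) (hPA : A ≤ normalizer (P : Set G))
    {a : G} (ha : a ∈ A) :
    IsSyl q (P ⊓ centralizer ({a} : Set G)) (J ⊓ centralizer ({a} : Set G)) := by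
  have hAC : A ≤ centralizer ({a} : Set G) := fun b hb =>
    mem_centralizer_singleton_iff.2 (congrArg Subtype.val (mul_comm' (⟨b, hb⟩ : A) ⟨a, ha⟩))
  have hAJC : A ≤ normalizer ((J ⊓ centralizer ({a} : Set G) : Subgroup G) : Set G) :=
    le_normalizer_inf hAJ (hAC.trans le_normalizer)
  obtain ⟨Q, hQ, -, hQA⟩ := exists_syl (q := q) (U := (⊥ : Subgroup G)) hAJC (hcop.coprime_dvd_right (card_dvd_of_le inf_le_left))
    bot_le (IsPGroup.of_bot) (le_normalizer_bot A)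
  obtain ⟨P', hP', hQP', hP'A⟩ := exists_syl hAJ hcop (hQ.1.trans inf_le_left) hQ.isPGroup hQA
  obtain ⟨c, hc, e⟩ := syl_conj hAJ hcop hP hP' hPA hP'A
  have hcC : c ∈ centralizer ({a} : Set G) :=
    centralizer_le (by simpa using ha) (mem_inf.1 hc).2
  have h1 : Q ≤ conjMap c (P ⊓ centralizer ({a} : Set G)) := by
    rw [conjMap_inf, e, conjMap_eq_self (le_normalizer hcC)]
    exact le_inf hQP' (hQ.1.trans inf_le_right)
  refine ⟨inf_le_inf_right _ hP.1, Nat.dvd_antisymm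
    (card_dvd_syl (hP.isPGroup.to_le inf_le_left) (inf_le_inf_right _ hP.1)) ?_⟩
  rw [← hQ.2, ← card_conjMap c (P ⊓ centralizer ({a} : Set G))]
  exact card_dvd_of_le h1

theorem product_eq {p : ℕ} [hp : Fact p.Prime] {K X Y : Subgroup G} (hA : IsPGroup p A) (hAnc : ¬ IsCyclic A)
    (hK : ¬ p ∣ Nat.card K) (hAK : A ≤ normalizer (K : Set G)) (hX : X ≤ K) (hY : Y ≤ K)
    (hAX : A ≤ normalizer (X : Set G)) (hAY : A ≤ normalizer (Y : Set G))
    (hCX : K ⊓ centralizer (A : Set G) ≤ normalizer (X : Set G))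
    (hfac : ∀ a ∈ A, a ≠ 1 → ((K ⊓ centralizer ({a} : Set G) : Subgroup G) : Set G) =
      ((X ⊓ centralizer ({a} : Set G) : Subgroup G) : Set G) * ((Y ⊓ centralizer ({a} : Set G) : Subgroup G) : Set G)) :
    (K : Set G) = (X : Set G) * (Y : Set G) := by
  obtain ⟨k, hk⟩ := IsPGroup.iff_card.1 hA
  have hcop : ∀ J : Subgroup G, J ≤ K → (Nat.card A).Coprime (Nat.card J) := fun J hJ => by
    rw [hk]
    exact Nat.Coprime.pow_left _ ((hp.out.coprime_iff_not_dvd).2 fun h => hK (h.trans (card_dvd_of_le hJ)))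
  have hD : A ≤ normalizer ((X ⊓ Y : Subgroup G) : Set G) := le_normalizer_inf hAX hAY
  have hfin : ∀ U V : Subgroup G, Nat.card ↥((U : Set G) * (V : Set G)) ≠ 0 := fun U V h => by
    have := card_set_mul U V
    rw [h, zero_mul] at this
    exact absurd this.symm (mul_ne_zero Nat.card_pos.ne' Nat.card_pos.ne')
  suffices h : Nat.card K * Nat.card ↥(X ⊓ Y) = Nat.card X * Nat.card Y by
    refine (Set.eq_of_subset_of_ncard_le (mul_subset hX hY) ?_ (Set.toFinite _)).symm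
    rw [← Nat.card_coe_set_eq, ← Nat.card_coe_set_eq]
    rw [← card_set_mul X Y] at h
    exact (Nat.eq_of_mul_eq_mul_right Nat.card_pos h).le
  refine Nat.eq_of_factorization_eq (mul_ne_zero Nat.card_pos.ne' Nat.card_pos.ne')
    (mul_ne_zero Nat.card_pos.ne' Nat.card_pos.ne') fun q => ?_
  by_cases hq : q.Prime
  swap
  · rw [Nat.factorization_eq_zero_of_not_prime _ hq, Nat.factorization_eq_zero_of_not_prime _ hq]
  haveI := Fact.mk hq
  rw [Nat.factorization_mul Nat.card_pos.ne' Nat.card_pos.ne', Nat.factorization_mul Nat.card_pos.ne' Nat.card_pos.ne',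
    Finsupp.add_apply, Finsupp.add_apply]
  obtain ⟨D, hDs, -, hDA⟩ := exists_syl (q := q) (U := (⊥ : Subgroup G)) hD (hcop _ (inf_le_left.trans hX))
    bot_le IsPGroup.of_bot (le_normalizer_bot A)
  obtain ⟨Yq, hYq, hDY, hYqA⟩ := exists_syl hAY (hcop _ hY) (hDs.1.trans inf_le_right) hDs.isPGroup hDA
  obtain ⟨S, hS, hYS, hSA⟩ := exists_syl hAK (hcop _ le_rfl) (hYq.1.trans hY) hYq.isPGroup hYqA
  obtain ⟨Xq, hXq, -, hXqA⟩ := exists_syl (q := q) (U := (⊥ : Subgroup G)) hAX (hcop _ hX)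
    bot_le IsPGroup.of_bot (le_normalizer_bot A)
  obtain ⟨S', hS', hXS', hS'A⟩ := exists_syl hAK (hcop _ le_rfl) (hXq.1.trans hX) hXq.isPGroup hXqA
  obtain ⟨c, hc, ec⟩ := syl_conj hAK (hcop _ le_rfl) hS' hS hS'A hSA
  have hSY : IsSyl q (S ⊓ Y) Y := isSyl_of_le hYq (le_inf hYS hYq.1) (hS.isPGroup.to_le inf_le_left) inf_le_right
  have hSD : IsSyl q (S ⊓ (X ⊓ Y)) (X ⊓ Y) :=
    isSyl_of_le hDs (le_inf (hDY.trans hYS) hDs.1) (hS.isPGroup.to_le inf_le_left) inf_le_right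
  have hSX : IsSyl q (S ⊓ X) X := by
    have h1 : IsSyl q (S' ⊓ X) X := isSyl_of_le hXq (le_inf hXS' hXq.1) (hS'.isPGroup.to_le inf_le_left) inf_le_right
    refine ⟨inf_le_right, ?_⟩
    rw [← h1.2, ← card_conjMap c (S' ⊓ X), conjMap_inf, ec, conjMap_eq_self (hCX hc)]
  have hinf : ∀ T : Subgroup G, (S ⊓ X ⊓ T) ⊓ (S ⊓ Y ⊓ T) = S ⊓ (X ⊓ Y) ⊓ T := fun T => by
    apply le_antisymm <;> intro x hx <;> simp only [mem_inf] at hx ⊢ <;> tauto
  have hloc : ∀ a ∈ A, a ≠ 1 → ∀ s ∈ S ⊓ centralizer ({a} : Set G),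
      s ∈ ((S ⊓ X : Subgroup G) : Set G) * ((S ⊓ Y : Subgroup G) : Set G) := by
    intro a ha ha1 s hs
    set C := centralizer ({a} : Set G)
    have e1 := syl_inf hAK (hcop _ le_rfl) hS hSA ha
    have e2 := syl_inf hAX (hcop _ hX) hSX (le_normalizer_inf hSA hAX) ha
    have e3 := syl_inf hAY (hcop _ hY) hSY (le_normalizer_inf hSA hAY) ha
    have e4 := syl_inf hD (hcop _ (inf_le_left.trans hX)) hSD (le_normalizer_inf hSA hD) ha
    have hset := card_set_mul (X ⊓ C) (Y ⊓ C)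
    rw [← hfac a ha ha1, show X ⊓ C ⊓ (Y ⊓ C) = X ⊓ Y ⊓ C by
      apply le_antisymm <;> intro x hx <;> simp only [mem_inf] at hx ⊢ <;> tauto] at hset
    have hexp := congrArg (fun n => Nat.factorization n q) hset
    simp only [Nat.factorization_mul Nat.card_pos.ne' Nat.card_pos.ne', Finsupp.add_apply] at hexp
    change (Nat.card ↥(K ⊓ C)).factorization q + _ = _ at hexp
    have hsmall := card_set_mul (S ⊓ X ⊓ C) (S ⊓ Y ⊓ C)
    rw [hinf, e2.2, e3.2, e4.2, ← pow_add, ← hexp, pow_add] at hsmall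
    have hcard : Nat.card ↥(((S ⊓ X ⊓ C : Subgroup G) : Set G) * ((S ⊓ Y ⊓ C : Subgroup G) : Set G)) = Nat.card ↥(S ⊓ C) := by
      rw [e1.2]
      exact Nat.eq_of_mul_eq_mul_right (pow_pos hq.pos _) hsmall
    have hsub := mul_subset (K := S ⊓ C) (X := S ⊓ X ⊓ C) (Y := S ⊓ Y ⊓ C)
      (inf_le_inf_right _ inf_le_left) (inf_le_inf_right _ inf_le_left)
    have heq := Set.eq_of_subset_of_ncard_le hsub (by
      rw [← Nat.card_coe_set_eq, ← Nat.card_coe_set_eq, hcard]; exact le_rfl) (Set.toFinite _)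
    obtain ⟨x, hx, y, hy, e⟩ := heq.ge hs
    exact ⟨x, (mem_inf.1 hx).1, y, (mem_inf.1 hy).1, e⟩
  have hsub := qgroup_subset hAnc hS.isPGroup hSA (hcop _ hS.1) inf_le_left inf_le_left hloc
  have heq : ((S ⊓ X : Subgroup G) : Set G) * ((S ⊓ Y : Subgroup G) : Set G) = (S : Set G) :=
    (mul_subset inf_le_left inf_le_left).antisymm hsub
  have hbig := card_set_mul (S ⊓ X) (S ⊓ Y)
  rw [heq, show S ⊓ X ⊓ (S ⊓ Y) = S ⊓ (X ⊓ Y) by
    apply le_antisymm <;> intro x hx <;> simp only [mem_inf] at hx ⊢ <;> tauto, hSX.2, hSY.2, hSD.2, ← pow_add] at hbig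
  change Nat.card S * _ = _ at hbig
  rw [hS.2, ← pow_add] at hbig
  exact Nat.pow_right_injective hq.two_le hbig

theorem product_eq_elementary {p : ℕ} [hp : Fact p.Prime] {A K X Y : Subgroup G}
    (hA : Cfsg.IsElementaryAbelian p A) (hA2 : p ^ 2 ≤ Nat.card A)
    (hK : ¬ p ∣ Nat.card K) (hAK : A ≤ normalizer (K : Set G)) (hX : X ≤ K) (hY : Y ≤ K)
    (hAX : A ≤ normalizer (X : Set G)) (hAY : A ≤ normalizer (Y : Set G))
    (hCX : K ⊓ centralizer (A : Set G) ≤ normalizer (X : Set G))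
    (hfac : ∀ a ∈ A, a ≠ 1 → ((K ⊓ centralizer ({a} : Set G) : Subgroup G) : Set G) =
      ((X ⊓ centralizer ({a} : Set G) : Subgroup G) : Set G) * ((Y ⊓ centralizer ({a} : Set G) : Subgroup G) : Set G)) :
    (K : Set G) = (X : Set G) * (Y : Set G) := by
  haveI := hA.1
  have hexp : Monoid.exponent A ∣ p := Monoid.exponent_dvd_of_forall_pow_eq_one fun a =>
    Subtype.ext (by simpa using hA.2 a a.2)
  refine product_eq (fun a => ⟨1, Subtype.ext (by simpa using hA.2 a a.2)⟩) (fun hc => ?_)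
    hK hAK hX hY hAX hAY hCX hfac
  rw [IsCyclic.exponent_eq_card] at hexp
  have h1 := Nat.le_of_dvd hp.out.pos hexp
  nlinarith [hp.out.two_le]

end Cfsg.Lib.CoprimeProduct
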