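import Cfsg.Agent.Components.Balance
import Cfsg.Agent.Components.Structure
import Cfsg.Agent.Components.Local
import Cfsg.Agent.Components.LBalance
import Cfsg.Agent.InvolCalc.ZStarApps

/-!
A nontrivial subgroup of `O(C_H(t))` moves a component of `H` normalized by `t`.
-/

set_option linter.style.haveILetI false
set_option linter.unusedSectionVars false

namespace Cfsg.Lib.Misc.CoreComponent

open Subgroup Cfsg.Lib.Components
open scoped commutatorElement

universe u

variable {G : Type u} [Group G] [Finite G]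

theorem aux (hO : pPrimeCore 2 G = ⊥) (H : Subgroup G) [hHn : H.Normal]
    (hsol : Group.IsSolvable (G ⧸ H)) {t : G} (ht : orderOf t = 2) {Y : Subgroup G} (hY1 : Y ≠ ⊥)
    (hY : Y ≤ (pPrimeCore 2 ↥(H ⊓ centralizer ({t} : Set G))).map (H ⊓ centralizer ({t} : Set G)).subtype) :
    ∃ E : Subgroup G, E ≤ H ∧ IsComponent E ∧ t ∈ normalizer (E : Set G) ∧ Y ≤ normalizer (E : Set G) ∧
      t ∉ centralizer (E : Set G) ∧ ¬ Y ≤ centralizer (E : Set G) := by
  haveI : Fact (Nat.Prime 2) := ⟨Nat.prime_two⟩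
  set C := H ⊓ centralizer ({t} : Set G) with hC
  set O := (pPrimeCore 2 C).map C.subtype with hO'
  have htt : t * t = 1 := by rw [← pow_two, ← ht, pow_orderOf_eq_one]
  have htp : IsPGroup 2 (zpowers t) := IsPGroup.of_card (n := 1) (by rw [Nat.card_zpowers, ht, pow_one])
  have hOC : O ≤ C := map_subtype_le _
  have hOodd : (Nat.card O).Coprime 2 := by
    rw [hO', card_map_of_injective C.subtype_injective]; exact coprime_card_pPrimeCore 2
  have hCnO : C ≤ normalizer (O : Set G) := fun g hg => by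
    refine Cfsg.Lib.ZStarApps.mem_normalizer_of_maps ?_
    rintro _ ⟨y, hy, rfl⟩
    exact ⟨⟨g, hg⟩ * y * ⟨g, hg⟩⁻¹, (inferInstance : (pPrimeCore 2 C).Normal).conj_mem y hy _, rfl⟩
  -- `O` lies in the core of the centraliser of `t`
  have hOcore : O ≤ centralizerPPrimeCore 2 t := by
    set CX := centralizer ({t} : Set G)
    haveI : (C.subgroupOf CX).Normal := by
      rw [hC, inf_subgroupOf_right]; infer_instance
    have hle := pPrimeCore_map_subtype_eq (p := 2) (‹(C.subgroupOf CX).Normal›).isSubnormal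
    rw [← pPrimeCore_map_equiv (subgroupOfEquivOfLe (inf_le_right : C ≤ CX)).symm] at hle
    refine le_trans (le_of_eq ?_) (map_mono (f := CX.subtype) (hle.le.trans inf_le_left))
    rw [hO', map_map, map_map]
    rfl
  have hYt : ∀ y ∈ Y, y * t = t * y := fun y hy => mem_centralizer_singleton_iff.mp (hOC (hY hy)).2
  have hYH : Y ≤ H := fun y hy => (hOC (hY hy)).1
  have hYker : Y ≤ compKernel G := hY.trans (hOcore.trans (centralizerPPrimeCore_le_compKernel hO htp))
  have hYW : Y ≤ centralizer (pCore 2 G : Set G) :=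
    hY.trans (hOcore.trans (centralizerPPrimeCore_centralizes htp (isPGroup_pCore 2)))
  have hYnorm : ∀ E, IsComponent E → Y ≤ normalizer (E : Set G) := fun E hE y hy =>
    mem_compKernel.mp (hYker hy) E hE
  have hEH : ∀ E, IsComponent E → E ≤ H := fun E hE x hx =>
    (QuotientGroup.eq_one_iff x).mp
      (map_eq_one_of_perfect_solvable (comp_perfect hE) hsol ((QuotientGroup.mk' H).comp E.subtype) ⟨x, hx⟩)
  -- some component is moved by `Y`
  obtain ⟨E, hE, hEY⟩ : ∃ E : Subgroup G, IsComponent E ∧ ¬ Y ≤ centralizer (E : Set G) := by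
    by_contra hcon
    push Not at hcon
    apply hY1
    have hYF : Y ≤ centralizer (generalizedFittingSubgroup G : Set G) := by
      rw [le_centralizer_iff]
      refine sup_le (sSup_le fun E hE => le_centralizer_iff.mp (hcon E hE)) ?_
      rw [Cfsg.Lib.Components.fitting_eq_pCore hO]
      exact le_centralizer_iff.mp hYW
    have hYfit : Y ≤ fittingSubgroup G := by
      intro y hy
      obtain ⟨⟨e, he, f, hf, hef⟩⟩ : Nonempty (∃ e ∈ layer G, ∃ f ∈ fittingSubgroup G, e * f = y) := by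
        refine ⟨(Cfsg.Lib.Coprime.mem_sup_of_le_normalizer ?_).mp (centralizer_genFitting_le (hYF hy))⟩
        exact le_normalizer_of_normal
      have hec : e ∈ layer G ⊓ centralizer (layer G : Set G) := by
        refine ⟨he, ?_⟩
        show e ∈ centralizer (layer G : Set G)
        rw [show e = y * f⁻¹ by rw [← hef, mul_inv_cancel_right]]
        have h := commutator_eq_bot_iff_le_centralizer.mp (by rw [commutator_comm]; exact layer_commute_fitting :
          ⁅fittingSubgroup G, layer G⁆ = ⊥)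
        exact mul_mem (centralizer_le (SetLike.coe_subset_coe.mpr layer_le_genFitting) (hYF hy)) (inv_mem (h hf))
      rw [layer_inf_centralizer_eq_fitting] at hec
      rw [← hef]
      exact mul_mem hec.1 hf
    rw [eq_bot_iff]
    intro y hy
    refine mem_bot.mpr (Cfsg.Lib.Coprime.eq_one_of_coprime (N := O) (H := pCore 2 G) ?_ (hY hy)
      (Cfsg.Lib.Components.fitting_eq_pCore hO ▸ hYfit hy))
    obtain ⟨k, hk⟩ := IsPGroup.iff_card.mp (isPGroup_pCore (G := G) 2)
    rw [hk]; exact hOodd.pow_right k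
  have hcz := comp_center_isPGroup hO hE
  have h2Z : 2 ∣ (center E).index := qs_dvd_index_center hE.2 hcz (comp_dvd_card hO hE)
  -- `t` normalizes `E`
  have htE : t ∈ normalizer (E : Set G) := by
    by_contra htn
    set E' := E.map (MulAut.conj t).toMonoidHom with hE'
    have hne : E ≠ E' := fun h => htn (by rw [← Cfsg.Lib.Coprime.conjMap_eq_self_iff]; exact h.symm)
    have hE'c : IsComponent E' := comp_conj hE t
    have hcomm := commutator_eq_bot_iff_le_centralizer.mp (comp_commute hE'c hE (Ne.symm hne))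
    have hc : ∀ a ∈ E, ∀ b ∈ E, a * (t * b * t⁻¹) = (t * b * t⁻¹) * a := fun a ha b hb =>
      mem_centralizer_iff.mp (hcomm (mem_map_of_mem _ hb : t * b * t⁻¹ ∈ E')) a ha
    have hμC : ∀ e : E, (e : G) * (t * e * t⁻¹) ∈ C := fun e => by
      refine ⟨mul_mem (hEH E hE e.2) (hEH E' hE'c (mem_map_of_mem _ e.2)), mem_centralizer_singleton_iff.mpr ?_⟩
      have hti : t⁻¹ = t := inv_eq_of_mul_eq_one_right htt
      calc (e : G) * (t * e * t⁻¹) * t = (e : G) * (t * e) := by group
        _ = (t * e * t⁻¹) * e * t := by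
          rw [← hc e e.2 e e.2, hti, show (e : G) * (t * e * t) * t = e * (t * e) * (t * t) by group, htt, mul_one]
        _ = t * ((e : G) * (t * e * t⁻¹)) := by
          rw [hti, show t * ((e : G) * (t * e * t)) = t * e * t * e * t by simp only [mul_assoc]]
    let μ : E →* C :=
      { toFun := fun e => ⟨(e : G) * (t * e * t⁻¹), hμC e⟩
        map_one' := Subtype.ext (by show (1 : G) * (t * 1 * t⁻¹) = 1; group)
        map_mul' := fun a b => Subtype.ext (by
          show (a : G) * b * (t * (a * b) * t⁻¹) = (a * (t * a * t⁻¹)) * (b * (t * b * t⁻¹))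
          calc (a : G) * b * (t * (a * b) * t⁻¹) = a * (b * (t * a * t⁻¹)) * (t * b * t⁻¹) := by group
            _ = a * ((t * a * t⁻¹) * b) * (t * b * t⁻¹) := by rw [hc b b.2 a a.2]
            _ = _ := by group) }
    set X₀ := (pPrimeCore 2 C).comap μ with hX₀
    haveI : X₀.Normal := inferInstance
    have hker : μ.ker ≤ center E := fun e he => by
      refine mem_center_iff.mpr fun d => Subtype.ext ?_
      have h1 : (e : G) * (t * e * t⁻¹) = 1 := congrArg Subtype.val (MonoidHom.mem_ker.mp he)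
      have h2 : (e : G)⁻¹ = t * e * t⁻¹ := inv_eq_of_mul_eq_one_right h1
      have h3 : (d : G) * (e : G)⁻¹ = (e : G)⁻¹ * d := by rw [h2]; exact hc d d.2 e e.2
      exact (Commute.inv_right_iff.mp h3)
    have hX₀Z : X₀ ≤ center E := by
      refine (qs_subnormal_eq_top_or_le_center hE.2 (inferInstance : X₀.Normal).isSubnormal).resolve_left
        fun htop => ?_
      have hr : μ.range ≤ pPrimeCore 2 C := by
        rw [MonoidHom.range_eq_map, map_le_iff_le_comap]; exact htop.ge
      have h1 : μ.ker.index ∣ Nat.card (pPrimeCore 2 C) := index_ker μ ▸ card_dvd_of_le hr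
      have h2 := (h2Z.trans (index_dvd_of_le hker)).trans h1
      exact absurd (Nat.dvd_gcd h2 dvd_rfl) (by rw [coprime_card_pPrimeCore (G := C) 2]; norm_num)
    apply hEY
    rw [← commutator_eq_bot_iff_le_centralizer, commutator_comm]
    refine commutator_eq_bot_of_perfect (comp_perfect hE) ?_
    rw [eq_bot_iff, commutator_comm _ E]
    have hEZ : ⁅E, Y⁆ ≤ (center E).map E.subtype := by
      rw [commutator_le]
      intro e he y hy
      have hye : y * e⁻¹ * y⁻¹ ∈ E := (mem_normalizer_iff.mp (hYnorm E hE hy) _).mp (inv_mem he)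
      have hd : ⁅e, y⁆ ∈ E := by
        rw [commutatorElement_def, mul_assoc, mul_assoc, ← mul_assoc y]
        exact mul_mem he hye
      refine ⟨⟨_, hd⟩, ?_, rfl⟩
      refine hX₀Z ?_
      show μ ⟨⁅e, y⁆, hd⟩ ∈ pPrimeCore 2 C
      obtain ⟨o, ho, hoy⟩ := hY hy
      have hyC : y ∈ C := hoy ▸ o.2
      have hmu : μ ⟨⁅e, y⁆, hd⟩ = ⁅μ ⟨e, he⟩, o⁆ := by
        refine Subtype.ext ?_
        have hoy' : (o : G) = y := hoy
        show ⁅e, y⁆ * (t * ⁅e, y⁆ * t⁻¹) = ⁅e * (t * e * t⁻¹), (o : G)⁆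
        rw [hoy']
        have hty : t * y * t⁻¹ = y := by rw [← hYt y hy, mul_inv_cancel_right]
        have e1 : t * ⁅e, y⁆ * t⁻¹ = ⁅t * e * t⁻¹, y⁆ := by
          calc t * ⁅e, y⁆ * t⁻¹ = ⁅t * e * t⁻¹, t * y * t⁻¹⁆ := by simp only [commutatorElement_def]; group
            _ = _ := by rw [hty]
        have hd2 : ⁅t * e * t⁻¹, y⁆ ∈ E' := e1 ▸ mem_map_of_mem (MulAut.conj t).toMonoidHom hd
        have e2 : e * ⁅t * e * t⁻¹, y⁆ = ⁅t * e * t⁻¹, y⁆ * e := mem_centralizer_iff.mp (hcomm hd2) e he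
        calc ⁅e, y⁆ * (t * ⁅e, y⁆ * t⁻¹) = ⁅t * e * t⁻¹, y⁆ * ⁅e, y⁆ := by
              rw [e1]; exact (mem_centralizer_iff.mp (hcomm hd2) _ hd)
          _ = (⁅t * e * t⁻¹, y⁆ * e) * y * e⁻¹ * y⁻¹ := by simp only [commutatorElement_def]; group
          _ = (e * ⁅t * e * t⁻¹, y⁆) * y * e⁻¹ * y⁻¹ := by rw [e2]
          _ = _ := by simp only [commutatorElement_def]; group
      rw [hmu, commutatorElement_def, mul_assoc, mul_assoc]
      refine (inferInstance : (pPrimeCore 2 C).Normal).conj_mem o ho (μ ⟨e, he⟩) |> fun h => ?_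
      simpa [mul_assoc] using mul_mem h (inv_mem ho)
    refine (commutator_mono le_rfl hEZ).trans (commutator_le.mpr ?_)
    rintro a ha _ ⟨z, hz, rfl⟩
    rw [mem_bot, commutatorElement_eq_one_iff_mul_comm]
    exact congrArg Subtype.val (mem_center_iff.mp hz ⟨a, ha⟩)
  refine ⟨E, hEH E hE, hE, htE, hYnorm E hE, fun htc => hEY ?_, hEY⟩
  -- if `t` centralizes `E`
  have hEC : E ≤ C := fun e he => ⟨hEH E hE he, mem_centralizer_singleton_iff.mpr
    (mem_centralizer_iff.mp htc e he)⟩
  have h1 : ⁅E, Y⁆ ≤ E ⊓ O := by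
    refine le_inf (le_normalizer_iff_commutator_le_left.mp (hYnorm E hE)) ?_
    refine (commutator_mono le_rfl hY).trans ?_
    rw [commutator_comm]
    exact le_normalizer_iff_commutator_le_left.mp (hEC.trans hCnO)
  haveI : ((E ⊓ O).subgroupOf E).Normal := normal_subgroupOf_of_le_normalizer fun g hg =>
    inf_normalizer_le_normalizer_inf ⟨le_normalizer hg, hCnO (hEC hg)⟩
  have hodd : (Nat.card ((E ⊓ O).subgroupOf E)).Coprime 2 := by
    rw [Nat.card_congr (subgroupOfEquivOfLe inf_le_left).toEquiv]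
    exact hOodd.coprime_dvd_left (card_dvd_of_le inf_le_right)
  have hbot : (E ⊓ O).subgroupOf E = ⊥ := by
    rcases qs_subnormal_eq_top_or_le_center hE.2 (‹((E ⊓ O).subgroupOf E).Normal›).isSubnormal with h | h
    · rw [h, card_top] at hodd
      exact absurd (Nat.dvd_gcd (comp_dvd_card hO hE) dvd_rfl) (by rw [hodd]; norm_num)
    · obtain ⟨k, hk⟩ := IsPGroup.iff_card.mp (hcz.to_le h)
      exact eq_bot_of_card_eq _ (Nat.eq_one_of_dvd_coprimes (hodd.pow_right k) dvd_rfl (dvd_of_eq hk))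
  rw [← commutator_eq_bot_iff_le_centralizer, commutator_comm, eq_bot_iff]
  refine h1.trans ?_
  intro x hx
  have h2 : (⟨x, hx.1⟩ : E) ∈ (E ⊓ O).subgroupOf E := hx
  rw [hbot, mem_bot] at h2
  exact mem_bot.mpr (congrArg Subtype.val h2)

end Cfsg.Lib.Misc.CoreComponent

namespace Cfsg.Lib.Misc.CoreComponent

open Subgroup Cfsg.Lib.Components
open scoped commutatorElement

universe u

theorem result' {G : Type u} [Group G] [Finite G] (H : Subgroup G) (hO : pPrimeCore 2 ↥H = ⊥) {t : G}
    (ht : orderOf t = 2) (htH : t ∈ normalizer (H : Set G)) {Y : Subgroup G} (hY1 : Y ≠ ⊥)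
    (hY : Y ≤ (pPrimeCore 2 ↥(H ⊓ centralizer ({t} : Set G))).map (H ⊓ centralizer ({t} : Set G)).subtype) :
    ∃ E : Subgroup ↥H, IsComponent E ∧ (E.map H.subtype).map (MulAut.conj t).toMonoidHom = E.map H.subtype ∧
      Y ≤ normalizer ((E.map H.subtype : Subgroup G) : Set G) ∧
      ¬ (t ∈ centralizer ((E.map H.subtype : Subgroup G) : Set G)) ∧
      ¬ (Y ≤ centralizer ((E.map H.subtype : Subgroup G) : Set G)) := by
  haveI : Fact (Nat.Prime 2) := ⟨Nat.prime_two⟩
  set X := H ⊔ zpowers t with hX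
  have hHX : H ≤ X := le_sup_left
  have htX : t ∈ X := mem_sup_right (mem_zpowers t)
  have hXH : X ≤ normalizer (H : Set G) := sup_le le_normalizer (zpowers_le.mpr htH)
  set H' := H.subgroupOf X with hH'
  haveI : H'.Normal := normal_subgroupOf_of_le_normalizer hXH
  set q := QuotientGroup.mk' H'
  have hgen : ∀ x : X, q x ∈ zpowers (q ⟨t, htX⟩) := by
    intro x
    obtain ⟨h, hh, k, hk, hhk⟩ := (Cfsg.Lib.Coprime.mem_sup_of_le_normalizer (zpowers_le.mpr htH)).mp x.2
    obtain ⟨i, rfl⟩ := mem_zpowers_iff.mp hk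
    refine mem_zpowers_iff.mpr ⟨i, ?_⟩
    rw [← map_zpow]
    refine (QuotientGroup.eq.mpr (mem_subgroupOf.mpr ?_))
    show ((⟨t, htX⟩ ^ i : X) : G)⁻¹ * (x : G) ∈ H
    rw [SubgroupClass.coe_zpow, ← hhk]
    have := (mem_normalizer_iff.mp (inv_mem (zpow_mem htH i)) h).mp hh
    simpa [mul_assoc] using this
  have hsol : Group.IsSolvable (X ⧸ H') := Group.isSolvable_of_comm fun a b => by
    obtain ⟨a, rfl⟩ := QuotientGroup.mk'_surjective H' a
    obtain ⟨b, rfl⟩ := QuotientGroup.mk'_surjective H' b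
    obtain ⟨i, hi⟩ := mem_zpowers_iff.mp (hgen a)
    obtain ⟨j, hj⟩ := mem_zpowers_iff.mp (hgen b)
    rw [← hi, ← hj]
    exact (Commute.zpow_zpow_self _ i j).eq
  have hOX : pPrimeCore 2 X = ⊥ := by
    have hle : pPrimeCore 2 X ≤ H' := fun x hx => by
      refine (QuotientGroup.eq_one_iff x).mp ?_
      obtain ⟨i, hi⟩ := mem_zpowers_iff.mp (hgen x)
      rw [← orderOf_eq_one_iff]
      refine Nat.eq_one_of_dvd_coprimes (coprime_card_pPrimeCore (G := X) 2) ?_ ?_
      · exact (orderOf_map_dvd q x).trans (orderOf_mk x hx ▸ orderOf_dvd_natCard _)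
      · show orderOf (q x) ∣ 2
        rw [← hi]
        refine orderOf_dvd_of_pow_eq_one ?_
        rw [← zpow_natCast, ← zpow_mul, mul_comm, zpow_mul, zpow_natCast, ← map_pow,
          show (⟨t, htX⟩ : X) ^ 2 = 1 from Subtype.ext (by
            show t ^ 2 = 1
            rw [← ht, pow_orderOf_eq_one]), map_one, one_zpow]
    have h1 := pPrimeCore_map_subtype_eq (p := 2) (inferInstance : H'.Normal).isSubnormal
    rw [← pPrimeCore_map_equiv (subgroupOfEquivOfLe hHX).symm, hO, Subgroup.map_bot, Subgroup.map_bot,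
      inf_eq_left.mpr hle] at h1
    exact h1.symm
  set Y' := Y.subgroupOf X with hY'
  have hYX : Y ≤ X := (hY.trans ((map_subtype_le _).trans inf_le_left)).trans hHX
  obtain ⟨E, hEH, hE, htE, hYE, htnc, hYnc⟩ := aux hOX H' hsol (t := ⟨t, htX⟩)
    (by rw [Subgroup.orderOf_mk, ht]) (Y := Y') (fun h => hY1 (by
      have h2 := congrArg (Subgroup.map X.subtype) h
      rwa [hY', subgroupOf_map_subtype, inf_eq_left.mpr hYX, Subgroup.map_bot] at h2)) (by
      set C' := H' ⊓ centralizer ({⟨t, htX⟩} : Set X) with hC'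
      set C := H ⊓ centralizer ({t} : Set G) with hC
      have hCX : C ≤ X := inf_le_left.trans hHX
      have hCC : C' = C.subgroupOf X := by
        ext x
        simp only [hC', hC, mem_inf, mem_subgroupOf, hH', mem_centralizer_singleton_iff, Subtype.ext_iff,
          Subgroup.coe_mul]
      intro y hy
      obtain ⟨o, ho, hoy⟩ := hY (mem_subgroupOf.mp hy)
      let e : C ≃* C' := (subgroupOfEquivOfLe hCX).symm.trans (MulEquiv.subgroupCongr hCC.symm)
      refine ⟨e o, ?_, Subtype.ext hoy⟩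
      exact (pPrimeCore_map_equiv (p := 2) e).le (mem_map_of_mem _ ho))
  set E₀ := E.map X.subtype with hE₀
  have hE₀H : E₀ ≤ H := by
    rintro _ ⟨e, he, rfl⟩
    exact mem_subgroupOf.mp (hEH he)
  have hmapE : (E₀.subgroupOf H).map H.subtype = E₀ := by rw [subgroupOf_map_subtype, inf_eq_left.mpr hE₀H]
  refine ⟨E₀.subgroupOf H, ?_, ?_⟩
  · have h1 := comp_subgroupOf hE hEH
    have h2 := comp_map_equiv h1 (subgroupOfEquivOfLe hHX)
    have h3 : (E.subgroupOf H').map (subgroupOfEquivOfLe hHX).toMonoidHom = E₀.subgroupOf H := by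
      ext ⟨x, hx⟩
      constructor
      · rintro ⟨⟨⟨y, hyX⟩, hyH⟩, hy, hxy⟩
        exact mem_subgroupOf.mpr ⟨⟨y, hyX⟩, hy, congrArg Subtype.val hxy⟩
      · intro hxE
        obtain ⟨⟨y, hyX⟩, hy, hxy⟩ := mem_subgroupOf.mp hxE
        refine ⟨⟨⟨y, hyX⟩, ?_⟩, hy, Subtype.ext hxy⟩
        show y ∈ H
        rw [show y = x from hxy]; exact hx
    rwa [h3] at h2
  have hnorm : ∀ g : X, g ∈ normalizer (E : Set X) → (g : G) ∈ normalizer (E₀ : Set G) := fun g hg => by
    refine Cfsg.Lib.ZStarApps.mem_normalizer_of_maps ?_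
    rintro _ ⟨e, he, rfl⟩
    exact ⟨g * e * g⁻¹, (mem_normalizer_iff.mp hg e).mp he, rfl⟩
  rw [hmapE]
  refine ⟨?_, fun y hy => hnorm ⟨y, hYX hy⟩ (hYE (mem_subgroupOf.mpr hy)), fun h => htnc ?_, fun h => hYnc ?_⟩
  · have h := hnorm _ htE
    rw [← Cfsg.Lib.Coprime.conjMap_eq_self_iff] at h
    exact h
  · exact mem_centralizer_iff.mpr fun e he => Subtype.ext (mem_centralizer_iff.mp h _ (mem_map_of_mem _ he))
  · exact fun y hy => mem_centralizer_iff.mpr fun e he =>
      Subtype.ext (mem_centralizer_iff.mp (h (mem_subgroupOf.mp hy)) _ (mem_map_of_mem _ he))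

end Cfsg.Lib.Misc.CoreComponent
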