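import Cfsg.Agent.Components.Misc.Large
import Cfsg.Agent.OddLocal.SmallAction

/-! An elementwise criterion for lying in `O_p(L)`. -/

set_option linter.style.haveILetI false
set_option linter.unusedSectionVars false

namespace Cfsg.Lib.Misc.CoreDescent

open Subgroup
open scoped commutatorElement

universe u

variable {G : Type u} [Group G] [Finite G] {p : ℕ} [hp : Fact p.Prime]

/-- Inside `L`: a `p`-subgroup that centralizes `A / A'` and commutes with `C_L(A)` modulo a normal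
`p`-subgroup lies in `O_p(L)`. -/
theorem le_pCore {L : Type u} [Group L] [Finite L] (A : Subgroup L) [A.Normal] (hA : IsPGroup p A)
    (Y : Subgroup L) (hY : IsPGroup p Y) (hYA : ∀ y ∈ Y, ∀ a ∈ A, y * a * y⁻¹ * a⁻¹ ∈ ⁅A, A⁆)
    (hYC : ∀ y ∈ Y, ∀ c ∈ centralizer (A : Set L), c * y * c⁻¹ * y⁻¹ ∈ Cfsg.pCore p L) :
    Y ≤ Cfsg.pCore p L := by
  set C := centralizer (A : Set L) with hC
  haveI : C.Normal := normal_centralizer
  haveI : (⁅A, A⁆).Normal := commutator_normal A A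
  let W : Subgroup L :=
    { carrier := {w | ∀ a ∈ A, w * a * w⁻¹ * a⁻¹ ∈ ⁅A, A⁆}
      one_mem' := fun a _ => by simp
      mul_mem' := fun {u v} hu hv a ha => by
        rw [show u * v * a * (u * v)⁻¹ * a⁻¹ =
          u * (v * a * v⁻¹) * u⁻¹ * (v * a * v⁻¹)⁻¹ * (v * a * v⁻¹ * a⁻¹) by group]
        exact mul_mem (hu _ ((inferInstance : A.Normal).conj_mem a ha v)) (hv a ha)
      inv_mem' := fun {u} hu a ha => by
        have h1 := hu (u⁻¹ * a * u) (by simpa using (inferInstance : A.Normal).conj_mem a ha u⁻¹)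
        have h2 := inv_mem h1
        convert h2 using 1
        group }
  haveI hWn : W.Normal := ⟨fun w hw g a ha => by
    have h1 := hw (g⁻¹ * a * g) (by simpa using (inferInstance : A.Normal).conj_mem a ha g⁻¹)
    have h2 := (inferInstance : (⁅A, A⁆).Normal).conj_mem _ h1 g
    convert h2 using 1
    group⟩
  have hCW : C ≤ W := fun c hc a ha => by
    rw [show c * a * c⁻¹ * a⁻¹ = 1 by rw [← hc a ha]; group]
    exact one_mem _
  -- `W / C` is a `p`-group
  have hpow : ∀ w ∈ W, ∃ k, w ^ p ^ k ∈ C := by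
    intro w hw
    obtain ⟨k, m, hm, hord⟩ := Nat.exists_eq_pow_mul_and_not_dvd (orderOf_pos w).ne' p hp.out.ne_one
    refine ⟨k, ?_⟩
    have hco : (Nat.card (zpowers (w ^ p ^ k))).Coprime p := by
      rw [Nat.card_zpowers, orderOf_pow_of_dvd (pow_ne_zero _ hp.out.ne_zero) (Dvd.intro _ hord.symm),
        hord, Nat.mul_div_cancel_left _ (pow_pos hp.out.pos k)]
      exact ((hp.out.coprime_iff_not_dvd).2 hm).symm
    have hle : zpowers (w ^ p ^ k) ≤ W := zpowers_le.2 (pow_mem hw _)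
    refine Cfsg.Lib.Coprime.le_centralizer_of_frattini (A := zpowers (w ^ p ^ k)) (K := A)
      le_normalizer_of_normal ?_ ?_ (mem_zpowers _)
    · obtain ⟨i, hi⟩ := IsPGroup.iff_card.1 (hA.to_subgroup (frattini A))
      rw [hi]; exact hco.pow_right i
    · intro a ha x hx
      have h1 : ⁅A, A⁆ ≤ (frattini A).map A.subtype := by
        rw [← map_subtype_commutator]
        exact map_mono (Cfsg.Lib.PGroups.commutator_le_frattini hA)
      exact h1 (hle ha x hx)
  have hYW : Y ≤ W := fun y hy a ha => hYA y hy a ha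
  haveI : (C.subgroupOf W).Normal := inferInstance
  have hquot : IsPGroup p (W ⧸ C.subgroupOf W) := by
    intro q
    obtain ⟨w, rfl⟩ := QuotientGroup.mk_surjective q
    obtain ⟨j, hj⟩ := hpow w w.2
    exact ⟨j, by rw [← QuotientGroup.mk_pow]; exact (QuotientGroup.eq_one_iff _).2 hj⟩
  obtain ⟨r, hr⟩ := hquot.exists_card_eq
  rw [← index_eq_card] at hr
  obtain ⟨P, hP⟩ := (hY.comap_subtype (K := W)).exists_le_sylow
  set K := Cfsg.pCore p L
  haveI : K.Normal := Cfsg.Lib.Components.pCore_normal' p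
  set K' := K.subgroupOf W
  -- the conjugates of `Y` in `W` lie in the `p`-group `K' P`
  have hKP : IsPGroup p ↥(K' ⊔ (P : Subgroup W)) :=
    ((Cfsg.Lib.Components.isPGroup_pCore p).comap_subtype).to_sup_of_normal_left P.2
  have hcl : normalClosure ((Y.subgroupOf W : Subgroup W) : Set W) ≤ K' ⊔ (P : Subgroup W) := by
    refine (closure_le _).2 fun x hx => ?_
    obtain ⟨y, hy, hconj⟩ := Group.mem_conjugatesOfSet_iff.1 hx
    obtain ⟨w, rfl⟩ := isConj_iff.1 hconj
    obtain ⟨c, hc, q, hq, rfl⟩ := mem_sup_of_normal_left.1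
      ((Cfsg.Lib.Transfer.sup_sylow_eq_top hr P).symm ▸ mem_top w :
        w ∈ C.subgroupOf W ⊔ (P : Subgroup W))
    have e : c * q * y * (c * q)⁻¹ = (c * (q * y * q⁻¹) * c⁻¹ * (q * y * q⁻¹)⁻¹) * (q * y * q⁻¹) := by
      group
    rw [e]
    refine mul_mem_sup ?_ (mul_mem (mul_mem hq (hP hy)) (inv_mem hq))
    show ((c * (q * y * q⁻¹) * c⁻¹ * (q * y * q⁻¹)⁻¹ : W) : L) ∈ K
    simp only [Subgroup.coe_mul, Subgroup.coe_inv]
    have hc' : (q : L)⁻¹ * c * q ∈ C := by
      simpa using (inferInstance : C.Normal).conj_mem _ hc (q : L)⁻¹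
    have h1 := hYC y hy _ hc'
    have h2 := (inferInstance : K.Normal).conj_mem _ h1 (q : L)
    convert h2 using 1
    group
  have hN : ((normalClosure ((Y.subgroupOf W : Subgroup W) : Set W))).map W.subtype ≤
      Cfsg.pCore p L := by
    have hsub : IsPGroup p ↥(normalClosure ((Y.subgroupOf W : Subgroup W) : Set W)) := hKP.to_le hcl
    have h1 : normalClosure ((Y.subgroupOf W : Subgroup W) : Set W) ≤ Cfsg.pCore p W :=
      Cfsg.Lib.Components.le_pCore hsub
    haveI : (Cfsg.pCore p W).Characteristic := Cfsg.Lib.Components.pCore_characteristic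
    haveI : ((Cfsg.pCore p W).map W.subtype).Normal := ConjAct.normal_of_characteristic_of_normal
    exact (map_mono h1).trans
      (Cfsg.Lib.Components.le_pCore ((Cfsg.Lib.Components.isPGroup_pCore p).map _))
  exact fun y hy => hN ⟨⟨y, hYW hy⟩, subset_normalClosure hy, rfl⟩

/-- `Y ≤ O_p(M†)` with `[Y, A] ≤ [I, A]` lies in `O_p(L)`. -/
theorem le_pCoreOf_of_large (S : Sylow p G) (Q : Subgroup G) (hQp : IsPGroup p Q) (hQ1 : Q ≠ ⊥)
    (hQ : Cfsg.IsLarge Q) (M : Subgroup G) (hSM : (S : Subgroup G) ≤ M) (hM : Cfsg.IsInFrakM p M)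
    (I : Subgroup G) (hI1 : I ≠ ⊥) (hIp : IsPGroup p I) (hIM : I ≤ M ∧ M ≤ normalizer (I : Set G))
    (Y : Subgroup G)
    (hY : Y ≤ Cfsg.pCoreOf p (M ⊔ centralizer ((Cfsg.largestPReducedOf p M : Subgroup G) : Set G)))
    (L : Subgroup G) (hYL : Y ≤ L) (A : Subgroup G) (hAp : IsPGroup p A)
    (hAL : A ≤ L ∧ L ≤ normalizer (A : Set G)) (hIA : I ≤ A) (hc : ⁅Y, A⁆ ≤ ⁅I, A⁆) :
    Y ≤ Cfsg.pCoreOf p L := by
  set Md := M ⊔ centralizer ((Cfsg.largestPReducedOf p M : Subgroup G) : Set G)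
  -- `N(I) ≤ M†`
  set R := normalizer (I : Set G)
  have hIR : I ≤ R := le_normalizer
  have hne : Cfsg.pCore p R ≠ ⊥ := by
    intro h
    haveI : (I.subgroupOf R).Normal := normal_in_normalizer
    have h1 : I.subgroupOf R ≤ ⊥ := h ▸ Cfsg.Lib.Components.le_pCore hIp.comap_subtype
    exact hI1 (eq_bot_iff.2 fun x hx => by
      simpa using congrArg Subtype.val (mem_bot.1 (h1 (show (⟨x, hIR hx⟩ : R) ∈ I.subgroupOf R from hx))))
  have hR : R ∈ Cfsg.charPSubgroups p G :=
    ⟨hne, (Cfsg.Lib.Large.parabolic_props hQp hQ1 hQ R ⟨S, hSM.trans hIM.2⟩ hne).2⟩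
  obtain ⟨X, hRX, hX⟩ := (Set.toFinite {X ∈ Cfsg.charPSubgroups p G | R ≤ X}).exists_le_maximal
    (show R ∈ {X ∈ Cfsg.charPSubgroups p G | R ≤ X} from ⟨hR, le_rfl⟩)
  have hXmax : X ∈ Cfsg.maxCharPSubgroups p G :=
    ⟨hX.1.1, fun L' hL' hXL' => le_antisymm (hX.2 ⟨hL', hRX.trans hXL'⟩ hXL') hXL'⟩
  have hRd : R ≤ Md := hRX.trans (le_of_eq (hM.2.2.1 X hXmax (hIM.2.trans hRX)))
  -- `C_L(A)` normalizes `O_p(M†)`
  set P := Cfsg.pCoreOf p Md
  set C := centralizer ((A : Subgroup G) : Set G)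
  have hPp : IsPGroup p P := (Cfsg.Lib.Components.isPGroup_pCore p).map _
  have hCd : C ≤ Md := ((centralizer_le (SetLike.coe_subset_coe.2 hIA)).trans
    (centralizer_le_normalizer _)).trans hRd
  have hCN : C ≤ normalizer (P : Set G) :=
    hCd.trans (le_normalizer.trans (Cfsg.Lib.Large.normalizer_pCoreOf_le Md))
  set A' := A.subgroupOf L
  haveI : A'.Normal := normal_subgroupOf_of_le_normalizer hAL.2
  have hY' : Y.subgroupOf L ≤ Cfsg.pCore p L := by
    refine le_pCore A' hAp.comap_subtype _ ((hPp.to_le hY).comap_subtype) ?_ ?_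
    · intro y hy a ha
      have hYAA : ⁅Y, A⁆ ≤ ⁅A, A⁆ := hc.trans (commutator_mono hIA le_rfl)
      obtain ⟨z, hz, hze⟩ : ((y * a * y⁻¹ * a⁻¹ : L) : G) ∈ (⁅A', A'⁆).map L.subtype := by
        rw [map_commutator, map_subgroupOf_eq_of_le hAL.1]
        exact hYAA (commutator_mem_commutator hy ha)
      obtain rfl : z = _ := Subtype.ext hze
      exact hz
    · intro y hy c hc'
      set CL : Subgroup L := centralizer (A' : Set L)
      haveI : CL.Normal := normal_centralizer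
      -- the commutator lies in a normal `p`-subgroup of `C_L(A)`
      have hcC : ∀ x : L, x ∈ CL ↔ (x : G) ∈ C := fun x =>
        ⟨fun hx a ha => congrArg Subtype.val (hx ⟨a, hAL.1 ha⟩ ha), fun hx a ha => Subtype.ext (hx (a : G) ha)⟩
      set T : Subgroup CL := (P.subgroupOf L).subgroupOf CL
      haveI : T.Normal := ⟨fun t ht g => (mem_normalizer_iff.1 (hCN ((hcC _).1 g.2)) _).1 ht⟩
      have hT : T ≤ Cfsg.pCore p CL :=
        Cfsg.Lib.Components.le_pCore (hPp.comap_subtype.comap_subtype)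
      have hmem : c * y * c⁻¹ * y⁻¹ ∈ CL := by
        rw [show c * y * c⁻¹ * y⁻¹ = c * (y * c⁻¹ * y⁻¹) by group]
        exact mul_mem hc' ((inferInstance : CL.Normal).conj_mem _ (inv_mem hc') y)
      have hmemP : (⟨_, hmem⟩ : CL) ∈ T := by
        show ((c * y * c⁻¹ * y⁻¹ : L) : G) ∈ P
        simp only [Subgroup.coe_mul, Subgroup.coe_inv]
        exact mul_mem ((mem_normalizer_iff.1 (hCN ((hcC c).1 hc')) _).1 (hY hy)) (inv_mem (hY hy))
      haveI : (Cfsg.pCore p CL).Characteristic := Cfsg.Lib.Components.pCore_characteristic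
      haveI : ((Cfsg.pCore p CL).map CL.subtype).Normal := ConjAct.normal_of_characteristic_of_normal
      exact Cfsg.Lib.Components.le_pCore ((Cfsg.Lib.Components.isPGroup_pCore p).map CL.subtype)
        ⟨_, hT hmemP, rfl⟩
  intro y hy
  exact ⟨⟨y, hYL hy⟩, hY' hy, rfl⟩

end Cfsg.Lib.Misc.CoreDescent
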