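import Cfsg.Agent.Components.BalanceDelta
import Cfsg.Agent.Components.LBalanceTwo.Main
import Cfsg.Agent.Coprime.CommutatorFixedGeneration
import Cfsg.Agent.S1301

/-!
The signalizer functor of Goldschmidt attached to a core-separated pair of four-groups.

With `O a = O(C(a))` and `W_i = O(C(A_i))` the value at `a` is the intersection over `i` of
`[O a, A_i](O a ⊓ W_i)`. The key fact is `C_{[O a, A_i]}(A_i) ≤ W_i`. The solvability of groups of
odd order enters as a hypothesis.
-/

set_option linter.style.haveILetI false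
set_option linter.unusedSectionVars false

namespace Cfsg.Lib.CoreSep

open Subgroup
open Cfsg.Lib.Components
open scoped commutatorElement

universe u

variable {G : Type u} [Group G] [Finite G]

/-- `O(C(B))` as a subgroup of `G`. -/
abbrev coreC (B : Subgroup G) : Subgroup G :=
  (oddCore ↥(centralizer (B : Set G))).map (centralizer (B : Set G)).subtype

/-- The factor of the functor at `a` belonging to `B`. -/
abbrev part (B : Subgroup G) (a : G) : Subgroup G :=
  ⁅centralizerPPrimeCore 2 a, B⁆ ⊔ (centralizerPPrimeCore 2 a ⊓ coreC B)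

/-- The quotient map of `C` by its odd core. -/
abbrev coreQ (C : Subgroup G) : ↥C →* ↥C ⧸ pPrimeCore 2 ↥C :=
  QuotientGroup.mk' (pPrimeCore 2 ↥C)

theorem centralizer_le_normalizer_coreC (B : Subgroup G) :
    centralizer (B : Set G) ≤ normalizer (coreC B : Set G) := by
  conv_lhs => rw [← range_subtype (centralizer (B : Set G)), MonoidHom.range_eq_map]
  exact le_trans (Subgroup.map_mono (normalizer_eq_top _).ge) (le_normalizer_map _)

theorem coreC_le_centralizer (B : Subgroup G) : coreC B ≤ centralizer (B : Set G) :=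
  map_subtype_le _

theorem coreC_coprime (B : Subgroup G) : (Nat.card (coreC B)).Coprime 2 :=
  (coprime_card_pPrimeCore 2).coprime_dvd_left (card_map_dvd _ _)

/-- an element of odd order centralizing `O_2` and all components is trivial when the odd core is trivial -/
theorem eq_one_of_centralizes {Q : Type u} [Group Q] [Finite Q] (hO : pPrimeCore 2 Q = ⊥) {x : Q}
    (hx : (orderOf x).Coprime 2) (h2 : x ∈ centralizer (pCore 2 Q : Set Q))
    (hL : ∀ L : Subgroup Q, IsComponent L → x ∈ centralizer (L : Set Q)) : x = 1 := by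
  have hF : fittingSubgroup Q = pCore 2 Q := fitting_eq_pCore hO
  have hlay : layer Q ≤ centralizer ({x} : Set Q) :=
    sSup_le fun L hLc l hl =>
      mem_centralizer_singleton_iff.mpr (mem_centralizer_iff.mp (hL L hLc) l hl)
  have hpc : fittingSubgroup Q ≤ centralizer ({x} : Set Q) := by
    rw [hF]
    exact fun l hl => mem_centralizer_singleton_iff.mpr (mem_centralizer_iff.mp h2 l hl)
  have hgen : generalizedFittingSubgroup Q ≤ centralizer ({x} : Set Q) := sup_le hlay hpc
  have hxc : x ∈ centralizer (generalizedFittingSubgroup Q : Set Q) :=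
    mem_centralizer_iff.mpr fun g hg => mem_centralizer_singleton_iff.mp (hgen hg)
  set Z := centralizer (generalizedFittingSubgroup Q : Set Q) with hZ
  haveI hnF : (generalizedFittingSubgroup Q).Normal := by
    refine ⟨fun n hn g => ?_⟩
    have := genFitting_map_equiv (MulAut.conj g)
    exact this.le ⟨n, hn, rfl⟩
  haveI : Z.Normal := normal_centralizer
  have hnil : Group.IsNilpotent Z := by
    refine class_two_nilpotent ?_
    have h : ⁅Z, Z⁆ = ⊥ := by
      rw [commutator_eq_bot_iff_le_centralizer]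
      intro g hg
      exact mem_centralizer_iff.mpr fun y hy =>
        (mem_centralizer_iff.mp hy g (centralizer_genFitting_le hg)).symm
    rw [h, commutator_bot_left]
  have hxp : x ∈ pCore 2 Q := hF ▸ le_fitting (N := Z) hnil hxc
  obtain ⟨k, hk⟩ := isPGroup_pCore (G := Q) 2 ⟨x, hxp⟩
  have hk' : x ^ 2 ^ k = 1 := congrArg Subtype.val hk
  exact orderOf_eq_one_iff.mp
    (((hx.pow_right k).coprime_dvd_right (orderOf_dvd_of_pow_eq_one hk')).symm.eq_one_of_dvd
      dvd_rfl)

/-- The hypotheses on the pair. -/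
structure Pair (A B : Subgroup G) : Prop where
  eA : IsElementaryAbelian 2 A
  eB : IsElementaryAbelian 2 B
  cA : Nat.card ↥A = 4
  comm : ∀ x ∈ A, ∀ y ∈ B, x * y = y * x
  sep : ∀ a ∈ A ⊔ B, a ≠ 1 → ∀ E : Subgroup ↥(centralizer ({a} : Set G)), IsPComponent 2 E →
    ⁅E.map (centralizer ({a} : Set G)).subtype, A⁆ ≤ centralizerPPrimeCore 2 a ∨
    ⁅E.map (centralizer ({a} : Set G)).subtype, B⁆ ≤ centralizerPPrimeCore 2 a

namespace Pair

variable {A B : Subgroup G} (h : Pair A B)
include h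

theorem sup_le_centA : A ⊔ B ≤ centralizer (A : Set G) := by
  refine sup_le (fun x hx => mem_centralizer_iff.mpr fun y hy => ?_)
    (fun y hy => mem_centralizer_iff.mpr fun x hx => h.comm x hx y hy)
  haveI := h.eA.1
  exact congrArg Subtype.val (IsMulCommutative.is_comm.comm (⟨y, hy⟩ : ↥A) ⟨x, hx⟩)

theorem sup_le_centB : A ⊔ B ≤ centralizer (B : Set G) := by
  refine sup_le (fun x hx => mem_centralizer_iff.mpr fun y hy => (h.comm x hx y hy).symm)
    (fun x hx => mem_centralizer_iff.mpr fun y hy => ?_)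
  haveI := h.eB.1
  exact congrArg Subtype.val (IsMulCommutative.is_comm.comm (⟨y, hy⟩ : ↥B) ⟨x, hx⟩)

theorem sup_comm {x y : G} (hx : x ∈ A ⊔ B) (hy : y ∈ A ⊔ B) : x * y = y * x := by
  have h1 : A ⊔ B ≤ centralizer ({x} : Set G) :=
    sup_le (fun z hz => mem_centralizer_singleton_iff.mpr (mem_centralizer_iff.mp (h.sup_le_centA hx) z hz))
      (fun z hz => mem_centralizer_singleton_iff.mpr (mem_centralizer_iff.mp (h.sup_le_centB hx) z hz))
  exact (mem_centralizer_singleton_iff.mp (h1 hy)).symm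

theorem decomp {x : G} (hx : x ∈ A ⊔ B) : ∃ s ∈ A, ∃ t ∈ B, x = s * t := by
  have hn : B ≤ normalizer (A : Set G) :=
    (le_sup_right.trans h.sup_le_centA).trans (centralizer_le_normalizer _)
  have hx' : x ∈ ((A ⊔ B : Subgroup G) : Set G) := hx
  rw [coe_mul_of_right_le_normalizer_left _ _ hn] at hx'
  obtain ⟨s, hs, t, ht, hst⟩ := hx'
  exact ⟨s, hs, t, ht, hst.symm⟩

theorem sq {x : G} (hx : x ∈ A ⊔ B) : x ^ 2 = 1 := by
  obtain ⟨s, hs, t, ht, rfl⟩ := h.decomp hx
  rw [Commute.mul_pow (h.comm s hs t ht) 2, h.eA.2 s hs, h.eB.2 t ht, one_mul]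

theorem pgroup {x : G} (hx : x ∈ A ⊔ B) : IsPGroup 2 (zpowers x) :=
  isPGroup_zpowers_of_pow_eq_one (h.sq hx)

theorem le_centralizer_singleton {x : G} (hx : x ∈ A ⊔ B) :
    A ⊔ B ≤ centralizer ({x} : Set G) :=
  fun _ hy => mem_centralizer_singleton_iff.mpr (h.sup_comm hy hx)

theorem le_normalizer_core {a : G} (ha : a ∈ A ⊔ B) :
    A ⊔ B ≤ normalizer (centralizerPPrimeCore 2 a : Set G) :=
  (h.le_centralizer_singleton ha).trans (centralizer_le_normalizer_centralizerPPrimeCore a)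

theorem isPGroupA : IsPGroup 2 ↥A := IsPGroup.iff_card.mpr ⟨2, h.cA⟩

theorem solA : Group.IsSolvable ↥A :=
  Group.isSolvable_of_comm fun a b => h.eA.1.is_comm.comm a b

theorem copA {X : Subgroup G} (hX : (Nat.card X).Coprime 2) :
    (Nat.card A).Coprime (Nat.card X) := by
  rw [h.cA, show (4 : ℕ) = 2 ^ 2 from rfl]
  exact Nat.Coprime.pow_left 2 hX.symm

theorem normalizer_part {a : G} (ha : a ∈ A ⊔ B) :
    A ⊔ B ≤ normalizer (part A a : Set G) := by
  refine le_trans (le_inf ?_ ?_) (normalizer_inf_normalizer_le_normalizer_sup _ _)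
  · intro x hx
    have hxA : x ∈ normalizer (A : Set G) := centralizer_le_normalizer _ (h.sup_le_centA hx)
    exact Cfsg.Lib.CommFixedGen.le_normalizer_commutator (X := A ⊔ B) (h.le_normalizer_core ha)
      (h.sup_le_centA.trans (centralizer_le_normalizer _)) hx
  · exact Cfsg.Lib.Coprime.le_normalizer_inf (h.le_normalizer_core ha)
      (h.sup_le_centA.trans (centralizer_le_normalizer_coreC A))

omit h in
theorem part_le {a : G} (ha : A ≤ normalizer (centralizerPPrimeCore 2 a : Set G)) :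
    part A a ≤ centralizerPPrimeCore 2 a :=
  sup_le (Cfsg.Lib.Coprime.commutator_le_of_le_normalizer ha) inf_le_left

/-- the components of `C(c)/O(C(c))` are separated by the two four-groups -/
theorem separated {c : G} (hc : c ∈ A ⊔ B) (hc1 : c ≠ 1)
    {K : Subgroup (↥(centralizer ({c} : Set G)) ⧸ pPrimeCore 2 ↥(centralizer ({c} : Set G)))}
    (hK : IsComponent K) :
    (∀ v : ↥(centralizer ({c} : Set G)), (v : G) ∈ A →
      coreQ _ v ∈ centralizer (K : Set _)) ∨
    (∀ v : ↥(centralizer ({c} : Set G)), (v : G) ∈ B →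
      coreQ _ v ∈ centralizer (K : Set _)) := by
  obtain ⟨E, hE, rfl⟩ := exists_pcomp hK
  have key : ∀ T : Subgroup G,
      ⁅E.map (centralizer ({c} : Set G)).subtype, T⁆ ≤ centralizerPPrimeCore 2 c →
      ∀ v : ↥(centralizer ({c} : Set G)), (v : G) ∈ T →
        coreQ _ v ∈ centralizer ((E.map (coreQ _) : Subgroup _) : Set _) := by
    intro T hT v hv
    refine mem_centralizer_iff.mpr ?_
    rintro _ ⟨e, he, rfl⟩
    have h1 := hT (commutator_mem_commutator (mem_map_of_mem _ he) hv)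
    rw [centralizerPPrimeCore, Subgroup.subtype_apply] at h1
    have h2 : ⁅e, v⁆ ∈ pPrimeCore 2 ↥(centralizer ({c} : Set G)) := by
      rw [show ⁅(e : G), (v : G)⁆ = ((⁅e, v⁆ : ↥(centralizer ({c} : Set G))) : G) by
        simp [commutatorElement_def]] at h1
      obtain ⟨y, hy, hye⟩ := h1
      rwa [← Subtype.ext hye]
    have h3 : ⁅coreQ _ e, coreQ _ v⁆ = 1 := by
      rw [← map_commutatorElement]; exact (QuotientGroup.eq_one_iff _).mpr h2
    exact commutatorElement_eq_one_iff_mul_comm.mp h3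
  exact (h.sep c hc hc1 E hE).imp (key A) (key B)

end Pair

/-- the image of `O(C(a)) ⊓ C` modulo `O(C)` lies in the core of the centralizer of the image of `a` -/
theorem core_image {C : Subgroup G} {a : G} (ha : a ∈ C) (hap : IsPGroup 2 (zpowers a)) {x : G}
    (hx : x ∈ centralizerPPrimeCore 2 a) (hxC : x ∈ C) :
    coreQ C ⟨x, hxC⟩ ∈ centralizerPPrimeCore 2 (coreQ C ⟨a, ha⟩) := by
  obtain ⟨y, hy, hye⟩ := centralizerPPrimeCore_inf_le C ha ⟨hx, hxC⟩
  have hy' : (⟨x, hxC⟩ : ↥C) = y := Subtype.ext hye.symm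
  rw [hy']
  refine centralizerPPrimeCore_map_le (QuotientGroup.mk'_surjective _) ?_ ?_ ⟨y, hy, rfl⟩
  · rw [QuotientGroup.ker_mk']; exact coprime_card_pPrimeCore 2
  · intro g
    obtain ⟨k, hk⟩ := mem_zpowers_iff.mp g.2
    obtain ⟨n, hn⟩ := hap ⟨a ^ k, zpow_mem (mem_zpowers a) k⟩
    refine ⟨n, Subtype.ext (Subtype.ext ?_)⟩
    have hn' : (a ^ k) ^ 2 ^ n = 1 := congrArg Subtype.val hn
    simpa [← hk] using hn'

theorem isPGroup_image {C : Subgroup G} {a : G} (ha : a ∈ C) (hap : a ^ 2 = 1) :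
    IsPGroup 2 (zpowers (coreQ C ⟨a, ha⟩)) := by
  refine isPGroup_zpowers_of_pow_eq_one ?_
  rw [← map_pow, show (⟨a, ha⟩ : ↥C) ^ 2 = 1 from Subtype.ext hap, map_one]

variable {A B : Subgroup G}

/-- commutators with elements centralizing a component centralize it -/
theorem commutator_kill (h : Pair A B) {c : G} (hc : c ∈ A ⊔ B) {a : G} (ha : a ∈ A ⊔ B)
    {K : Subgroup (↥(centralizer ({c} : Set G)) ⧸ pPrimeCore 2 ↥(centralizer ({c} : Set G)))}
    (hK : IsComponent K)
    (hA : ∀ v : ↥(centralizer ({c} : Set G)), (v : G) ∈ A →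
      coreQ _ v ∈ centralizer (K : Set _))
    {U : Subgroup G} (hUa : U ≤ centralizerPPrimeCore 2 a) (hUc : U ≤ centralizer ({c} : Set G)) :
    ⁅U, A⁆ ≤ ((centralizer (K : Set _)).comap (coreQ (centralizer ({c} : Set G)))).map
      (centralizer ({c} : Set G)).subtype := by
  rw [commutator_le]
  intro u hu v hv
  have hac : a ∈ centralizer ({c} : Set G) := h.le_centralizer_singleton hc ha
  have hvc : v ∈ centralizer ({c} : Set G) := h.le_centralizer_singleton hc (mem_sup_left hv)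
  refine ⟨⁅(⟨u, hUc hu⟩ : ↥(centralizer ({c} : Set G))), ⟨v, hvc⟩⁆, ?_,
    by simp [commutatorElement_def]⟩
  show coreQ (centralizer ({c} : Set G)) ⁅(⟨u, hUc hu⟩ : ↥(centralizer ({c} : Set G))),
    ⟨v, hvc⟩⁆ ∈ centralizer (K : Set _)
  have h1 : coreQ _ ⟨u, hUc hu⟩ ∈ normalizer (K : Set _) :=
    mem_compKernel.mp (centralizerPPrimeCore_le_compKernel pPrimeCore_quotient_eq_bot
      (isPGroup_image hac (h.sq ha)) (core_image hac (h.pgroup ha) (hUa hu) (hUc hu))) K hK
  have h2 := hA ⟨v, hvc⟩ hv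
  rw [map_commutatorElement, commutatorElement_def]
  exact mul_mem ((mem_normalizer_iff.mp (normalizer_le_normalizer_centralizer' K h1) _).mp h2)
    (inv_mem h2)

/-- modulo the product of the components in a stable family, the layer is centralized by `σ` -/
theorem layer_commutator_mem {Q : Type u} [Group Q] [Finite Q] (T : Set (Subgroup Q))
    (hT : ∀ K ∈ T, IsComponent K) (σ : Q)
    (hconj : ∀ K ∈ T, K.map (MulAut.conj σ).toMonoidHom ∈ T)
    (hsep : ∀ K : Subgroup Q, IsComponent K → K ∈ T ∨ σ ∈ centralizer (K : Set Q))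
    {g : Q} (hg : g ∈ layer Q) : ⁅g, σ⁆ ∈ sSup T := by
  have hnorm : layer Q ≤ normalizer ((sSup T : Subgroup Q) : Set Q) := by
    intro g hg
    refine Cfsg.Lib.Coprime.mem_normalizer_of_conj_mem (fun x hx => ?_) (fun x hx => ?_)
    · have : sSup T ≤ (sSup T).comap (MulAut.conj g).toMonoidHom := sSup_le fun K hK l hl =>
        (le_sSup hK) ((mem_normalizer_iff.mp (comp_normal_in_layer (hT K hK) hg) l).mp hl)
      exact this hx
    · have : sSup T ≤ (sSup T).comap (MulAut.conj g⁻¹).toMonoidHom := sSup_le fun K hK l hl =>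
        (le_sSup hK)
          ((mem_normalizer_iff.mp (comp_normal_in_layer (hT K hK) (inv_mem hg)) l).mp hl)
      simpa using this hx
  let S : Subgroup Q :=
    { carrier := {g | g ∈ normalizer ((sSup T : Subgroup Q) : Set Q) ∧ ⁅g, σ⁆ ∈ sSup T}
      one_mem' := ⟨one_mem _, by rw [commutatorElement_one_left]; exact one_mem _⟩
      mul_mem' := fun {g g'} hg hg' => ⟨mul_mem hg.1 hg'.1, by
        rw [Cfsg.Lib.CommFixedGen.comm_mul_left]
        exact mul_mem ((mem_normalizer_iff.mp hg.1 _).mp hg'.2) hg.2⟩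
      inv_mem' := fun {g} hg => ⟨inv_mem hg.1, by
        rw [show ⁅g⁻¹, σ⁆ = g⁻¹ * ⁅g, σ⁆⁻¹ * g⁻¹⁻¹ by
          simp only [commutatorElement_def]; group]
        exact (mem_normalizer_iff.mp (inv_mem hg.1) _).mp (inv_mem hg.2)⟩ }
  suffices hS : layer Q ≤ S from (hS hg).2
  refine sSup_le fun K hK l hl => ⟨hnorm (comp_le_layer hK hl), ?_⟩
  rcases hsep K hK with hKT | hKc
  · rw [commutatorElement_def, mul_assoc, mul_assoc, ← mul_assoc σ]
    exact mul_mem (le_sSup hKT hl) (le_sSup (hconj K hKT) ⟨l⁻¹, inv_mem hl, by simp⟩)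
  · rw [commutatorElement_eq_one_iff_mul_comm.mpr (mem_centralizer_iff.mp hKc l hl)]
    exact one_mem _

/-- `C_{[O a, A]}(A) ≤ O(C(A))`, generators -/
theorem generator_mem (h : Pair A B) {a e : G} (ha : a ∈ A ⊔ B) (he : e ∈ A) (he1 : e ≠ 1)
    {z : G} (hz : z ∈ ⁅centralizerPPrimeCore 2 a ⊓ centralizer ({e} : Set G), A⁆)
    (hzA : z ∈ centralizer (A : Set G)) : z ∈ coreC A := by
  set H := centralizer (A : Set G) with hH
  set Ce := centralizer ({e} : Set G) with hCe
  have haH : a ∈ H := h.sup_le_centA ha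
  have hHe : H ≤ Ce := fun y hy =>
    mem_centralizer_singleton_iff.mpr (mem_centralizer_iff.mp hy e he).symm
  have hza : z ∈ centralizerPPrimeCore 2 a :=
    Cfsg.Lib.Coprime.commutator_le_of_le_normalizer (le_sup_left.trans (h.le_normalizer_core ha))
      (Subgroup.commutator_mono inf_le_left le_rfl hz)
  set qz := coreQ H ⟨z, hzA⟩ with hqz
  suffices hone : qz = 1 by
    exact ⟨⟨z, hzA⟩, (QuotientGroup.eq_one_iff _).mp hone, rfl⟩
  have hcore : qz ∈ centralizerPPrimeCore 2 (coreQ H ⟨a, haH⟩) :=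
    core_image haH (h.pgroup ha) hza hzA
  have hqa := isPGroup_image haH (h.sq ha)
  refine eq_one_of_centralizes pPrimeCore_quotient_eq_bot ?_
    (centralizerPPrimeCore_centralizes hqa (isPGroup_pCore 2) hcore) fun M hM => ?_
  · exact (centralizerPPrimeCore_card_coprime (p := 2) _).coprime_dvd_left
      (Subgroup.orderOf_dvd_natCard _ hcore)
  suffices hMc : M ≤ centralizer ({qz} : Set _) from
    mem_centralizer_iff.mpr fun l hl => mem_centralizer_singleton_iff.mp (hMc hl)
  by_cases hne : ⁅M, zpowers (coreQ H ⟨a, haH⟩)⁆ = M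
  swap
  · have hbot : ⁅M, centralizerPPrimeCore 2 (coreQ H ⟨a, haH⟩)⁆ = ⊥ := by
      by_cases hq1 : coreQ H ⟨a, haH⟩ = 1
      · refine core_commute_of_centralized pPrimeCore_quotient_eq_bot hqa hM fun l _ => ?_
        rw [mem_centralizer_singleton_iff, hq1, one_mul, mul_one]
      · refine core_commute_of_commutator_ne pPrimeCore_quotient_eq_bot ?_ hM hne
        refine orderOf_eq_prime ?_ hq1
        rw [← map_pow, show (⟨a, haH⟩ : ↥H) ^ 2 = 1 from Subtype.ext (h.sq ha), map_one]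
    rw [commutator_eq_bot_iff_le_centralizer] at hbot
    exact hbot.trans (centralizer_le (Set.singleton_subset_iff.mpr hcore))
  obtain ⟨M0, hM0, hM0q⟩ := exists_pcomp hM
  rw [← hne, commutator_le]
  intro g hg w hw
  rw [← hM0q] at hg
  obtain ⟨m, hm, rfl⟩ := hg
  obtain ⟨k, rfl⟩ := mem_zpowers_iff.mp hw
  rw [← map_zpow, ← map_commutatorElement, mem_centralizer_singleton_iff,
    ← commutatorElement_eq_one_iff_mul_comm, ← map_commutatorElement]
  refine (QuotientGroup.eq_one_iff _).mpr ?_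
  set a' : ↥H := ⟨a, haH⟩ ^ k with ha'
  have ha'A : (a' : G) ∈ A ⊔ B := by
    rw [ha', Subgroup.coe_zpow]; exact zpow_mem ha k
  set r := coreQ Ce with hr
  let i : ↥H →* ↥Ce := Subgroup.inclusion hHe
  -- the image of `M0` lies in the layer of `C(e)/O(C(e))`
  have hml : r (i m) ∈ layer (↥Ce ⧸ pPrimeCore 2 ↥Ce) := by
    set T := A.subgroupOf Ce
    have hAe : A ≤ Ce := fun y hy => hHe (h.sup_le_centA (mem_sup_left hy))
    let φ : ↥H ≃* ↥(centralizer (T : Set ↥Ce)) :=
      { toFun := fun y => ⟨⟨y, hHe y.2⟩, mem_centralizer_iff.mpr fun t ht =>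
          Subtype.ext (mem_centralizer_iff.mp y.2 (t : G) ht)⟩
        invFun := fun y => ⟨((y : ↥Ce) : G), mem_centralizer_iff.mpr fun t ht =>
          congrArg Subtype.val (mem_centralizer_iff.mp y.2 ⟨t, hAe ht⟩ ht)⟩
        left_inv := fun y => rfl
        right_inv := fun y => rfl
        map_mul' := fun y w => rfl }
    have hT : IsPGroup 2 ↥T := h.isPGroupA.of_equiv (subgroupOfEquivOfLe hAe).symm
    have h1 := Cfsg.Agent.S1301.result T hT
      ⟨φ m, le_sSup (show M0.map φ.toMonoidHom ∈ {K | IsPComponent 2 K} from pcomp_map_equiv hM0 φ)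
        ⟨m, hm, rfl⟩, rfl⟩
    rw [← pLayer_map_q]
    exact mem_map_of_mem _ h1
  -- the components centralized by `A`
  let T1 : Set (Subgroup (↥Ce ⧸ pPrimeCore 2 ↥Ce)) :=
    {K | IsComponent K ∧ ∀ v : ↥Ce, (v : G) ∈ A →
      r v ∈ centralizer (K : Set (↥Ce ⧸ pPrimeCore 2 ↥Ce))}
  let P1 : Subgroup (↥Ce ⧸ pPrimeCore 2 ↥Ce) := sSup T1
  have hzP1 : P1 ≤ centralizer ({r (i ⟨z, hzA⟩)} : Set _) := by
    refine sSup_le fun K hK l hl => ?_
    obtain ⟨y, hy, hyz⟩ := commutator_kill h (mem_sup_left he) ha hK.1 hK.2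
      (U := centralizerPPrimeCore 2 a ⊓ Ce) inf_le_left inf_le_right hz
    have : y = i ⟨z, hzA⟩ := Subtype.ext hyz
    rw [this] at hy
    exact mem_centralizer_singleton_iff.mpr (mem_centralizer_iff.mp hy l hl)
  obtain ⟨t, ht, s, hs, hts⟩ := h.decomp ha'A
  have hte : t ∈ Ce := hHe (h.sup_le_centA (mem_sup_left ht))
  have hse : s ∈ Ce := hHe (h.sup_le_centA (mem_sup_right hs))
  set σ := r ⟨s, hse⟩ with hσ
  have hcomP : ∀ g ∈ layer (↥Ce ⧸ pPrimeCore 2 ↥Ce), ⁅g, σ⁆ ∈ P1 := fun g hg => by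
    refine layer_commutator_mem T1 (fun K hK => hK.1) σ (fun K hK => ?_) (fun K hK => ?_) hg
    · refine ⟨comp_conj hK.1 σ, fun v hv => mem_centralizer_iff.mpr ?_⟩
      rintro _ ⟨c, hc, rfl⟩
      have hcv : Commute c (r v) := mem_centralizer_iff.mp (hK.2 v hv) c hc
      have hsv : Commute σ (r v) :=
        Commute.map (show Commute (⟨s, hse⟩ : ↥Ce) v from
          Subtype.ext (h.sup_comm (mem_sup_right hs) (mem_sup_left hv))) r
      exact ((hsv.mul_left hcv).mul_left hsv.inv_left).eq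
    · exact (h.separated (mem_sup_left he) he1 hK).imp (fun hKA => ⟨hK, hKA⟩)
        (fun hKB => hKB ⟨s, hse⟩ hs)
  have h1 : r (i ⁅m, a'⁆) ∈ P1 := by
    have hia : i a' = ⟨s, hse⟩ * ⟨t, hte⟩ := Subtype.ext (by
      show (a' : G) = s * t
      rw [hts, h.sup_comm (mem_sup_left ht) (mem_sup_right hs)])
    have hmt : Commute (r (i m)) (r ⟨t, hte⟩) :=
      Commute.map (show Commute (i m) (⟨t, hte⟩ : ↥Ce) from
        Subtype.ext (mem_centralizer_iff.mp m.2 t ht).symm) r
    rw [map_commutatorElement, map_commutatorElement, hia, map_mul,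
      Cfsg.Lib.CommFixedGen.comm_mul_right, commutatorElement_eq_one_iff_mul_comm.mpr hmt.eq,
      mul_one, mul_inv_cancel, mul_one]
    exact hcomP _ hml
  have h2 : ⁅r (i ⁅m, a'⁆), r (i ⟨z, hzA⟩)⁆ = 1 :=
    commutatorElement_eq_one_iff_mul_comm.mpr (mem_centralizer_singleton_iff.mp (hzP1 h1))
  rw [← map_commutatorElement, ← map_commutatorElement] at h2
  have h3 : (i ⁅⁅m, a'⁆, (⟨z, hzA⟩ : ↥H)⁆) ∈ pPrimeCore 2 ↥Ce := (QuotientGroup.eq_one_iff _).mp h2
  haveI : ((pPrimeCore 2 ↥Ce).comap i).Normal := inferInstance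
  refine le_pPrimeCore (N := (pPrimeCore 2 ↥Ce).comap i) ?_ h3
  exact (coprime_card_pPrimeCore 2).coprime_dvd_left
    (Subgroup.card_comap_dvd_of_injective _ i (Subgroup.inclusion_injective hHe))

/-- `C_{[O a, A]}(A) ≤ O(C(A))` -/
theorem fixed_le (h : Pair A B)
    (hFT : ∀ Y : Subgroup G, Odd (Nat.card Y) → Group.IsSolvable ↥Y) {a : G} (ha : a ∈ A ⊔ B) :
    ⁅centralizerPPrimeCore 2 a, A⁆ ⊓ centralizer (A : Set G) ≤ coreC A := by
  have hAn : A ≤ normalizer (centralizerPPrimeCore 2 a : Set G) :=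
    le_sup_left.trans (h.le_normalizer_core ha)
  have hcop := centralizerPPrimeCore_card_coprime (p := 2) a
  have hYle := Cfsg.Lib.Coprime.commutator_le_of_le_normalizer hAn
  have hcopY : (Nat.card ↥⁅centralizerPPrimeCore 2 a, A⁆).Coprime 2 :=
    hcop.coprime_dvd_left (Subgroup.card_dvd_of_le hYle)
  have hs : Cfsg.Lib.CommFixedGen.Setup A A ⁅centralizerPPrimeCore 2 a, A⁆ :=
    ⟨h.eA.1, le_rfl, Cfsg.Lib.Coprime.le_normalizer_commutator_right A _, h.copA hcopY,
      Cfsg.Lib.Coprime.commutator_commutator_eq hAn (h.copA hcop) (Or.inl h.solA)⟩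
  rw [hs.fixed_eq_gen (hFT _ (Nat.coprime_two_right.mp hcopY))]
  refine iSup₂_le fun C hC z hz => ?_
  obtain ⟨hCA, b, hb, hgen⟩ := hC
  obtain ⟨e, heC, he1⟩ : ∃ e ∈ C, e ≠ 1 := by
    by_contra hne
    push Not at hne
    have hC0 : C = ⊥ := (eq_bot_iff_forall _).mpr hne
    have hzb : zpowers b = A := by rw [← hgen, hC0, bot_sup_eq]
    have : Nat.card ↥A ≤ 2 := by
      rw [← hzb, Nat.card_zpowers]
      exact Nat.le_of_dvd (by norm_num) (orderOf_dvd_of_pow_eq_one (h.eA.2 b hb))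
    rw [h.cA] at this
    omega
  refine generator_mem h ha (hCA heC) he1 ?_ hz.1.2
  refine Subgroup.commutator_mono (inf_le_inf hYle ?_) le_rfl hz.2
  exact centralizer_le (Set.singleton_subset_iff.mpr heC)

/-- the fixed points of a factor of the functor lie in `O(C(A))` -/
theorem part_fixed_le (h : Pair A B)
    (hFT : ∀ Y : Subgroup G, Odd (Nat.card Y) → Group.IsSolvable ↥Y) {a : G} (ha : a ∈ A ⊔ B) :
    part A a ⊓ centralizer (A : Set G) ≤ coreC A := by
  intro y hy
  have hn : centralizerPPrimeCore 2 a ⊓ coreC A ≤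
      normalizer ((⁅centralizerPPrimeCore 2 a, A⁆ : Subgroup G) : Set G) :=
    inf_le_left.trans (Cfsg.Lib.Coprime.le_normalizer_commutator_left A _)
  have hy1 : y ∈ ((part A a : Subgroup G) : Set G) := hy.1
  rw [coe_mul_of_right_le_normalizer_left _ _ hn] at hy1
  obtain ⟨n, hn', w, hw, rfl⟩ := hy1
  refine mul_mem (fixed_le h hFT ha ⟨hn', ?_⟩) hw.2
  have := Subgroup.mul_mem _ hy.2 (Subgroup.inv_mem _ (coreC_le_centralizer A hw.2))
  simpa using this

/-- the intersection of the factors with `C(b)` kills a component centralized by `A` -/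
theorem part_kill (h : Pair A B)
    (hFT : ∀ Y : Subgroup G, Odd (Nat.card Y) → Group.IsSolvable ↥Y) {a b : G} (ha : a ∈ A ⊔ B)
    (hb : b ∈ A ⊔ B)
    {K : Subgroup (↥(centralizer ({b} : Set G)) ⧸ pPrimeCore 2 ↥(centralizer ({b} : Set G)))}
    (hK : IsComponent K)
    (hA : ∀ v : ↥(centralizer ({b} : Set G)), (v : G) ∈ A →
      coreQ _ v ∈ centralizer (K : Set _)) :
    part A a ⊓ centralizer ({b} : Set G) ≤
      ((centralizer (K : Set _)).comap (coreQ (centralizer ({b} : Set G)))).map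
        (centralizer ({b} : Set G)).subtype := by
  set D := part A a ⊓ (centralizer ({b} : Set G)) with hD
  have hAb : A ≤ (centralizer ({b} : Set G)) := le_sup_left.trans (h.le_centralizer_singleton hb)
  have hDO : D ≤ centralizerPPrimeCore 2 a :=
    inf_le_left.trans (Pair.part_le (le_sup_left.trans (h.le_normalizer_core ha)))
  have hAD : A ≤ normalizer (D : Set G) :=
    Cfsg.Lib.Coprime.le_normalizer_inf (le_sup_left.trans (h.normalizer_part ha)) (hAb.trans le_normalizer)
  have hcopD : (Nat.card D).Coprime 2 :=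
    (centralizerPPrimeCore_card_coprime (p := 2) a).coprime_dvd_left (Subgroup.card_dvd_of_le hDO)
  rw [← Cfsg.Lib.Coprime.commutator_sup_centralizer hAD (h.copA hcopD) (Or.inl h.solA)]
  refine sup_le (commutator_kill h hb ha hK hA hDO inf_le_right) ?_
  intro y hy
  have hyW : y ∈ coreC A := part_fixed_le h hFT ha ⟨hy.1.1, hy.2⟩
  let r := coreQ (centralizer ({b} : Set G))
  let Z := ((coreC A).subgroupOf (centralizer ({b} : Set G))).map r
  have hKH : K ≤ ((centralizer (A : Set G)).subgroupOf (centralizer ({b} : Set G))).map r := by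
    intro k hk
    obtain ⟨k, rfl⟩ := QuotientGroup.mk'_surjective _ k
    obtain ⟨n, hn, hkn⟩ := Cfsg.Lib.Coprime.exists_fixed_of_commutator_mem (k := (k : G))
      (N := centralizerPPrimeCore 2 b) (le_sup_left.trans (h.le_normalizer_core hb))
      (h.copA (centralizerPPrimeCore_card_coprime (p := 2) b)) (Or.inl h.solA)
      (centralizer_le_normalizer_centralizerPPrimeCore b k.2) (fun v hv => by
        refine ⟨⟨v, hAb hv⟩ * k * ⟨v, hAb hv⟩⁻¹ * k⁻¹, ?_, rfl⟩
        refine (QuotientGroup.eq_one_iff _).mp ?_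
        show r (⟨v, hAb hv⟩ * k * ⟨v, hAb hv⟩⁻¹ * k⁻¹) = 1
        have e : r ⟨v, hAb hv⟩ * r k = r k * r ⟨v, hAb hv⟩ :=
          (mem_centralizer_iff.mp (hA ⟨v, hAb hv⟩ hv) _ hk).symm
        simp only [map_mul, map_inv, e]
        group)
    obtain ⟨n', hn'', rfl⟩ := hn
    refine ⟨k * n', hkn, ?_⟩
    rw [map_mul]
    have : r n' = 1 := (QuotientGroup.eq_one_iff _).mpr hn''
    rw [this, mul_one]
  have hKn : K ≤ normalizer (Z : Set _) := by
    refine hKH.trans ((Subgroup.map_mono ?_).trans (le_normalizer_map r))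
    intro g hg
    rw [mem_normalizer_iff]
    intro x
    exact mem_normalizer_iff.mp (centralizer_le_normalizer_coreC A hg) (x : G)
  have hcom : ⁅K, Z⁆ = ⊥ := by
    refine (comp_le_or_commute_of_normalizes hK hKn).resolve_left fun hle => ?_
    have h2 : 2 ∣ Nat.card K := comp_dvd_card pPrimeCore_quotient_eq_bot hK
    have hcz : (Nat.card Z).Coprime 2 := (coreC_coprime A).coprime_dvd_left
      ((card_map_dvd _ _).trans (Subgroup.card_comap_dvd_of_injective _ _ (centralizer ({b} : Set G)).subtype_injective))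
    exact Nat.prime_two.coprime_iff_not_dvd.mp hcz.symm (h2.trans (Subgroup.card_dvd_of_le hle))
  rw [commutator_eq_bot_iff_le_centralizer] at hcom
  refine ⟨⟨y, hy.1.2⟩, mem_centralizer_iff.mpr fun l hl => ?_, rfl⟩
  exact (mem_centralizer_iff.mp (hcom hl) _ (mem_map_of_mem r (show (⟨y, hy.1.2⟩ : ↥(centralizer ({b} : Set G))) ∈
    (coreC A).subgroupOf (centralizer ({b} : Set G)) from hyW))).symm

/-- balance into the second core -/
theorem mem_core (h : Pair A B) (h' : Pair B A)
    (hFT : ∀ Y : Subgroup G, Odd (Nat.card Y) → Group.IsSolvable ↥Y) {a b x : G}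
    (ha : a ∈ A ⊔ B) (hb : b ∈ A ⊔ B) (hb1 : b ≠ 1) (hx : x ∈ part A a ⊓ part B a)
    (hxb : x ∈ centralizer ({b} : Set G)) : x ∈ centralizerPPrimeCore 2 b := by
  set Cb := centralizer ({b} : Set G)
  have haC : a ∈ Cb := h.le_centralizer_singleton hb ha
  have hxO : x ∈ centralizerPPrimeCore 2 a :=
    Pair.part_le (le_sup_left.trans (h.le_normalizer_core ha)) hx.1
  have hcore := core_image haC (h.pgroup ha) hxO hxb
  suffices hone : coreQ Cb ⟨x, hxb⟩ = 1 from ⟨⟨x, hxb⟩, (QuotientGroup.eq_one_iff _).mp hone, rfl⟩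
  refine eq_one_of_centralizes pPrimeCore_quotient_eq_bot ?_
    (centralizerPPrimeCore_centralizes (isPGroup_image haC (h.sq ha)) (isPGroup_pCore 2) hcore)
    fun K hK => ?_
  · exact (centralizerPPrimeCore_card_coprime (p := 2) _).coprime_dvd_left
      (Subgroup.orderOf_dvd_natCard _ hcore)
  have ha' : a ∈ B ⊔ A := by rwa [sup_comm]
  have hb' : b ∈ B ⊔ A := by rwa [sup_comm]
  rcases h.separated hb hb1 hK with hKA | hKB
  · obtain ⟨y, hy, hyx⟩ := part_kill h hFT ha hb hK hKA ⟨hx.1, hxb⟩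
    rwa [show y = ⟨x, hxb⟩ from Subtype.ext hyx] at hy
  · obtain ⟨y, hy, hyx⟩ := part_kill h' hFT ha' hb' hK hKB ⟨hx.2, hxb⟩
    rwa [show y = ⟨x, hxb⟩ from Subtype.ext hyx] at hy

/-- balance into one factor -/
theorem le_part (h : Pair A B)
    (hFT : ∀ Y : Subgroup G, Odd (Nat.card Y) → Group.IsSolvable ↥Y) {a b : G}
    (ha : a ∈ A ⊔ B) {D : Subgroup G} (hAD : A ≤ normalizer (D : Set G))
    (hDp : D ≤ part A a) (hDb : D ≤ centralizerPPrimeCore 2 b) : D ≤ part A b := by
  have hcopD : (Nat.card D).Coprime 2 :=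
    (centralizerPPrimeCore_card_coprime (p := 2) b).coprime_dvd_left (Subgroup.card_dvd_of_le hDb)
  rw [← Cfsg.Lib.Coprime.commutator_sup_centralizer hAD (h.copA hcopD) (Or.inl h.solA)]
  exact sup_le_sup (Subgroup.commutator_mono hDb le_rfl)
    (le_inf (inf_le_left.trans hDb) ((inf_le_inf_right _ hDp).trans (part_fixed_le h hFT ha)))

/-- Goldschmidt's functor of a core-separated pair is a signalizer functor. -/
theorem functor (A₁ A₂ : Subgroup G) (hcs : IsCoreSeparated A₁ A₂)
    (hFT : ∀ Y : Subgroup G, Odd (Nat.card Y) → Group.IsSolvable ↥Y) :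
    IsSignalizerFunctor 2 (A₁ ⊔ A₂) (fun a => part A₁ a ⊓ part A₂ a) := by
  obtain ⟨e1, e2, c1, c2, -, -, hc, hsep⟩ := hcs
  have h : Pair A₁ A₂ := ⟨e1, e2, c1, hc, hsep⟩
  have h' : Pair A₂ A₁ := ⟨e2, e1, c2, fun x hx y hy => (hc y hy x hx).symm,
    fun a ha ha1 E hE => (hsep a (by rwa [sup_comm]) ha1 E hE).symm⟩
  have hle : ∀ a ∈ A₁ ⊔ A₂, part A₁ a ⊓ part A₂ a ≤ centralizerPPrimeCore 2 a := fun a ha =>
    inf_le_left.trans (Pair.part_le (le_sup_left.trans (h.le_normalizer_core ha)))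
  have hn2 : ∀ a ∈ A₁ ⊔ A₂, A₁ ⊔ A₂ ≤ normalizer (part A₂ a : Set G) := fun a ha => by
    have := h'.normalizer_part (a := a) (by rwa [sup_comm])
    rwa [sup_comm] at this
  refine ⟨fun a ha _ => (hle a ha).trans (centralizerPPrimeCore_le_centralizer a), ?_, ?_, ?_⟩
  · intro a ha _ hdvd
    exact Nat.prime_two.coprime_iff_not_dvd.mp
      (centralizerPPrimeCore_card_coprime (p := 2) a).symm
      (hdvd.trans (Subgroup.card_dvd_of_le (hle a ha)))
  · intro a ha _ b hb x hx
    exact ⟨(mem_normalizer_iff.mp (h.normalizer_part ha hb) x).mp hx.1,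
      (mem_normalizer_iff.mp (hn2 a ha hb) x).mp hx.2⟩
  · intro a ha _ b hb hb1
    set D := (part A₁ a ⊓ part A₂ a) ⊓ centralizer ({b} : Set G) with hD
    have hDb : D ≤ centralizerPPrimeCore 2 b := fun x hx =>
      mem_core h h' hFT ha hb hb1 hx.1 hx.2
    have hAD : A₁ ⊔ A₂ ≤ normalizer (D : Set G) :=
      Cfsg.Lib.Coprime.le_normalizer_inf (Cfsg.Lib.Coprime.le_normalizer_inf (h.normalizer_part ha) (hn2 a ha))
        ((h.le_centralizer_singleton hb).trans le_normalizer)
    exact le_inf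
      (le_part h hFT ha (le_sup_left.trans hAD) (inf_le_left.trans inf_le_left) hDb)
      (le_part h' hFT (by rwa [sup_comm]) (le_sup_right.trans hAD)
        (inf_le_left.trans inf_le_right) hDb)

end Cfsg.Lib.CoreSep
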