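import Cfsg.Agent.Fusion.SmallElements
import Cfsg.Agent.SolvStruct.PGroupBasics
import Cfsg.Agent.PGroups.Commutators
import Cfsg.Agent.PGroups.Basic
import Cfsg.Agent.Transfer.Basic

/-!
A critical subgroup inside the commutator of a `p`-group with the automorphisms of order prime to `p`.
-/

set_option linter.style.haveILetI false
set_option linter.unusedSectionVars false

namespace Cfsg.Lib.Misc.CriticalResidual

open Subgroup
open scoped commutatorElement

universe u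

variable {P : Type u} [Group P] [Finite P] {p : ℕ} [hp : Fact p.Prime]

theorem main (hP : IsPGroup p P) (G : Subgroup (MulAut P)) (hG : Cfsg.Inn P ≤ G) :
    ∃ D : Subgroup P,
      (∀ α ∈ G, D.map α.toMonoidHom = D) ∧
      D ≤ Subgroup.closure {y : P | ∃ α ∈ Cfsg.pResidual p ↥G, ∃ x : P, y = x⁻¹ * (α : MulAut P) x} ∧
      (∀ d ∈ D, d ^ p = 1 ∨ (p = 2 ∧ d ^ 4 = 1)) ∧
      ⁅D, (⊤ : Subgroup P)⁆ ≤ D ⊓ Subgroup.centralizer (D : Set P) ∧
      (∀ α ∈ G, (orderOf α).Coprime p → (∀ d ∈ D, α d = d) → α = 1) ∧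
      ∀ A : Subgroup P, A ≤ D → IsMulCommutative ↥A →
        (∀ B : Subgroup P, A ≤ B → B ≤ D → IsMulCommutative ↥B → B = A) →
        A.Normal ∧ ∀ α ∈ G, (∀ a ∈ A, α a = a) → ∃ k : ℕ, orderOf α = p ^ k := by
  haveI : Finite (MulAut P) := Finite.of_injective (fun f : MulAut P => (f : P → P)) DFunLike.coe_injective
  set T := {y : P | ∃ α ∈ Cfsg.pResidual p ↥G, ∃ x : P, y = x⁻¹ * (α : MulAut P) x} with hT
  set Q := closure T with hQ
  obtain ⟨C, hCc, hCΦ, hCP, hCC⟩ := Cfsg.Lib.SolvStruct.exists_critical hP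
  haveI := hCc
  have hpow : ∀ x ∈ C, x ^ p ∈ centralizer (C : Set P) := fun x hx =>
    hCΦ ⟨⟨x, hx⟩ ^ p, Cfsg.Lib.PGroups.pow_mem_frattini (hP.to_subgroup C) _, by simp⟩
  have hcom : ∀ x ∈ C, ∀ g : P, ⁅x, g⁆ ∈ centralizer (C : Set P) := fun x hx g =>
    (mem_inf.1 (hCP (commutator_mem_commutator hx (mem_top g)))).2
  have hQinv : ∀ β ∈ G, ∀ y ∈ Q, β y ∈ Q := by
    intro β hβ y hy
    have hle : Q ≤ Q.comap β.toMonoidHom := by
      refine (closure_le _).mpr ?_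
      rintro _ ⟨α, hα, x, rfl⟩
      refine subset_closure ⟨⟨β, hβ⟩ * α * (⟨β, hβ⟩ : G)⁻¹,
        Cfsg.Lib.Transfer.pResidual_normal'.conj_mem α hα _, β x, ?_⟩
      show β (x⁻¹ * (α : MulAut P) x) = (β x)⁻¹ * β ((α : MulAut P) (β.symm (β x)))
      rw [map_mul, map_inv, MulEquiv.symm_apply_apply]
    exact hle hy
  have hQn : ∀ g : P, ∀ y ∈ Q, g * y * g⁻¹ ∈ Q := fun g y hy =>
    hQinv (MulAut.conj g) (hG ⟨g, rfl⟩) y hy
  have hCinv : ∀ β : MulAut P, ∀ y ∈ C, β y ∈ C := fun β y hy =>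
    characteristic_iff_map_le.1 hCc β ⟨y, hy, rfl⟩
  -- the exponent
  set e := if p = 2 then 4 else p with he
  have hchoose : p ∣ e.choose 2 := by
    by_cases h : p = 2
    · rw [he, if_pos h, h]; decide
    · rw [he, if_neg h]
      exact hp.out.dvd_choose_self two_ne_zero (lt_of_le_of_ne hp.out.two_le (Ne.symm h))
  have hsmall : ∀ x : P, x ^ e = 1 ↔ (x ^ p = 1 ∨ (p = 2 ∧ x ^ 4 = 1)) := fun x => by
    by_cases h : p = 2
    · rw [he, if_pos h]
      refine ⟨fun hx => Or.inr ⟨h, hx⟩, ?_⟩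
      rintro (hx | ⟨-, hx⟩)
      · rw [h] at hx
        rw [show 4 = 2 * 2 from rfl, pow_mul, hx, one_pow]
      · exact hx
    · rw [he, if_neg h]
      exact ⟨Or.inl, fun hx => hx.resolve_right fun h' => h h'.1⟩
  let D : Subgroup P :=
    { carrier := {x | x ∈ C ∧ x ∈ Q ∧ x ^ e = 1}
      one_mem' := ⟨one_mem _, one_mem _, one_pow _⟩
      mul_mem' := fun {x y} hx hy => by
        refine ⟨mul_mem hx.1 hy.1, mul_mem hx.2.1 hy.2.1, ?_⟩
        have hz : ⁅y, x⁆ ∈ centralizer (C : Set P) := hcom y hy.1 x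
        have h1 : Commute ⁅y, x⁆ x := (mem_centralizer_iff.mp hz x hx.1).symm
        have h2 : Commute ⁅y, x⁆ y := (mem_centralizer_iff.mp hz y hy.1).symm
        rw [Cfsg.Lib.PGroups.mul_pow_of_commute_commutator h1 h2, hx.2.2, hy.2.2, one_mul, one_mul]
        obtain ⟨t, ht⟩ := hchoose
        have h3 : Commute ⁅x, y⁆ y :=
          (mem_centralizer_iff.mp (hcom x hx.1 y) y hy.1).symm
        have h4 : ⁅y, x⁆ ^ p = 1 := by
          rw [← commutatorElement_inv x y, inv_pow, ← Cfsg.Lib.PGroups.commutator_pow_right_of_commute h3,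
            inv_eq_one, commutatorElement_eq_one_iff_mul_comm]
          exact mem_centralizer_iff.mp (hpow y hy.1) x hx.1
        rw [ht, pow_mul, h4, one_pow]
      inv_mem' := fun {x} hx => ⟨inv_mem hx.1, inv_mem hx.2.1, by rw [inv_pow, hx.2.2, inv_one]⟩ }
  have hDinv : ∀ β ∈ G, ∀ d ∈ D, β d ∈ D := fun β hβ d hd =>
    ⟨hCinv β d hd.1, hQinv β hβ d hd.2.1, by rw [← map_pow, hd.2.2, map_one]⟩
  have hDn : D.Normal := ⟨fun d hd g => hDinv (MulAut.conj g) (hG ⟨g, rfl⟩) d hd⟩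
  -- faithfulness
  have hfaith : ∀ α ∈ G, (orderOf α).Coprime p → (∀ d ∈ D, α d = d) → α = 1 := by
    intro α hα hco hfix
    have hres : (⟨α, hα⟩ : G) ∈ Cfsg.pResidual p ↥G := subset_closure (by
      show Nat.Coprime (orderOf (⟨α, hα⟩ : G)) p
      rwa [Subgroup.orderOf_mk])
    have hCQ : ∀ x ∈ C ⊓ Q, α x = x :=
      Cfsg.Lib.Fusion.fix_of_small hP (C ⊓ Q) α hco
        (fun x hx => mem_inf.2 ⟨hCinv α x (mem_inf.1 hx).1, hQinv α hα x (mem_inf.1 hx).2⟩)
        fun x hx hs => hfix x ⟨(mem_inf.1 hx).1, (mem_inf.1 hx).2, (hsmall x).mpr hs⟩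
    have hdQ : ∀ x : P, x⁻¹ * α x ∈ Q := fun x => subset_closure ⟨⟨α, hα⟩, hres, x, rfl⟩
    have hC1 : ∀ x ∈ C, α x = x := fun x hx =>
      Cfsg.Lib.Fusion.fix_of_fix_diff hP hco
        (hCQ _ (mem_inf.2 ⟨mul_mem (inv_mem hx) (hCinv α x hx), hdQ x⟩))
    refine MulEquiv.ext fun x => Cfsg.Lib.Fusion.fix_of_fix_diff hP hco (hC1 _ (hCC ?_))
    refine mem_centralizer_iff.mpr fun c hc => ?_
    have hc' : x * c * x⁻¹ ∈ C := (inferInstance : C.Normal).conj_mem c hc x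
    have h1 : α x * c * (α x)⁻¹ = x * c * x⁻¹ := by
      have := hC1 _ hc'
      rwa [map_mul, map_mul, map_inv, hC1 c hc] at this
    calc c * (x⁻¹ * α x) = x⁻¹ * (x * c * x⁻¹) * α x := by group
      _ = x⁻¹ * (α x * c * (α x)⁻¹) * α x := by rw [h1]
      _ = x⁻¹ * α x * c := by group
  have hDC : ∀ d ∈ D, ∀ g : P, ⁅d, g⁆ ∈ D ⊓ centralizer (D : Set P) := fun d hd g => by
    refine mem_inf.2 ⟨?_, ?_⟩
    · have : ⁅d, g⁆ = d * (g * d⁻¹ * g⁻¹) := by rw [commutatorElement_def]; group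
      rw [this]
      exact mul_mem hd (hDn.conj_mem _ (inv_mem hd) g)
    · exact centralizer_le (show (D : Set P) ⊆ (C : Set P) from fun y hy => hy.1) (hcom d hd.1 g)
  refine ⟨D, fun α hα => ?_, fun d hd => hd.2.1, fun d hd => (hsmall d).mp hd.2.2,
    commutator_le.mpr fun d hd g _ => hDC d hd g, hfaith, ?_⟩
  · refine le_antisymm ?_ fun d hd => ⟨α.symm d, hDinv α⁻¹ (inv_mem hα) d hd, α.apply_symm_apply d⟩
    rintro _ ⟨d, hd, rfl⟩
    exact hDinv α hα d hd
  intro A hAD hAc hmax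
  have hAA : A ≤ centralizer (A : Set P) := fun a ha => mem_centralizer_iff.mpr fun b hb =>
    congrArg Subtype.val (mul_comm' (⟨b, hb⟩ : A) ⟨a, ha⟩)
  have hcent : ∀ z ∈ D, z ∈ centralizer (A : Set P) → z ∈ A := by
    intro z hz hzc
    have hB : A ⊔ zpowers z ≤ centralizer ((A ⊔ zpowers z : Subgroup P) : Set P) := by
      rw [le_centralizer_iff]
      refine sup_le ?_ ?_
      · rw [le_centralizer_iff]
        exact sup_le hAA (zpowers_le.mpr hzc)
      · rw [le_centralizer_iff]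
        refine sup_le (fun a ha => mem_centralizer_iff.mpr fun y hy => ?_)
          (fun y hy => mem_centralizer_iff.mpr fun w hw => ?_)
        · exact ((mem_centralizer_iff.mp (zpowers_le.mpr hzc hy)) a ha).symm
        · obtain ⟨i, rfl⟩ := mem_zpowers_iff.mp hy
          obtain ⟨j, rfl⟩ := mem_zpowers_iff.mp hw
          exact ((Commute.refl z).zpow_zpow j i).eq
    have := hmax (A ⊔ zpowers z) le_sup_left (sup_le hAD (zpowers_le.mpr hz))
      ⟨⟨fun a b => Subtype.ext (mem_centralizer_iff.mp (hB b.2) a a.2)⟩⟩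
    exact this ▸ mem_sup_right (mem_zpowers z)
  refine ⟨⟨fun a ha g => ?_⟩, fun α hα hfix => ?_⟩
  · have h1 := hDC a (hAD ha) g
    have h2 : ⁅a, g⁆ ∈ A :=
      hcent _ (mem_inf.1 h1).1 (centralizer_le (show (A : Set P) ⊆ (D : Set P) from hAD) (mem_inf.1 h1).2)
    have : g * a * g⁻¹ = ⁅a, g⁆⁻¹ * a := by rw [commutatorElement_def]; group
    rw [this]
    exact mul_mem (inv_mem h2) ha
  · obtain ⟨a, b, -, hb, hab, ⟨k, hk⟩, hco⟩ := Cfsg.Lib.Transfer.exists_pPart p α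
    obtain ⟨i, rfl⟩ := mem_zpowers_iff.mp hb
    let St : Subgroup (MulAut P) :=
      { carrier := {β | ∀ a ∈ A, β a = a}
        one_mem' := fun a _ => rfl
        mul_mem' := fun {x y} hx hy a ha => by rw [MulAut.mul_apply, hy a ha, hx a ha]
        inv_mem' := fun {x} hx a ha => by
          apply x.injective
          rw [← MulAut.mul_apply, mul_inv_cancel, MulAut.one_apply, hx a ha] }
    have hbfix : ∀ a ∈ A, (α ^ i) a = a := St.zpow_mem hfix i
    have hb1 : α ^ i = 1 := by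
      refine hfaith _ (G.zpow_mem hα i) hco fun d hd => Cfsg.Lib.Fusion.fix_of_fix_diff hP hco
        (hbfix _ (hcent _ (mul_mem (inv_mem hd) (hDinv _ (G.zpow_mem hα i) d hd)) ?_))
      refine mem_centralizer_iff.mpr fun c hc => ?_
      set β := α ^ i
      have hc' : d * c * d⁻¹ ∈ A := by
        have h1 := hDC d hd c
        have h2 : ⁅d, c⁆ ∈ A := hcent _ (mem_inf.1 h1).1
          (centralizer_le (show (A : Set P) ⊆ (D : Set P) from hAD) (mem_inf.1 h1).2)
        have : d * c * d⁻¹ = ⁅d, c⁆ * c := by rw [commutatorElement_def]; group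
        rw [this]
        exact mul_mem h2 hc
      have h1 : β d * c * (β d)⁻¹ = d * c * d⁻¹ := by
        have := hbfix _ hc'
        rwa [map_mul, map_mul, map_inv, hbfix c hc] at this
      calc c * (d⁻¹ * β d) = d⁻¹ * (d * c * d⁻¹) * β d := by group
        _ = d⁻¹ * (β d * c * (β d)⁻¹) * β d := by rw [h1]
        _ = d⁻¹ * β d * c := by group
    refine ⟨k, ?_⟩
    rw [← hab, hb1, mul_one, hk]

end Cfsg.Lib.Misc.CriticalResidual
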