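import Cfsg.Agent.Components.KInf.Quadratic
import Cfsg.Agent.OddLocal.PLengthBasic

/-!
Odd solvable groups whose Sylow subgroup has cyclic derived group.
-/

set_option linter.style.haveILetI false
set_option linter.unusedSectionVars false

namespace Cfsg.Lib.CyclicDerived

open Subgroup
open scoped commutatorElement

universe u

variable {G : Type u} [Group G] [Finite G] {p : ℕ} [hp : Fact p.Prime]

theorem isCyclic_map {G' : Type*} [Group G'] (f : G →* G') (H : Subgroup G) [IsCyclic H] : IsCyclic (H.map f) :=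
  isCyclic_of_surjective (f.subgroupMap H) (f.subgroupMap_surjective H)

theorem sylow_le_pCore (hodd : Odd (Nat.card G)) (hp2 : p ≠ 2)
    (hc : centralizer (Cfsg.pCore p G : Set G) ≤ Cfsg.pCore p G) (S : Sylow p G)
    (hS : IsCyclic ↥⁅(S : Subgroup G), (S : Subgroup G)⁆) : (S : Subgroup G) ≤ Cfsg.pCore p G := by
  set Q := Cfsg.pCore p G
  have hQp : IsPGroup p Q := Cfsg.Lib.Components.isPGroup_pCore p
  have hQS : Q ≤ (S : Subgroup G) := Cfsg.Lib.Thompson.le_sylow_of_normal hQp S
  set D := ⁅(S : Subgroup G), (S : Subgroup G)⁆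
  refine Cfsg.Lib.KInf.climb (A := Q) hQp hc fun U V hUn hVn hUV hUQ _ _ b hb => Or.inr ?_
  set π := QuotientGroup.mk' V
  have hπ : Function.Surjective π := QuotientGroup.mk'_surjective V
  haveI hWn : (U.map π).Normal := Subgroup.Normal.map hUn π hπ
  set W := U.map π
  have hWp : IsPGroup p W := (hQp.to_le hUQ).map π
  have hmin : ∀ L : Subgroup (G ⧸ V), L.Normal → L ≤ W → L = ⊥ ∨ L = W := by
    intro L hL hLW
    rcases hUV.2.2.2 (L.comap π) (hL.comap π) ((QuotientGroup.ker_mk' V).ge.trans (ker_le_comap π L)) (by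
      refine (comap_mono hLW).trans ?_
      rw [comap_map_eq, QuotientGroup.ker_mk', sup_eq_left.mpr hUV.1.le]) with h | h
    · left; rw [← map_comap_eq_self_of_surjective hπ L, h, QuotientGroup.map_mk'_self]
    · right; rw [← map_comap_eq_self_of_surjective hπ L, h]
  have hexp : ∀ w ∈ W, w ^ p = 1 := by
    set Φ := (frattini U).map U.subtype
    haveI : Φ.Normal := ConjAct.normal_of_characteristic_of_normal
    haveI : (Φ.map π).Normal := Subgroup.Normal.map inferInstance π hπ
    rcases hmin (Φ.map π) inferInstance (map_mono (map_subtype_le _)) with h | h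
    · rintro _ ⟨u, hu, rfl⟩
      rw [← map_pow, ← mem_bot, ← h]
      exact mem_map_of_mem π ⟨⟨u, hu⟩ ^ p, Cfsg.Lib.PGroups.pow_mem_frattini (hQp.to_le hUQ) _, rfl⟩
    · exfalso
      refine hUV.1.not_ge ?_
      have h1 : V.subgroupOf U ⊔ frattini U = ⊤ := by
        apply map_injective U.subtype_injective
        rw [Subgroup.map_sup, subgroupOf_map_subtype, inf_eq_left.mpr hUV.1.le, ← MonoidHom.range_eq_map,
          range_subtype]
        have h2 := congrArg (Subgroup.comap π) h
        rw [comap_map_eq, comap_map_eq, QuotientGroup.ker_mk', sup_eq_left.mpr hUV.1.le] at h2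
        rw [sup_comm]
        exact h2
      have h2 := congrArg (Subgroup.map U.subtype) (frattini_nongenerating h1)
      rw [subgroupOf_map_subtype, inf_eq_left.mpr hUV.1.le, ← MonoidHom.range_eq_map, range_subtype] at h2
      exact h2.ge
  set S' := (S : Subgroup G).map π
  have hS'p : IsPGroup p S' := S.2.map π
  have hWS : W ≤ S' := map_mono (hUQ.trans hQS)
  haveI : IsCyclic D := hS
  set W₀ := W ⊓ D.map π
  have hW₀ : ⁅W, S'⁆ ≤ W₀ := le_inf (commutator_le_left W _)
    ((commutator_mono hWS le_rfl).trans (map_commutator _ _ π).ge)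
  haveI : IsCyclic (D.map π) := isCyclic_map π D
  haveI : IsCyclic W₀ := isCyclic_of_injective (Subgroup.inclusion (inf_le_right : W₀ ≤ D.map π))
    (Subgroup.inclusion_injective _)
  have hquad : ⁅⁅W, S'⁆, S'⁆ = ⊥ := by
    rw [eq_bot_iff]
    refine (commutator_mono hW₀ le_rfl).trans ?_
    by_cases h0 : W₀ = ⊥
    · rw [h0, commutator_bot_left]
    have hcard : Nat.card W₀ ≤ p := by
      rw [← IsCyclic.exponent_eq_card (α := W₀)]
      exact Nat.le_of_dvd hp.out.pos (Monoid.exponent_dvd_of_forall_pow_eq_one fun w =>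
        Subtype.ext (hexp w w.2.1))
    haveI := hS'p.isNilpotent
    have hSn : S' ≤ normalizer (W₀ : Set (G ⧸ V)) := by
      refine Cfsg.Lib.Coprime.le_normalizer_inf le_normalizer_of_normal ?_
      refine (map_mono ?_).trans (le_normalizer_map π)
      exact le_normalizer_iff_commutator_le_right.mpr ((commutator_mono le_rfl (commutator_le_self _)).trans le_rfl)
    have hlt := Cfsg.Lib.Coprime.commutator_lt_of_isNilpotent ((inf_le_left.trans hWS : W₀ ≤ S')) h0 hSn
    have h1 : Nat.card ↥⁅W₀, S'⁆ < Nat.card W₀ :=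
      lt_of_le_of_ne (card_le_of_le hlt.le) fun e => hlt.ne (eq_of_le_of_card_ge hlt.le e.ge)
    obtain ⟨k, hk⟩ := IsPGroup.iff_card.mp (hS'p.to_le ((hlt.le.trans inf_le_left).trans hWS))
    rw [hk] at h1
    have hk0 : k = 0 := by
      by_contra hk0
      have := Nat.le_self_pow hk0 p
      omega
    rw [hk0, pow_zero] at hk
    exact (card_eq_one.mp hk).le
  have hbS : zpowers (π b) ≤ S' := zpowers_le.mpr (mem_map_of_mem π hb)
  have hodd' : Odd (Nat.card (G ⧸ V)) := Cfsg.Lib.OddP.odd_quotient hodd V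
  have h1 := Cfsg.Lib.CN.stable_of_odd hodd' hp2 W hWp (π b) (hS'p.to_le hbS)
    (le_bot_iff.mp ((commutator_mono (commutator_mono le_rfl hbS) hbS).trans hquad.le))
  rw [Cfsg.Lib.Functor.pCore_eq_bot_of_minimal W hWp hmin, mem_bot, QuotientGroup.eq_one_iff] at h1
  intro u hu
  rw [← QuotientGroup.eq_one_iff]
  show π (b * u * b⁻¹ * u⁻¹) = 1
  rw [map_mul, map_mul, map_mul, map_inv, map_inv, ← mem_centralizer_iff.mp h1 (π u) (mem_map_of_mem π hu),
    mul_inv_cancel_right, mul_inv_cancel]

theorem main [Group.IsSolvable G] (hodd : Odd (Nat.card G)) (S : Sylow p G)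
    (hS : IsCyclic (commutator (S : Subgroup G))) : (Cfsg.pPrimeCore p G ⊔ (S : Subgroup G)).Normal := by
  set K := Cfsg.pPrimeCore p G
  by_cases hp2 : p = 2
  · subst hp2
    show (Cfsg.pPrimeCore 2 G ⊔ (S : Subgroup G)).Normal
    rw [Cfsg.Lib.OddP.pPrimeCore_two_eq_top hodd, top_sup_eq]
    infer_instance
  set π := QuotientGroup.mk' K
  have hπ : Function.Surjective π := QuotientGroup.mk'_surjective K
  haveI := hS
  have hD : IsCyclic ↥⁅(S : Subgroup G), (S : Subgroup G)⁆ := by
    rw [← map_subtype_commutator]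
    exact isCyclic_map _ _
  set S' := S.mapSurjective hπ
  have hle : (S' : Subgroup (G ⧸ K)) ≤ Cfsg.pCore p (G ⧸ K) := by
    refine sylow_le_pCore (Cfsg.Lib.OddP.odd_quotient hodd _) hp2 Cfsg.Lib.OddP.charP_quotient_pPrimeCore S' ?_
    show IsCyclic ↥⁅(S : Subgroup G).map π, (S : Subgroup G).map π⁆
    rw [← map_commutator]
    exact isCyclic_map π _
  have he : (S' : Subgroup (G ⧸ K)) = Cfsg.pCore p (G ⧸ K) :=
    le_antisymm hle (Cfsg.Lib.Thompson.le_sylow_of_normal (Cfsg.Lib.Components.isPGroup_pCore p) S')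
  have h : K ⊔ (S : Subgroup G) = (Cfsg.pCore p (G ⧸ K)).comap π := by
    rw [← he]
    show _ = ((S : Subgroup G).map π).comap π
    rw [comap_map_eq, QuotientGroup.ker_mk', sup_comm]
  rw [h]
  infer_instance

end Cfsg.Lib.CyclicDerived
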