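import Cfsg.Agent.Coprime.CyclicQuotient
import Cfsg.Agent.Coprime.Fitting
import Cfsg.Agent.InvolCalc.Dihedral
import Cfsg.Prelude.Def_Transfer

/-! Thompson's dihedral lemma. -/

set_option linter.style.haveILetI false
set_option linter.unusedSectionVars false

namespace Cfsg.Lib.Misc.DihedralLemma

open Subgroup

universe u

variable {G : Type u} [Group G] [Finite G]

/-- The elements of `F` centralized or inverted by each element of `A`. -/
def Eig (A F : Subgroup G) : Set G :=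
  {x | x ∈ F ∧ ∀ a ∈ A, a * x * a⁻¹ = x ∨ a * x * a⁻¹ = x⁻¹}

theorem eq_one_of_sq {F : Subgroup G} (hF : Odd (Nat.card F)) {w : G} (hw : w ∈ F)
    (h : w * w = 1) : w = 1 := by
  by_contra hne
  have h2 : orderOf (⟨w, hw⟩ : F) = 2 := Cfsg.Lib.InvolCalc.order_two_of_mul_self
    (Subtype.ext h) fun e => hne (congrArg Subtype.val e)
  have := orderOf_dvd_natCard (⟨w, hw⟩ : F)
  rw [h2] at this
  exact Nat.not_even_iff_odd.2 hF (even_iff_two_dvd.2 this)

theorem conj_conj {A : Subgroup G} (hA : ∀ a ∈ A, a * a = 1) {a : G} (ha : a ∈ A) (x : G) :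
    a * (a * x * a⁻¹) * a⁻¹ = x := by
  rw [show a * (a * x * a⁻¹) * a⁻¹ = (a * a) * x * (a * a)⁻¹ by group, hA a ha]
  group

theorem mem_centralizer_of_forall {A : Subgroup G} {x : G} (h : ∀ a ∈ A, a * x * a⁻¹ = x) :
    x ∈ centralizer (A : Set G) := fun a ha => mul_inv_eq_iff_eq_mul.1 (h a ha)

theorem le_closure_eig (A F : Subgroup G) (hA : ∀ a ∈ A, a * a = 1) [IsMulCommutative A]
    (hAF : A ≤ normalizer (F : Set G)) (hF : Odd (Nat.card F))
    (hcop : (Nat.card A).Coprime (Nat.card F)) : F ≤ closure (Eig A F) := by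
  refine (Cfsg.Lib.Coprime.le_join_cyclicQuot (A := A) (Nat.card A) ⊥ F (Nat.sub_le _ _) bot_le hAF
    hcop bot_le).trans (iSup₂_le ?_)
  rintro C ⟨hCA, a, ha, hgen⟩ y hy
  obtain ⟨hyF, hyC⟩ := mem_inf.1 hy
  have hcomm : ∀ c ∈ A, a * c = c * a := fun c hc =>
    congrArg Subtype.val (mul_comm' (⟨a, ha⟩ : A) ⟨c, hc⟩)
  have hyc : ∀ c ∈ C, c * y * c⁻¹ = y := fun c hc => mul_inv_eq_iff_eq_mul.2 (hyC c hc)
  have hyac : ∀ c ∈ C, c * (a * y * a⁻¹) * c⁻¹ = a * y * a⁻¹ := fun c hc => by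
    rw [show c * (a * y * a⁻¹) * c⁻¹ = (c * a) * y * (c * a)⁻¹ by group, ← hcomm c (hCA hc),
      show (a * c) * y * (a * c)⁻¹ = a * (c * y * c⁻¹) * a⁻¹ by group, hyc c hc]
  set t := y⁻¹ * (a * y * a⁻¹) with ht
  have htF : t ∈ F := mul_mem (inv_mem hyF) ((mem_normalizer_iff.1 (hAF ha) y).1 hyF)
  have hodd : Odd (orderOf t) := hF.of_dvd_nat (by
    rw [← Subgroup.orderOf_mk t htF]; exact orderOf_dvd_natCard _)
  obtain ⟨m, hm⟩ := hodd
  set s := t ^ (m + 1) with hs
  have hss : s * s = t := by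
    rw [hs, ← pow_add, show m + 1 + (m + 1) = (2 * m + 1) + 1 by omega, pow_succ, ← hm,
      pow_orderOf_eq_one, one_mul]
  have hat : a * t * a⁻¹ = t⁻¹ := by
    rw [ht, show a * (y⁻¹ * (a * y * a⁻¹)) * a⁻¹ = (a * y * a⁻¹)⁻¹ * (a * (a * y * a⁻¹) * a⁻¹) by
      group, conj_conj hA ha]
    group
  have has : a * s * a⁻¹ = s⁻¹ := by
    rw [hs, ← conj_pow, hat, inv_pow]
  have hct : ∀ c ∈ C, c * s * c⁻¹ = s := fun c hc => by
    rw [hs, ← conj_pow, ht, show c * (y⁻¹ * (a * y * a⁻¹)) * c⁻¹ =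
      (c * y * c⁻¹)⁻¹ * (c * (a * y * a⁻¹) * c⁻¹) by group, hyc c hc, hyac c hc]
  -- an element fixed by `C` and fixed or inverted by `a` is an eigenelement
  have heig : ∀ z ∈ F, (∀ c ∈ C, c * z * c⁻¹ = z) → (a * z * a⁻¹ = z ∨ a * z * a⁻¹ = z⁻¹) →
      z ∈ Eig A F := by
    intro z hz hzc hza
    refine ⟨hz, fun b hb => ?_⟩
    let W : Subgroup G :=
      { carrier := {b | b * z * b⁻¹ = z ∨ b * z * b⁻¹ = z⁻¹}
        one_mem' := Or.inl (by group)
        mul_mem' := fun {b c} hb hc => by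
          simp only [Set.mem_ofPred_eq] at hb hc ⊢
          rw [show b * c * z * (b * c)⁻¹ = b * (c * z * c⁻¹) * b⁻¹ by group]
          rcases hc with hc | hc <;> rw [hc]
          · exact hb
          · rw [show b * z⁻¹ * b⁻¹ = (b * z * b⁻¹)⁻¹ by group]
            rcases hb with hb | hb <;> rw [hb]
            · exact Or.inr rfl
            · exact Or.inl (inv_inv z)
        inv_mem' := fun {b} hb => by
          simp only [Set.mem_ofPred_eq] at hb ⊢
          rcases hb with hb | hb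
          · left
            calc b⁻¹ * z * b⁻¹⁻¹ = b⁻¹ * (b * z * b⁻¹) * b := by rw [hb, inv_inv]
              _ = z := by group
          · right
            calc b⁻¹ * z * b⁻¹⁻¹ = (b⁻¹ * z⁻¹ * b)⁻¹ := by group
              _ = (b⁻¹ * (b * z * b⁻¹) * b)⁻¹ := by rw [hb]
              _ = z⁻¹ := by group }
    have hle : A ≤ W := hgen ▸ sup_le (fun c hc => Or.inl (hzc c hc)) (zpowers_le.2 hza)
    exact hle hb
  have hy2 : y = y * s * s⁻¹ := by group
  rw [hy2]
  have hsF : s ∈ F := pow_mem htF _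
  refine mul_mem (subset_closure (heig _ (mul_mem hyF hsF) (fun c hc => ?_) (Or.inl ?_)))
    (inv_mem (subset_closure (heig _ hsF hct (Or.inr has))))
  · rw [show c * (y * s) * c⁻¹ = (c * y * c⁻¹) * (c * s * c⁻¹) by group, hyc c hc, hct c hc]
  · calc a * (y * s) * a⁻¹ = (a * y * a⁻¹) * (a * s * a⁻¹) := by group
      _ = y * t * s⁻¹ := by rw [has, ht]; group
      _ = y * s := by rw [← hss]; group

/-- An involution centralizing the centralizer in `F` of one of its fixed points centralizes `F`. -/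
theorem centralizes_of_fixed {F : Subgroup G} [hnil : Group.IsNilpotent F] (hF : Odd (Nat.card F))
    {b : G} (hb : b * b = 1) (hbF : b ∈ normalizer (F : Set G)) {x : G} (hx : x ∈ F)
    (hbx : b * x * b⁻¹ = x) (h : ∀ z ∈ F, z * x = x * z → b * z * b⁻¹ = z) :
    ∀ z ∈ F, b * z * b⁻¹ = z := by
  set H := (centralizer ({b} : Set G)).subgroupOf F with hH
  have hmem : ∀ z : F, z ∈ H ↔ b * z * b⁻¹ = z := fun z => by
    rw [hH, mem_subgroupOf, mem_centralizer_singleton_iff]
    exact ⟨fun e => mul_inv_eq_iff_eq_mul.2 e.symm, fun e => (mul_inv_eq_iff_eq_mul.1 e).symm⟩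
  by_contra hcon
  push Not at hcon
  obtain ⟨z, hz, hbz⟩ := hcon
  have hne : H ≠ ⊤ := fun e => hbz ((hmem ⟨z, hz⟩).1 (e ▸ mem_top _))
  obtain ⟨n, hn, hnH⟩ := SetLike.exists_of_lt
    (Group.normalizerCondition_of_isNilpotent H (lt_top_iff_ne_top.2 hne))
  set w : G := (n : G)⁻¹ * (b * n * b⁻¹) with hw
  have hwF : w ∈ F := mul_mem (inv_mem n.2) ((mem_normalizer_iff.1 hbF _).1 n.2)
  have hwx : w * x = x * w := by
    have h1 : b * ((n : G) * x * (n : G)⁻¹) * b⁻¹ = n * x * (n : G)⁻¹ :=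
      (hmem _).1 ((mem_normalizer_iff.1 hn ⟨x, hx⟩).1 ((hmem _).2 hbx))
    have h2 : b * (n : G) * b⁻¹ * x * (b * (n : G) * b⁻¹)⁻¹ = n * x * (n : G)⁻¹ := by
      conv_lhs => rw [← hbx]
      rw [← h1]
      group
    rw [← mul_inv_eq_iff_eq_mul, hw]
    calc (n : G)⁻¹ * (b * n * b⁻¹) * x * ((n : G)⁻¹ * (b * n * b⁻¹))⁻¹
        = (n : G)⁻¹ * (b * (n : G) * b⁻¹ * x * (b * (n : G) * b⁻¹)⁻¹) * n := by group
      _ = x := by rw [h2]; group
  have hbw := h w hwF hwx
  have hbn : b * (n : G) * b⁻¹ = n * w := by rw [hw]; group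
  have h3 : (n : G) = n * (w * w) := by
    conv_lhs => rw [show (n : G) = (b * b) * n * (b * b)⁻¹ by rw [hb]; group]
    calc b * b * (n : G) * (b * b)⁻¹ = b * (b * n * b⁻¹) * b⁻¹ := by group
      _ = b * ((n : G) * w) * b⁻¹ := by rw [hbn]
      _ = (b * n * b⁻¹) * (b * w * b⁻¹) := by group
      _ = _ := by rw [hbn, hbw, mul_assoc]
  have hw1 := eq_one_of_sq hF hwF (mul_left_cancel (a := (n : G)) (by rw [← h3, mul_one]))
  apply hnH
  rw [hmem, hbn, hw1, mul_one]

/-- Some pairwise commuting eigenelements have trivial common centralizer in `A`. -/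
theorem exists_commuting (A : Subgroup G) (hA : ∀ a ∈ A, a * a = 1) [IsMulCommutative A] :
    ∀ (n : ℕ) (F : Subgroup G), Nat.card F ≤ n → Group.IsNilpotent F → Odd (Nat.card F) →
      (Nat.card A).Coprime (Nat.card F) → A ≤ normalizer (F : Set G) →
      A ⊓ centralizer (F : Set G) = ⊥ →
      ∃ S : Set G, S ⊆ Eig A F ∧ (∀ x ∈ S, ∀ y ∈ S, x * y = y * x) ∧
        A ⊓ centralizer S = ⊥ := by
  intro n
  induction n with
  | zero => intro F h; exact absurd h (not_le.2 Nat.card_pos)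
  | succ n ih =>
    intro F hn hnil hF hcop hAF hfaith
    by_cases hc : ∀ x ∈ Eig A F, ∀ y ∈ Eig A F, x * y = y * x
    · refine ⟨Eig A F, subset_rfl, hc, eq_bot_iff.2 ?_⟩
      rw [← centralizer_closure]
      exact (inf_le_inf_left A (centralizer_le (le_closure_eig A F hA hAF hF hcop))).trans hfaith.le
    push Not at hc
    obtain ⟨x, ⟨hxF, hx⟩, y, ⟨hyF, -⟩, hxy⟩ := hc
    set F' := F ⊓ centralizer ({x} : Set G) with hF'
    have hlt : F' < F := inf_le_left.lt_of_ne fun e =>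
      hxy (mem_centralizer_singleton_iff.1 (show y ∈ F' by rw [hF', e]; exact hyF).2).symm
    have hdvd := card_dvd_of_le hlt.le
    have hAF' : A ≤ normalizer (F' : Set G) := by
      refine le_normalizer_iff.2 fun a ha z hz => ?_
      refine mem_inf.2 ⟨(mem_normalizer_iff.1 (hAF ha) z).1 hz.1, mem_centralizer_singleton_iff.2 ?_⟩
      have h1 : z * x = x * z := mem_centralizer_singleton_iff.1 hz.2
      show a * z * a⁻¹ * x = x * (a * z * a⁻¹)
      rcases hx a ha with h2 | h2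
      · conv_lhs => rw [← h2]
        conv_rhs => rw [← h2]
        rw [show a * z * a⁻¹ * (a * x * a⁻¹) = a * (z * x) * a⁻¹ by group, h1]
        group
      · have h3 : a * x⁻¹ * a⁻¹ = x := by
          rw [show a * x⁻¹ * a⁻¹ = (a * x * a⁻¹)⁻¹ by group, h2, inv_inv]
        conv_lhs => rw [← h3]
        conv_rhs => rw [← h3]
        have h4 : z * x⁻¹ = x⁻¹ * z := (Commute.inv_right h1).eq
        rw [show a * z * a⁻¹ * (a * x⁻¹ * a⁻¹) = a * (z * x⁻¹) * a⁻¹ by group, h4]
        group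
    have hfaith' : A ⊓ centralizer (F' : Set G) = ⊥ := by
      refine eq_bot_iff.2 fun b hb => hfaith.le (mem_inf.2 ⟨hb.1, ?_⟩)
      have hfix : ∀ z ∈ F, z * x = x * z → b * z * b⁻¹ = z := fun z hz hzx =>
        mul_inv_eq_iff_eq_mul.2 (hb.2 z (mem_inf.2 ⟨hz, mem_centralizer_singleton_iff.2 hzx⟩)).symm
      have := centralizes_of_fixed hF (hA b hb.1) (hAF hb.1) hxF (hfix x hxF rfl) hfix
      exact fun z hz => (mul_inv_eq_iff_eq_mul.1 (this z hz)).symm
    have hn' : Nat.card F' ≤ n := by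
      have h1 : Nat.card F' ≠ Nat.card F := fun e => hlt.ne (eq_of_le_of_card_ge hlt.le e.ge)
      have h2 := card_le_of_le hlt.le
      omega
    obtain ⟨S, hS, hSc, hSb⟩ := ih F' hn'
      (Cfsg.Lib.Components.isNilpotent_of_le hnil hlt.le) (hF.of_dvd_nat hdvd)
      (hcop.coprime_dvd_right hdvd) hAF' hfaith'
    exact ⟨S, fun z hz => ⟨(hS hz).1.1, (hS hz).2⟩, hSc, hSb⟩

/-- Thompson's dihedral lemma. -/
theorem dihedral_lemma (L A : Subgroup G) (hLs : Group.IsSolvable L) (hLodd : Odd (Nat.card L))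
    (hA : Cfsg.IsElementaryAbelian 2 A) (d : ℕ) (hAd : Nat.card A = 2 ^ d)
    (hAL : A ≤ normalizer (L : Set G)) (hfaith : A ⊓ centralizer (L : Set G) = ⊥) :
    ∃ (Ai : Fin d → Subgroup G) (Li : Fin d → Subgroup G) (n : Fin d → ℕ),
      (∀ i, Ai i ≤ A ∧ Nat.card ↥(Ai i) = 2 ∧ Li i ≤ L ∧ Odd (n i) ∧ 3 ≤ n i ∧
        Nonempty (↥(Ai i ⊔ Li i) ≃* DihedralGroup (n i))) ∧
      (⨆ i, Ai i) = A ∧
      ∀ i j, i ≠ j → ∀ x ∈ Ai i ⊔ Li i, ∀ y ∈ Ai j ⊔ Li j, x * y = y * x := by
  classical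
  obtain ⟨hcomm, hsq⟩ := hA
  haveI := hcomm
  have hA2 : ∀ a ∈ A, a * a = 1 := fun a ha => by rw [← sq]; exact hsq a ha
  set F := (Cfsg.fittingSubgroup L).map L.subtype with hFdef
  have hFL : F ≤ L := map_subtype_le _
  have hFodd : Odd (Nat.card F) := hLodd.of_dvd_nat (card_dvd_of_le hFL)
  have hcop : (Nat.card A).Coprime (Nat.card F) := hAd ▸ (Nat.coprime_two_left.2 hFodd).pow_left d
  have hnil : Group.IsNilpotent F :=
    Cfsg.Lib.Components.isNilpotent_map Cfsg.Lib.Components.isNilpotent_fitting L.subtype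
  have hAF : A ≤ normalizer (F : Set G) := by
    refine le_normalizer_iff.2 fun a ha => ?_
    rintro _ ⟨f, hf, rfl⟩
    exact ⟨L.normalizerMonoidHom ⟨a, hAL ha⟩ f,
      characteristic_iff_le_comap.1 inferInstance _ hf, rfl⟩
  have hfaithF : A ⊓ centralizer (F : Set G) = ⊥ := by
    refine eq_bot_iff.2 fun b hb => hfaith.le (mem_inf.2 ⟨hb.1, ?_⟩)
    intro l hl
    set w := l⁻¹ * (b * l * b⁻¹) with hw
    have hwL : w ∈ L := mul_mem (inv_mem hl) ((mem_normalizer_iff.1 (hAL hb.1) l).1 hl)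
    have hwc : (⟨w, hwL⟩ : L) ∈ centralizer (Cfsg.fittingSubgroup L : Set L) := by
      intro f hf
      refine Subtype.ext ?_
      show (f : G) * w = w * f
      have h1 : (f : G) * b = b * f := hb.2 f ⟨f, hf, rfl⟩
      have h2 : l * f * l⁻¹ * b = b * (l * f * l⁻¹) := hb.2 (l * f * l⁻¹)
        ⟨⟨l, hl⟩ * f * ⟨l, hl⟩⁻¹, (inferInstance : (Cfsg.fittingSubgroup L).Normal).conj_mem f hf _,
          rfl⟩
      have h3 : b⁻¹ * (f : G) = f * b⁻¹ := by
        calc b⁻¹ * (f : G) = b⁻¹ * (f * b) * b⁻¹ := by group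
          _ = _ := by rw [h1]; group
      calc (f : G) * w = l⁻¹ * ((l * f * l⁻¹) * b) * l * b⁻¹ := by rw [hw]; group
        _ = l⁻¹ * b * l * (f * b⁻¹) := by rw [h2]; group
        _ = w * f := by rw [← h3, hw]; group
    have hwF : w ∈ F := ⟨⟨w, hwL⟩, Cfsg.Lib.Coprime.centralizer_fitting_le hwc, rfl⟩
    have hbw : b * w * b⁻¹ = w := mul_inv_eq_iff_eq_mul.2 (hb.2 w hwF).symm
    have hbn : b * l * b⁻¹ = l * w := by rw [hw]; group
    have h3 : l = l * (w * w) := by
      conv_lhs => rw [show l = (b * b) * l * (b * b)⁻¹ by rw [hA2 b hb.1]; group]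
      calc b * b * l * (b * b)⁻¹ = b * (b * l * b⁻¹) * b⁻¹ := by group
        _ = b * (l * w) * b⁻¹ := by rw [hbn]
        _ = (b * l * b⁻¹) * (b * w * b⁻¹) := by group
        _ = _ := by rw [hbn, hbw, mul_assoc]
    rw [eq_one_of_sq hFodd hwF (mul_left_cancel (a := l) (by rw [← h3, mul_one])), mul_one] at hbn
    exact (mul_inv_eq_iff_eq_mul.1 hbn).symm
  obtain ⟨S0, hS0, hS0c, hS0b⟩ := exists_commuting A hA2 _ F le_rfl hnil hFodd hcop hAF hfaithF
  -- a smallest separating subfamily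
  letI : Fintype S0 := Fintype.ofFinite _
  obtain ⟨S, hS⟩ := (Finset.univ.filter fun T : Finset S0 => A ⊓ centralizer (Subtype.val '' (T : Set S0)) = ⊥)
    |>.exists_min_image Finset.card ⟨(Set.toFinite (Set.univ : Set S0)).toFinset, by
      refine Finset.mem_filter.2 ⟨Finset.mem_univ _, ?_⟩
      rw [Set.Finite.coe_toFinset, Set.image_univ, Subtype.range_coe]
      exact hS0b⟩
  obtain ⟨hSmem, hSmin⟩ := hS
  have hSb := (Finset.mem_filter.1 hSmem).2
  have hex : ∀ x ∈ S, ∃ a ∈ A, (∀ y ∈ S, y ≠ x → a * (y : G) * a⁻¹ = y) ∧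
      a * (x : G) * a⁻¹ ≠ x := by
    intro x hx
    by_contra hcon
    push Not at hcon
    have h1 : A ⊓ centralizer (Subtype.val '' ((S.erase x : Finset S0) : Set S0)) = ⊥ := by
      refine eq_bot_iff.2 fun a ha => hSb.le (mem_inf.2 ⟨ha.1, ?_⟩)
      rintro _ ⟨y, hy, rfl⟩
      have hfix : ∀ z ∈ S, z ≠ x → a * (z : G) * a⁻¹ = z := fun z hz hzx =>
        mul_inv_eq_iff_eq_mul.2 (ha.2 (z : G) ⟨z, Finset.mem_erase.2 ⟨hzx, hz⟩, rfl⟩).symm
      by_cases hyx : y = x
      · subst hyx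
        exact (mul_inv_eq_iff_eq_mul.1 (hcon a ha.1 hfix)).symm
      · exact ha.2 _ ⟨y, Finset.mem_erase.2 ⟨hyx, hy⟩, rfl⟩
    have h2 := hSmin (S.erase x) (Finset.mem_filter.2 ⟨Finset.mem_univ _, h1⟩)
    exact absurd h2 (not_le.2 (Finset.card_erase_lt_of_mem hx))
  choose aa haA hfix hmove using hex
  have hinv : ∀ x (hx : x ∈ S), aa x hx * (x : G) * (aa x hx)⁻¹ = (x : G)⁻¹ := fun x hx =>
    ((hS0 x.2).2 _ (haA x hx)).resolve_left (hmove x hx)
  set M := closure (Set.range fun x : S => aa x.1 x.2) with hM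
  have hMA : M ≤ A := by
    rw [hM, closure_le]
    rintro _ ⟨x, rfl⟩
    exact haA _ _
  -- the values on `S` of an element are realized in `M`
  have hreal : ∀ (g : S0 → Prop) (T : Finset S0), T ⊆ S →
      ∃ m ∈ M, ∀ x ∈ T, (m * (x : G) * m⁻¹ = x ↔ g x) := by
    intro g T
    induction T using Finset.induction_on with
    | empty => exact fun _ => ⟨1, one_mem _, fun x hx => absurd hx (Finset.notMem_empty x)⟩
    | insert y T hy ih =>
      intro hT
      obtain ⟨m, hm, hmT⟩ := ih fun z hz => hT (Finset.mem_insert_of_mem hz)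
      have hyS : y ∈ S := hT (Finset.mem_insert_self y T)
      by_cases hg : m * (y : G) * m⁻¹ = y ↔ g y
      · refine ⟨m, hm, fun x hx => ?_⟩
        rcases Finset.mem_insert.1 hx with rfl | hx
        exacts [hg, hmT x hx]
      refine ⟨m * aa y hyS, mul_mem hm (subset_closure ⟨⟨y, hyS⟩, rfl⟩), fun x hx => ?_⟩
      rw [show m * aa y hyS * (x : G) * (m * aa y hyS)⁻¹ =
        m * (aa y hyS * (x : G) * (aa y hyS)⁻¹) * m⁻¹ by group]
      rcases Finset.mem_insert.1 hx with rfl | hx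
      · rw [hinv x hyS, show m * (x : G)⁻¹ * m⁻¹ = (m * (x : G) * m⁻¹)⁻¹ by group]
        have hxne : (x : G)⁻¹ ≠ x := fun e => hmove x hyS ((hinv x hyS).trans e)
        rcases (hS0 x.2).2 m (hMA hm) with h | h <;> rw [h] at hg ⊢
        · simp only [true_iff] at hg
          exact iff_of_false hxne hg
        · simp only [hxne, false_iff, not_not] at hg
          simp [hg]
      · rw [hfix y hyS x (hT (Finset.mem_insert_of_mem hx)) fun e => hy (e ▸ hx)]
        exact hmT x hx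
  have hinj : ∀ a ∈ A, ∀ b ∈ A,
      (∀ x ∈ S, (a * (x : G) * a⁻¹ = x ↔ b * (x : G) * b⁻¹ = x)) → a = b := by
    intro a ha b hb h
    have hmem : a⁻¹ * b ∈ A ⊓ centralizer (Subtype.val '' (S : Set S0)) := by
      refine mem_inf.2 ⟨mul_mem (inv_mem ha) hb, ?_⟩
      rintro _ ⟨x, hx, rfl⟩
      refine (mul_inv_eq_iff_eq_mul.1 ?_).symm
      have hai : a⁻¹ = a := inv_eq_of_mul_eq_one_left (hA2 a ha)
      rw [hai, show a * b * (x : G) * (a * b)⁻¹ = a * (b * (x : G) * b⁻¹) * a⁻¹ by group]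
      rcases (hS0 x.2).2 b hb with h1 | h1
      · rw [h1, (h x hx).2 h1]
      · by_cases h2 : b * (x : G) * b⁻¹ = x
        · rw [h2, (h x hx).2 h2]
        · have h3 := ((hS0 x.2).2 a ha).resolve_left fun e => h2 ((h x hx).1 e)
          rw [h1, show a * (x : G)⁻¹ * a⁻¹ = (a * (x : G) * a⁻¹)⁻¹ by group, h3, inv_inv]
    rw [hSb, mem_bot] at hmem
    exact inv_mul_eq_one.1 hmem
  have hMeq : M = A := by
    refine le_antisymm hMA fun a ha => ?_
    obtain ⟨m, hm, h⟩ := hreal (fun x => a * (x : G) * a⁻¹ = x) S subset_rfl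
    exact hinj m (hMA hm) a ha h ▸ hm
  have hcard : S.card = d := by
    have hb : Function.Bijective fun (a : A) (x : S) => decide ((a : G) * (x.1 : G) * (a : G)⁻¹ = x.1) := by
      refine ⟨fun a b h => Subtype.ext (hinj a a.2 b b.2 fun x hx => ?_), fun g => ?_⟩
      · simpa using congrFun h ⟨x, hx⟩
      · obtain ⟨m, hm, h⟩ := hreal (fun x => ∃ hx : x ∈ S, g ⟨x, hx⟩ = true) S subset_rfl
        refine ⟨⟨m, hMA hm⟩, funext fun x => ?_⟩
        show decide (m * (x.1 : G) * m⁻¹ = x.1) = g x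
        rw [Bool.eq_iff_iff, decide_eq_true_iff, h x.1 x.2]
        exact ⟨fun ⟨_, h⟩ => h, fun h => ⟨x.2, h⟩⟩
    have := Nat.card_eq_of_bijective _ hb
    rw [hAd, Nat.card_fun, Nat.card_eq_fintype_card, Nat.card_eq_fintype_card, Fintype.card_bool,
      Fintype.card_coe] at this
    exact (Nat.pow_right_injective le_rfl this).symm
  subst hcard
  set e := S.equivFin.symm
  let a : Fin S.card → G := fun i => aa (e i).1 (e i).2
  let s : Fin S.card → G := fun i => ((e i).1 : G)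
  have haA' : ∀ i, a i ∈ A := fun i => haA _ _
  have hsF : ∀ i, s i ∈ F := fun i => (hS0 (e i).1.2).1
  have hai : ∀ i, a i * s i * (a i)⁻¹ = (s i)⁻¹ := fun i => hinv _ _
  have haj : ∀ i j, i ≠ j → a i * s j = s j * a i := fun i j hij =>
    mul_inv_eq_iff_eq_mul.1 (hfix _ _ _ (e j).2 fun h => hij (e.injective (Subtype.ext h)).symm)
  have hs1 : ∀ i, s i ≠ 1 := fun i h => hmove _ (e i).2 (by
    show a i * s i * (a i)⁻¹ = s i
    rw [h]; group)
  have hodd : ∀ i, Odd (orderOf (s i)) := fun i => hFodd.of_dvd_nat (by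
    rw [← Subgroup.orderOf_mk (s i) (hsF i)]; exact orderOf_dvd_natCard _)
  refine ⟨fun i => zpowers (a i), fun i => zpowers (s i), fun i => orderOf (s i),
    fun i => ⟨zpowers_le.2 (haA' i), ?_, zpowers_le.2 (hFL (hsF i)), hodd i, ?_, ?_⟩, ?_, ?_⟩
  · show Nat.card (zpowers (a i)) = 2
    rw [Nat.card_zpowers]
    refine Cfsg.Lib.InvolCalc.order_two_of_mul_self (hA2 _ (haA' i)) fun h => hs1 i ?_
    have := hai i
    rw [h] at this
    refine eq_one_of_sq hFodd (hsF i) (mul_eq_one_iff_eq_inv.2 ?_)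
    simpa using this
  · show 3 ≤ orderOf (s i)
    have h1 : orderOf (s i) ≠ 1 := fun h => hs1 i (orderOf_eq_one_iff.1 h)
    obtain ⟨k, hk⟩ := hodd i
    omega
  · -- the dihedral group generated by `a i` and `a i * s i`
    have ha2 : a i * a i = 1 := hA2 _ (haA' i)
    have hane : a i ≠ 1 := fun h => hs1 i (by
      have := hai i
      rw [h] at this
      exact eq_one_of_sq hFodd (hsF i) (mul_eq_one_iff_eq_inv.2 (by simpa using this)))
    have hy2 : a i * s i * (a i * s i) = 1 := by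
      calc a i * s i * (a i * s i) = (a i * s i * (a i)⁻¹) * (a i * a i) * s i := by group
        _ = 1 := by rw [hai, ha2]; group
    have hyne : a i * s i ≠ 1 := fun h => hs1 i (by
      have h2 : a i = (s i)⁻¹ := eq_inv_of_mul_eq_one_left h
      refine eq_one_of_sq hFodd (hsF i) (inv_injective ?_)
      rw [mul_inv_rev, inv_one, ← h2]
      exact ha2)
    obtain ⟨φ⟩ := Cfsg.Lib.InvolCalc.exists_dihedral_equiv
      (Cfsg.Lib.InvolCalc.order_two_of_mul_self ha2 hane)
      (Cfsg.Lib.InvolCalc.order_two_of_mul_self hy2 hyne) (fun h => hs1 i (by simpa using h.symm))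
    have e1 : a i * (a i * s i) = s i := by rw [← mul_assoc, ha2, one_mul]
    have e2 : zpowers (a i) ⊔ zpowers (s i) = closure {a i, a i * s i} := by
      refine le_antisymm (sup_le (zpowers_le.2 (subset_closure (Or.inl rfl))) (zpowers_le.2 ?_))
        ((closure_le _).2 ?_)
      · have h1 := mul_mem (subset_closure (Or.inl rfl) : a i ∈ closure {a i, a i * s i})
          (subset_closure (Or.inr rfl) : a i * s i ∈ closure {a i, a i * s i})
        rwa [e1] at h1
      · rintro z (rfl | rfl)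
        · exact mem_sup_left (mem_zpowers _)
        · exact mul_mem (mem_sup_left (mem_zpowers _)) (mem_sup_right (mem_zpowers _))
    exact ⟨(MulEquiv.subgroupCongr e2).trans (φ.trans (by rw [e1]))⟩
  · refine le_antisymm (iSup_le fun i => zpowers_le.2 (haA' i)) ?_
    conv_lhs => rw [← hMeq, hM]
    rw [closure_le]
    rintro _ ⟨x, rfl⟩
    refine mem_iSup_of_mem (S.equivFin x) ?_
    have : a (S.equivFin x) = aa x.1 x.2 := by simp [a, e]
    show aa x.1 x.2 ∈ zpowers (a (S.equivFin x))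
    rw [this]
    exact mem_zpowers _
  · intro i j hij x hx y hy
    have hcom : zpowers (a i) ⊔ zpowers (s i) ≤ centralizer ({a j, s j} : Set G) := by
      refine sup_le (zpowers_le.2 ?_) (zpowers_le.2 ?_)
      · rintro z (rfl | rfl)
        · exact congrArg Subtype.val (mul_comm' (⟨_, haA' j⟩ : A) ⟨_, haA' i⟩)
        · exact (haj i j hij).symm
      · rintro z (rfl | rfl)
        · exact haj j i (Ne.symm hij)
        · exact hS0c _ (e j).1.2 _ (e i).1.2
    have h1 := hcom hx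
    have h2 : zpowers (a j) ⊔ zpowers (s j) ≤ centralizer ({x} : Set G) := by
      refine sup_le (zpowers_le.2 ?_) (zpowers_le.2 ?_)
      · exact mem_centralizer_singleton_iff.2 (h1 _ (Or.inl rfl))
      · exact mem_centralizer_singleton_iff.2 (h1 _ (Or.inr rfl))
    exact (mem_centralizer_singleton_iff.1 (h2 hy)).symm

end Cfsg.Lib.Misc.DihedralLemma
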