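import Cfsg.Agent.Transfer.Basic
import Cfsg.Agent.Transfer.ThompsonTransfer

/-! A consequence of Thompson's transfer lemma for a dihedral supplement. -/

set_option autoImplicit false
set_option linter.style.haveILetI false
set_option linter.unusedSectionVars false

open Subgroup

namespace Cfsg.Lib.DihedralSupplement

variable {G : Type*} [Group G] [Finite G]

/-- The sign of a semiregular 2-element with odd orbit number. -/
theorem exists_sign (M : Subgroup G) {a m : ℕ} (ha : 1 ≤ a) (hm : Odd m) (hM : M.index = 2 ^ a * m) :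
    ∃ ε : G →* ℤˣ, ∀ x : G, x ^ (2 ^ a) = 1 → (∀ g : G, g⁻¹ * x ^ (2 ^ (a - 1)) * g ∉ M) →
      ε x = -1 := by
  classical
  haveI := Fintype.ofFinite (G ⧸ M)
  refine ⟨Equiv.Perm.sign.comp (MulAction.toPermHom G (G ⧸ M)), fun x hx hfix => ?_⟩
  set σ : Equiv.Perm (G ⧸ M) := MulAction.toPermHom G (G ⧸ M) x with hσ
  have hfree : ∀ q, (σ ^ (2 ^ (a - 1))) q ≠ q := by
    intro q
    obtain ⟨g, rfl⟩ := QuotientGroup.mk_surjective q
    intro h
    rw [hσ, ← map_pow] at h
    have h' : ((x ^ (2 ^ (a - 1)) * g : G) : G ⧸ M) = g := h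
    have h2 := QuotientGroup.eq.1 h'.symm
    exact hfix g (by rwa [← mul_assoc] at h2)
  have hsupp : σ.support = Finset.univ := by
    rw [Finset.eq_univ_iff_forall]
    intro q
    rw [Equiv.Perm.mem_support]
    intro h
    exact hfree q (Equiv.Perm.pow_apply_eq_self_of_apply_eq_self h _)
  have hlen : ∀ l ∈ σ.cycleType, l = 2 ^ a := by
    intro l hl
    have hdvd : l ∣ 2 ^ a := by
      refine (Equiv.Perm.dvd_of_mem_cycleType hl).trans (orderOf_dvd_of_pow_eq_one ?_)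
      rw [hσ, ← map_pow, hx, map_one]
    obtain ⟨j, hj, rfl⟩ := (Nat.dvd_prime_pow Nat.prime_two).1 hdvd
    rcases eq_or_lt_of_le hj with rfl | hlt
    · rfl
    exfalso
    obtain ⟨c, τ, heq, hdis, hcyc, hcard⟩ := Equiv.Perm.mem_cycleType_iff.1 hl
    obtain ⟨q, hq⟩ : c.support.Nonempty := by
      rw [← Finset.card_pos, hcard]; positivity
    refine hfree q ?_
    obtain ⟨e, he⟩ := Nat.pow_dvd_pow 2 (show j ≤ a - 1 by omega)
    rw [he, pow_mul, heq, hdis.commute.mul_pow]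
    have hc1 : c ^ (2 ^ j) = 1 := by rw [← hcard, ← hcyc.orderOf, pow_orderOf_eq_one]
    rw [hc1, one_mul]
    apply Equiv.Perm.pow_apply_eq_self_of_apply_eq_self
    apply Equiv.Perm.pow_apply_eq_self_of_apply_eq_self
    exact Equiv.Perm.notMem_support.1 (fun h => Finset.disjoint_left.1 hdis.disjoint_support hq h)
  have hrep := Multiset.eq_replicate_card.2 hlen
  have hsum := σ.sum_cycleType
  rw [hrep, Multiset.sum_replicate, hsupp, Finset.card_univ, ← Nat.card_eq_fintype_card,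
    ← M.index_eq_card, hM, smul_eq_mul, mul_comm (2 ^ a) m] at hsum
  have hk : Multiset.card σ.cycleType = m :=
    Nat.eq_of_mul_eq_mul_right (pow_pos two_pos a) hsum
  show Equiv.Perm.sign σ = -1
  rw [Equiv.Perm.sign_of_cycleType, hrep, Multiset.sum_replicate, Multiset.card_replicate, hk,
    smul_eq_mul]
  refine Odd.neg_one_pow (Even.add_odd ?_ hm)
  obtain ⟨b, rfl⟩ := Nat.exists_eq_add_of_le ha
  exact Even.mul_left ⟨2 ^ b, by rw [pow_add, pow_one]; ring⟩ m

theorem hom_eq_one_of_coprime {H : Type*} [Group H] (ε : H →* ℤˣ) {g : H}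
    (h : (orderOf g).Coprime 2) : ε g = 1 := by
  have h1 : orderOf (ε g) ∣ orderOf g := orderOf_map_dvd ε g
  have h2 : orderOf (ε g) ∣ 2 := orderOf_dvd_of_pow_eq_one (Int.units_sq _)
  exact orderOf_eq_one_iff.1 (Nat.eq_one_of_dvd_coprimes h h1 h2)

theorem index_ker_two {H : Type*} [Group H] (ε : H →* ℤˣ) {u : H} (h : ε u = -1) :
    ε.ker.index = 2 := by
  rw [Subgroup.index_ker]
  have htop : ε.range = ⊤ := by
    rw [eq_top_iff]
    intro z _
    rcases Int.units_eq_one_or z with rfl | rfl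
    · exact one_mem _
    · exact ⟨u, h⟩
  rw [htop, Nat.card_congr Subgroup.topEquiv.toEquiv, Nat.card_eq_fintype_card,
    Fintype.card_units_int]

/-- Descend along a cyclic 2-subgroup. -/
theorem descend (T : Subgroup G) : ∀ (a : ℕ) (K : Subgroup G) (c : G) (m : ℕ), c ∈ K →
    T ≤ Cfsg.pResidual 2 G → (∀ g : G, (orderOf g).Coprime 2 → g ∈ K) →
    c ^ (2 ^ a) = 1 → (1 ≤ a → ∀ g : G, g⁻¹ * c ^ (2 ^ (a - 1)) * g ∉ T) →
    Odd m → T.relIndex K = 2 ^ a * m → ¬ 2 ∣ T.relIndex (Cfsg.pResidual 2 G) := by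
  intro a
  induction a with
  | zero =>
    intro K c m _ hTO hodd _ _ hm hrel hd
    have hOK : Cfsg.pResidual 2 G ≤ K := (closure_le K).2 hodd
    rw [pow_zero, one_mul] at hrel
    have : T.relIndex (Cfsg.pResidual 2 G) ∣ m := hrel ▸ ⟨_, (Subgroup.relIndex_mul_relIndex T _ K hTO hOK).symm⟩
    exact (Nat.not_even_iff_odd.2 hm) (even_iff_two_dvd.2 (hd.trans this))
  | succ a ih =>
    intro K c m hcK hTO hodd hc hfix hm hrel
    obtain ⟨ε, hε⟩ := exists_sign (T.subgroupOf K) (Nat.succ_pos a) hm hrel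
    have hεc : ε ⟨c, hcK⟩ = -1 := by
      refine hε _ (Subtype.ext hc) fun g hg => hfix (Nat.succ_pos a) (g : G) ?_
      exact hg
    set K' := ε.ker.map K.subtype
    have hK'K : K' ≤ K := map_subtype_le _
    have hcoprime : ∀ g : G, (orderOf g).Coprime 2 → g ∈ K' := fun g hg => by
      refine ⟨⟨g, hodd g hg⟩, ?_, rfl⟩
      exact hom_eq_one_of_coprime ε (by rwa [← Subgroup.orderOf_coe])
    have hTK' : T ≤ K' := hTO.trans ((closure_le K').2 hcoprime)
    have h2 : K'.relIndex K = 2 := by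
      show (K'.subgroupOf K).index = 2
      rw [show K'.subgroupOf K = ε.ker from Subgroup.comap_map_eq_self_of_injective (Subgroup.subtype_injective K) _]
      exact index_ker_two ε hεc
    refine ih K' (c ^ 2) m ⟨⟨c, hcK⟩ ^ 2, ?_, rfl⟩ hTO hcoprime ?_ (fun ha g hg => ?_) hm ?_
    · show ε (⟨c, hcK⟩ ^ 2) = 1
      rw [map_pow, Int.units_sq]
    · rw [← pow_mul, ← pow_succ']; exact hc
    · refine hfix (Nat.succ_pos a) g ?_
      rwa [← pow_mul, ← pow_succ', show a - 1 + 1 = a + 1 - 1 by omega] at hg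
    · have h := Subgroup.relIndex_mul_relIndex T K' K hTK' hK'K
      rw [h2, hrel, pow_succ, mul_right_comm] at h
      exact Nat.eq_of_mul_eq_mul_right two_pos h

theorem sq_eq_one_of_not_mem {D : Subgroup G} {n : ℕ} (hn : 2 ≤ n) (e : D ≃* DihedralGroup n)
    {C : Subgroup G} (hCD : C ≤ D) (hC : IsCyclic C) (hCi : C.relIndex D = 2) {x : G}
    (hx : x ∈ D) (hxC : x ∉ C) : x * x = 1 := by
  haveI : NeZero n := ⟨by omega⟩
  suffices h : e ⟨x, hx⟩ * e ⟨x, hx⟩ = 1 by
    rw [← map_mul, MulEquiv.map_eq_one_iff] at h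
    exact congrArg Subtype.val h
  rcases hex : e ⟨x, hx⟩ with i | i
  swap
  · simp
  rcases Nat.lt_or_ge n 3 with h3 | h3
  · obtain rfl : n = 2 := by omega
    clear hex; revert i; decide
  exfalso
  obtain ⟨⟨c, hc⟩, hgen⟩ := hC.exists_generator
  have hcard : orderOf c = n := by
    have h1 := Subgroup.relIndex_mul_relIndex ⊥ C D bot_le hCD
    rw [relIndex_bot_left, relIndex_bot_left, hCi, Nat.card_congr e.toEquiv, DihedralGroup.nat_card] at h1
    have h2 : orderOf (⟨c, hc⟩ : C) = Nat.card C := orderOf_eq_card_of_forall_mem_zpowers hgen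
    rw [Subgroup.orderOf_mk] at h2
    omega
  rcases hec : e ⟨c, hCD hc⟩ with j | j
  swap
  · have : orderOf (e ⟨c, hCD hc⟩) = n := by rw [MulEquiv.orderOf_eq, Subgroup.orderOf_mk, hcard]
    rw [hec, DihedralGroup.orderOf_sr] at this
    omega
  have hinj : Function.Injective (fun k : Fin n => (j * (k : ℕ) : ZMod n)) := by
    intro k l hkl
    have h4 : e ((⟨c, hCD hc⟩ : D) ^ (k : ℕ)) = e ((⟨c, hCD hc⟩ : D) ^ (l : ℕ)) := by
      rw [map_pow, map_pow, hec, DihedralGroup.r_pow, DihedralGroup.r_pow]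
      exact congrArg DihedralGroup.r hkl
    have h5 := congrArg Subtype.val (e.injective h4)
    simp only [SubmonoidClass.coe_pow] at h5
    exact Fin.ext (pow_injOn_Iio_orderOf (by rw [Set.mem_Iio, hcard]; exact k.2)
      (by rw [Set.mem_Iio, hcard]; exact l.2) h5)
  haveI : Fintype (ZMod n) := ZMod.fintype n
  obtain ⟨k, hk⟩ := ((Fintype.bijective_iff_injective_and_card _).2 ⟨hinj, by simp⟩).2 i
  apply hxC
  have : (⟨x, hx⟩ : D) = (⟨c, hCD hc⟩ : D) ^ (k : ℕ) := e.injective (by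
    rw [map_pow, hec, DihedralGroup.r_pow, hex]
    exact congrArg DihedralGroup.r hk.symm)
  have hxc : x = c ^ (k : ℕ) := congrArg Subtype.val this
  exact hxc ▸ C.pow_mem hc _

theorem main (L T S D C : Subgroup G) (hL : Cfsg.pResidual 2 ↥L = ⊤)
    (hTL : T ≤ L) (hT2 : IsPGroup 2 T) (hTsyl : ¬ 2 ∣ T.relIndex L)
    (hS2 : IsPGroup 2 S) (hSsyl : ¬ 2 ∣ S.index) (hTS : T ≤ S)
    (hDS : D ≤ S) (hDih : ∃ n : ℕ, 2 ≤ n ∧ Nonempty (↥D ≃* DihedralGroup n)) (hDT : D ⊓ T = ⊥)
    (hTD : T ⊔ D = S) (hTDc : Nat.card T * Nat.card D = Nat.card S)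
    (hCD : C ≤ D) (hC : IsCyclic ↥C) (hCi : C.relIndex D = 2)
    (h1 : ∀ x ∈ D, x ∉ C → orderOf x = 2 → ∀ g : G, g * x * g⁻¹ ∈ T ⊔ C → False)
    (h2 : ∀ c ∈ C, orderOf c = 2 → ∀ g : G, g * c * g⁻¹ ∈ T → False) :
    ∃ K : Subgroup G, K.Normal ∧ K ⊔ D = ⊤ ∧
      ∀ T' : Subgroup G, T' ≤ L → IsPGroup 2 T' → ¬ 2 ∣ T'.relIndex L → T' ≤ K ∧ ¬ 2 ∣ T'.relIndex K := by
  haveI : Fact (Nat.Prime 2) := ⟨Nat.prime_two⟩
  set O := Cfsg.pResidual 2 G
  have hLO : L ≤ O := by
    intro x hx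
    have := Cfsg.Lib.Transfer.pResidual_map_le (p := 2) L.subtype ⟨⟨x, hx⟩, hL ▸ trivial, rfl⟩
    exact this
  have hTO : T ≤ O := hTL.trans hLO
  -- orders
  have hDC : Nat.card D = 2 * Nat.card C := by
    have h := Subgroup.relIndex_mul_relIndex ⊥ C D bot_le hCD
    rw [relIndex_bot_left, relIndex_bot_left, hCi] at h
    omega
  obtain ⟨a, ha⟩ := (hS2.to_le (hCD.trans hDS)).exists_card_eq
  obtain ⟨x, hxD, hxC⟩ : ∃ x ∈ D, x ∉ C := by
    by_contra hc
    push Not at hc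
    rw [Subgroup.relIndex_eq_one.2 hc] at hCi
    omega
  obtain ⟨n, hn, ⟨e⟩⟩ := hDih
  have hinv : ∀ y ∈ D, y ∉ C → orderOf y = 2 := fun y hy hyC =>
    orderOf_eq_prime (by rw [sq]; exact sq_eq_one_of_not_mem hn e hCD hC hCi hy hyC)
      fun h => hyC (h ▸ one_mem C)
  set M := T ⊔ C
  have hMS : M ≤ S := sup_le hTS (hCD.trans hDS)
  have hxM : x ∉ M := fun h => h1 x hxD hxC (hinv x hxD hxC) 1 (by simpa using h)
  have hMlow : Nat.card T * Nat.card C ≤ Nat.card M := by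
    rw [← Nat.card_prod]
    refine Nat.card_le_card_of_injective
      (fun p : T × C => (⟨(p.1 : G) * p.2, mul_mem (mem_sup_left p.1.2) (mem_sup_right p.2.2)⟩ : M)) ?_
    rintro ⟨t, c⟩ ⟨t', c'⟩ h
    have h' : (t : G) * c = t' * c' := congrArg Subtype.val h
    have h3 : ((t' : G))⁻¹ * t = c' * (c : G)⁻¹ := by
      rw [eq_mul_inv_iff_mul_eq, mul_assoc, h', inv_mul_cancel_left]
    have h4 : ((t' : G))⁻¹ * t ∈ D ⊓ T := mem_inf.2 ⟨h3 ▸ hCD (C.mul_mem c'.2 (C.inv_mem c.2)),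
      T.mul_mem (T.inv_mem t'.2) t.2⟩
    rw [hDT, mem_bot] at h4
    have ht : (t' : G) = t := inv_mul_eq_one.1 h4
    rw [h4] at h3
    have hc : (c' : G) = c := mul_inv_eq_one.1 h3.symm
    exact Prod.ext (Subtype.ext ht.symm) (Subtype.ext hc.symm)
  have hMne : Nat.card M ≠ Nat.card S := fun h =>
    hxM ((Subgroup.eq_of_le_of_card_ge hMS h.ge) ▸ hDS hxD)
  have hMcard : Nat.card M = Nat.card T * Nat.card C := by
    obtain ⟨q, hq⟩ := Subgroup.card_dvd_of_le hMS
    have hS' : Nat.card S = 2 * (Nat.card T * Nat.card C) := by rw [← hTDc, hDC]; ring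
    have hq2 : 2 ≤ q := by
      rcases q with _ | _ | q
      · rw [mul_zero] at hq; exact absurd hq Nat.card_pos.ne'
      · rw [Nat.zero_add, mul_one] at hq; exact absurd hq.symm hMne
      · omega
    nlinarith [Nat.card_pos (α := M)]
  have hMidx : M.index = 2 ^ 1 * S.index := by
    apply Nat.eq_of_mul_eq_mul_left (Nat.card_pos (α := M))
    rw [M.card_mul_index, ← S.card_mul_index, hMcard, ← hTDc, hDC]
    ring
  have hSodd : Odd S.index := by rw [← Nat.not_even_iff_odd, even_iff_two_dvd]; exact hSsyl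
  obtain ⟨ε, hε⟩ := exists_sign M le_rfl hSodd hMidx
  have hεout : ∀ y ∈ D, y ∉ C → ε y = -1 := fun y hy hyC => by
    refine hε y (by rw [pow_one, ← hinv y hy hyC, pow_orderOf_eq_one]) fun g hg => ?_
    rw [Nat.sub_self, pow_zero, pow_one] at hg
    exact h1 y hy hyC (hinv y hy hyC) g⁻¹ (by rwa [inv_inv])
  have hεC : C ≤ ε.ker := fun c hc => by
    have hxc : x * c ∉ C := fun h => hxC (by simpa using mul_mem h (inv_mem hc))
    have h := hεout _ (mul_mem hxD (hCD hc)) hxc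
    rw [map_mul, hεout x hxD hxC] at h
    rw [MonoidHom.mem_ker]
    exact (mul_eq_left).1 h
  obtain ⟨⟨c, hc⟩, hgen⟩ := hC.exists_generator
  have hcord : orderOf c = 2 ^ a := by
    rw [← Subgroup.orderOf_mk c hc, orderOf_eq_card_of_forall_mem_zpowers hgen, ha]
  have hodd1 : ∀ g : G, (orderOf g).Coprime 2 → g ∈ ε.ker := fun g hg => hom_eq_one_of_coprime ε hg
  have hTK : T ≤ ε.ker := hTO.trans ((closure_le _).2 hodd1)
  have hrel : T.relIndex ε.ker = 2 ^ a * S.index := by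
    have h := Subgroup.relIndex_mul_index hTK
    rw [index_ker_two ε (hεout x hxD hxC)] at h
    apply Nat.eq_of_mul_eq_mul_right two_pos
    rw [h]
    apply Nat.eq_of_mul_eq_mul_left (Nat.card_pos (α := T))
    rw [T.card_mul_index, ← S.card_mul_index, ← hTDc, hDC, ha]
    ring
  have hfinal := descend T a ε.ker c S.index (hεC hc) hTO hodd1 (hcord ▸ pow_orderOf_eq_one c)
    (fun ha1 g hg => h2 _ (C.pow_mem hc _) (by
      rw [orderOf_pow, hcord, Nat.gcd_eq_right (Nat.pow_dvd_pow 2 (Nat.sub_le a 1)),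
        Nat.pow_div (Nat.sub_le a 1) two_pos, show a - (a - 1) = 1 by omega, pow_one])
      g⁻¹ (by rwa [inv_inv])) hSodd hrel
  refine ⟨O, inferInstance, ?_, fun T' hT'L hT'2 hT'syl => ⟨hT'L.trans hLO, ?_⟩⟩
  · let P : Sylow 2 G := hS2.toSylow hSsyl
    have h := Cfsg.Lib.Transfer.pResidual_sup_sylow P
    rw [show ((P : Subgroup G)) = T ⊔ D from hTD.symm, ← sup_assoc, sup_eq_left.2 hTO] at h
    exact h
  · have hcard : Nat.card T' = Nat.card T := by
      have e1 : Nat.card T' * T'.relIndex L = Nat.card L := by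
        simpa [relIndex_bot_left] using Subgroup.relIndex_mul_relIndex ⊥ T' L bot_le hT'L
      have e2 : Nat.card T * T.relIndex L = Nat.card L := by
        simpa [relIndex_bot_left] using Subgroup.relIndex_mul_relIndex ⊥ T L bot_le hTL
      obtain ⟨i, hi⟩ := hT'2.exists_card_eq
      obtain ⟨j, hj⟩ := hT2.exists_card_eq
      rw [hi, hj]
      have c1 : (2 ^ i).Coprime (T.relIndex L) :=
        Nat.Coprime.pow_left i (Nat.prime_two.coprime_iff_not_dvd.2 hTsyl)
      have c2 : (2 ^ j).Coprime (T'.relIndex L) :=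
        Nat.Coprime.pow_left j (Nat.prime_two.coprime_iff_not_dvd.2 hT'syl)
      refine Nat.dvd_antisymm (c1.dvd_of_dvd_mul_right ⟨T'.relIndex L, ?_⟩)
        (c2.dvd_of_dvd_mul_right ⟨T.relIndex L, ?_⟩)
      · rw [← hi, ← hj, e1, e2]
      · rw [← hi, ← hj, e1, e2]
    have e1 : Nat.card T' * T'.relIndex O = Nat.card O := by
      simpa [relIndex_bot_left] using Subgroup.relIndex_mul_relIndex ⊥ T' O bot_le (hT'L.trans hLO)
    have e2 : Nat.card T * T.relIndex O = Nat.card O := by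
      simpa [relIndex_bot_left] using Subgroup.relIndex_mul_relIndex ⊥ T O bot_le hTO
    rw [Nat.eq_of_mul_eq_mul_left Nat.card_pos (show Nat.card T * T'.relIndex O = Nat.card T * T.relIndex O by
      rw [e2, ← hcard, e1])]
    exact hfinal

end Cfsg.Lib.DihedralSupplement
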