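import Cfsg.Agent.Components.Misc.RankConnected
import Cfsg.Agent.Components.Supplement
import Cfsg.Agent.Thompson.PComplement

/-! Elementary abelian subgroups of order eight of a 2-group with a large normal one. -/

set_option autoImplicit false
set_option linter.style.haveILetI false
set_option linter.unusedSectionVars false

open Subgroup

namespace Cfsg.Lib.EightConnected

open Cfsg.Lib.RankConnected Cfsg.Lib.Components

variable {X : Type*} [Group X] [Finite X]

theorem inv_bound {K : Subgroup X} (hK : Cfsg.IsElementaryAbelian 2 K) {u : X} (hu : u * u = 1)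
    (huK : u ∈ normalizer (K : Set X)) :
    Nat.card K ≤ Nat.card (K ⊓ centralizer ({u} : Set X) : Subgroup X) ^ 2 := by
  have hc : ∀ a ∈ K, ∀ b ∈ K, a * b = b * a := fun a ha b hb =>
    congrArg Subtype.val (hK.1.is_comm.comm (⟨a, ha⟩ : K) ⟨b, hb⟩)
  have hui : u⁻¹ = u := inv_eq_of_mul_eq_one_left hu
  have hinv : ∀ a ∈ K, a⁻¹ = a := fun a ha => inv_eq_of_mul_eq_one_left (by rw [← sq, hK.2 a ha])
  have hmem : ∀ e : K, u * e * u⁻¹ * (e : X)⁻¹ ∈ K := fun e =>
    mul_mem ((mem_normalizer_iff.mp huK e).mp e.2) (inv_mem e.2)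
  let f : K →* X :=
    { toFun := fun e => u * e * u⁻¹ * (e : X)⁻¹
      map_one' := by simp
      map_mul' := fun a b => by
        have h1 := hc _ (hmem b) _ (inv_mem a.2)
        calc u * ((a : X) * b) * u⁻¹ * ((a : X) * b)⁻¹
            = u * a * u⁻¹ * ((u * b * u⁻¹ * (b : X)⁻¹) * (a : X)⁻¹) := by group
          _ = u * a * u⁻¹ * ((a : X)⁻¹ * (u * b * u⁻¹ * (b : X)⁻¹)) := by rw [h1]
          _ = (u * a * u⁻¹ * (a : X)⁻¹) * (u * b * u⁻¹ * (b : X)⁻¹) := by group }
  set c := Nat.card (K ⊓ centralizer ({u} : Set X) : Subgroup X)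
  have hr : f.range ≤ K ⊓ centralizer ({u} : Set X) := by
    rintro _ ⟨e, rfl⟩
    refine mem_inf.2 ⟨hmem e, mem_centralizer_iff.mpr fun y hy => ?_⟩
    rw [Set.mem_singleton_iff] at hy
    subst y
    have h1 := hinv _ (hmem e)
    show u * (u * e * u⁻¹ * (e : X)⁻¹) = (u * e * u⁻¹ * (e : X)⁻¹) * u
    conv_rhs => rw [← h1]
    rw [hui]
    simp only [mul_inv_rev, inv_inv, hui, ← mul_assoc, hu, one_mul]
    simp only [mul_assoc, hu, mul_one]
  have hk : f.ker.map K.subtype ≤ K ⊓ centralizer ({u} : Set X) := by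
    rintro _ ⟨e, he, rfl⟩
    refine mem_inf.2 ⟨e.2, mem_centralizer_iff.mpr fun y hy => ?_⟩
    rw [Set.mem_singleton_iff] at hy
    subst y
    exact mul_inv_eq_iff_eq_mul.mp (mul_inv_eq_one.mp he)
  have e1 : Nat.card f.ker * Nat.card f.range = Nat.card K := by
    rw [← Subgroup.index_ker, Subgroup.card_mul_index]
  have h2 := card_le_of_le hk
  rw [card_map_of_injective K.subtype_injective] at h2
  rw [← e1, sq]
  exact Nat.mul_le_mul h2 (card_le_of_le hr)

variable {E : Subgroup X}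

/-- the fixed points shrink at most by a square root for each generator -/
theorem fixed_step [E.Normal] (hE : Cfsg.IsElementaryAbelian 2 E) {J : Subgroup X} {a : X} (ha : a * a = 1)
    (haJ : a ∈ centralizer (J : Set X)) :
    Nat.card (E ⊓ centralizer (J : Set X) : Subgroup X) ≤
      Nat.card (E ⊓ centralizer ((J ⊔ zpowers a : Subgroup X) : Set X) : Subgroup X) ^ 2 := by
  have hN : a ∈ normalizer ((E ⊓ centralizer (J : Set X) : Subgroup X) : Set X) := by
    have h1 := Cfsg.Lib.Thompson.normalizer_le_normalizer_centralizer J (centralizer_le_normalizer _ haJ)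
    refine mem_normalizer_iff.mpr fun g => ?_
    rw [mem_inf, mem_inf]
    have h2 : a ∈ normalizer (E : Set X) := by rw [normalizer_eq_top]; trivial
    exact and_congr (mem_normalizer_iff.mp h2 g) (mem_normalizer_iff.mp h1 g)
  refine (inv_bound (elem_le hE inf_le_left) ha hN).trans (Nat.pow_le_pow_left (card_le_of_le ?_) 2)
  refine le_inf (inf_le_left.trans inf_le_left) ?_
  rw [le_centralizer_iff]
  refine sup_le ?_ ?_
  · rw [le_centralizer_iff]
    exact inf_le_left.trans inf_le_right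
  · rw [zpowers_le]
    exact mem_centralizer_iff.mpr fun y hy => (mem_centralizer_iff.mp (mem_inf.1 hy).2 a rfl).symm

theorem card_sup_zpowers {A : Subgroup X} (hA : Cfsg.IsElementaryAbelian 2 A) {e : X} (he : e * e = 1)
    (heA : e ∉ A) (hc : ∀ a ∈ A, a * e = e * a) :
    Cfsg.IsElementaryAbelian 2 (A ⊔ zpowers e) ∧ Nat.card (A ⊔ zpowers e : Subgroup X) = 2 * Nat.card A := by
  have hz : Cfsg.IsElementaryAbelian 2 (zpowers e) := by
    refine ⟨inferInstance, fun a ha => ?_⟩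
    obtain ⟨i, rfl⟩ := mem_zpowers_iff.mp ha
    rw [← zpow_natCast, ← zpow_mul, mul_comm, zpow_mul, zpow_natCast, sq, he, one_zpow]
  have hel := elem_sup hA hz fun a ha b hb => by
    obtain ⟨i, rfl⟩ := mem_zpowers_iff.mp hb
    exact ((show Commute a e from hc a ha).zpow_right i).eq
  refine ⟨hel, ?_⟩
  have h1 : Nat.card (A ⊔ zpowers e : Subgroup X) ≤ 2 * Nat.card A := by
    have hd : Nat.card (zpowers e) ≤ 2 := by
      rw [Nat.card_zpowers]
      exact Nat.le_of_dvd two_pos (orderOf_dvd_of_pow_eq_one (by rw [sq, he]))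
    have := Nat.le_of_dvd (Nat.mul_pos Nat.card_pos Nat.card_pos) (card_sup_dvd_mul' hel A (zpowers e))
    calc _ ≤ _ := this
      _ ≤ Nat.card A * 2 := Nat.mul_le_mul le_rfl hd
      _ = _ := mul_comm _ _
  refine le_antisymm h1 ?_
  obtain ⟨k, hk⟩ := card_dvd_of_le (le_sup_left : A ≤ A ⊔ zpowers e)
  rcases Nat.lt_or_ge k 2 with h | h
  · exfalso
    have hpos := Nat.card_pos (α := (A ⊔ zpowers e : Subgroup X))
    interval_cases k
    · omega
    · exact heA (eq_of_le_of_card_ge le_sup_left (by rw [hk, mul_one]) ▸ mem_sup_right (mem_zpowers e))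
  · rw [hk, mul_comm 2]
    exact Nat.mul_le_mul le_rfl h
where
  card_sup_dvd_mul' {B : Subgroup X} (hB : Cfsg.IsElementaryAbelian 2 B) (C D : Subgroup X)
      (hC : C ≤ B := by first | exact le_sup_left | exact le_rfl) (hD : D ≤ B := by first | exact le_sup_right | exact le_rfl) :
      Nat.card (C ⊔ D : Subgroup X) ∣ Nat.card C * Nat.card D := by
    haveI : (C.subgroupOf B).Normal := ⟨fun n hn g => by
      rwa [show g * n * g⁻¹ = n by rw [hB.1.is_comm.comm g n, mul_inv_cancel_right]]⟩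
    have h := card_sup_dvd_mul (C.subgroupOf B) (D.subgroupOf B)
    rwa [← subgroupOf_sup hC hD, Nat.card_congr (subgroupOfEquivOfLe (sup_le hC hD)).toEquiv,
      Nat.card_congr (subgroupOfEquivOfLe hC).toEquiv, Nat.card_congr (subgroupOfEquivOfLe hD).toEquiv] at h

theorem centralizer_not_le [E.Normal] (hE : Cfsg.IsElementaryAbelian 2 E) (h32 : 32 ≤ Nat.card E)
    {A : Subgroup X} (hA : Cfsg.IsElementaryAbelian 2 A) (hA8 : Nat.card A ≤ 8) (hne : ¬ A ≤ E) :
    ¬ E ⊓ centralizer (A : Set X) ≤ A := by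
  intro hle
  have hcomm : A ≤ centralizer (A : Set X) := fun a ha => mem_centralizer_iff.mpr fun b hb =>
    congrArg Subtype.val (hA.1.is_comm.comm (⟨b, hb⟩ : A) ⟨a, ha⟩)
  set I := A ⊓ E with hI
  have hIlt : Nat.card I < Nat.card A := by
    by_contra h
    exact hne (inf_eq_left.mp (eq_of_le_of_card_ge inf_le_left (not_lt.mp h)))
  have hC : E ⊓ centralizer (A : Set X) ≤ I := le_inf hle inf_le_left
  have key : ∀ (J : Subgroup X), I ≤ J → J ≤ A → ∀ t, Nat.card J * 2 ^ t = Nat.card A →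
      Nat.card (E ⊓ centralizer (J : Set X) : Subgroup X) ≤ Nat.card I ^ 2 ^ t := by
    intro J hIJ hJA t
    induction t generalizing J with
    | zero =>
      intro h
      rw [pow_zero, mul_one] at h
      rw [eq_of_le_of_card_ge hJA h.ge, pow_zero, pow_one]
      exact card_le_of_le hC
    | succ t ih =>
      intro h
      obtain ⟨a, haA, haJ⟩ := SetLike.not_le_iff_exists.mp (fun hh : A ≤ J => by
        have hh' := card_le_of_le hh
        rw [← h] at hh'
        have h1 : Nat.card J * 1 < Nat.card J * 2 ^ (t + 1) :=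
          Nat.mul_lt_mul_of_pos_left (Nat.one_lt_two_pow (by omega)) Nat.card_pos
        omega)
      have haa : a * a = 1 := by rw [← sq, hA.2 a haA]
      obtain ⟨-, hcard⟩ := card_sup_zpowers (elem_le hA hJA) haa haJ fun y hy =>
        congrArg Subtype.val (hA.1.is_comm.comm (⟨y, hJA hy⟩ : A) ⟨a, haA⟩)
      refine (fixed_step hE haa (centralizer_le (show (J : Set X) ⊆ A from hJA) (hcomm haA))).trans ?_
      calc _ ≤ (Nat.card I ^ 2 ^ t) ^ 2 := Nat.pow_le_pow_left (ih (J ⊔ zpowers a) (hIJ.trans le_sup_left)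
            (sup_le hJA (zpowers_le.mpr haA)) (by rw [hcard, ← h, pow_succ]; ring)) 2
        _ = _ := by rw [← pow_mul, pow_succ]
  have hEI : E ≤ centralizer (I : Set X) := fun y hy => mem_centralizer_iff.mpr fun b hb =>
    congrArg Subtype.val (hE.1.is_comm.comm (⟨b, (mem_inf.1 hb).2⟩ : E) ⟨y, hy⟩)
  have h2 : ∀ B : Subgroup X, Cfsg.IsElementaryAbelian 2 B → ∃ k, Nat.card B = 2 ^ k := fun B hB =>
    IsPGroup.iff_card.mp fun b => ⟨1, Subtype.ext (hB.2 b b.2)⟩
  obtain ⟨j, hj⟩ := h2 A hA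
  obtain ⟨i, hi⟩ := h2 I (elem_le hA inf_le_left)
  rw [hi, hj] at hIlt
  rw [hj] at hA8
  have hij := (Nat.pow_lt_pow_iff_right (le_refl 2)).mp hIlt
  have hj3 : j ≤ 3 := (Nat.pow_le_pow_iff_right (le_refl 2)).mp (hA8.trans (by norm_num : 8 ≤ 2 ^ 3))
  have := key I le_rfl inf_le_left (j - i) (by rw [hi, hj, ← pow_add, Nat.add_sub_cancel' hij.le])
  rw [inf_eq_left.mpr hEI, hi] at this
  have h32' := h32.trans this
  interval_cases j <;> interval_cases i <;> simp_all

theorem main (hX : IsPGroup 2 X) [E.Normal] (hE : Cfsg.IsElementaryAbelian 2 E) (hE32 : 32 ≤ Nat.card E) :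
    (∀ A B : Subgroup X, Cfsg.IsElementaryAbelian 2 A → Nat.card ↥A = 8 → Cfsg.IsElementaryAbelian 2 B → Nat.card ↥B = 8 →
        Relation.ReflTransGen
          (fun C D : Subgroup X => Cfsg.IsElementaryAbelian 2 C ∧ Nat.card ↥C = 8 ∧ Cfsg.IsElementaryAbelian 2 D ∧ Nat.card ↥D = 8 ∧ ⁅C, D⁆ = ⊥)
          A B) ∧
      (∀ V : Subgroup X, Cfsg.IsElementaryAbelian 2 V → Nat.card ↥V = 4 →
        ∃ A : Subgroup X, V ≤ A ∧ Cfsg.IsElementaryAbelian 2 A ∧ Nat.card ↥A = 8) := by
  set R := fun C D : Subgroup X => Cfsg.IsElementaryAbelian 2 C ∧ Nat.card ↥C = 8 ∧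
    Cfsg.IsElementaryAbelian 2 D ∧ Nat.card ↥D = 8 ∧ ⁅C, D⁆ = ⊥
  have hbot : ∀ B C D : Subgroup X, Cfsg.IsElementaryAbelian 2 B → C ≤ B → D ≤ B → ⁅C, D⁆ = ⊥ :=
    fun B C D hB hC hD => commutator_eq_bot_iff_le_centralizer.mpr fun c hc =>
      mem_centralizer_iff.mpr fun d hd => congrArg Subtype.val (hB.1.is_comm.comm (⟨d, hD hd⟩ : B) ⟨c, hC hc⟩)
  have hstep : ∀ A : Subgroup X, Cfsg.IsElementaryAbelian 2 A → Nat.card A ≤ 8 → ¬ A ≤ E →
      ∃ e ∈ E, e ∉ A ∧ e * e = 1 ∧ ∀ a ∈ A, a * e = e * a := by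
    intro A hA hA8 hne
    obtain ⟨e, he, heA⟩ := SetLike.not_le_iff_exists.mp (centralizer_not_le hE hE32 hA hA8 hne)
    exact ⟨e, (mem_inf.1 he).1, heA, by rw [← sq, hE.2 e (mem_inf.1 he).1],
      fun a ha => mem_centralizer_iff.mp (mem_inf.1 he).2 a ha⟩
  have hdown : ∀ n, ∀ A : Subgroup X, 8 - Nat.card (A ⊓ E : Subgroup X) ≤ n →
      Cfsg.IsElementaryAbelian 2 A → Nat.card A = 8 →
      ∃ A', A' ≤ E ∧ Relation.ReflTransGen R A A' ∧ Relation.ReflTransGen R A' A ∧
        Cfsg.IsElementaryAbelian 2 A' ∧ Nat.card A' = 8 := by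
    intro n
    induction n with
    | zero =>
      intro A hn hA hA8
      exact ⟨A, inf_eq_left.mp (eq_of_le_of_card_ge inf_le_left (by omega)), .refl, .refl, hA, hA8⟩
    | succ n ih =>
      intro A hn hA hA8
      by_cases hle : A ≤ E
      · exact ⟨A, hle, .refl, .refl, hA, hA8⟩
      obtain ⟨e, heE, heA, he, hec⟩ := hstep A hA hA8.le hle
      obtain ⟨hB, hBc⟩ := card_sup_zpowers hA he heA hec
      set B := A ⊔ zpowers e
      obtain ⟨hI1, hI1c⟩ := card_sup_zpowers (elem_le hA (inf_le_left : (A ⊓ E) ≤ A)) he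
        (fun h => heA (mem_inf.1 h).1) fun a ha => hec a (mem_inf.1 ha).1
      have hIB : (A ⊓ E) ⊔ zpowers e ≤ B := sup_le (inf_le_left.trans le_sup_left) le_sup_right
      obtain ⟨k, hk⟩ := IsPGroup.iff_card.mp (hX.to_subgroup ((A ⊓ E) ⊔ zpowers e))
      have hI4 : Nat.card (A ⊓ E : Subgroup X) ≤ 4 := by
        obtain ⟨i, hi⟩ := IsPGroup.iff_card.mp (hX.to_subgroup (A ⊓ E : Subgroup X))
        have hlt : Nat.card (A ⊓ E : Subgroup X) < 8 := by
          by_contra h
          exact hle (inf_eq_left.mp (eq_of_le_of_card_ge inf_le_left (by omega)))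
        rw [hi] at hlt ⊢
        have := (Nat.pow_lt_pow_iff_right (le_refl 2)).mp (hlt.trans_le (by norm_num : 8 ≤ 2 ^ 3))
        exact (Nat.pow_le_pow_right two_pos (show i ≤ 2 by omega)).trans (by norm_num)
      have hk3 : k ≤ 3 := (Nat.pow_le_pow_iff_right (le_refl 2)).mp (by rw [← hk, hI1c]; show _ ≤ 8; omega)
      obtain ⟨A1, hA1c, hA1⟩ := Sylow.exists_subgroup_card_pow_prime_le (G := B) 2 (m := 3)
        (by rw [hBc, hA8]; norm_num) (((A ⊓ E) ⊔ zpowers e).subgroupOf B) (n := k)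
        (by rw [Nat.card_congr (subgroupOfEquivOfLe hIB).toEquiv, hk]) hk3
      have hc8 : Nat.card (A1.map B.subtype) = 8 := by
        rw [card_map_of_injective B.subtype_injective, hA1c]; norm_num
      have hA1e : Cfsg.IsElementaryAbelian 2 (A1.map B.subtype) := elem_le hB (map_subtype_le _)
      have hIA1 : (A ⊓ E) ⊔ zpowers e ≤ A1.map B.subtype := by
        rw [← map_subgroupOf_eq_of_le hIB]
        exact Subgroup.map_mono hA1
      have hgrow : 2 * Nat.card (A ⊓ E : Subgroup X) ≤ Nat.card (A1.map B.subtype ⊓ E : Subgroup X) := by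
        rw [← hI1c]
        exact card_le_of_le (le_inf hIA1 (sup_le inf_le_right (zpowers_le.mpr heE)))
      have hpos : 0 < Nat.card (A ⊓ E : Subgroup X) := Nat.card_pos
      have hn' : 8 - Nat.card (A ⊓ E : Subgroup X) ≤ n + 1 := hn
      obtain ⟨A', h1, h2, h3, h4, h5⟩ := ih (A1.map B.subtype) (by
        omega) hA1e hc8
      have hr : R A (A1.map B.subtype) := ⟨hA, hA8, hA1e, hc8, hbot B _ _ hB le_sup_left (map_subtype_le _)⟩
      have hr' : R (A1.map B.subtype) A := ⟨hA1e, hc8, hA, hA8, hbot B _ _ hB (map_subtype_le _) le_sup_left⟩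
      exact ⟨A', h1, .head hr h2, h3.tail hr', h4, h5⟩
  refine ⟨fun A B hA hA8 hB hB8 => ?_, fun V hV hV4 => ?_⟩
  · obtain ⟨A', hA'E, ha, -, hA'e, hA'c⟩ := hdown 8 A (by omega) hA hA8
    obtain ⟨B', hB'E, -, hb, hB'e, hB'c⟩ := hdown 8 B (by omega) hB hB8
    exact (ha.tail (show R A' B' from ⟨hA'e, hA'c, hB'e, hB'c, hbot E _ _ hE hA'E hB'E⟩)).trans hb
  · obtain ⟨e, heV, he, hec⟩ : ∃ e, e ∉ V ∧ e * e = 1 ∧ ∀ a ∈ V, a * e = e * a := by
      by_cases hle : V ≤ E
      · obtain ⟨e, heE, heV⟩ := SetLike.not_le_iff_exists.mp (fun h : E ≤ V => by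
          have := card_le_of_le h; omega)
        exact ⟨e, heV, by rw [← sq, hE.2 e heE], fun a ha =>
          congrArg Subtype.val (hE.1.is_comm.comm (⟨a, hle ha⟩ : E) ⟨e, heE⟩)⟩
      · obtain ⟨e, -, h1, h2, h3⟩ := hstep V hV (by omega) hle
        exact ⟨e, h1, h2, h3⟩
    obtain ⟨h1, h2⟩ := card_sup_zpowers hV he heV hec
    exact ⟨_, le_sup_left, h1, by rw [h2, hV4]⟩

end Cfsg.Lib.EightConnected
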