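import Cfsg.Agent.InvolCalc.Dihedral
import Cfsg.Agent.Transfer.IndexPrimeTo
import Cfsg.Agent.PGroups.Basic

/-! Involutions when a subgroup contains the centralizers of its involutions. -/

set_option linter.style.haveILetI false
set_option linter.unusedSectionVars false

namespace Cfsg.Lib.Misc.EmbeddedInvolutions

open Subgroup Cfsg.Lib.InvolCalc

universe u

variable {G : Type u} [Group G] [Finite G] {M : Subgroup G}

theorem odd_product (hC : ∀ i ∈ M, orderOf i = 2 → centralizer ({i} : Set G) ≤ M) {i s : G} (hi : i ∈ M)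
    (hio : orderOf i = 2) (hs : s ∉ M) (hso : orderOf s = 2) : Odd (orderOf (i * s)) := by
  by_contra hodd
  rw [Nat.not_odd_iff_even] at hodd
  obtain ⟨h1, h2, h3⟩ := central_spec hio hso hodd
  set z := (i * s) ^ (orderOf (i * s) / 2)
  have hsi : i * i = 1 := sq_of_order_two hio
  have hz : z * i = i * z := h2
  have hzM : z ∈ M := hC i hi hio (mem_centralizer_singleton_iff.2 hz)
  exact hs (hC z hzM h1 (mem_centralizer_singleton_iff.2 h3.symm))

theorem isConj_of (hC : ∀ i ∈ M, orderOf i = 2 → centralizer ({i} : Set G) ≤ M) {i s : G} (hi : i ∈ M)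
    (hio : orderOf i = 2) (hs : s ∉ M) (hso : orderOf s = 2) : IsConj i s := by
  obtain ⟨d, -, hd⟩ := conj_of_odd hio hso (odd_product hC hi hio hs hso)
  exact isConj_iff.2 ⟨d, hd⟩

theorem all_conj (hM : Even (Nat.card M))
    (hC : ∀ i ∈ M, orderOf i = 2 → centralizer ({i} : Set G) ≤ M) (hcore : Odd (Nat.card M.normalCore)) :
    (∃ s : G, orderOf s = 2 ∧ s ∉ M) ∧ ∀ x y : G, orderOf x = 2 → orderOf y = 2 → IsConj x y := by
  obtain ⟨i, hi⟩ := exists_prime_orderOf_dvd_card' (G := M) 2 (even_iff_two_dvd.1 hM)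
  rw [← Subgroup.orderOf_coe] at hi
  obtain ⟨s, hso, hs⟩ : ∃ s : G, orderOf s = 2 ∧ s ∉ M := by
    by_contra h
    push Not at h
    have hle : normalClosure ({(i : G)} : Set G) ≤ M := by
      refine (closure_le _).2 fun x hx => ?_
      obtain ⟨y, hy, hc⟩ := Group.mem_conjugatesOfSet_iff.1 hx
      obtain ⟨g, rfl⟩ := isConj_iff.1 hc
      obtain rfl : y = i := hy
      exact h _ ((MulEquiv.orderOf_eq (MulAut.conj g) (i : G)).trans hi)
    have h1 : (i : G) ∈ M.normalCore := normal_le_normalCore.2 hle (subset_normalClosure rfl)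
    have h2 := orderOf_dvd_natCard (⟨(i : G), h1⟩ : M.normalCore)
    rw [Subgroup.orderOf_mk, hi] at h2
    exact Nat.not_even_iff_odd.2 hcore (even_iff_two_dvd.2 h2)
  have key : ∀ x : G, orderOf x = 2 → IsConj s x := fun x hx => by
    by_cases hxM : x ∈ M
    · exact (isConj_of hC hxM hx hs hso).symm
    · exact (isConj_of hC i.2 hi hs hso).symm.trans (isConj_of hC i.2 hi hxM hx)
  exact ⟨⟨s, hso, hs⟩, fun x y hx hy => (key x hx).symm.trans (key y hy)⟩

theorem conj_in_M (hM : Even (Nat.card M))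
    (hC : ∀ i ∈ M, orderOf i = 2 → centralizer ({i} : Set G) ≤ M) (hcore : Odd (Nat.card M.normalCore))
    (X : Sylow 2 M) (I : M) (hI : I ∈ (center ↥(X : Subgroup M)).map (X : Subgroup M).subtype)
    (hIo : orderOf I = 2) (hN : normalizer (((X : Subgroup M).map M.subtype : Subgroup G) : Set G) ≤ M) :
    ∀ g : G, g * (I : G) * g⁻¹ ∈ M → g ∈ M := by
  set X' := (X : Subgroup M).map M.subtype
  obtain ⟨w, hw, hwI⟩ := hI
  have hXI : ∀ x ∈ X', x * (I : G) = I * x := by
    rintro _ ⟨x, hx, rfl⟩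
    rw [← hwI]
    exact congrArg (fun z : (X : Subgroup M) => ((z : M) : G)) (mem_center_iff.1 hw ⟨x, hx⟩)
  -- `X'` is a Sylow subgroup of `G`
  have hX2 : IsPGroup 2 X' := X.2.map _
  have hX'max : ∀ R : Subgroup G, IsPGroup 2 R → X' ≤ R → R = X' := by
    intro R hR hle
    by_contra hne
    haveI : Group.IsNilpotent R := hR.isNilpotent
    obtain ⟨r, hr, hrX⟩ := SetLike.exists_of_lt
      (Group.normalizerCondition_of_isNilpotent (X'.subgroupOf R)
        (lt_top_iff_ne_top.2 fun h => hne (le_antisymm (subgroupOf_eq_top.1 h) hle)))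
    have hrN : (r : G) ∈ normalizer (X' : Set G) := mem_normalizer_iff.2 fun b => ⟨fun hb => by
      exact (mem_normalizer_iff.1 hr ⟨b, hle hb⟩).1 hb, fun hb => by
      have hb' : b ∈ R := by
        have := mul_mem (mul_mem (inv_mem r.2) (hle hb)) r.2
        simpa [mul_assoc] using this
      exact (mem_normalizer_iff.1 hr ⟨b, hb'⟩).2 hb⟩
    have hmax := X.is_maximal' (hR.comap_subtype (K := M)) fun x hx => hle ⟨x, hx, rfl⟩
    exact hrX ⟨⟨r, hN hrN⟩, hmax ▸ r.2, rfl⟩
  intro g hg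
  set j := g * (I : G) * g⁻¹
  have hjo : orderOf j = 2 :=
    ((MulEquiv.orderOf_eq (MulAut.conj g) (I : G)).trans (Subgroup.orderOf_coe I)).trans hIo
  set Xg := X'.map (MulAut.conj g).toMonoidHom
  have hXgM : Xg ≤ M := by
    refine le_trans ?_ (hC j hg hjo)
    rintro _ ⟨x, hx, rfl⟩
    refine mem_centralizer_singleton_iff.2 ?_
    show g * x * g⁻¹ * (g * I * g⁻¹) = g * I * g⁻¹ * (g * x * g⁻¹)
    calc g * x * g⁻¹ * (g * I * g⁻¹) = g * (x * I) * g⁻¹ := by group
      _ = g * (I * x) * g⁻¹ := by rw [hXI x hx]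
      _ = _ := by group
  obtain ⟨T, hT⟩ := ((hX2.map (MulAut.conj g).toMonoidHom).comap_subtype (K := M)).exists_le_sylow
  obtain ⟨m, hm⟩ := MulAction.exists_smul_eq M T X
  have hle : Xg.map (MulAut.conj (m : G)).toMonoidHom ≤ X' := by
    rintro _ ⟨y, hy, rfl⟩
    refine ⟨m * ⟨y, hXgM hy⟩ * m⁻¹, ?_, rfl⟩
    rw [← hm]
    exact ⟨_, hT (x := ⟨y, hXgM hy⟩) hy, rfl⟩
  have hmg : (m : G) * g ∈ normalizer (X' : Set G) := by
    refine mem_normalizer_iff_map_conj_eq.2 (eq_of_le_of_card_ge ?_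
      (card_map_of_injective (MulAut.conj _).injective).ge)
    rintro _ ⟨x, hx, rfl⟩
    have := hle ⟨_, ⟨x, hx, rfl⟩, rfl⟩
    simpa [mul_assoc] using this
  simpa using mul_mem (inv_mem m.2) (hN hmg)

theorem natCard_conjugates (x : G) :
    Nat.card {y : G // IsConj x y} = (centralizer ({x} : Set G)).index := by
  have h1 : Nat.card {y : G // IsConj x y} = Nat.card (MulAction.orbit (ConjAct G) x) := by
    refine Nat.card_congr (Equiv.subtypeEquivRight fun y => ?_)
    rw [ConjAct.mem_orbit_conjAct]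
    exact ⟨IsConj.symm, IsConj.symm⟩
  rw [h1, Nat.card_coe_set_eq, ← MulAction.index_stabilizer, ConjAct.stabilizer_eq_centralizer]
  rfl

theorem exists_odd_transitive (hM : Even (Nat.card M))
    (hC : ∀ i ∈ M, orderOf i = 2 → centralizer ({i} : Set G) ≤ M) (hcore : Odd (Nat.card M.normalCore))
    (I : G) (hI : I ∈ M) (hIo : orderOf I = 2)
    (hM1 : ∀ x : G, x ∈ M → orderOf x = 2 → ∃ m ∈ M, m * I * m⁻¹ = x) :
    ∃ D : Subgroup G, D ≤ M ∧ Odd (Nat.card D) ∧
      ∀ x : G, x ∈ M → orderOf x = 2 → ∃ d ∈ D, d * I * d⁻¹ = x := by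
  classical
  letI : Fintype G := Fintype.ofFinite G
  obtain ⟨⟨s0, hs0o, hs0⟩, hall⟩ := all_conj hM hC hcore
  set Inv : Finset G := Finset.univ.filter fun x => orderOf x = 2
  set InM : Finset G := Inv.filter fun x => x ∈ M
  set OutM : Finset G := Inv.filter fun x => x ∉ M
  have hInv : Inv.card = (centralizer ({I} : Set G)).index := by
    rw [← natCard_conjugates, Nat.card_eq_fintype_card, Fintype.card_subtype]
    congr 1
    ext x
    simp only [Inv, Finset.mem_filter, Finset.mem_univ, true_and]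
    refine ⟨fun hx => hall I x hIo hx, fun hc => ?_⟩
    obtain ⟨c, rfl⟩ := isConj_iff.1 hc
    exact (MulEquiv.orderOf_eq (MulAut.conj c) I).trans hIo
  set CM := (centralizer ({I} : Set G)).subgroupOf M
  have hInM : InM.card = CM.index := by
    have hCM : CM = centralizer ({⟨I, hI⟩} : Set M) := by
      ext z
      simp only [CM, mem_subgroupOf, mem_centralizer_singleton_iff]
      exact ⟨fun h => Subtype.ext h, fun h => congrArg Subtype.val h⟩
    rw [hCM, ← natCard_conjugates]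
    have e : {x // x ∈ InM} ≃ {y : M // IsConj (⟨I, hI⟩ : M) y} :=
      { toFun := fun x => ⟨⟨x.1, (Finset.mem_filter.1 x.2).2⟩, by
          obtain ⟨h1, h2⟩ := Finset.mem_filter.1 x.2
          obtain ⟨m, hm, he⟩ := hM1 x.1 h2 (Finset.mem_filter.1 h1).2
          exact isConj_iff.2 ⟨⟨m, hm⟩, Subtype.ext he⟩⟩
        invFun := fun y => ⟨y.1, Finset.mem_filter.2 ⟨Finset.mem_filter.2 ⟨Finset.mem_univ _, by
          obtain ⟨m, hm⟩ := isConj_iff.1 y.2
          rw [← hm]
          exact (MulEquiv.orderOf_eq (MulAut.conj (m : G)) I).trans hIo⟩, y.1.2⟩⟩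
        left_inv := fun x => rfl
        right_inv := fun y => rfl }
    rw [← Nat.card_congr e, Nat.card_eq_fintype_card, Fintype.card_coe]
  have hk : Inv.card = M.index * InM.card := by
    rw [hInv, hInM, mul_comm]
    exact (relIndex_mul_index (hC I hI hIo)).symm
  -- a coset with many involutions
  set B : Finset (G ⧸ M) := Finset.univ.erase ((1 : G) : G ⧸ M)
  have hBc : B.card + 1 = M.index := by
    rw [Finset.card_erase_add_one (Finset.mem_univ _), index_eq_card, Nat.card_eq_fintype_card,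
      Finset.card_univ]
  have hsplit : InM.card + OutM.card = Inv.card := Finset.card_filter_add_card_filter_not _
  have hmaps : ∀ x ∈ OutM, ((x : G) : G ⧸ M) ∈ B := fun x hx => Finset.mem_erase.2
    ⟨fun e => (Finset.mem_filter.1 hx).2 (by simpa using QuotientGroup.eq.1 e.symm), Finset.mem_univ _⟩
  have hBne : B.Nonempty :=
    ⟨_, hmaps s0 (Finset.mem_filter.2 ⟨Finset.mem_filter.2 ⟨Finset.mem_univ _, hs0o⟩, hs0⟩)⟩
  obtain ⟨b, hb, hfib⟩ := Finset.exists_le_card_fiber_of_mul_le_card_of_maps_to hmaps hBne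
    (n := InM.card) (by rw [← hBc, add_mul, one_mul] at hk; omega)
  have hm0 : 0 < InM.card := Finset.card_pos.2
    ⟨I, Finset.mem_filter.2 ⟨Finset.mem_filter.2 ⟨Finset.mem_univ _, hIo⟩, hI⟩⟩
  obtain ⟨t, ht⟩ := Finset.card_pos.1 (hm0.trans_le hfib)
  rw [Finset.mem_filter] at ht
  obtain ⟨htO, htb⟩ := ht
  have htM : t ∉ M := (Finset.mem_filter.1 htO).2
  have hto : orderOf t = 2 := (Finset.mem_filter.1 (Finset.mem_filter.1 htO).1).2
  have ht2 : t * t = 1 := sq_of_order_two hto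
  have hti : t⁻¹ = t := inv_of_order_two hto
  set D := M ⊓ M.map (MulAut.conj t).toMonoidHom
  have hDodd : Odd (Nat.card D) := by
    by_contra h
    rw [Nat.not_odd_iff_even, even_iff_two_dvd] at h
    -- `t` normalizes `D`
    have htD : t ∈ normalizer (D : Set G) := by
      refine mem_normalizer_iff_map_conj_eq.2 (eq_of_le_of_card_ge ?_
        (card_map_of_injective (MulAut.conj t).injective).ge)
      rintro _ ⟨d, hd, rfl⟩
      obtain ⟨h1, e, he, hed⟩ := mem_inf.1 hd
      refine mem_inf.2 ⟨?_, d, h1, rfl⟩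
      rw [← hed]
      show t * (t * e * t⁻¹) * t⁻¹ ∈ M
      rwa [show t * (t * e * t⁻¹) * t⁻¹ = (t * t) * e * (t * t)⁻¹ by group, ht2, one_mul, inv_one, mul_one]
    set W := D ⊔ zpowers t
    have hWn : W ≤ normalizer (D : Set G) := sup_le le_normalizer (zpowers_le.2 htD)
    haveI : (D.subgroupOf W).Normal := normal_subgroupOf_of_le_normalizer hWn
    have h2 : IsPGroup 2 (zpowers t) := IsPGroup.of_card (n := 1) (by rw [Nat.card_zpowers, hto, pow_one])
    obtain ⟨P, hP⟩ := (h2.comap_subtype (K := W)).exists_le_sylow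
    set N : Subgroup P := (D.subgroupOf W).subgroupOf (P : Subgroup W)
    haveI : N.Normal := normal_subgroupOf
    have hNne : N ≠ ⊥ := by
      intro hN
      obtain ⟨A, hA⟩ := Cfsg.Lib.Transfer.exists_sylow_subgroupOf P (D.subgroupOf W)
      have h3 := A.dvd_card_of_dvd_card
        (h.trans (Nat.card_congr (subgroupOfEquivOfLe (le_sup_left : D ≤ W)).toEquiv).symm.dvd)
      rw [hA] at h3
      have h4 : (P : Subgroup W).subgroupOf (D.subgroupOf W) = ⊥ := by
        refine eq_bot_iff.2 fun z hz => ?_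
        have h5 : (⟨(z : W), hz⟩ : (P : Subgroup W)) ∈ N := z.2
        rw [hN, mem_bot] at h5
        exact mem_bot.2 (Subtype.ext (congrArg (fun q : (P : Subgroup W) => (q : W)) h5))
      rw [h4, card_bot] at h3
      exact absurd h3 (by norm_num)
    obtain ⟨z, hzN, hzc, hzo⟩ := Cfsg.Lib.PGroups.exists_mem_center_of_normal_ne_bot P.2 hNne
    have hzD : ((z : W) : G) ∈ D := hzN
    have hzo' : orderOf ((z : W) : G) = 2 := by rw [Subgroup.orderOf_coe, Subgroup.orderOf_coe, hzo]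
    refine htM (hC _ (mem_inf.1 hzD).1 hzo' (mem_centralizer_singleton_iff.2 ?_))
    exact congrArg (fun q : (P : Subgroup W) => ((q : W) : G))
      (mem_center_iff.1 hzc ⟨⟨t, mem_sup_right (mem_zpowers t)⟩, hP (mem_zpowers t)⟩)
  refine ⟨D, inf_le_left, hDodd, ?_⟩
  have hfacts : ∀ s ∈ OutM.filter (fun x => ((x : G) : G ⧸ M) = b), t * s ∈ D := by
    intro s hs
    obtain ⟨hsO, hsb⟩ := Finset.mem_filter.1 hs
    have h1 : t * s ∈ M := by
      have := QuotientGroup.eq.1 (htb.trans hsb.symm)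
      rwa [hti] at this
    refine mem_inf.2 ⟨h1, (t * s)⁻¹, inv_mem h1, ?_⟩
    show t * (t * s)⁻¹ * t⁻¹ = t * s
    rw [mul_inv_rev, inv_of_order_two (Finset.mem_filter.1 (Finset.mem_filter.1 hsO).1).2, hti]
    simp [mul_assoc, ht2]
  set f : G → G := fun s => (t * s) * I * (t * s)⁻¹
  have hfmaps : ∀ s ∈ OutM.filter (fun x => ((x : G) : G ⧸ M) = b), f s ∈ InM := fun s hs => by
    have h1 := (mem_inf.1 (hfacts s hs)).1
    exact Finset.mem_filter.2 ⟨Finset.mem_filter.2 ⟨Finset.mem_univ _,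
      (MulEquiv.orderOf_eq (MulAut.conj (t * s)) I).trans hIo⟩, mul_mem (mul_mem h1 hI) (inv_mem h1)⟩
  have hinj : ∀ s ∈ OutM.filter (fun x => ((x : G) : G ⧸ M) = b),
      ∀ s' ∈ OutM.filter (fun x => ((x : G) : G ⧸ M) = b), f s = f s' → s = s' := by
    intro s hs s' hs' he
    have hso : orderOf s = 2 :=
      (Finset.mem_filter.1 (Finset.mem_filter.1 (Finset.mem_filter.1 hs).1).1).2
    have hso' : orderOf s' = 2 :=
      (Finset.mem_filter.1 (Finset.mem_filter.1 (Finset.mem_filter.1 hs').1).1).2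
    have hsM : s ∉ M := (Finset.mem_filter.1 (Finset.mem_filter.1 hs).1).2
    set c := s * s'
    have hcI : c * I * c⁻¹ = I := by
      have h1 : (t * s)⁻¹ * (t * s') = c := by
        rw [mul_inv_rev, inv_of_order_two hso]
        simp [c, mul_assoc, ← mul_assoc t⁻¹ t]
      rw [← h1]
      calc (t * s)⁻¹ * (t * s') * I * ((t * s)⁻¹ * (t * s'))⁻¹
          = (t * s)⁻¹ * ((t * s') * I * (t * s')⁻¹) * (t * s) := by group
        _ = (t * s)⁻¹ * ((t * s) * I * (t * s)⁻¹) * (t * s) := by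
          have he' : (t * s) * I * (t * s)⁻¹ = (t * s') * I * (t * s')⁻¹ := he
          rw [← he']
        _ = I := by group
    have hcD : c ∈ D := by
      have h1 := mul_mem (inv_mem (hfacts s hs)) (hfacts s' hs')
      rw [mul_inv_rev, inv_of_order_two hso] at h1
      simpa [c, mul_assoc, ← mul_assoc t⁻¹ t] using h1
    have hcs : s * c * s⁻¹ = c⁻¹ := by
      rw [mul_inv_rev, inv_of_order_two hso, inv_of_order_two hso']
      simp [c, ← mul_assoc, sq_of_order_two hso]
    obtain ⟨d, hd, hde⟩ := conj_of_odd hIo hso (odd_product hC hI hIo hsM hso)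
    -- the elements acting as a power map on `⟨c⟩`
    let Nc : Subgroup G :=
      { carrier := {g | g * c * g⁻¹ = c ∨ g * c * g⁻¹ = c⁻¹}
        one_mem' := Or.inl (by group)
        mul_mem' := fun {a b} ha hb => by
          simp only [Set.mem_ofPred_eq] at ha hb ⊢
          rw [show a * b * c * (a * b)⁻¹ = a * (b * c * b⁻¹) * a⁻¹ by group]
          rcases hb with hb | hb <;> rw [hb]
          · exact ha
          · rw [show a * c⁻¹ * a⁻¹ = (a * c * a⁻¹)⁻¹ by group]
            rcases ha with ha | ha <;> rw [ha]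
            · exact Or.inr rfl
            · exact Or.inl (inv_inv c)
        inv_mem' := fun {a} ha => by
          simp only [Set.mem_ofPred_eq] at ha ⊢
          rcases ha with ha | ha
          · left
            calc a⁻¹ * c * a⁻¹⁻¹ = a⁻¹ * (a * c * a⁻¹) * a := by rw [ha, inv_inv]
              _ = c := by group
          · right
            calc a⁻¹ * c * a⁻¹⁻¹ = (a⁻¹ * c⁻¹ * a)⁻¹ := by group
              _ = (a⁻¹ * (a * c * a⁻¹) * a)⁻¹ := by rw [ha]
              _ = c⁻¹ := by group }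
    have hIc : I * c * I⁻¹ = c := by
      have : c * I = I * c := mul_inv_eq_iff_eq_mul.1 hcI
      rw [← this, mul_inv_cancel_right]
    have hdN : d ∈ Nc := (closure_le (K := Nc)).2 (by
      rintro x (rfl | rfl)
      · exact Or.inl hIc
      · exact Or.inr hcs) hd
    have h5 : s * c * s⁻¹ = c := by
      rw [← hde, show d * I * d⁻¹ * c * (d * I * d⁻¹)⁻¹ = d * (I * (d⁻¹ * c * d) * I⁻¹) * d⁻¹ by group]
      rcases inv_mem hdN with hd' | hd'
      · rw [inv_inv] at hd'
        rw [hd', hIc]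
        calc d * c * d⁻¹ = d * (d⁻¹ * c * d) * d⁻¹ := by rw [hd']
          _ = c := by group
      · rw [inv_inv] at hd'
        rw [hd', show I * c⁻¹ * I⁻¹ = (I * c * I⁻¹)⁻¹ by group, hIc]
        calc d * c⁻¹ * d⁻¹ = d * (d⁻¹ * c * d) * d⁻¹ := by rw [hd']
          _ = c := by group
    rw [hcs] at h5
    have hc2 : c * c = 1 := by
      calc c * c = c * c⁻¹ := by rw [h5]
        _ = 1 := mul_inv_cancel c
    have hc1 : c = 1 := by
      by_contra hne
      have h6 := orderOf_dvd_natCard (⟨c, hcD⟩ : D)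
      rw [Subgroup.orderOf_mk, order_two_of_mul_self hc2 hne] at h6
      exact Nat.not_even_iff_odd.2 hDodd (even_iff_two_dvd.2 h6)
    rw [← inv_of_order_two hso]
    exact inv_eq_of_mul_eq_one_right hc1
  intro x hx hxo
  have hsurj := Finset.surj_on_of_inj_on_of_card_le (fun s _ => f s) hfmaps
    (fun s s' hs hs' he => hinj s hs s' hs' he) hfib x
    (Finset.mem_filter.2 ⟨Finset.mem_filter.2 ⟨Finset.mem_univ _, hxo⟩, hx⟩)
  obtain ⟨s, hs, he⟩ := hsurj
  exact ⟨t * s, hfacts s hs, he.symm⟩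

theorem main (hM : Even (Nat.card M))
    (hC : ∀ i ∈ M, orderOf i = 2 → centralizer ({i} : Set G) ≤ M) (hcore : Odd (Nat.card M.normalCore))
    (X : Sylow 2 M) (I : M) (hI : I ∈ (center ↥(X : Subgroup M)).map (X : Subgroup M).subtype)
    (hIo : orderOf I = 2) (hN : normalizer (((X : Subgroup M).map M.subtype : Subgroup G) : Set G) ≤ M) :
    (∀ x y : M, orderOf x = 2 → orderOf y = 2 → IsConj x y) ∧
      ∃ M₀ : Subgroup M, Odd (Nat.card M₀) ∧
        ∀ m : M, ∃ a ∈ M₀, ∃ c ∈ centralizer ({I} : Set M), m = a * c := by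
  have hM1 : ∀ x : G, x ∈ M → orderOf x = 2 → ∃ m ∈ M, m * (I : G) * m⁻¹ = x := fun x hx hxo => by
    obtain ⟨g, hg⟩ := isConj_iff.1
      ((all_conj hM hC hcore).2 (I : G) x (by rw [Subgroup.orderOf_coe, hIo]) hxo)
    exact ⟨g, conj_in_M hM hC hcore X I hI hIo hN g (hg ▸ hx), hg⟩
  refine ⟨fun x y hx hy => ?_, ?_⟩
  · obtain ⟨m, hm, hmx⟩ := hM1 x x.2 (by rw [Subgroup.orderOf_coe, hx])
    obtain ⟨n, hn, hny⟩ := hM1 y y.2 (by rw [Subgroup.orderOf_coe, hy])
    exact (isConj_iff.2 ⟨⟨m, hm⟩, Subtype.ext hmx⟩ : IsConj I x).symm.trans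
      (isConj_iff.2 ⟨⟨n, hn⟩, Subtype.ext hny⟩)
  obtain ⟨D, hDM, hDodd, hD⟩ := exists_odd_transitive hM hC hcore (I : G) I.2
    (by rw [Subgroup.orderOf_coe, hIo]) hM1
  refine ⟨D.subgroupOf M, ?_, fun m => ?_⟩
  · rwa [Nat.card_congr (subgroupOfEquivOfLe hDM).toEquiv]
  · obtain ⟨d, hd, hde⟩ := hD _ (mul_mem (mul_mem m.2 I.2) (inv_mem m.2))
      ((MulEquiv.orderOf_eq (MulAut.conj (m : G)) (I : G)).trans (by rw [Subgroup.orderOf_coe, hIo]))
    refine ⟨⟨d, hDM hd⟩, hd, ⟨d, hDM hd⟩⁻¹ * m, mem_centralizer_singleton_iff.2 (Subtype.ext ?_), by group⟩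
    show d⁻¹ * (m : G) * I = I * (d⁻¹ * m)
    calc d⁻¹ * (m : G) * I = d⁻¹ * (m * I * (m : G)⁻¹) * m := by group
      _ = d⁻¹ * (d * I * d⁻¹) * m := by rw [hde]
      _ = _ := by group

end Cfsg.Lib.Misc.EmbeddedInvolutions
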