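import Mathlib
import Cfsg.Agent.Components.PComponents
import Cfsg.Agent.Coprime.Fitting
import Cfsg.Prelude.Def_Balance

/-! The extended 2-layer. -/

set_option linter.style.haveILetI false

namespace Cfsg.Lib.Components

variable {X : Type*} [Group X]

/-- `O(C_X(T))` for a subgroup `T`. -/
noncomputable abbrev oddCoreCent (T : Subgroup X) : Subgroup X :=
  (oddCore ↥(Subgroup.centralizer (T : Set X))).map
    (Subgroup.centralizer (T : Set X)).subtype

theorem map_conj_oddCoreCent_le [Finite X] (T : Subgroup X) (g : X) :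
    (oddCoreCent T).map (MulAut.conj g).toMonoidHom ≤
      oddCoreCent (T.map (MulAut.conj g).toMonoidHom) := by
  set C : Subgroup X := Subgroup.centralizer (T : Set X) with hC
  set C' : Subgroup X :=
    Subgroup.centralizer ((T.map (MulAut.conj g).toMonoidHom : Subgroup X) : Set X) with hC'
  have hmap : C.map (MulAut.conj g).toMonoidHom = C' := by
    ext x
    constructor
    · rintro ⟨c, hc, rfl⟩
      refine Subgroup.mem_centralizer_iff.2 ?_
      rintro _ ⟨t, ht, rfl⟩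
      rw [← map_mul, ← map_mul, Subgroup.mem_centralizer_iff.1 hc t ht]
    · intro hx
      refine ⟨g⁻¹ * x * g, ?_, by simp [mul_assoc]⟩
      refine Subgroup.mem_centralizer_iff.2 fun t ht => ?_
      have h1 := Subgroup.mem_centralizer_iff.1 hx (g * t * g⁻¹) ⟨t, ht, rfl⟩
      have h2 := congrArg (fun u => g⁻¹ * u * g) h1
      simpa [mul_assoc] using h2
  let e : C ≃* C' := (C.equivMapOfInjective _ (MulAut.conj g).injective).trans
    (MulEquiv.subgroupCongr hmap)
  rintro _ ⟨_, ⟨c, hc, rfl⟩, rfl⟩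
  refine ⟨e c, ?_, rfl⟩
  rw [SetLike.mem_coe, oddCore, ← pPrimeCore_map_equiv e]
  exact ⟨c, hc, rfl⟩

theorem extendedTwoLayer_normal [Finite X] : (extendedTwoLayer X).Normal := by
  haveI : (oddCore X).Normal := inferInstanceAs (pPrimeCore 2 X).Normal
  haveI : (pPrimePCore 2 X).Normal := by rw [pPrimePCore]; infer_instance
  haveI : (pLayer 2 X ⊔ pPrimePCore 2 X).Normal := Subgroup.sup_normal _ _
  haveI hL : (pLayer 2 X ⊔ oddCore X).Normal := Subgroup.sup_normal _ _
  have key : ∀ g : X, (extendedTwoLayer X).map (MulAut.conj g).toMonoidHom ≤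
      extendedTwoLayer X := by
    intro g
    rw [extendedTwoLayer, Subgroup.map_sup, Subgroup.map_iSup]
    refine sup_le ?_ (iSup_le fun T => ?_)
    · refine le_trans ?_ le_sup_left
      rintro _ ⟨x, hx, rfl⟩
      exact hL.conj_mem x hx g
    · refine le_trans (map_conj_oddCoreCent_le _ g) (le_trans ?_ le_sup_right)
      let φ : MulAut ↥(pLayer 2 X ⊔ pPrimePCore 2 X) := MulAut.conjNormal g
      refine le_trans (le_of_eq (congrArg oddCoreCent ?_))
        (le_iSup (fun S : Sylow 2 ↥(pLayer 2 X ⊔ pPrimePCore 2 X) =>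
          oddCoreCent ((S : Subgroup _).map (pLayer 2 X ⊔ pPrimePCore 2 X).subtype)) (φ • T))
      ext x
      constructor
      · rintro ⟨_, ⟨t, ht, rfl⟩, rfl⟩
        exact ⟨φ t, ⟨t, ht, rfl⟩, rfl⟩
      · rintro ⟨_, ⟨t, ht, rfl⟩, rfl⟩
        exact ⟨t, ⟨t, ht, rfl⟩, rfl⟩
  refine ⟨fun x hx g => key g ⟨x, hx, rfl⟩⟩

theorem pPrimeCore_le_pPrimePCore' : pPrimeCore 2 X ≤ pPrimePCore 2 X := fun x hx => by
  show QuotientGroup.mk' (pPrimeCore 2 X) x ∈ pCore 2 (X ⧸ pPrimeCore 2 X)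
  rw [QuotientGroup.mk'_apply, (QuotientGroup.eq_one_iff x).2 hx]
  exact one_mem _

theorem pPrimePCore_le_sup [Finite X] (M : Subgroup X) (hOM : pPrimeCore 2 X ≤ M)
    (hPM : pPrimePCore 2 X ≤ M) (T : Sylow 2 M) :
    pPrimePCore 2 X ≤ pPrimeCore 2 X ⊔ (T : Subgroup M).map M.subtype := by
  set N : Subgroup M := (pPrimeCore 2 X).subgroupOf M with hN
  haveI : N.Normal := Subgroup.normal_subgroupOf
  set R : Subgroup M := (pPrimePCore 2 X).subgroupOf M with hR
  haveI : (pPrimePCore 2 X).Normal := by rw [pPrimePCore]; infer_instance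
  haveI : R.Normal := Subgroup.normal_subgroupOf
  haveI : (R.map (QuotientGroup.mk' N)).Normal :=
    Subgroup.Normal.map inferInstance _ (QuotientGroup.mk'_surjective N)
  have hRp : IsPGroup 2 ↥(R.map (QuotientGroup.mk' N)) := by
    rintro ⟨_, r, hr, rfl⟩
    obtain ⟨k, hk⟩ := (isPGroup_pCore (G := X ⧸ pPrimeCore 2 X) 2) ⟨_, hr⟩
    refine ⟨k, Subtype.ext ?_⟩
    show (QuotientGroup.mk' N r) ^ 2 ^ k = 1
    rw [← map_pow, QuotientGroup.mk'_apply, QuotientGroup.eq_one_iff]
    have := congrArg Subtype.val hk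
    simp only [SubgroupClass.coe_pow, OneMemClass.coe_one] at this
    rw [← map_pow, QuotientGroup.mk'_apply, QuotientGroup.eq_one_iff] at this
    exact this
  have hle : R.map (QuotientGroup.mk' N) ≤
      ((T.mapSurjective (QuotientGroup.mk'_surjective N) : Sylow 2 _) : Subgroup (M ⧸ N)) :=
    le_trans (le_sSup (show R.map (QuotientGroup.mk' N) ∈
      {K : Subgroup (M ⧸ N) | K.Normal ∧ IsPGroup 2 K} from ⟨inferInstance, hRp⟩))
      (Cfsg.Lib.Coprime.pCore_le_sylow 2 _)
  intro x hx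
  obtain ⟨t, ht, htx⟩ := hle ⟨(⟨x, hPM hx⟩ : M), hx, rfl⟩
  have hd : ((⟨x, hPM hx⟩ : M)⁻¹ * t : M) ∈ N := QuotientGroup.eq.1 htx.symm
  have hd' : x⁻¹ * (t : X) ∈ pPrimeCore 2 X := hd
  have := mul_mem (Subgroup.mem_sup_right (S := pPrimeCore 2 X) (⟨t, ht, rfl⟩ :
      (t : X) ∈ (T : Subgroup M).map M.subtype))
    (Subgroup.mem_sup_left (T := (T : Subgroup M).map M.subtype) (inv_mem hd'))
  simpa using this

theorem oddCoreCent_sylow_le [Finite X] (M J : Subgroup X) (T : Sylow 2 M)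
    (hMJ : M ≤ Subgroup.normalizer (J : Set X))
    (hT : oddCoreCent ((T : Subgroup M).map M.subtype) ≤ J) (S : Sylow 2 M) :
    oddCoreCent ((S : Subgroup M).map M.subtype) ≤ J := by
  set T' : Subgroup X := (T : Subgroup M).map M.subtype with hT'
  obtain ⟨m, hm⟩ := MulAction.exists_smul_eq M S T
  have hS : (S : Subgroup M).map M.subtype = T'.map (MulAut.conj (m : X)⁻¹).toMonoidHom := by
    rw [hT', ← hm]
    ext x
    constructor
    · rintro ⟨s, hs, rfl⟩
      exact ⟨(m : X) * s * (m : X)⁻¹, ⟨_, ⟨s, hs, rfl⟩, rfl⟩, by simp [mul_assoc]⟩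
    · rintro ⟨_, ⟨_, ⟨s, hs, rfl⟩, rfl⟩, rfl⟩
      exact ⟨s, hs, by simp [mul_assoc]⟩
  rw [hS]
  intro x hx
  have hback := map_conj_oddCoreCent_le (T'.map (MulAut.conj (m : X)⁻¹).toMonoidHom) (m : X)
    ⟨x, hx, rfl⟩
  have hTT : (T'.map (MulAut.conj (m : X)⁻¹).toMonoidHom).map (MulAut.conj (m : X)).toMonoidHom
      = T' := by
    rw [Subgroup.map_map]
    convert Subgroup.map_id T' using 2
    ext y; simp [mul_assoc]
  rw [hTT] at hback
  exact (Subgroup.mem_normalizer_iff.1 (hMJ m.2) x).2 (hT hback)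

theorem normalizer_join [Finite X] (M : Subgroup X) (hOM : pPrimeCore 2 X ≤ M)
    (hPM : pPrimePCore 2 X ≤ M) (hM : M ≤ pLayer 2 X ⊔ pPrimePCore 2 X) (T : Sylow 2 M) :
    M ≤ Subgroup.normalizer ((pLayer 2 X ⊔ oddCore X ⊔
      oddCoreCent ((T : Subgroup M).map M.subtype) : Subgroup X) : Set X) := by
  haveI : (oddCore X).Normal := inferInstanceAs (pPrimeCore 2 X).Normal
  haveI hL : (pLayer 2 X ⊔ oddCore X).Normal := Subgroup.sup_normal _ _
  set T' : Subgroup X := (T : Subgroup M).map M.subtype with hT'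
  set J : Subgroup X := pLayer 2 X ⊔ oddCore X ⊔ oddCoreCent T' with hJ
  have h1 : pLayer 2 X ⊔ oddCore X ≤ Subgroup.normalizer (J : Set X) :=
    le_sup_left.trans Subgroup.le_normalizer
  have h2 : T' ≤ Subgroup.normalizer (J : Set X) := by
    intro t ht
    have hmap : ∀ s ∈ T', J.map (MulAut.conj s).toMonoidHom ≤ J := by
      intro s hs
      rw [hJ, Subgroup.map_sup]
      refine sup_le ?_ ?_
      · refine le_trans ?_ le_sup_left
        rintro _ ⟨x, hx, rfl⟩
        exact hL.conj_mem x hx s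
      · refine le_trans ?_ le_sup_right
        rintro _ ⟨_, ⟨c, hc, rfl⟩, rfl⟩
        refine ⟨c, hc, ?_⟩
        have h3 := Subgroup.mem_centralizer_iff.1 c.2 s hs
        show (c : X) = s * c * s⁻¹
        rw [h3, mul_inv_cancel_right]
    refine Subgroup.mem_normalizer_iff.2 fun x => ⟨fun hx => hmap t ht ⟨x, hx, rfl⟩, fun hx => ?_⟩
    have := hmap t⁻¹ (inv_mem ht) ⟨_, hx, rfl⟩
    simpa [mul_assoc] using this
  refine hM.trans (sup_le (le_sup_left.trans h1) ((pPrimePCore_le_sup M hOM hPM T).trans ?_))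
  exact sup_le (le_sup_right.trans h1) h2

theorem extendedTwoLayer_eq [Finite X] (T : Sylow 2 ↥(pLayer 2 X ⊔ pPrimePCore 2 X)) :
    extendedTwoLayer X = pLayer 2 X ⊔ oddCore X ⊔
      oddCoreCent ((T : Subgroup ↥(pLayer 2 X ⊔ pPrimePCore 2 X)).map
        (pLayer 2 X ⊔ pPrimePCore 2 X).subtype) := by
  refine le_antisymm (sup_le le_sup_left (iSup_le fun S => ?_)) (sup_le le_sup_left ?_)
  · exact oddCoreCent_sylow_le _ _ T (normalizer_join _
      (pPrimeCore_le_pPrimePCore'.trans le_sup_right) le_sup_right le_rfl T) le_sup_right S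
  · refine le_trans ?_ le_sup_right
    exact le_iSup_of_le T le_rfl

end Cfsg.Lib.Components
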