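import Cfsg.Agent.Chars.Extraspecial
import Cfsg.Agent.PGroups.Basic
import Cfsg.Agent.Components.GenFitting

/-!
Double centralizers in extraspecial groups and the action of an outer involution.
-/

set_option linter.unusedSectionVars false

namespace Cfsg.Lib.ExtraAction

open Subgroup
open scoped commutatorElement

universe u

variable {E : Type u} [Group E] [Finite E] {p : ℕ} [hp : Fact p.Prime]

theorem index_centralizer_le (h : Cfsg.IsExtraspecial p E) (x : E) :
    (centralizer ({x} : Set E)).index ≤ p := by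
  have hmem : ∀ y : E, ⁅y, x⁆ ∈ center E := fun y => by
    rw [← h.1.2.2, _root_.commutator_def]; exact commutator_mem_commutator (mem_top y) (mem_top x)
  let f : E ⧸ centralizer ({x} : Set E) → center E := Quotient.lift (fun y => ⟨⁅y, x⁆, hmem y⟩) (by
    intro a b hab
    have hc := mem_centralizer_singleton_iff.mp (QuotientGroup.leftRel_apply.mp hab)
    refine Subtype.ext ?_
    show ⁅a, x⁆ = ⁅b, x⁆
    have e : ⁅b, x⁆ = a * (a⁻¹ * b * x * (a⁻¹ * b)⁻¹) * a⁻¹ * x⁻¹ := by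
      simp only [commutatorElement_def]; group
    rw [e, hc, mul_inv_cancel_right, commutatorElement_def])
  have hf : Function.Injective f := by
    intro a b
    induction a using Quotient.inductionOn with | h a => ?_
    induction b using Quotient.inductionOn with | h b => ?_
    intro hab
    refine Quotient.sound (QuotientGroup.leftRel_apply.mpr (mem_centralizer_singleton_iff.mpr ?_))
    have h1 : ⁅a, x⁆ = ⁅b, x⁆ := congrArg Subtype.val hab
    simp only [commutatorElement_def, mul_left_inj] at h1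
    calc a⁻¹ * b * x = a⁻¹ * (b * x * b⁻¹) * b := by group
      _ = a⁻¹ * (a * x * a⁻¹) * b := by rw [h1]
      _ = x * (a⁻¹ * b) := by group
  rw [← h.2]
  exact Nat.card_le_card_of_injective f hf

theorem mul_card_le {A B : Subgroup E} (h : Cfsg.IsExtraspecial p E) (hlt : A < B) :
    p * Nat.card A ≤ Nat.card B := by
  obtain ⟨a, ha⟩ := IsPGroup.iff_card.mp (h.1.1.to_subgroup A)
  obtain ⟨b, hb⟩ := IsPGroup.iff_card.mp (h.1.1.to_subgroup B)
  have hcard : Nat.card A < Nat.card B :=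
    lt_of_le_of_ne (card_le_of_le hlt.le) fun e => hlt.ne (eq_of_le_of_card_ge hlt.le e.ge)
  rw [ha, hb] at hcard ⊢
  rw [← pow_succ']
  exact Nat.pow_le_pow_right hp.out.pos ((Nat.pow_lt_pow_iff_right hp.out.one_lt).mp hcard)

/-- `|D| |C(D)|` does not decrease -/
theorem mul_card_mono (h : Cfsg.IsExtraspecial p E) : ∀ n : ℕ, ∀ D D' : Subgroup E, D ≤ D' →
    Nat.card D' - Nat.card D ≤ n →
    Nat.card D * Nat.card (centralizer (D : Set E)) ≤ Nat.card D' * Nat.card (centralizer (D' : Set E)) := by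
  intro n
  induction n with
  | zero =>
    intro D D' hle hn
    rw [eq_of_le_of_card_ge hle (by omega)]
  | succ n ih =>
    intro D D' hle hn
    rcases eq_or_lt_of_le hle with e | hlt
    · rw [e]
    obtain ⟨x, hxD', hxD⟩ := SetLike.exists_of_lt hlt
    set D₁ := D ⊔ zpowers x
    have hD₁ : D₁ ≤ D' := sup_le hle (zpowers_le.mpr hxD')
    have hlt₁ : D < D₁ := lt_of_le_not_ge le_sup_left fun e => hxD (e (mem_sup_right (mem_zpowers x)))
    have hp2 := hp.out.two_le
    have hc : p * Nat.card D ≤ Nat.card D₁ := mul_card_le h hlt₁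
    have hpos : 0 < Nat.card D := Nat.card_pos
    have h2 : 2 * Nat.card D ≤ p * Nat.card D := Nat.mul_le_mul_right _ hp2
    have hstep : Nat.card D * Nat.card (centralizer (D : Set E)) ≤
        Nat.card D₁ * Nat.card (centralizer (D₁ : Set E)) := by
      have hCle : Nat.card (centralizer (D : Set E)) ≤ p * Nat.card (centralizer (D₁ : Set E)) := by
        have hC : centralizer (D : Set E) ⊓ centralizer ({x} : Set E) ≤ centralizer (D₁ : Set E) := by
          rw [le_centralizer_iff]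
          refine sup_le ?_ (zpowers_le.mpr (mem_centralizer_iff.mpr fun y hy =>
            (mem_centralizer_singleton_iff.mp hy.2)))
          exact (le_centralizer_iff.mp le_rfl).trans (centralizer_le (s := (↑(centralizer (D : Set E) ⊓ centralizer ({x} : Set E)) : Set E)) fun y hy => hy.1)
        refine le_trans ?_ (Nat.mul_le_mul_left p (card_le_of_le hC))
        rw [← relIndex_bot_left (centralizer (D : Set E)),
          ← relIndex_mul_relIndex ⊥ (centralizer (D : Set E) ⊓ centralizer ({x} : Set E)) _ bot_le inf_le_left,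
          relIndex_bot_left, mul_comm, inf_relIndex_left]
        exact Nat.mul_le_mul_right _ (((relIndex_le_of_le_right le_top
          (by rw [relIndex_top_right]; exact index_ne_zero_of_finite)).trans_eq (relIndex_top_right _)).trans (index_centralizer_le h x))
      calc _ ≤ Nat.card D * (p * Nat.card (centralizer (D₁ : Set E))) := Nat.mul_le_mul_left _ hCle
        _ = (p * Nat.card D) * Nat.card (centralizer (D₁ : Set E)) := by ring
        _ ≤ _ := Nat.mul_le_mul_right _ hc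
    exact hstep.trans (ih D₁ D' hD₁ (by have := card_le_of_le hD₁; omega))

theorem double_centralizer (h : Cfsg.IsExtraspecial p E) (D : Subgroup E) (hD : center E ≤ D) :
    centralizer (centralizer (D : Set E) : Set E) = D := by
  have hf : ∀ D : Subgroup E, center E ≤ D →
      Nat.card D * Nat.card (centralizer (D : Set E)) = p * Nat.card E := by
    intro D hD
    have h1 : centralizer ((center E : Subgroup E) : Set E) = ⊤ :=
      eq_top_iff.mpr fun y _ => mem_centralizer_iff.mpr fun c hc => (mem_center_iff.mp hc y).symm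
    refine le_antisymm ((mul_card_mono h _ D ⊤ le_top le_rfl).trans_eq ?_)
      (le_of_eq_of_le ?_ (mul_card_mono h _ (center E) D hD le_rfl))
    · rw [coe_top, centralizer_univ, card_top, h.2, mul_comm]
    · rw [h1, card_top, h.2]
  have h1 := hf D hD
  have h2 := hf (centralizer (D : Set E)) (center_le_centralizer _)
  refine (eq_of_le_of_card_ge (le_centralizer_iff.mpr le_rfl) ?_).symm
  rw [← h2, mul_comm] at h1
  exact (Nat.eq_of_mul_eq_mul_left Nat.card_pos h1).ge

variable {X : Type u} [Group X] [Finite X]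

/-- an involution acting on a self-centralizing extraspecial subgroup -/
theorem outer_involution (Q : Subgroup X) [Q.Normal] (hE : Cfsg.IsExtraspecial 2 Q)
    (hC : centralizer (Q : Set X) ≤ Q) {z : X} (hz : z ∈ center X) (hz2 : orderOf z = 2)
    {α : X} (hα : orderOf α = 2) (hαQ : α ∉ Q) (Q₀ : Subgroup X)
    (hQ₀ : ∀ q : X, q ∈ Q₀ ↔ q ∈ Q ∧ α * q * α⁻¹ * q⁻¹ ∈ zpowers z) :
    closure ((fun q => α * q * α⁻¹ * q⁻¹) '' (Q : Set X)) = Q₀ ⊓ centralizer (Q₀ : Set X) ∧
      (¬ Q₀ ≤ (Q ⊓ centralizer ({α} : Set X)) ⊔ zpowers z → ∃ q ∈ Q, q * α * q⁻¹ = α * z) := by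
  haveI : Fact (Nat.Prime 2) := ⟨Nat.prime_two⟩
  have hzQ : z ∈ Q := hC (center_le_centralizer _ hz)
  have hz1 : z ≠ 1 := fun e => by rw [e, orderOf_one] at hz2; omega
  have hαinv : α⁻¹ = α := inv_eq_of_mul_eq_one_right (by rw [← pow_two, ← hα, pow_orderOf_eq_one])
  have hzC : (⟨z, hzQ⟩ : Q) ∈ center Q :=
    mem_center_iff.mpr fun y => Subtype.ext (mem_center_iff.mp hz _)
  have hcen := Cfsg.Lib.Chars.zpowers_eq_center hE hzC fun e => hz1 (congrArg Subtype.val e)
  have hzX : zpowers z ≤ center X := zpowers_le.mpr hz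
  have hcm : ∀ c ∈ zpowers z, ∀ y : X, y * c = c * y := fun c hc y => mem_center_iff.mp (hzX hc) y
  have hcenmem : ∀ y : Q, y ∈ center Q → (y : X) ∈ zpowers z := fun y hy => by
    rw [← hcen] at hy
    obtain ⟨i, rfl⟩ := hy
    exact ⟨i, rfl⟩
  have hβ : ∀ x ∈ Q, ∀ y ∈ Q, ⁅x, y⁆ ∈ zpowers z := fun x hx y hy => by
    refine hcenmem ⁅(⟨x, hx⟩ : Q), (⟨y, hy⟩ : Q)⁆ ?_
    rw [← hE.1.2.2, _root_.commutator_def]
    exact commutator_mem_commutator (mem_top _) (mem_top _)
  have hlin : ∀ x ∈ Q, ∀ y ∈ Q, ∀ w ∈ Q, ⁅x * y, w⁆ = ⁅x, w⁆ * ⁅y, w⁆ := fun x hx y hy w hw => by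
    rw [show ⁅x * y, w⁆ = x * ⁅y, w⁆ * x⁻¹ * ⁅x, w⁆ by simp only [commutatorElement_def]; group,
      hcm _ (hβ y hy w hw) x, mul_inv_cancel_right, hcm _ (hβ x hx w hw)]
  have hsq : ∀ x ∈ Q, x * x ∈ zpowers z := fun x hx => by
    refine hcenmem (⟨x, hx⟩ * ⟨x, hx⟩) ?_
    rw [← hE.1.2.1, ← pow_two]
    exact Cfsg.Lib.PGroups.pow_mem_frattini hE.1.1 _
  have hconjQ : ∀ x ∈ Q, α * x * α⁻¹ ∈ Q := fun x hx => Normal.conj_mem inferInstance x hx α
  have hor : ∀ c ∈ zpowers z, c = 1 ∨ c = z := fun c hc => by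
    obtain ⟨i, rfl⟩ := hc
    show z ^ i = 1 ∨ z ^ i = z
    rw [← zpow_mod_orderOf, hz2]
    rcases Int.emod_two_eq_zero_or_one i with h | h
    · exact Or.inl (by rw [show (i % ((2 : ℕ) : ℤ)) = 0 from h, zpow_zero])
    · exact Or.inr (by rw [show (i % ((2 : ℕ) : ℤ)) = 1 from h, zpow_one])
  have hof : ∀ c ∈ zpowers z, c ≠ 1 → c = z := fun c hc hc1 => (hor c hc).resolve_left hc1
  set d : X → X := fun q => α * q * α⁻¹ * q⁻¹
  have hdQ : ∀ q ∈ Q, d q ∈ Q := fun q hq => mul_mem (hconjQ q hq) (inv_mem hq)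
  set D := closure (d '' (Q : Set X))
  have hdD : ∀ q ∈ Q, d q ∈ D := fun q hq => subset_closure ⟨q, hq, rfl⟩
  have hinvα : ∀ x ∈ Q, ∀ y ∈ Q, ⁅α * x * α⁻¹, α * y * α⁻¹⁆ = ⁅x, y⁆ := fun x hx y hy => by
    rw [show ⁅α * x * α⁻¹, α * y * α⁻¹⁆ = α * ⁅x, y⁆ * α⁻¹ by simp only [commutatorElement_def]; group,
      hcm _ (hβ x hx y hy), mul_inv_cancel_right]
  have hsymm : ∀ q ∈ Q, ∀ r ∈ Q, ⁅d q, r⁆ = 1 ↔ ⁅α * q * α⁻¹, r⁆ = ⁅q, r⁆ := fun q hq r hr => by
    have h1 := hlin (d q) (hdQ q hq) q hq r hr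
    simp only [d, inv_mul_cancel_right] at h1
    rw [h1, mul_eq_right]
  -- `Q₀` and `D` centralize each other
  have hDQ₀ : ∀ q ∈ Q, ∀ r ∈ Q₀, ⁅d q, r⁆ = 1 := fun q hq r hr => by
    obtain ⟨hrQ, hc⟩ := (hQ₀ r).mp hr
    have h1 : α * r * α⁻¹ = d r * r := by simp [d]
    have h2 : ∀ y ∈ Q, ⁅y, d r⁆ = 1 := fun y _ =>
      commutatorElement_eq_one_iff_mul_comm.mpr (hcm _ hc y)
    rw [hsymm q hq r hrQ, ← hinvα q hq r hrQ, h1,
      show ⁅α * q * α⁻¹, d r * r⁆ = ⁅α * q * α⁻¹, d r⁆ * (d r * ⁅α * q * α⁻¹, r⁆ * (d r)⁻¹) by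
        simp only [commutatorElement_def]; group,
      h2 _ (hconjQ q hq), one_mul, hcm _ (hβ _ (hconjQ q hq) r hrQ), mul_inv_cancel_right]
  have hQ₀Q : Q₀ ≤ Q := fun q hq => ((hQ₀ q).mp hq).1
  have hDcen : D ≤ centralizer (Q₀ : Set X) := (closure_le _).mpr (by
    rintro _ ⟨q, hq, rfl⟩
    exact mem_centralizer_iff.mpr fun r hr =>
      (commutatorElement_eq_one_iff_mul_comm.mp (hDQ₀ q hq r hr)).symm)
  have hDQ : D ≤ Q := (closure_le _).mpr (by rintro _ ⟨q, hq, rfl⟩; exact hdQ q hq)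
  have hDQ₀' : D ≤ Q₀ := (closure_le _).mpr (by
    rintro _ ⟨q, hq, rfl⟩
    refine (hQ₀ _).mpr ⟨hdQ q hq, ?_⟩
    have e : α * d q * α⁻¹ * (d q)⁻¹ = (d q)⁻¹ * (d q)⁻¹ := by
      simp only [d, hαinv, mul_inv_rev, inv_inv]
      have hαα : α * α = 1 := by rw [← pow_two, ← hα, pow_orderOf_eq_one]
      simp only [mul_assoc]
      rw [← mul_assoc α α, hαα, one_mul]
    show α * d q * α⁻¹ * (d q)⁻¹ ∈ zpowers z
    rw [e]
    exact hsq _ (inv_mem (hdQ q hq)))
  -- the centre lies in `D`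
  have hDn : ∀ w ∈ Q, ∀ x ∈ D, w * x * w⁻¹ ∈ D := fun w hw => by
    suffices D ≤ D.comap (MulAut.conj w).toMonoidHom from fun x hx => by simpa using this hx
    refine (closure_le _).mpr ?_
    rintro _ ⟨q, hq, rfl⟩
    show w * d q * w⁻¹ ∈ D
    rw [show w * d q * w⁻¹ = (d w)⁻¹ * d (w * q) by simp only [d]; group]
    exact mul_mem (inv_mem (hdD w hw)) (hdD _ (mul_mem hw hq))
  have hzD : z ∈ D := by
    by_contra hzD
    refine hαQ (hC (mem_centralizer_iff.mpr fun q hq => ?_))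
    have hd1 : d q = 1 := by
      by_contra hne
      have hnc : (⟨d q, hdQ q hq⟩ : Q) ∉ center Q := fun h =>
        hzD (hof _ (hcenmem _ h) hne ▸ hdD q hq)
      rw [mem_center_iff] at hnc
      push Not at hnc
      obtain ⟨⟨w, hw⟩, hw'⟩ := hnc
      have hne' : ⁅w, d q⁆ ≠ 1 := fun e =>
        hw' (Subtype.ext (commutatorElement_eq_one_iff_mul_comm.mp e))
      refine hzD (hof _ (hβ w hw _ (hdQ q hq)) hne' ▸ ?_)
      rw [commutatorElement_def]
      exact mul_mem (hDn w hw _ (hdD q hq)) (inv_mem (hdD q hq))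
    have h2 : α * q * α⁻¹ = q := mul_inv_eq_one.mp hd1
    exact (mul_inv_eq_iff_eq_mul.mp h2).symm
  refine ⟨le_antisymm (le_inf hDQ₀' hDcen) ?_, fun hne => ?_⟩
  · rintro x ⟨hx, hxc⟩
    set D' := D.subgroupOf Q
    have hcD : center Q ≤ D' := fun y hy => (zpowers_le.mpr hzD) (hcenmem y hy)
    have hx' : (⟨x, hQ₀Q hx⟩ : Q) ∈ centralizer (centralizer (D' : Set Q) : Set Q) :=
      mem_centralizer_iff.mpr fun r hr => Subtype.ext (mem_centralizer_iff.mp hxc _ ((hQ₀ _).mpr ⟨r.2, by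
        refine hcenmem ⟨d r, hdQ r r.2⟩ (mem_center_iff.mpr fun w => Subtype.ext ?_)
        have h1 : ⁅d (w : X), (r : X)⁆ = 1 := commutatorElement_eq_one_iff_mul_comm.mpr
          (congrArg Subtype.val (mem_centralizer_iff.mp hr ⟨d w, hdQ w w.2⟩ (hdD w w.2)))
        rw [hsymm w w.2 r r.2] at h1
        have h2 : ⁅α * (r : X) * α⁻¹, (w : X)⁆ = ⁅(r : X), (w : X)⁆ := by
          rw [← hinvα _ (hconjQ r r.2) w w.2, hαinv]
          have hαα : α * α = 1 := by rw [← pow_two, ← hα, pow_orderOf_eq_one]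
          rw [show α * (α * (r : X) * α) * α = (α * α) * r * (α * α) by group, hαα, one_mul, mul_one]
          rw [← commutatorElement_inv (α * (w : X) * α), ← commutatorElement_inv (w : X)]
          rw [hαinv] at h1
          rw [h1]
        exact (commutatorElement_eq_one_iff_mul_comm.mp ((hsymm r r.2 w w.2).mpr h2)).symm⟩))
    rw [double_centralizer hE D' hcD] at hx'
    exact hx'
  · obtain ⟨q, hq, hq'⟩ := SetLike.not_le_iff_exists.mp hne
    obtain ⟨hqQ, hc⟩ := (hQ₀ q).mp hq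
    refine ⟨q, hqQ, ?_⟩
    rcases hor _ hc with he | he
    · have hq0 : q ∈ Q ⊓ centralizer ({α} : Set X) := by
        refine ⟨hqQ, mem_centralizer_singleton_iff.mpr ?_⟩
        rw [mul_inv_eq_one, mul_inv_eq_iff_eq_mul] at he
        exact he.symm
      exact absurd (mem_sup_left hq0) hq'
    · rw [← he, hαinv]
      have hαα : α * α = 1 := by rw [← pow_two, ← hα, pow_orderOf_eq_one]
      simp only [← mul_assoc, hαα, one_mul]

end Cfsg.Lib.ExtraAction
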