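import Cfsg.Agent.Components.Misc.SmallOrder
import Cfsg.Agent.Transfer.IndexPrimeTo
import Cfsg.Prelude.Def_TwoFusion

/-!
Sylow subgroups that are extraspecial of order `p³` and exponent `p²`.
-/

set_option linter.style.haveILetI false
set_option linter.unusedSectionVars false

namespace Cfsg.Lib.ExtraCube

open Subgroup
open scoped commutatorElement

universe u

variable {G : Type u} [Group G] [Finite G] {p : ℕ} [hp : Fact p.Prime]

theorem shear {E : Subgroup G} {a u w : G} (hu : a * u * a⁻¹ = u * w) (hw : a * w * a⁻¹ = w) :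
    ∀ n : ℕ, a ^ n * u * (a ^ n)⁻¹ = u * w ^ n := by
  intro n
  induction n with
  | zero => simp
  | succ n ih =>
    calc a ^ (n + 1) * u * (a ^ (n + 1))⁻¹ = a * (a ^ n * u * (a ^ n)⁻¹) * a⁻¹ := by rw [pow_succ']; group
      _ = (a * u * a⁻¹) * (a * w * a⁻¹) ^ n := by rw [ih, conj_pow]; group
      _ = u * w ^ (n + 1) := by rw [hu, hw, pow_succ', mul_assoc]

/-- an element with nontrivial `p`-th power cannot act as a transvection against a second one -/
theorem no_two_lines (hp2 : p ≠ 2) (P : Sylow p G) (E : Subgroup G) (hEP : E ≤ (P : Subgroup G))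
    (hPE : (P : Subgroup G) ≤ normalizer (E : Set G)) (hPC : (P : Subgroup G) ⊓ centralizer (E : Set G) = E)
    (hEp : ∀ e ∈ E, e ^ p = 1) (z y : G) (hz : z ∈ E) (hy : y ∈ E) (hgen : E = closure {z, y})
    (a b : G) (ha : a ∈ normalizer (E : Set G)) (hb : b ∈ normalizer (E : Set G))
    (ha1 : a * z * a⁻¹ = z) (ha2 : a * y * a⁻¹ = y * z) (hb1 : b * y * b⁻¹ = y) (hb2 : b * z * b⁻¹ = z * y⁻¹)
    (x : G) (hx : x ∈ (P : Subgroup G)) (hxz : ∀ f ∈ E, (x * f) ^ p = x ^ p) (hxE : x ^ p ∈ E) (hx1 : x ^ p ≠ 1) :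
    False := by
  have hEc : ∀ e ∈ E, ∀ f ∈ E, e * f = f * e := by
    intro e he f hf
    have : E ≤ centralizer (E : Set G) := hPC.ge.trans inf_le_right
    exact (mem_centralizer_iff.1 (this hf) e he)
  -- the element inverting `E`
  set s := a * b * a
  have hs1 : s * z * s⁻¹ = y⁻¹ := by
    calc s * z * s⁻¹ = a * (b * (a * z * a⁻¹) * b⁻¹) * a⁻¹ := by simp only [s]; group
      _ = (a * z * a⁻¹) * (a * y * a⁻¹)⁻¹ := by
        conv_lhs => rw [ha1, hb2]
        group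
      _ = z * (y * z)⁻¹ := by rw [ha1, ha2]
      _ = y⁻¹ := by group
  have hs2 : s * y * s⁻¹ = z := by
    calc s * y * s⁻¹ = a * (b * (a * y * a⁻¹) * b⁻¹) * a⁻¹ := by simp only [s]; group
      _ = a * ((b * y * b⁻¹) * (b * z * b⁻¹)) * a⁻¹ := by rw [ha2]; group
      _ = a * (y * (z * y⁻¹)) * a⁻¹ := by rw [hb1, hb2]
      _ = a * z * a⁻¹ := by rw [hEc z hz y⁻¹ (inv_mem hy)]; group
      _ = z := ha1
  have hinv : ∀ e ∈ E, (s * s) * e * (s * s)⁻¹ = e⁻¹ := by
    intro e he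
    rw [hgen] at he
    induction he using closure_induction with
    | mem w hw =>
      rcases hw with rfl | rfl
      · calc (s * s) * w * (s * s)⁻¹ = s * (s * w * s⁻¹) * s⁻¹ := by group
          _ = (s * y * s⁻¹)⁻¹ := by rw [hs1]; group
          _ = w⁻¹ := by rw [hs2]
      · calc (s * s) * w * (s * s)⁻¹ = s * (s * w * s⁻¹) * s⁻¹ := by group
          _ = w⁻¹ := by rw [hs2, hs1]
    | one => group
    | mul u v hu hv ihu ihv =>
      rw [← hgen] at hu hv
      calc (s * s) * (u * v) * (s * s)⁻¹ = ((s * s) * u * (s * s)⁻¹) * ((s * s) * v * (s * s)⁻¹) := by group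
        _ = (v * u)⁻¹ := by rw [ihu, ihv]; group
        _ = (u * v)⁻¹ := by rw [hEc v hv u hu]
    | inv u _ ihu =>
      calc (s * s) * u⁻¹ * (s * s)⁻¹ = ((s * s) * u * (s * s)⁻¹)⁻¹ := by simp [mul_assoc]
        _ = u⁻¹⁻¹ := by rw [ihu]
  have hsN : s * s ∈ normalizer (E : Set G) := mul_mem (mul_mem (mul_mem ha hb) ha) (mul_mem (mul_mem ha hb) ha)
  obtain ⟨v, t, hv, ht, hvt, ⟨k, hk⟩, htco⟩ := Cfsg.Lib.Transfer.exists_pPart p (s * s)
  have htN : t ∈ normalizer (E : Set G) := zpowers_le.2 hsN ht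
  -- `v` acts trivially
  have hvtriv : ∀ e ∈ E, v * e * v⁻¹ = e := by
    intro e he
    obtain ⟨m, hm⟩ := mem_zpowers_iff.1 hv
    have h4 : ∀ e ∈ E, v ^ 2 * e * (v ^ 2)⁻¹ = e := by
      intro e he
      have h2 : Commute ((s * s) ^ 2) e := by
        refine mul_inv_eq_iff_eq_mul.1 ?_
        calc (s * s) ^ 2 * e * ((s * s) ^ 2)⁻¹ = (s * s) * ((s * s) * e * (s * s)⁻¹) * (s * s)⁻¹ := by rw [pow_two]; group
          _ = ((s * s) * e * (s * s)⁻¹)⁻¹ := by
            conv_lhs => rw [hinv e he]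
            simp [mul_assoc]
          _ = e := by rw [hinv e he, inv_inv]
      have h3 : Commute (v ^ 2) e := by
        rw [← hm, ← zpow_natCast, ← zpow_mul, mul_comm, zpow_mul, zpow_natCast]
        exact h2.zpow_left m
      exact mul_inv_eq_iff_eq_mul.2 h3
    obtain ⟨j, hj⟩ := exists_pow_eq_self_of_coprime (x := v) (n := 2)
      (hk ▸ Nat.Coprime.pow_right k ((Nat.coprime_primes Nat.prime_two hp.out).2 (Ne.symm hp2)))
    have h5 : Commute (v ^ 2) e := mul_inv_eq_iff_eq_mul.1 (h4 e he)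
    exact mul_inv_eq_iff_eq_mul.2 (hj ▸ h5.pow_left j : Commute v e)
  have htinv : ∀ e ∈ E, t * e * t⁻¹ = e⁻¹ := by
    intro e he
    have h1 : t * e * t⁻¹ ∈ E := (mem_normalizer_iff.1 htN e).1 he
    have h2 := hvtriv _ h1
    rw [← hinv e he, ← hvt]
    calc t * e * t⁻¹ = v * (t * e * t⁻¹) * v⁻¹ := h2.symm
      _ = (v * t) * e * (v * t)⁻¹ := by group
  -- the complement of `E` in its centralizer
  set C := centralizer (E : Set G) with hC
  have hEC : E ≤ C := hPC.ge.trans inf_le_right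
  have hEpG : IsPGroup p E := P.2.to_le hEP
  set N := normalizer (E : Set G) with hN
  haveI : (C.subgroupOf N).Normal := normal_subgroupOf_centralizer_normalizer _
  obtain ⟨A, hA⟩ : ∃ A : Sylow p C, (A : Subgroup C) = E.subgroupOf C := by
    have hidx : ¬ p ∣ E.relIndex C := by
      rw [← hPC, inf_relIndex_right]
      rw [← relIndex_subgroupOf (centralizer_le_normalizer (E : Set G)),
        Cfsg.Lib.Transfer.relIndex_eq_relIndex_sup_of_normal _ _]
      intro hd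
      exact (P.subtype hPE).not_dvd_index (hd.trans (Dvd.intro _ (relIndex_mul_index le_sup_left)))
    exact ⟨(hEpG.comap_of_injective C.subtype C.subtype_injective).toSylow hidx, rfl⟩
  obtain ⟨K, hKn, hKc⟩ := Cfsg.Lib.Transfer.exists_complement_of_hasNormalPComplement
    (Cfsg.Lib.SmallOrder.complement_of_small A fun Q hQA _ g _ _ => mem_centralizer_iff.2 fun q hq => by
      have h1 : (q : G) ∈ E := by
        have := hQA hq
        rw [hA] at this
        exact this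
      exact Subtype.ext (mem_centralizer_iff.1 g.2 _ h1)) A
  obtain ⟨hKco, i, hKi⟩ := Cfsg.Lib.Transfer.complement_props hKc
  haveI := hKn
  set K' := K.map C.subtype
  have hKmem : ∀ c, c ∈ K' ↔ c ∈ C ∧ (orderOf c).Coprime p := by
    intro c
    constructor
    · rintro ⟨c, hc, rfl⟩
      exact ⟨c.2, by rw [Subgroup.coe_subtype, Subgroup.orderOf_coe]; exact (Cfsg.Lib.Transfer.mem_iff_coprime_orderOf hKco hKi c).1 hc⟩
    · rintro ⟨hc, hco⟩
      exact ⟨⟨c, hc⟩, (Cfsg.Lib.Transfer.mem_iff_coprime_orderOf hKco hKi _).2 (by rwa [Subgroup.orderOf_mk]), rfl⟩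
  have hKconj : ∀ g ∈ N, ∀ c ∈ K', g * c * g⁻¹ ∈ K' := by
    intro g hg c hc
    obtain ⟨h1, h2⟩ := (hKmem c).1 hc
    refine (hKmem _).2 ⟨(inferInstance : (C.subgroupOf N).Normal).conj_mem ⟨c, centralizer_le_normalizer _ h1⟩ h1 ⟨g, hg⟩, ?_⟩
    rwa [show orderOf (g * c * g⁻¹) = orderOf c from MulEquiv.orderOf_eq (MulAut.conj g) c]
  have hxN := hPE hx
  have hc : x⁻¹ * t * x * t⁻¹ ∈ C := by
    refine mem_centralizer_iff.2 fun e he => (mul_inv_eq_iff_eq_mul.1 ?_).symm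
    have he1 : t⁻¹ * e * t = e⁻¹ := by
      calc t⁻¹ * e * t = (t⁻¹ * (t * e * t⁻¹) * t)⁻¹ := by rw [htinv e he]; group
        _ = e⁻¹ := by group
    have he2 : x * e⁻¹ * x⁻¹ ∈ E := (mem_normalizer_iff.1 hxN _).1 (inv_mem he)
    calc x⁻¹ * t * x * t⁻¹ * e * (x⁻¹ * t * x * t⁻¹)⁻¹ = x⁻¹ * (t * (x * (t⁻¹ * e * t) * x⁻¹) * t⁻¹) * x := by group
      _ = e := by rw [he1, htinv _ he2]; group
  obtain ⟨⟨⟨k', hk'⟩, ⟨e, he⟩⟩, hce⟩ := hKc.2 ⟨_, hc⟩
  have hce' : (k' : G) * (e : G) = x⁻¹ * t * x * t⁻¹ := congrArg Subtype.val hce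
  have heE : (e : G) ∈ E := by rw [hA] at he; exact he
  have hkK : (k' : G) ∈ K' := ⟨k', hk', rfl⟩
  obtain ⟨f, hf, hff⟩ : ∃ f ∈ E, f * f = (e : G) := by
    obtain ⟨j, hj⟩ : Odd p := hp.out.odd_of_ne_two hp2
    refine ⟨(e : G) ^ (j + 1), pow_mem heE _, ?_⟩
    rw [← pow_add, show j + 1 + (j + 1) = p + 1 by omega, pow_succ, hEp _ heE, one_mul]
  have hkE : ∀ w ∈ E, w * (k' : G) = (k' : G) * w := fun w hw => mem_centralizer_iff.1 ((hKmem _).1 hkK).1 w hw
  have hmain : t * (x * f) * t⁻¹ = (x * f) * (k' : G) := by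
    calc t * (x * f) * t⁻¹ = x * (x⁻¹ * t * x * t⁻¹) * (t * f * t⁻¹) := by group
      _ = x * ((k' : G) * (e : G)) * f⁻¹ := by rw [hce', htinv f hf]
      _ = x * ((k' : G) * f) := by rw [← hff]; group
      _ = (x * f) * (k' : G) := by rw [← hkE f hf]; group
  have hxfN : x * f ∈ N := mul_mem hxN (le_normalizer hf)
  have hpow : ∀ n : ℕ, ∃ m ∈ K', ((x * f) * (k' : G)) ^ n = (x * f) ^ n * m := by
    intro n
    induction n with
    | zero => exact ⟨1, one_mem _, by simp⟩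
    | succ n ih =>
      obtain ⟨m, hm, hmn⟩ := ih
      refine ⟨((x * f)⁻¹ * m * (x * f)) * (k' : G), mul_mem ?_ hkK, ?_⟩
      · have := hKconj _ (inv_mem hxfN) m hm
        rwa [inv_inv] at this
      · rw [pow_succ, hmn, pow_succ]; group
  obtain ⟨m, hm, hmp⟩ := hpow p
  rw [← hmain, conj_pow, hxz f hf, htinv _ hxE] at hmp
  have hm' : m = (x ^ p)⁻¹ * (x ^ p)⁻¹ := eq_inv_mul_iff_mul_eq.2 hmp.symm
  have hmE : m ∈ E := hm'.symm ▸ mul_mem (inv_mem hxE) (inv_mem hxE)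
  have hm1 : m = 1 := orderOf_eq_one_iff.1 (Nat.eq_one_of_dvd_coprimes ((hKmem m).1 hm).2 dvd_rfl
    (orderOf_dvd_of_pow_eq_one (hEp m hmE)))
  rw [hm1] at hm'
  have h2 : (x ^ p) ^ 2 = 1 := by
    rw [pow_two, ← inv_eq_one, mul_inv_rev]; exact hm'.symm
  exact hx1 (orderOf_eq_one_iff.1 (Nat.eq_one_of_dvd_coprimes ((Nat.coprime_primes Nat.prime_two hp.out).2 (Ne.symm hp2))
    (orderOf_dvd_of_pow_eq_one h2) (orderOf_dvd_of_pow_eq_one (hEp _ hxE))))

theorem strongly_closed (hp2 : p ≠ 2) (P : Sylow p G) (hE : Cfsg.IsExtraspecial p ↥(P : Subgroup G)) (hcard : Nat.card (P : Subgroup G) = p ^ 3)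
    (hexp : Monoid.exponent ↥(P : Subgroup G) = p ^ 2) :
    Cfsg.IsStronglyClosed ((Subgroup.center ↥(P : Subgroup G)).map (P : Subgroup G).subtype) (P : Subgroup G) := by
  obtain ⟨⟨hPp, hfr, hcm⟩, hZc⟩ := hE
  refine ⟨map_subtype_le _, ?_⟩
  rintro _ ⟨z0, hz0, rfl⟩ g hgP
  by_contra hbad
  have hcc : ∀ u v : (P : Subgroup G), u * v * u⁻¹ * v⁻¹ ∈ center ↥(P : Subgroup G) := fun u v => by
    rw [← hcm]; exact commutator_mem_commutator (mem_top u) (mem_top v)
  have hZp : ∀ c ∈ center ↥(P : Subgroup G), c ^ p = 1 := fun c hc => by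
    have := congrArg Subtype.val (pow_card_eq_one' (x := (⟨c, hc⟩ : center ↥(P : Subgroup G))))
    rwa [hZc] at this
  have hmul : ∀ u v : (P : Subgroup G), (u * v) ^ p = u ^ p * v ^ p := by
    intro u v
    have hc := hcc v u
    rw [Cfsg.Lib.SmallOrder.mul_pow_central (mem_center_iff.1 hc u).symm (mem_center_iff.1 hc v).symm (by group) p]
    obtain ⟨k, hk⟩ : p ∣ p.choose 2 := hp.out.dvd_choose_self two_ne_zero (lt_of_le_of_ne hp.out.two_le (Ne.symm hp2))
    rw [hk, pow_mul, hZp _ hc, one_pow, one_mul]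
  let f : ↥(P : Subgroup G) →* center ↥(P : Subgroup G) := MonoidHom.mk' (fun u => ⟨u ^ p, hfr ▸ Cfsg.Lib.PGroups.pow_mem_frattini hPp u⟩)
    fun u v => Subtype.ext (hmul u v)
  have hrne : f.range ≠ ⊥ := fun h => by
    have : Monoid.exponent ↥(P : Subgroup G) ∣ p := Monoid.exponent_dvd_of_forall_pow_eq_one fun u =>
      congrArg Subtype.val (mem_bot.1 (h.le ⟨u, rfl⟩) :)
    rw [hexp] at this
    have := Nat.le_of_dvd hp.out.pos this
    nlinarith [hp.out.two_le]
  have hkc : Nat.card f.ker = p ^ 2 := by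
    have h1 : f.range = ⊤ := by
      refine (card_eq_iff_eq_top _).1 ?_
      rw [hZc]
      refine ((hp.out.eq_one_or_self_of_dvd _ (by have h := card_subgroup_dvd_card f.range; rwa [hZc] at h)).resolve_left fun h => hrne (eq_bot_of_card_eq _ h))
    have h2 := card_eq_card_quotient_mul_card_subgroup f.ker
    rw [Nat.card_congr (QuotientGroup.quotientKerEquivRange f).toEquiv, h1, card_top, hZc] at h2
    refine (Nat.eq_of_mul_eq_mul_left hp.out.pos (Eq.trans ?_ h2)).symm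
    rw [← pow_succ']
    exact hcard.symm
  set E := f.ker.map (P : Subgroup G).subtype with hEdef
  have hEP : E ≤ (P : Subgroup G) := map_subtype_le _
  have hEmem : ∀ u : G, u ∈ E ↔ u ∈ (P : Subgroup G) ∧ u ^ p = 1 := by
    intro u
    constructor
    · rintro ⟨w, hw, rfl⟩
      exact ⟨w.2, (congrArg (fun c : center ↥(P : Subgroup G) => ((c : ↥(P : Subgroup G)) : G)) hw :)⟩
    · rintro ⟨hu, hup⟩
      exact ⟨⟨u, hu⟩, Subtype.ext (Subtype.ext hup), rfl⟩
  have hEc : ∀ e ∈ E, ∀ e' ∈ E, e * e' = e' * e := by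
    haveI : IsMulCommutative f.ker := IsPGroup.isMulCommutative_of_card_eq_prime_sq hkc
    rintro _ ⟨e, he, rfl⟩ _ ⟨e', he', rfl⟩
    exact congrArg (fun c : f.ker => ((c : ↥(P : Subgroup G)) : G)) (mul_comm' (⟨e, he⟩ : f.ker) ⟨e', he'⟩)
  have hEcard : Nat.card E = p ^ 2 := by rw [hEdef, card_map_of_injective (P : Subgroup G).subtype_injective, hkc]
  have hPE : (P : Subgroup G) ≤ normalizer (E : Set G) := by
    intro u hu
    refine mem_normalizer_iff.2 fun w => ?_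
    rw [hEmem, hEmem, conj_pow, mul_inv_eq_one, mul_eq_left, and_congr_left_iff]
    intro _
    exact (mem_normalizer_iff.1 (le_normalizer (H := (P : Subgroup G)) hu) w)
  set Z := (center ↥(P : Subgroup G)).map (P : Subgroup G).subtype
  have hZE : Z ≤ E := by
    rintro _ ⟨c, hc, rfl⟩
    exact (hEmem _).2 ⟨c.2, congrArg Subtype.val (hZp c hc)⟩
  have hzP : ∀ u ∈ (P : Subgroup G), u * (z0 : G) = z0 * u := fun u hu =>
    congrArg Subtype.val (mem_center_iff.1 hz0 ⟨u, hu⟩)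
  change g * (z0 : G) * g⁻¹ ∈ (P : Subgroup G) at hgP
  change ¬ g * (z0 : G) * g⁻¹ ∈ Z at hbad
  set y := g * (z0 : G) * g⁻¹ with hy
  have hyE : y ∈ E := (hEmem y).2 ⟨hgP, by rw [hy, conj_pow, show (z0 : G) ^ p = 1 from congrArg Subtype.val (hZp z0 hz0)]; group⟩
  have hz1 : (z0 : G) ≠ 1 := fun h => hbad (by rw [hy, h, mul_one, mul_inv_cancel]; exact one_mem _)
  have hzo : orderOf (z0 : G) = p := orderOf_eq_prime (congrArg Subtype.val (hZp z0 hz0)) hz1
  have hy1 : y ≠ 1 := fun h => hbad (h ▸ one_mem _)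
  have hZeq : Z = zpowers (z0 : G) := by
    refine (eq_of_le_of_card_ge (zpowers_le.2 (show (z0 : G) ∈ Z from ⟨z0, hz0, rfl⟩)) ?_).symm
    rw [card_map_of_injective (P : Subgroup G).subtype_injective, hZc, Nat.card_zpowers, hzo]
  -- move `P` so that it contains `E` and has centre through `y`
  set D := centralizer ({y} : Set G) with hD
  have hgD : ((g • P : Sylow p G) : Subgroup G) ≤ D := by
    rw [Cfsg.Lib.Transfer.sylow_smul_coe]
    rintro _ ⟨u, hu, rfl⟩
    refine mem_centralizer_singleton_iff.2 ?_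
    show g * u * g⁻¹ * y = y * (g * u * g⁻¹)
    calc g * u * g⁻¹ * y = g * (u * z0) * g⁻¹ := by rw [hy]; group
      _ = y * (g * u * g⁻¹) := by rw [hy, hzP u hu]; group
  have hED : E ≤ D := fun e he => mem_centralizer_singleton_iff.2 (hEc e he y hyE)
  obtain ⟨R, hR⟩ := ((P.2.to_le hEP).comap_subtype (K := D)).exists_le_sylow
  obtain ⟨h, hh⟩ := MulAction.exists_smul_eq D ((g • P : Sylow p G).subtype hgD) R
  have hg' : ∀ e ∈ E, ((h : G) * g)⁻¹ * e * ((h : G) * g) ∈ (P : Subgroup G) := by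
    intro e he
    have h1 : (⟨e, hED he⟩ : D) ∈ (R : Subgroup D) := hR he
    rw [← hh, Cfsg.Lib.Transfer.sylow_smul_coe] at h1
    obtain ⟨w, hw, hwe⟩ := h1
    have hw' : (w : G) ∈ (P : Subgroup G).map (MulAut.conj g).toMonoidHom := by
      rw [← Cfsg.Lib.Transfer.sylow_smul_coe]; exact hw
    obtain ⟨u, hu, huw⟩ := hw'
    have e1 : e = (h : G) * (w : G) * (h : G)⁻¹ := (congrArg Subtype.val hwe).symm
    have e2 : (w : G) = g * u * g⁻¹ := huw.symm
    rw [e1, e2]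
    rw [show ((h : G) * g)⁻¹ * ((h : G) * (g * u * g⁻¹) * (h : G)⁻¹) * ((h : G) * g) = u by group]
    exact hu
  set g' := (h : G) * g
  have hg'y : g' * z0 * g'⁻¹ = y := by
    have := mem_centralizer_singleton_iff.1 h.2
    calc g' * z0 * g'⁻¹ = (h : G) * y * (h : G)⁻¹ := by rw [hy]; simp only [g']; group
      _ = y := by rw [this, mul_inv_cancel_right]
  have hg'N : g' ∈ normalizer (E : Set G) := by
    have h1 : E.map (MulAut.conj g'⁻¹).toMonoidHom = E := by
      refine eq_of_le_of_card_ge ?_ (card_map_of_injective (MulEquiv.injective _)).ge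
      rintro _ ⟨e, he, rfl⟩
      refine (hEmem _).2 ⟨by simpa using hg' e he, ?_⟩
      rw [← map_pow, ((hEmem e).1 he).2, map_one]
    exact inv_mem_iff.1 (mem_normalizer_iff_map_conj_eq.2 h1)
  -- an element outside `E`
  obtain ⟨x, hx, hxE⟩ : ∃ x ∈ (P : Subgroup G), x ∉ E := by
    by_contra hcon
    push Not at hcon
    have h1 : Nat.card (P : Subgroup G) ≤ Nat.card E := card_le_of_le hcon
    rw [hEcard] at h1
    have h2 : p ^ 3 ≤ p ^ 2 := hcard ▸ h1
    exact absurd h2 (not_le.2 (Nat.pow_lt_pow_right hp.out.one_lt (by norm_num)))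
  have hgen : E = closure {(z0 : G), y} := by
    refine (eq_of_le_of_card_ge ((closure_le _).2 ?_) ?_).symm
    · rintro w (rfl | rfl)
      · exact hZE ⟨z0, hz0, rfl⟩
      · exact hyE
    · rw [hEcard]
      set H := closure ({(z0 : G), y} : Set G)
      have hle : zpowers (z0 : G) ≤ H := zpowers_le.2 (subset_closure (Or.inl rfl))
      obtain ⟨i, hi⟩ := IsPGroup.iff_card.1 ((P.2.to_le hEP).to_le (show H ≤ E from (closure_le _).2 (by
        rintro w (rfl | rfl)
        · exact hZE ⟨z0, hz0, rfl⟩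
        · exact hyE)))
      rw [hi]
      refine Nat.pow_le_pow_right hp.out.pos ?_
      by_contra hlt
      have : zpowers (z0 : G) = H := eq_of_le_of_card_ge hle (by
        rw [hi, Nat.card_zpowers, hzo]; exact (Nat.pow_le_pow_right hp.out.pos (by omega : i ≤ 1)).trans (pow_one p).le)
      exact hbad (hZeq ▸ this.symm ▸ subset_closure (Or.inr rfl))
  have hPC : (P : Subgroup G) ⊓ centralizer (E : Set G) = E := by
    refine le_antisymm (fun u hu => ?_) (le_inf hEP fun e he => mem_centralizer_iff.2 fun e' he' => hEc e' he' e he)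
    by_contra huE
    obtain ⟨huP, huC⟩ := mem_inf.1 hu
    have hlt : E < E ⊔ zpowers u := lt_of_le_of_ne le_sup_left fun h =>
      huE (h.ge (mem_sup_right (mem_zpowers u)))
    have hle : E ⊔ zpowers u ≤ (P : Subgroup G) := sup_le hEP (zpowers_le.2 huP)
    have heq : E ⊔ zpowers u = (P : Subgroup G) := eq_of_le_of_card_ge hle (by
      obtain ⟨i, hi⟩ := IsPGroup.iff_card.1 (P.2.to_le hle)
      have h2 : Nat.card E < Nat.card ↥(E ⊔ zpowers u) :=
        lt_of_not_ge fun hge => hlt.ne (eq_of_le_of_card_ge hlt.le hge)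
      rw [hEcard, hi] at h2
      have : 2 < i := (Nat.pow_lt_pow_iff_right hp.out.one_lt).1 h2
      rw [hi]
      exact hcard.le.trans (Nat.pow_le_pow_right hp.out.pos (by omega)))
    have hyZ : (⟨y, hgP⟩ : (P : Subgroup G)) ∈ center ↥(P : Subgroup G) := mem_center_iff.2 fun w => by
      refine Subtype.ext ?_
      have : E ⊔ zpowers u ≤ centralizer ({y} : Set G) := sup_le hED
        (zpowers_le.2 (mem_centralizer_singleton_iff.2 (mem_centralizer_iff.1 huC y hyE).symm))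
      exact mem_centralizer_singleton_iff.1 (this (heq.ge w.2))
    exact hbad ⟨_, hyZ, rfl⟩
  -- the two transvections
  have hw : x * y * x⁻¹ * y⁻¹ ∈ Z := ⟨_, hcc ⟨x, hx⟩ ⟨y, hgP⟩, rfl⟩
  rw [hZeq] at hw
  have hw1 : x * y * x⁻¹ * y⁻¹ ≠ 1 := fun h => hxE (hPC.le (mem_inf.mpr ⟨hx, mem_centralizer_iff.2 fun e he => by
    rw [hgen] at he
    have : closure ({(z0 : G), y} : Set G) ≤ centralizer ({x} : Set G) := by
      rw [closure_le]
      rintro w (rfl | rfl)
      · exact mem_centralizer_singleton_iff.2 (hzP x hx).symm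
      · exact mem_centralizer_singleton_iff.2 (mul_inv_eq_iff_eq_mul.1 (mul_inv_eq_one.1 h)).symm
    exact mem_centralizer_singleton_iff.1 (this he)⟩))
  have hpow : ∀ (d w : G), orderOf d = p → w ∈ zpowers d → w ≠ 1 → ∃ k : ℕ, w ^ k = d := by
    intro d w hd hwd hw
    have : zpowers w = zpowers d := by
      refine eq_of_le_of_card_ge (zpowers_le.2 hwd) ?_
      rw [Nat.card_zpowers, Nat.card_zpowers, hd]
      refine le_of_eq (orderOf_eq_prime ?_ hw).symm
      obtain ⟨j, rfl⟩ := mem_zpowers_iff.1 hwd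
      rw [← zpow_natCast, ← zpow_mul, mul_comm, zpow_mul, zpow_natCast, ← hd, pow_orderOf_eq_one, one_zpow]
    have hfin : IsOfFinOrder w := isOfFinOrder_of_finite w
    exact hfin.mem_powers_iff_mem_zpowers.2 (this.ge (mem_zpowers d))
  obtain ⟨k, hk⟩ := hpow _ _ hzo hw hw1
  set w := x * y * x⁻¹ * y⁻¹
  have hwy : y * w = w * y := (hzP y hgP |> fun h => by
    obtain ⟨j, hj⟩ := mem_zpowers_iff.1 hw
    rw [← hj]
    exact ((show Commute y (z0 : G) from h).zpow_right j).eq)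
  have hxw : x * w * x⁻¹ = w := by
    obtain ⟨j, hj⟩ := mem_zpowers_iff.1 hw
    rw [← hj, ((show Commute x (z0 : G) from hzP x hx).zpow_right j).eq, mul_inv_cancel_right]
  have hxy : x * y * x⁻¹ = y * w := by rw [hwy]; simp only [w]; group
  have ha2 : x ^ k * y * (x ^ k)⁻¹ = y * z0 := by rw [shear (E := E) hxy hxw k, hk]
  -- the conjugate transvection
  set x' := g' * x * g'⁻¹ with hx'
  have hx'N : x' ∈ normalizer (E : Set G) := mul_mem (mul_mem hg'N (hPE hx)) (inv_mem hg'N)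
  have hx'y : x' * y * x'⁻¹ = y := by
    calc x' * y * x'⁻¹ = g' * (x * z0 * x⁻¹) * g'⁻¹ := by rw [hx', ← hg'y]; group
      _ = y := by rw [hzP x hx, mul_inv_cancel_right, hg'y]
  set z1 := g'⁻¹ * (z0 : G) * g' with hz1def
  have hzE : (z0 : G) ∈ E := hZE ⟨z0, hz0, rfl⟩
  have hz1E : z1 ∈ E := (mem_normalizer_iff.1 hg'N _).2 (by rw [hz1def]; simpa [mul_assoc] using hzE)
  have hv : x' * (z0 : G) * x'⁻¹ * (z0 : G)⁻¹ ∈ zpowers y := by
    have h1 : x * z1 * x⁻¹ * z1⁻¹ ∈ Z := ⟨_, hcc ⟨x, hx⟩ ⟨z1, hEP hz1E⟩, rfl⟩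
    rw [hZeq, mem_zpowers_iff] at h1
    obtain ⟨j, hj⟩ := h1
    refine mem_zpowers_iff.2 ⟨j, ?_⟩
    rw [← hg'y, conj_zpow, hj, hx', hz1def]; group
  have hv1 : x' * (z0 : G) * x'⁻¹ * (z0 : G)⁻¹ ≠ 1 := fun h => hxE (hPC.le (mem_inf.mpr ⟨hx, mem_centralizer_iff.2 fun e he => by
    have hcl : closure ({(z0 : G), y} : Set G) ≤ centralizer ({x'} : Set G) := by
      rw [closure_le]
      rintro w (rfl | rfl)
      · exact mem_centralizer_singleton_iff.2 (mul_inv_eq_iff_eq_mul.1 (mul_inv_eq_one.1 h)).symm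
      · exact mem_centralizer_singleton_iff.2 (mul_inv_eq_iff_eq_mul.1 hx'y).symm
    have he' : g' * e * g'⁻¹ ∈ E := (mem_normalizer_iff.1 hg'N e).1 he
    rw [hgen] at he'
    have h3 := mem_centralizer_singleton_iff.1 (hcl he')
    calc e * x = g'⁻¹ * ((g' * e * g'⁻¹) * x') * g' := by rw [hx']; group
      _ = x * e := by rw [h3, hx']; group⟩))
  set v := x' * (z0 : G) * x'⁻¹ * (z0 : G)⁻¹
  have hyo : orderOf y⁻¹ = p := by
    rw [orderOf_inv]; exact orderOf_eq_prime ((hEmem y).1 hyE).2 hy1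
  obtain ⟨j, hj⟩ := hpow y⁻¹ v hyo (by rwa [zpowers_inv]) hv1
  have hvz : (z0 : G) * v = v * z0 := by
    obtain ⟨i, hi⟩ := mem_zpowers_iff.1 hv
    rw [← hi]
    exact ((show Commute (z0 : G) y from (hzP y hgP).symm).zpow_right i).eq
  have hxv : x' * v * x'⁻¹ = v := by
    obtain ⟨i, hi⟩ := mem_zpowers_iff.1 hv
    rw [← hi, ← conj_zpow, hx'y]
  have hxz : x' * (z0 : G) * x'⁻¹ = z0 * v := by rw [hvz]; simp only [v]; group
  have hb2 : x' ^ j * (z0 : G) * (x' ^ j)⁻¹ = z0 * y⁻¹ := by rw [shear (E := E) hxz hxv j, hj]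
  have hb1 : x' ^ j * y * (x' ^ j)⁻¹ = y := by
    rw [((show Commute x' y from mul_inv_eq_iff_eq_mul.1 hx'y).pow_left j).eq, mul_inv_cancel_right]
  have hxp : x ^ p ∈ E := hZE ⟨_, (f ⟨x, hx⟩).2, rfl⟩
  refine no_two_lines hp2 P E hEP hPE hPC (fun e he => ((hEmem e).1 he).2) z0 y hzE hyE hgen (x ^ k) (x' ^ j)
    (pow_mem (hPE hx) k) (pow_mem hx'N j) ?_ ha2 hb1 hb2 x hx (fun e he => ?_) hxp
    fun h => hxE ((hEmem x).2 ⟨hx, h⟩)
  · rw [((show Commute x (z0 : G) from hzP x hx).pow_left k).eq, mul_inv_cancel_right]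
  · have h := congrArg Subtype.val (hmul ⟨x, hx⟩ ⟨e, hEP he⟩)
    simpa [((hEmem e).1 he).2] using h

end Cfsg.Lib.ExtraCube
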