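import Mathlib
import Cfsg.Agent.Chars.Extraspecial
import Cfsg.Agent.HallHigman.Drop

/-!
The smallest faithful module of an extraspecial group.
-/

set_option linter.style.haveILetI false
set_option linter.unusedSectionVars false

namespace Cfsg.Lib.ExtraFaithful

open Module
open scoped commutatorElement

universe u v

variable {p : ℕ} [hp : Fact p.Prime]

/-- a module on which the centre acts by a non-trivial scalar is large -/
theorem dim_ge {E : Type u} [Group E] [Finite E] (hE : Cfsg.IsExtraspecial p E) {w : ℕ}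
    (hcard : Nat.card E = p ^ (2 * w + 1)) {z : E} (hzc : z ∈ Subgroup.center E) (hz : orderOf z = p)
    {K : Type v} [Field K] {W : Type v} [AddCommGroup W] [Module K W] [FiniteDimensional K W] [Nontrivial W]
    (ρ : E →* Module.End K W) {c : K} (hc : orderOf c = p) (hρ : ρ z = c • 1) :
    p ^ w ≤ finrank K W := by
  classical
  have hz1 : z ≠ 1 := fun e => hp.out.one_lt.ne (by rw [← hz, e, orderOf_one])
  have hcen := Cfsg.Lib.Chars.zpowers_eq_center hE hzc hz1
  have hκ : ∀ y ∈ Subgroup.center E, ∃ k : ℕ, y = z ^ k ∧ ρ y = c ^ k • 1 := fun y hy => by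
    rw [← hcen, ← mem_powers_iff_mem_zpowers] at hy
    obtain ⟨k, hk⟩ := hy
    refine ⟨k, hk.symm, ?_⟩
    rw [← hk]
    show ρ (z ^ k) = _
    rw [map_pow, hρ, smul_pow, one_pow]
  have hcm : ∀ e x : E, ⁅e, x⁆ ∈ Subgroup.center E := fun e x => by
    rw [← hE.1.2.2, _root_.commutator_def]
    exact Subgroup.commutator_mem_commutator (Subgroup.mem_top e) (Subgroup.mem_top x)
  choose k hk1 hk2 using fun e x => hκ _ (hcm e x)
  let t : E ⧸ Subgroup.center E → E := Quotient.out
  let T : E ⧸ Subgroup.center E → Module.End K W := fun q => ρ (t q)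
  have hconj : ∀ e q, ρ e * T q * ρ e⁻¹ = c ^ k e (t q) • T q := fun e q => by
    rw [← map_mul, ← map_mul, show e * t q * e⁻¹ = ⁅e, t q⁆ * t q by simp [commutatorElement_def],
      map_mul, hk2 e (t q), smul_one_mul]
  have hindep : LinearIndependent K T := by
    rw [linearIndependent_iff']
    intro s
    induction s using Finset.strongInduction with
    | _ s ih =>
    intro a ha q0 hq0
    have hothers : ∀ q ∈ s, q ≠ q0 → a q = 0 := by
      intro q1 hq1 hne
      have hx : (t q0)⁻¹ * t q1 ∉ Subgroup.center E := fun h => hne (by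
        have h1 := (QuotientGroup.eq (s := Subgroup.center E)).mpr h
        simp only [t, QuotientGroup.out_eq'] at h1
        exact h1.symm)
      rw [Subgroup.mem_center_iff] at hx
      push Not at hx
      obtain ⟨e, he⟩ := hx
      have hks : c ^ k e (t q1) ≠ c ^ k e (t q0) := fun h => he (by
        rw [(orderOf_pos_iff.mp (hc ▸ hp.out.pos : 0 < orderOf c)).pow_eq_pow_iff_modEq, hc, ← hz,
          ← pow_eq_pow_iff_modEq, ← hk1, ← hk1] at h
        have h2 : e * t q0 * e⁻¹ * (t q0)⁻¹ = e * t q1 * e⁻¹ * (t q1)⁻¹ := by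
          rw [← commutatorElement_def, ← commutatorElement_def]; exact h.symm
        have h3 : e * t q1 * e⁻¹ * (t q1)⁻¹ ∈ Subgroup.center E := by
          rw [← commutatorElement_def]; exact hcm _ _
        calc e * ((t q0)⁻¹ * t q1)
            = (e * t q0 * e⁻¹)⁻¹ * (e * t q1 * e⁻¹) * e := by group
          _ = (t q0)⁻¹ * ((e * t q0 * e⁻¹ * (t q0)⁻¹)⁻¹ * (e * t q1 * e⁻¹ * (t q1)⁻¹)) * t q1 * e := by group
          _ = _ := by rw [h2, inv_mul_cancel, mul_one])
      have hsum : ∑ q ∈ s, (a q * (c ^ k e (t q) - c ^ k e (t q0))) • T q = 0 := by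
        have h1 : ∑ q ∈ s, (a q * c ^ k e (t q)) • T q = 0 := by
          have := congrArg (fun f => ρ e * f * ρ e⁻¹) ha
          simp only [Finset.mul_sum, Finset.sum_mul, mul_smul_comm, smul_mul_assoc, hconj, smul_smul,
            mul_zero, zero_mul] at this
          exact this
        have h2 : ∑ q ∈ s, (c ^ k e (t q0) * a q) • T q = 0 := by
          simp only [← smul_smul, ← Finset.smul_sum, ha, smul_zero]
        simp only [mul_sub, sub_smul, Finset.sum_sub_distrib, h1, zero_sub, neg_eq_zero]
        simpa only [mul_comm] using h2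
      rw [← Finset.add_sum_erase _ _ hq0, sub_self, mul_zero, zero_smul, zero_add] at hsum
      exact (mul_eq_zero.mp (ih (s.erase q0) (Finset.erase_ssubset hq0) _ hsum q1
        (Finset.mem_erase.mpr ⟨hne, hq1⟩))).resolve_right (sub_ne_zero.mpr hks)
    rw [Finset.sum_eq_single_of_mem q0 hq0 fun q hq hne => by rw [hothers q hq hne, zero_smul]] at ha
    by_contra h0
    obtain ⟨x, hx⟩ := exists_ne (0 : W)
    refine hx ?_
    have h1 : T q0 = 0 := (smul_eq_zero.mp ha).resolve_left h0
    have h2 := congrArg (fun f => (ρ (t q0)⁻¹ * f) x) h1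
    simpa [T, ← map_mul] using h2
  haveI : Fintype (E ⧸ Subgroup.center E) := Fintype.ofFinite _
  have h1 := hindep.fintype_card_le_finrank
  rw [Module.finrank_linearMap, ← Nat.card_eq_fintype_card] at h1
  have h2 := Subgroup.card_eq_card_quotient_mul_card_subgroup (Subgroup.center E)
  rw [hcard, hE.2, pow_succ] at h2
  rw [← Nat.eq_of_mul_eq_mul_right hp.out.pos h2, pow_mul', sq] at h1
  exact Nat.mul_self_le_mul_self_iff.mp h1

/-- the bound for matrices over the prime field -/
theorem matrix_bound {E : Type u} [Group E] [Finite E] (hE : Cfsg.IsExtraspecial p E) {w : ℕ}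
    (hcard : Nat.card E = p ^ (2 * w + 1)) {r : ℕ} [hr : Fact r.Prime] (hpr : p ≠ r) {m n : ℕ}
    (hmin : ∀ k : ℕ, 1 ≤ k → p ∣ r ^ k - 1 → n ≤ k)
    (M : E →* Matrix (Fin m) (Fin m) (ZMod r)) (hM : Function.Injective M) :
    n * p ^ w ≤ m := by
  classical
  obtain ⟨z, hz⟩ := exists_prime_orderOf_dvd_card' (G := Subgroup.center E) p (dvd_of_eq hE.2.symm)
  have hzc : (z : E) ∈ Subgroup.center E := z.2
  rw [← Subgroup.orderOf_coe] at hz
  let K := AlgebraicClosure (ZMod r)
  let V := Fin m → K
  haveI : CharP K r := charP_of_injective_algebraMap (algebraMap (ZMod r) K).injective r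
  let ι : Matrix (Fin m) (Fin m) (ZMod r) →* Matrix (Fin m) (Fin m) K :=
    (RingHom.mapMatrix (algebraMap (ZMod r) K)).toMonoidHom
  let ρ : E →* Module.End K V :=
    ((Matrix.toLinAlgEquiv' : Matrix (Fin m) (Fin m) K ≃ₐ[K] _).toMonoidHom).comp (ι.comp M)
  have hρinj : Function.Injective ρ :=
    (Matrix.toLinAlgEquiv' (R := K)).injective.comp
      ((Matrix.map_injective (algebraMap (ZMod r) K).injective).comp hM)
  let F : K →+* K := frobenius K r
  have hF : ∀ (e : E) (v : V), (fun i => F (ρ e v i)) = ρ e (fun i => F (v i)) := by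
    intro e v
    funext i
    show F (((M e).map (algebraMap (ZMod r) K)).mulVec v i) = ((M e).map (algebraMap (ZMod r) K)).mulVec _ i
    rw [RingHom.map_mulVec]
    congr 1
    · ext a b
      show F (algebraMap (ZMod r) K (M e a b)) = algebraMap (ZMod r) K (M e a b)
      rw [frobenius_def, ← map_pow, ZMod.pow_card]
  -- an eigenvalue different from one
  set T := ρ (z : E)
  have hT : T ^ p = 1 := by rw [← map_pow, ← hz, pow_orderOf_eq_one, map_one]
  have hp0 : (p : K) ≠ 0 := fun h => hpr (((Nat.prime_dvd_prime_iff_eq hr.out hp.out).mp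
    ((CharP.cast_eq_zero_iff K r p).mp h)).symm)
  obtain ⟨c, v, hv0, hv, hc1⟩ : ∃ (c : K) (v : V), v ≠ 0 ∧ T v = c • v ∧ c ≠ 1 := by
    let S := LinearMap.range (T - 1)
    have hS : ∀ x ∈ S, T x ∈ S := by
      rintro _ ⟨y, rfl⟩
      exact ⟨T y, by simp⟩
    haveI : Nontrivial S := Submodule.nontrivial_iff_ne_bot.2 fun h => hp.out.one_lt.ne (by
      rw [← hz, eq_comm, orderOf_eq_one_iff]
      refine hρinj ?_
      rw [map_one]
      exact sub_eq_zero.mp (LinearMap.range_eq_bot.mp h))
    obtain ⟨c, hc⟩ := Module.End.exists_eigenvalue (T.restrict hS)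
    obtain ⟨⟨v, hvS⟩, hv⟩ := hc.exists_hasEigenvector
    have hv1 : T v = c • v := congrArg Subtype.val hv.apply_eq_smul
    refine ⟨c, v, fun h => hv.2 (Subtype.ext h), hv1, fun h1 => hv.2 (Subtype.ext ?_)⟩
    obtain ⟨u, hu⟩ := hvS
    subst h1
    rw [one_smul] at hv1
    have hit : ∀ i : ℕ, (T ^ i) u = u + (i : K) • v := by
      intro i
      induction i with
      | zero => simp
      | succ i ihi =>
        have hu' : T u = u + v := by rw [← hu]; simp
        rw [pow_succ', Module.End.mul_apply, ihi, map_add, map_smul, hv1, hu', Nat.cast_succ, add_smul, one_smul]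
        abel
    have h5 := hit p
    rw [hT, Module.End.one_apply, left_eq_add] at h5
    exact (smul_eq_zero.mp h5).resolve_left hp0
  have hcp : c ^ p = 1 := by
    have hit : ∀ i : ℕ, (T ^ i) v = c ^ i • v := fun i => by
      induction i with
      | zero => simp
      | succ i ihi => rw [pow_succ', Module.End.mul_apply, ihi, map_smul, hv, smul_smul, ← pow_succ]
    have h5 := hit p
    rw [hT, Module.End.one_apply] at h5
    exact (smul_left_injective K hv0 (h5.symm.trans (one_smul K v).symm))
  have hco : orderOf c = p := orderOf_eq_prime hcp hc1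
  -- the conjugate eigenvalues
  let lam : Fin n → K := fun i => c ^ r ^ (i : ℕ)
  have hlam : Function.Injective lam := by
    have key : ∀ i j : ℕ, i ≤ j → j < n → c ^ r ^ i = c ^ r ^ j → i = j := by
      intro i j hij hj h
      by_contra hne
      rw [(orderOf_pos_iff.mp (hco ▸ hp.out.pos : 0 < orderOf c)).pow_eq_pow_iff_modEq, hco] at h
      have hd : p ∣ r ^ (j - i) - 1 := by
        have h1 : p ∣ r ^ j - r ^ i := (Nat.modEq_iff_dvd' (Nat.pow_le_pow_right hr.out.pos hij)).mp h
        rw [show r ^ j - r ^ i = r ^ i * (r ^ (j - i) - 1) by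
          rw [Nat.mul_sub, ← pow_add, mul_one, Nat.add_sub_cancel' hij]] at h1
        exact (Nat.Coprime.pow_right i ((Nat.coprime_primes hp.out hr.out).mpr hpr)).dvd_of_dvd_mul_left h1
      have := hmin _ (by omega) hd
      omega
    intro a b h
    refine Fin.ext ?_
    rcases le_total (a : ℕ) b with hab | hab
    · exact key _ _ hab b.2 h
    · exact (key _ _ hab a.2 h.symm).symm
  have hne : ∀ i : ℕ, ∃ v : V, v ≠ 0 ∧ T v = (c ^ r ^ i) • v := by
    intro i
    induction i with
    | zero => exact ⟨v, hv0, by rw [pow_zero, pow_one, hv]⟩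
    | succ i ihi =>
      obtain ⟨u, hu0, hu⟩ := ihi
      refine ⟨fun j => F (u j), fun h => hu0 (funext fun j => ?_), ?_⟩
      · exact F.injective ((congrFun h j).trans (map_zero F).symm)
      · rw [← hF, hu]
        funext j
        show F (c ^ r ^ i * u j) = c ^ r ^ (i + 1) * F (u j)
        rw [map_mul, frobenius_def, ← pow_mul, ← pow_succ]
  have hdim : ∀ i : Fin n, p ^ w ≤ finrank K (T.eigenspace (lam i)) := by
    intro i
    set W := T.eigenspace (lam i)
    have hW : ∀ e : E, ∀ x ∈ W, ρ e x ∈ W := fun e x hx => by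
      rw [Module.End.mem_eigenspace_iff] at hx ⊢
      rw [← Module.End.mul_apply, ← map_mul, ← Subgroup.mem_center_iff.mp hzc e, map_mul,
        Module.End.mul_apply, hx, map_smul]
    let σ : E →* Module.End K W :=
      { toFun := fun e => (ρ e).restrict (hW e)
        map_one' := LinearMap.ext fun x => Subtype.ext (by simp)
        map_mul' := fun a b => LinearMap.ext fun x => Subtype.ext (by simp) }
    haveI : Nontrivial W := by
      obtain ⟨u, hu0, hu⟩ := hne i
      exact Submodule.nontrivial_iff_ne_bot.2 fun h =>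
        hu0 ((Submodule.mem_bot K).mp (h ▸ Module.End.mem_eigenspace_iff.mpr hu))
    refine dim_ge hE hcard hzc hz σ (c := lam i) ?_ ?_
    · rw [orderOf_pow' _ (pow_ne_zero _ hr.out.ne_zero), hco,
        Nat.Coprime.pow_right (i : ℕ) ((Nat.coprime_primes hp.out hr.out).mpr hpr), Nat.div_one]
    · refine LinearMap.ext fun x => Subtype.ext ?_
      exact (Module.End.mem_eigenspace_iff.mp x.2)
  have hsum : ∀ s : Finset (Fin n), s.card * p ^ w ≤ finrank K ↥(s.sup fun i => T.eigenspace (lam i)) := by
    intro s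
    induction s using Finset.induction_on with
    | empty => simp
    | insert i s his ih =>
      have hdis : Disjoint (T.eigenspace (lam i)) (s.sup fun i => T.eigenspace (lam i)) :=
        ((Module.End.eigenspaces_iSupIndep T).comp hlam).supIndep' (insert i s) (Finset.subset_insert i s)
          (Finset.mem_insert_self i s) his
      rw [Finset.sup_insert, Finset.card_insert_of_notMem his, Nat.succ_mul]
      have := Submodule.finrank_sup_add_finrank_inf_eq (T.eigenspace (lam i)) (s.sup fun i => T.eigenspace (lam i))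
      rw [hdis.eq_bot, finrank_bot, add_zero] at this
      rw [this, add_comm]
      exact Nat.add_le_add (hdim i) ih
  have h := (hsum Finset.univ).trans (Submodule.finrank_le _)
  rwa [Finset.card_univ, Fintype.card_fin, Module.finrank_fin_fun] at h

end Cfsg.Lib.ExtraFaithful
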