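import Cfsg.Agent.Components.Misc.ExtraFaithful

/-!
Faithful action of an extraspecial group on an elementary abelian group.
-/

set_option linter.style.haveILetI false
set_option linter.unusedSectionVars false

namespace Cfsg.Lib.ExtraFaithful

universe u

theorem card_bound {p r : ℕ} [Fact p.Prime] [hr : Fact r.Prime] (hpr : p ≠ r)
    {E : Type u} [Group E] [Finite E] (A : Type u) [CommGroup A] [Finite A] [Module (ZMod r) (Additive A)]
    (φ : E →* MulAut A) (hφ : Function.Injective φ) {w : ℕ} (hE : Cfsg.IsExtraspecial p E)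
    (hcard : Nat.card E = p ^ (2 * w + 1)) {n : ℕ} (hmin : ∀ k : ℕ, 1 ≤ k → p ∣ r ^ k - 1 → n ≤ k) :
    r ^ (n * p ^ w) ≤ Nat.card A := by
  classical
  let ρ : E →* Module.End (ZMod r) (Additive A) := (Cfsg.Lib.HallHigman.mulAutToEnd (p := r) A).comp φ
  haveI : Finite (Additive A) := inferInstanceAs (Finite A)
  haveI : FiniteDimensional (ZMod r) (Additive A) := Module.Finite.of_finite
  let b := Module.finBasis (ZMod r) (Additive A)
  have hρ : Function.Injective ρ := fun x y h => hφ (MulEquiv.ext fun a =>
    Additive.ofMul.injective (LinearMap.congr_fun h (Additive.ofMul a)))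
  have h := matrix_bound hE hcard hpr hmin ((LinearMap.toMatrixAlgEquiv b).toMonoidHom.comp ρ)
    ((LinearMap.toMatrixAlgEquiv b).injective.comp hρ)
  calc r ^ (n * p ^ w) ≤ r ^ Module.finrank (ZMod r) (Additive A) := Nat.pow_le_pow_right hr.out.pos h
    _ = Nat.card A := by
      rw [← Nat.card_congr (Additive.ofMul (α := A)).symm, Module.natCard_eq_pow_finrank (K := ZMod r), Nat.card_zmod]

end Cfsg.Lib.ExtraFaithful
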