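import Cfsg.Agent.Components.Misc.PointCount
import Cfsg.Agent.PGroups.Basic
import Cfsg.Prelude

/-!
Bounds on the prime for fusion of an extraspecial Sylow subgroup of order `p ^ 3` and exponent `p`.
-/

set_option linter.style.haveILetI false
set_option linter.unusedSectionVars false

namespace Cfsg.Lib.ExtraFusion

open Subgroup Matrix
open scoped commutatorElement Classical

universe u

variable {G : Type u} [Group G] [Finite G] {p : ℕ} [hp : Fact p.Prime]

abbrev Vp (p : ℕ) := Fin 2 → ZMod p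

/-- powers with exponents modulo `p` -/
noncomputable def pw (x : G) (s : ZMod p) : G := x ^ s.val

theorem pow_mod_eq {x : G} (hx : x ^ p = 1) (n : ℕ) : x ^ (n % p) = x ^ n := by
  conv_rhs => rw [← Nat.mod_add_div n p, pow_add, pow_mul, hx, one_pow, mul_one]

theorem pw_add {x : G} (hx : x ^ p = 1) (s t : ZMod p) : pw x (s + t) = pw x s * pw x t := by
  rw [pw, pw, pw, ZMod.val_add, pow_mod_eq hx, pow_add]

theorem pw_mul {x : G} (hx : x ^ p = 1) (s t : ZMod p) : pw (pw x s) t = pw x (s * t) := by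
  rw [pw, pw, pw, ZMod.val_mul, pow_mod_eq hx, pow_mul]

/-- a pair of commuting elements of order dividing `p` as a homomorphism -/
noncomputable def ehom (z a : G) (hz : z ^ p = 1) (ha : a ^ p = 1) (hc : Commute z a) :
    Multiplicative (Vp p) →* G :=
  MonoidHom.mk' (fun v => pw z (Multiplicative.toAdd v 0) * pw a (Multiplicative.toAdd v 1)) fun v w => by
    show pw z (Multiplicative.toAdd v 0 + Multiplicative.toAdd w 0) *
      pw a (Multiplicative.toAdd v 1 + Multiplicative.toAdd w 1) = _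
    rw [pw_add hz, pw_add ha]
    exact Commute.mul_mul_mul_comm (hc.pow_pow _ _) _ _

/-- `g` acts on the plane of `e` through `M` -/
def Ind (e : Multiplicative (Vp p) →* G) (g : G) (M : Matrix (Fin 2) (Fin 2) (ZMod p)) : Prop :=
  ∀ v : Vp p, g * e (Multiplicative.ofAdd v) * g⁻¹ = e (Multiplicative.ofAdd (M *ᵥ v))

section IndSec

variable {e : Multiplicative (Vp p) →* G}

theorem Ind.mul {g h : G} {M M' : Matrix (Fin 2) (Fin 2) (ZMod p)} (hg : Ind e g M) (hh : Ind e h M') :
    Ind e (g * h) (M * M') := fun v => by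
  rw [show g * h * e (Multiplicative.ofAdd v) * (g * h)⁻¹ =
    g * (h * e (Multiplicative.ofAdd v) * h⁻¹) * g⁻¹ by group, hh v, hg, Matrix.mulVec_mulVec]

theorem Ind.one : Ind e 1 1 := fun v => by simp

theorem Ind.pow {g : G} {M : Matrix (Fin 2) (Fin 2) (ZMod p)} (hg : Ind e g M) :
    ∀ n : ℕ, Ind e (g ^ n) (M ^ n)
  | 0 => by simpa using Ind.one
  | n + 1 => by rw [pow_succ, pow_succ]; exact (hg.pow n).mul hg

theorem Ind.inv {g : G} {M M' : Matrix (Fin 2) (Fin 2) (ZMod p)} (hg : Ind e g M) (h : M * M' = 1) :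
    Ind e g⁻¹ M' := fun v => by
  have := hg (M' *ᵥ v)
  rw [Matrix.mulVec_mulVec, h, Matrix.one_mulVec] at this
  rw [← this]
  group

theorem Ind.of_basis {g : G} {M : Matrix (Fin 2) (Fin 2) (ZMod p)}
    (h : ∀ i : Fin 2, g * e (Multiplicative.ofAdd (Pi.single i 1)) * g⁻¹ =
      e (Multiplicative.ofAdd (M *ᵥ Pi.single i 1))) : Ind e g M := by
  intro v
  have key : ∀ (i : Fin 2) (n : ℕ), g * e (Multiplicative.ofAdd (Pi.single i (n : ZMod p))) * g⁻¹ =
      e (Multiplicative.ofAdd (M *ᵥ Pi.single i (n : ZMod p))) := by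
    intro i n
    induction n with
    | zero => simp
    | succ n ih =>
      rw [Nat.cast_succ, Pi.single_add, Matrix.mulVec_add, ofAdd_add, ofAdd_add, map_mul, map_mul, ← ih, ← h i]
      group
  have hv : v = Pi.single 0 ((v 0).val : ZMod p) + Pi.single 1 ((v 1).val : ZMod p) := by
    funext i
    fin_cases i <;> simp
  rw [hv, Matrix.mulVec_add, ofAdd_add, ofAdd_add, map_mul, map_mul, ← key, ← key]
  group

end IndSec

theorem upper_pow (s : ZMod p) : ∀ n : ℕ, (!![1, s; 0, 1] : Matrix (Fin 2) (Fin 2) (ZMod p)) ^ n = !![1, n * s; 0, 1]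
  | 0 => by simp [Matrix.one_fin_two]
  | n + 1 => by
    rw [pow_succ, upper_pow s n]
    ext i j
    fin_cases i <;> fin_cases j <;> simp [Matrix.mul_apply, Fin.sum_univ_two] <;> ring

theorem lower_pow (s : ZMod p) : ∀ n : ℕ, (!![1, 0; s, 1] : Matrix (Fin 2) (Fin 2) (ZMod p)) ^ n = !![1, 0; n * s, 1]
  | 0 => by simp [Matrix.one_fin_two]
  | n + 1 => by
    rw [pow_succ, lower_pow s n]
    ext i j
    fin_cases i <;> fin_cases j <;> simp [Matrix.mul_apply, Fin.sum_univ_two] <;> ring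

theorem exists_corner_pow (i k : ZMod p) : ∀ n : ℕ, ((!![i, 0; k, 1] : Matrix (Fin 2) (Fin 2) (ZMod p)) ^ n) 0 0 = i ^ n ∧
    ((!![i, 0; k, 1] : Matrix (Fin 2) (Fin 2) (ZMod p)) ^ n) 0 1 = 0
  | 0 => by simp
  | n + 1 => by
    obtain ⟨h1, h2⟩ := exists_corner_pow i k n
    rw [pow_succ]
    refine ⟨?_, ?_⟩ <;> simp [Matrix.mul_apply, Fin.sum_univ_two, h1, h2, pow_succ]

section Setting

variable (P : Sylow p G) (hE : IsExtraspecial p ↥(P : Subgroup G)) (hcard : Nat.card ↥(P : Subgroup G) = p ^ 3)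
  (hexp : Monoid.exponent ↥(P : Subgroup G) = p)

include hexp in
theorem pow_p {x : G} (hx : x ∈ (P : Subgroup G)) : x ^ p = 1 := by
  have := Monoid.pow_exponent_eq_one (⟨x, hx⟩ : ↥(P : Subgroup G))
  rw [hexp] at this
  simpa using congrArg Subtype.val this

/-- the centre of `P` in `G` -/
def Zc : Subgroup G := (center ↥(P : Subgroup G)).map (P : Subgroup G).subtype

theorem zc_comm {z x : G} (hz : z ∈ Zc P) (hx : x ∈ (P : Subgroup G)) : x * z = z * x := by
  obtain ⟨z', hz', rfl⟩ := hz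
  exact congrArg Subtype.val (mem_center_iff.mp hz' ⟨x, hx⟩)

theorem mem_zc {x : G} (hx : x ∈ (P : Subgroup G)) (h : ∀ y ∈ (P : Subgroup G), y * x = x * y) : x ∈ Zc P :=
  ⟨⟨x, hx⟩, mem_center_iff.mpr fun y => Subtype.ext (h y y.2), rfl⟩

include hE in
theorem comm_mem_zc {x y : G} (hx : x ∈ (P : Subgroup G)) (hy : y ∈ (P : Subgroup G)) :
    x * y * x⁻¹ * y⁻¹ ∈ Zc P := by
  refine ⟨⁅(⟨x, hx⟩ : ↥(P : Subgroup G)), ⟨y, hy⟩⁆, ?_, by simp [commutatorElement_def]⟩
  rw [SetLike.mem_coe, ← hE.1.2.2]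
  exact commutator_mem_commutator (mem_top _) (mem_top _)

include hE in
theorem card_zc : Nat.card (Zc P) = p := by
  rw [Zc, ← Nat.card_congr (equivMapOfInjective _ _ (P : Subgroup G).subtype_injective).toEquiv]
  exact hE.2

/-- the data of a non-central element -/
structure Frame (a : G) where
  b : G
  z : G
  hb : b ∈ (P : Subgroup G)
  ha : a ∈ (P : Subgroup G)
  hz : z ∈ Zc P
  hz1 : z ≠ 1
  hba : b * a * b⁻¹ = z * a
  hzp : z ^ p = 1
  hap : a ^ p = 1
  hbp : b ^ p = 1

include hE hexp in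
theorem exists_frame {a : G} (ha : a ∈ (P : Subgroup G)) (haz : a ∉ Zc P) : Nonempty (Frame P a) := by
  obtain ⟨b, hb, hba⟩ : ∃ b ∈ (P : Subgroup G), b * a ≠ a * b := by
    by_contra h
    push Not at h
    exact haz (mem_zc P ha h)
  have hz := comm_mem_zc P hE hb ha
  refine ⟨⟨b, b * a * b⁻¹ * a⁻¹, hb, ha, hz, fun e => hba ?_, by group,
    pow_p P hexp ((map_subtype_le _) hz), pow_p P hexp ha, pow_p P hexp hb⟩⟩
  calc b * a = (b * a * b⁻¹ * a⁻¹) * (a * b) := by group
    _ = a * b := by rw [e, one_mul]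

variable {P}

theorem Frame.zP {a : G} (F : Frame P a) : F.z ∈ (P : Subgroup G) := map_subtype_le _ F.hz

theorem Frame.comm {a : G} (F : Frame P a) : Commute F.z a := (zc_comm P F.hz F.ha).symm

noncomputable def Frame.e {a : G} (F : Frame P a) : Multiplicative (Vp p) →* G :=
  ehom F.z a F.hzp F.hap F.comm

theorem Frame.e_apply {a : G} (F : Frame P a) (v : Vp p) :
    F.e (Multiplicative.ofAdd v) = pw F.z (v 0) * pw a (v 1) := rfl

theorem Frame.e_zero {a : G} (F : Frame P a) : F.e (Multiplicative.ofAdd (Pi.single 0 1)) = F.z := by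
  rw [F.e_apply]; simp [pw, ZMod.val_one]

theorem Frame.e_one {a : G} (F : Frame P a) : F.e (Multiplicative.ofAdd (Pi.single 1 1)) = a := by
  rw [F.e_apply]; simp [pw, ZMod.val_one]

theorem Frame.pw_mem {a : G} (F : Frame P a) (s : ZMod p) : pw F.z s ∈ Zc P := (Zc P).pow_mem F.hz _

theorem Frame.a_not_mem {a : G} (F : Frame P a) : a ∉ Zc P := fun h => F.hz1 (by
  have h1 := F.hba
  rw [zc_comm P h F.hb, mul_inv_cancel_right] at h1
  exact mul_eq_right.mp h1.symm)

theorem Frame.e_injective {a : G} (F : Frame P a) : Function.Injective F.e := by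
  rw [injective_iff_map_eq_one]
  intro v hv
  have hv' : pw F.z (Multiplicative.toAdd v 0) * pw a (Multiplicative.toAdd v 1) = 1 := hv
  have h1 : pw a (Multiplicative.toAdd v 1) ∈ Zc P := by
    rw [eq_inv_of_mul_eq_one_right hv']
    exact (Zc P).inv_mem (F.pw_mem _)
  have hj : Multiplicative.toAdd v 1 = 0 := by
    by_contra hne
    apply F.a_not_mem
    have h2 := (Zc P).pow_mem h1 ((Multiplicative.toAdd v 1)⁻¹).val
    have h3 : pw (pw a (Multiplicative.toAdd v 1)) (Multiplicative.toAdd v 1)⁻¹ = a := by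
      rw [pw_mul F.hap, mul_inv_cancel₀ hne, pw, ZMod.val_one, pow_one]
    rwa [← h3]
  rw [hj, pw, pw, ZMod.val_zero, pow_zero, mul_one] at hv'
  have hi : Multiplicative.toAdd v 0 = 0 := by
    refine (ZMod.val_eq_zero _).mp (Nat.eq_zero_of_dvd_of_lt ?_ (ZMod.val_lt _))
    have h := orderOf_dvd_of_pow_eq_one hv'
    rwa [orderOf_eq_prime F.hzp F.hz1] at h
  have : Multiplicative.toAdd v = 0 := by funext i; fin_cases i; exacts [hi, hj]
  exact this

theorem Frame.range_le {a : G} (F : Frame P a) : F.e.range ≤ (P : Subgroup G) := by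
  rintro _ ⟨v, rfl⟩
  exact mul_mem (pow_mem F.zP _) (pow_mem F.ha _)

theorem Frame.card_range {a : G} (F : Frame P a) : Nat.card F.e.range = p ^ 2 := by
  rw [← Nat.card_congr (MonoidHom.ofInjective F.e_injective).toEquiv,
    Nat.card_congr (Multiplicative.toAdd (α := Vp p)), Nat.card_fun, Nat.card_zmod, Nat.card_eq_fintype_card,
    Fintype.card_fin]

include hE in
theorem Frame.zc_eq {a : G} (F : Frame P a) {w : G} (hw : w ∈ Zc P) : ∃ i : ZMod p, w = pw F.z i := by
  have h1 : zpowers F.z = Zc P := Subgroup.eq_of_le_of_card_ge (zpowers_le.mpr F.hz)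
    (by rw [card_zc P hE, Nat.card_zpowers, orderOf_eq_prime F.hzp F.hz1])
  rw [← h1, ← mem_powers_iff_mem_zpowers] at hw
  obtain ⟨n, rfl⟩ := hw
  exact ⟨n, by rw [pw, ZMod.val_natCast, pow_mod_eq F.hzp]⟩

theorem Frame.ind_b {a : G} (F : Frame P a) : Ind F.e F.b !![1, 1; 0, 1] := by
  refine Ind.of_basis fun i => ?_
  fin_cases i
  · show F.b * F.e (Multiplicative.ofAdd (Pi.single 0 1)) * F.b⁻¹ = _
    rw [F.e_zero, zc_comm P F.hz F.hb, mul_inv_cancel_right, F.e_apply]
    simp [Matrix.mulVec, dotProduct, Fin.sum_univ_two, pw, ZMod.val_one]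
  · show F.b * F.e (Multiplicative.ofAdd (Pi.single 1 1)) * F.b⁻¹ = _
    rw [F.e_one, F.hba, F.e_apply]
    simp [Matrix.mulVec, dotProduct, Fin.sum_univ_two, pw, ZMod.val_one]

/-- the transvection fixing `a` -/
def HasLower {a : G} (F : Frame P a) : Prop := ∃ y : G, ∃ k : ZMod p, k ≠ 0 ∧ Ind F.e y !![1, 0; k, 1]

include hE in
theorem exists_lift {a : G} (F : Frame P a) (hl : HasLower F) {t : ZMod p} (ht : t ≠ 0) :
    ∃ n ∈ normalizer ((P : Subgroup G) : Set G), ∃ i : ZMod p, Ind F.e n !![t, i; 0, t⁻¹] := by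
  obtain ⟨y, k, hk, hy⟩ := hl
  have hU : ∀ s : ZMod p, ∃ g, Ind F.e g !![1, s; 0, 1] := fun s => ⟨F.b ^ s.val, by
    have := F.ind_b.pow s.val
    rwa [upper_pow, mul_one, ZMod.natCast_rightInverse s] at this⟩
  have hL : ∀ s : ZMod p, ∃ g, Ind F.e g !![1, 0; s, 1] := fun s => ⟨y ^ (s * k⁻¹).val, by
    have := hy.pow (s * k⁻¹).val
    rwa [lower_pow, ZMod.natCast_rightInverse (s * k⁻¹), inv_mul_cancel_right₀ hk] at this⟩
  obtain ⟨u1, hu1⟩ := hU t
  obtain ⟨l1, hl1⟩ := hL (-t⁻¹)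
  obtain ⟨u2, hu2⟩ := hU (-1)
  obtain ⟨l2, hl2⟩ := hL 1
  have hg := (((((hu1.mul hl1).mul hu1).mul hu2).mul hl2).mul hu2)
  set g := u1 * l1 * u1 * u2 * l2 * u2
  replace hg : Ind F.e g !![t, 0; 0, t⁻¹] := by
    convert hg using 1
    ext i j
    fin_cases i <;> fin_cases j <;> simp [Matrix.mul_apply, Fin.sum_univ_two, ht]
  let S : Subgroup G :=
    { carrier := {x | ∃ i, Ind F.e x !![1, i; 0, 1]}
      one_mem' := ⟨0, by simpa [Matrix.one_fin_two] using (Ind.one : Ind F.e 1 1)⟩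
      mul_mem' := by
        rintro x x' ⟨i, hi⟩ ⟨j, hj⟩
        refine ⟨j + i, ?_⟩
        convert hi.mul hj using 1
        ext i' j'
        fin_cases i' <;> fin_cases j' <;> simp [Matrix.mul_apply, Fin.sum_univ_two]
      inv_mem' := by
        rintro x ⟨i, hi⟩
        refine ⟨-i, hi.inv ?_⟩
        ext i' j'
        fin_cases i' <;> fin_cases j' <;> simp [Matrix.mul_apply, Fin.sum_univ_two] }
  have hPS : ∀ x ∈ (P : Subgroup G), ∃ i, Ind F.e x !![1, i; 0, 1] := by
    intro x hx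
    obtain ⟨i, hi⟩ := F.zc_eq hE (comm_mem_zc P hE hx F.ha)
    refine ⟨i, Ind.of_basis fun c => ?_⟩
    fin_cases c
    · show x * F.e (Multiplicative.ofAdd (Pi.single 0 1)) * x⁻¹ = _
      rw [F.e_zero, zc_comm P F.hz hx, mul_inv_cancel_right, F.e_apply]
      simp [Matrix.mulVec, dotProduct, Fin.sum_univ_two, pw, ZMod.val_one]
    · show x * F.e (Multiplicative.ofAdd (Pi.single 1 1)) * x⁻¹ = _
      rw [F.e_one, show x * a * x⁻¹ = (x * a * x⁻¹ * a⁻¹) * a by group, hi, F.e_apply]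
      simp [Matrix.mulVec, dotProduct, Fin.sum_univ_two, pw, ZMod.val_one]
  let Q : Sylow p G := MulAut.conj g • P
  have hQS : (Q : Subgroup G) ≤ S := by
    intro x hx
    obtain ⟨b', hb', rfl⟩ := hx
    obtain ⟨i, hi⟩ := hPS b' hb'
    show ∃ i, Ind F.e (g * b' * g⁻¹) _
    refine ⟨t * i * t, ?_⟩
    have hginv : Ind F.e g⁻¹ !![t⁻¹, 0; 0, t] := hg.inv (by
      ext i' j'
      fin_cases i' <;> fin_cases j' <;> simp [Matrix.mul_apply, Fin.sum_univ_two, ht])
    convert (hg.mul hi).mul hginv using 1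
    ext i' j'
    fin_cases i' <;> fin_cases j' <;> simp [Matrix.mul_apply, Fin.sum_univ_two, ht]
  have hPS' : (P : Subgroup G) ≤ S := fun x hx => hPS x hx
  haveI : Finite (Sylow p S) := inferInstance
  obtain ⟨m, hm⟩ := MulAction.exists_smul_eq S (Q.subtype hQS) (P.subtype hPS')
  obtain ⟨i, hi⟩ := m.2
  refine ⟨(m : G) * g, ?_, i * t⁻¹, ?_⟩
  · refine Sylow.smul_eq_iff_mem_normalizer.mp ?_
    rw [mul_smul]
    refine Sylow.subtype_injective (hP := ?_) (hQ := hPS') ?_
    · intro x hx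
      obtain ⟨q, hq, rfl⟩ := hx
      exact S.mul_mem (S.mul_mem m.2 (hQS hq)) (S.inv_mem m.2)
    · rw [← hm, Sylow.smul_subtype]
      rfl
  · convert hi.mul hg using 1
    ext i' j'
    fin_cases i' <;> fin_cases j' <;> simp [Matrix.mul_apply, Fin.sum_univ_two]

end Setting

section Count

variable (P : Sylow p G)

theorem plane_equiv_add {W : Type*} [AddCommGroup W] [Module (ZMod p) W] [Finite W] (hc : Nat.card W = p ^ 2) :
    Nonempty (W ≃+ Vp p) := by
  haveI : Module.Finite (ZMod p) W := Module.Finite.of_finite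
  have h : Nat.card W = Nat.card (ZMod p) ^ Module.finrank (ZMod p) W := Module.natCard_eq_pow_finrank
  rw [Nat.card_zmod, hc] at h
  exact ⟨(Module.finBasisOfFinrankEq (ZMod p) W (Nat.pow_right_injective hp.out.two_le h).symm).equivFun.toAddEquiv⟩

theorem plane_equiv {Q : Type*} [CommGroup Q] [Finite Q] (hc : Nat.card Q = p ^ 2) (hx : ∀ x : Q, x ^ p = 1) :
    Nonempty (Q ≃* Multiplicative (Vp p)) := by
  letI : Module (ZMod p) (Additive Q) := AddCommGroup.zmodModule fun x => hx (Additive.toMul x)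
  obtain ⟨e⟩ := plane_equiv_add (W := Additive Q) (p := p) hc
  exact ⟨AddEquiv.toMultiplicativeRight e⟩

theorem proj_exists (hE : IsExtraspecial p ↥(P : Subgroup G)) (hcard : Nat.card ↥(P : Subgroup G) = p ^ 3)
    (hexp : Monoid.exponent ↥(P : Subgroup G) = p) :
    ∃ π : ↥(P : Subgroup G) →* Multiplicative (Vp p), Function.Surjective π ∧ π.ker = center ↥(P : Subgroup G) := by
  set Z := center ↥(P : Subgroup G)
  letI : CommGroup (↥(P : Subgroup G) ⧸ Z) :=
    { (inferInstance : Group (↥(P : Subgroup G) ⧸ Z)) with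
      mul_comm := fun x y => by
        induction x using QuotientGroup.induction_on with
        | H x =>
          induction y using QuotientGroup.induction_on with
          | H y =>
            rw [← QuotientGroup.mk_mul, ← QuotientGroup.mk_mul, QuotientGroup.eq,
              show Z = commutator ↥(P : Subgroup G) from hE.1.2.2.symm,
              show (x * y)⁻¹ * (y * x) = ⁅y⁻¹, x⁻¹⁆ by group]
            exact commutator_mem_commutator (mem_top _) (mem_top _) }
  have hc : Nat.card (↥(P : Subgroup G) ⧸ Z) = p ^ 2 := by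
    have h := Subgroup.card_eq_card_quotient_mul_card_subgroup Z
    rw [hcard, show Nat.card Z = p from hE.2, show p ^ 3 = p ^ 2 * p by ring] at h
    exact (Nat.eq_of_mul_eq_mul_right hp.out.pos h).symm
  obtain ⟨e⟩ := plane_equiv (Q := ↥(P : Subgroup G) ⧸ Z) hc (fun x => by
    induction x using QuotientGroup.induction_on with
    | H x =>
      rw [← QuotientGroup.mk_pow]
      have := Monoid.pow_exponent_eq_one x
      rw [hexp] at this
      rw [this, QuotientGroup.mk_one])
  refine ⟨e.toMonoidHom.comp (QuotientGroup.mk' Z), e.surjective.comp (QuotientGroup.mk'_surjective Z), ?_⟩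
  rw [← MonoidHom.comap_ker, (MonoidHom.ker_eq_bot_iff _).mpr (MulEquiv.injective _), MonoidHom.comap_bot,
    QuotientGroup.ker_mk']

/-- the main counting argument -/
theorem count (hE : IsExtraspecial p ↥(P : Subgroup G)) (hcard : Nat.card ↥(P : Subgroup G) = p ^ 3)
    (hexp : Monoid.exponent ↥(P : Subgroup G) = p) {ι : Type} [Fintype ι] (a : ι → G)
    (F : ∀ i, Frame P (a i)) (hl : ∀ i, HasLower (F i))
    (hdist : ∀ i j, a j ∈ (F i).e.range → i = j) (E b : ℕ) (hEb : (E = 6 ∧ b = 3) ∨ (E = 4 ∧ b = 13))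
    (hb : b ≤ Fintype.card ι) (hE3 : ∀ k, 0 < k → k < E → ¬ (p - 1) ∣ 3 * k) : False := by
  obtain ⟨π, hπs, hπk⟩ := proj_exists P hE hcard hexp
  set N := normalizer ((P : Subgroup G) : Set G)
  let σ : Vp p → ↥(P : Subgroup G) := fun v => (hπs (Multiplicative.ofAdd v)).choose
  have hσ : ∀ v, π (σ v) = Multiplicative.ofAdd v := fun v => (hπs _).choose_spec
  have hinv : ∀ (n : N) (x y : ↥(P : Subgroup G)), π x = π y →
      π ((P : Subgroup G).normalizerMonoidHom n x) = π ((P : Subgroup G).normalizerMonoidHom n y) := by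
    intro n x y h
    rw [MonoidHom.eq_iff, hπk] at h
    rw [MonoidHom.eq_iff, hπk, ← map_inv, ← map_mul]
    exact (Subgroup.Characteristic.fixed (inferInstance : (center ↥(P : Subgroup G)).Characteristic)
      ((P : Subgroup G).normalizerMonoidHom n)).ge h
  let Tl : N → (Vp p →ₗ[ZMod p] Vp p) := fun n => AddMonoidHom.toZModLinearMap p
    (AddMonoidHom.mk' (fun v => Multiplicative.toAdd (π ((P : Subgroup G).normalizerMonoidHom n (σ v))))
      fun v w => by
        rw [hinv n (σ (v + w)) (σ v * σ w) (by rw [map_mul, hσ, hσ, hσ]; rfl), map_mul, map_mul]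
        rfl)
  have hTπ : ∀ n x, Tl n (Multiplicative.toAdd (π x)) =
      Multiplicative.toAdd (π ((P : Subgroup G).normalizerMonoidHom n x)) := fun n x =>
    congrArg Multiplicative.toAdd (hinv n _ _ (by rw [hσ]; rfl))
  let T₀ : N →* Module.End (ZMod p) (Vp p) :=
    { toFun := Tl
      map_one' := by
        refine LinearMap.ext fun v => ?_
        show Multiplicative.toAdd (π _) = v
        rw [map_one]
        show Multiplicative.toAdd (π (σ v)) = v
        rw [hσ]; rfl
      map_mul' := fun n m => by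
        refine LinearMap.ext fun v => ?_
        show Multiplicative.toAdd (π _) = Tl n (Tl m v)
        rw [show Tl m v = Multiplicative.toAdd (π ((P : Subgroup G).normalizerMonoidHom m (σ v))) from rfl,
          hTπ, map_mul]
        rfl }
  let K := AlgebraicClosure (ZMod p)
  let ιK := algebraMap (ZMod p) K
  let M : N →* Matrix (Fin 2) (Fin 2) (ZMod p) :=
    (LinearMap.toMatrixAlgEquiv' : Module.End (ZMod p) (Vp p) ≃ₐ[ZMod p] _).toMonoidHom.comp T₀
  let E₁ : N →* Module.End K (PointCount.V K) :=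
    (Matrix.toLinAlgEquiv' : Matrix (Fin 2) (Fin 2) K ≃ₐ[K] _).toMonoidHom.comp
      ((ιK.mapMatrix).toMonoidHom.comp M)
  let T : N →* (PointCount.V K ≃ₗ[K] PointCount.V K) :=
    (LinearMap.GeneralLinearGroup.generalLinearEquiv K (PointCount.V K)).toMonoidHom.comp E₁.toHomUnits
  let up : Vp p → PointCount.V K := fun v i => ιK (v i)
  have hTup : ∀ n v, T n (up v) = up (Tl n v) := by
    intro n v
    show (M n).map ιK *ᵥ up v = _
    funext i
    show ((M n).map ιK *ᵥ (ιK ∘ v)) i = _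
    rw [← RingHom.map_mulVec]
    show ιK (_) = ιK (_)
    congr 1
    show (LinearMap.toMatrix' (Tl n) *ᵥ v) i = _
    rw [LinearMap.toMatrix'_mulVec]
  have hPT : ∀ n : N, (n : G) ∈ (P : Subgroup G) → T₀ n = 1 := by
    intro n hn
    refine LinearMap.ext fun v => ?_
    show Multiplicative.toAdd (π _) = v
    have : (P : Subgroup G).normalizerMonoidHom n (σ v) = (⟨n, hn⟩ : ↥(P : Subgroup G)) * σ v * ⟨n, hn⟩⁻¹ :=
      Subtype.ext rfl
    rw [this, MonoidHom.map_mul, MonoidHom.map_mul, MonoidHom.map_inv, mul_comm (π _) (π (σ v)), mul_inv_cancel_right, hσ]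
    rfl
  have hord : ∀ n : N, ∃ m : ℕ, (m : K) ≠ 0 ∧ T n ^ m = 1 := by
    intro n
    set P' := (P : Subgroup G).subgroupOf N
    have hle : P' ≤ MonoidHom.ker T₀ := fun x hx => MonoidHom.mem_ker.mpr (hPT x hx)
    refine ⟨(MonoidHom.ker T₀).index, ?_, ?_⟩
    · intro h0
      have h1 : p ∣ (MonoidHom.ker T₀).index := (CharP.cast_eq_zero_iff K p _).mp h0
      have h2 : ¬ p ∣ P'.index := by
        have := P.not_dvd_index
        rw [← relIndex_mul_index (le_normalizer : (P : Subgroup G) ≤ N)] at this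
        exact fun h => this (dvd_mul_of_dvd_left h _)
      exact h2 (h1.trans (index_dvd_of_le hle))
    · rw [← map_pow]
      have hmem := Subgroup.pow_index_mem (MonoidHom.ker T₀) n
      rw [MonoidHom.mem_ker] at hmem
      refine LinearEquiv.ext fun w => ?_
      show E₁ (n ^ _) w = w
      have : E₁ (n ^ (MonoidHom.ker T₀).index) = 1 := by
        show _ = _
        simp only [E₁, M, MonoidHom.comp_apply, hmem, map_one]
      rw [this]
      rfl
  haveI : Finite T.range := Finite.of_surjective T.rangeRestrict T.rangeRestrict_surjective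
  let va : ι → Vp p := fun i => Multiplicative.toAdd (π ⟨a i, (F i).ha⟩)
  have hva : ∀ i, va i ≠ 0 := fun i h => (F i).a_not_mem (by
    have h1 : (⟨a i, (F i).ha⟩ : ↥(P : Subgroup G)) ∈ π.ker := MonoidHom.mem_ker.mpr h
    rw [hπk] at h1
    exact ⟨_, h1, rfl⟩)
  have hup0 : ∀ v : Vp p, v ≠ 0 → up v ≠ 0 := fun v hv h => hv (funext fun i => by
    have := congrFun h i
    exact ιK.injective (by simpa [up] using this))
  have hπZ : ∀ {w : G} (hw : w ∈ Zc P), π ⟨w, map_subtype_le _ hw⟩ = 1 := by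
    intro w hw
    obtain ⟨w', hw', rfl⟩ := hw
    have : w' ∈ π.ker := by rw [hπk]; exact hw'
    exact MonoidHom.mem_ker.mp this
  have hπe : ∀ i (v : Vp p), π ⟨(F i).e (Multiplicative.ofAdd v), (F i).range_le ⟨_, rfl⟩⟩ =
      Multiplicative.ofAdd (v 1 • va i) := by
    intro i v
    have e : (⟨(F i).e (Multiplicative.ofAdd v), (F i).range_le ⟨_, rfl⟩⟩ : ↥(P : Subgroup G)) =
        ⟨pw (F i).z (v 0), map_subtype_le _ ((F i).pw_mem _)⟩ * (⟨a i, (F i).ha⟩ : ↥(P : Subgroup G)) ^ (v 1).val :=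
      Subtype.ext rfl
    rw [e, map_mul, hπZ ((F i).pw_mem _), one_mul, map_pow]
    show Multiplicative.ofAdd ((v 1).val • va i) = _
    rw [← Nat.cast_smul_eq_nsmul (ZMod p), ZMod.natCast_rightInverse (v 1)]
  let L : ι → PointCount.Line K := fun i => PointCount.mkLine (up (va i)) (hup0 _ (hva i))
  have hLinj : Function.Injective L := by
    intro i j h
    obtain ⟨c, hc⟩ := (PointCount.mkLine_eq_iff _ _).mp h
    obtain ⟨l, hl⟩ := Function.ne_iff.mp (hva i)
    obtain ⟨c₀, hc₀⟩ : ∃ c₀ : ZMod p, va j = c₀ • va i := ⟨va j l / va i l, funext fun r => by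
      apply ιK.injective
      have h1 : ιK (va j l) = c * ιK (va i l) := congrFun hc l
      have h2 : ιK (va j r) = c * ιK (va i r) := congrFun hc r
      rw [h2, Pi.smul_apply, smul_eq_mul, map_mul, map_div₀, h1, mul_div_assoc,
        div_self ((map_ne_zero ιK).mpr hl), mul_one]⟩
    refine hdist i j ?_
    set v : Vp p := ![0, c₀]
    have hy : π ⟨a j, (F j).ha⟩ = π ⟨(F i).e (Multiplicative.ofAdd v), (F i).range_le ⟨_, rfl⟩⟩ := by
      rw [hπe]
      show Multiplicative.ofAdd (va j) = _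
      rw [hc₀]
      rfl
    rw [MonoidHom.eq_iff, hπk] at hy
    obtain ⟨i', hi'⟩ := (F i).zc_eq hE ⟨_, hy, rfl⟩
    have hz : pw (F i).z i' ∈ (F i).e.range :=
      ⟨Multiplicative.ofAdd (Pi.single 0 i'), by rw [(F i).e_apply]; simp [pw]⟩
    have e : a j = (F i).e (Multiplicative.ofAdd v) * pw (F i).z i' := by
      rw [← hi']
      simp
    rw [e]
    exact mul_mem ⟨_, rfl⟩ hz
  obtain ⟨t, ht⟩ := IsCyclic.exists_generator (α := (ZMod p)ˣ)
  have hto : orderOf t = p - 1 := by
    rw [orderOf_eq_card_of_forall_mem_zpowers ht, Nat.card_eq_fintype_card, ZMod.card_units]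
  refine PointCount.plane_bound T hord E b hEb (Finset.univ.image L)
    (by rwa [Finset.card_image_of_injective _ hLinj, Finset.card_univ]) fun W hW => ?_
  obtain ⟨i, -, rfl⟩ := Finset.mem_image.mp hW
  obtain ⟨n, hn, j, hnI⟩ := exists_lift hE (F i) (hl i) (t := (t : ZMod p)) t.ne_zero
  obtain ⟨s, hs⟩ : ∃ s : ZMod p, s = (t : ZMod p) := ⟨_, rfl⟩
  rw [← hs] at hnI
  refine ⟨⟨n, hn⟩, (PointCount.fix_iff _).mpr ⟨ιK (s⁻¹), ?_⟩, fun k hk hkE => ?_⟩
  · rw [hTup, hTπ]
    have e : (P : Subgroup G).normalizerMonoidHom ⟨n, hn⟩ ⟨a i, (F i).ha⟩ =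
        ⟨(F i).e (Multiplicative.ofAdd ![j, s⁻¹]), (F i).range_le ⟨_, rfl⟩⟩ := Subtype.ext (by
      show n * a i * n⁻¹ = (F i).e _
      conv_lhs => rw [← (F i).e_one]
      rw [hnI]
      congr 2
      funext r
      fin_cases r <;> simp [Matrix.mulVec, dotProduct, Fin.sum_univ_two])
    rw [e, hπe]
    funext r
    simp [up, map_mul]
  · by_contra hall
    push Not at hall
    set g : G := n ^ k
    set R := T ⟨n, hn⟩ ^ k
    have hscal : ∃ c : ZMod p, ∀ v, Tl ((⟨n, hn⟩ : N) ^ k) v = c • v := by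
      set f := Tl ((⟨n, hn⟩ : N) ^ k)
      have heig : ∀ v : Vp p, v ≠ 0 → ∃ d : K, up (f v) = d • up v := by
        intro v hv
        obtain ⟨d, hd⟩ := (PointCount.fix_iff (hup0 v hv)).mp (hall _)
        refine ⟨d, ?_⟩
        rw [← hTup, map_pow]
        exact hd
      obtain ⟨d0, h0⟩ := heig ![1, 0] (fun h => by simpa using congrFun h 0)
      obtain ⟨d1, h1⟩ := heig ![0, 1] (fun h => by simpa using congrFun h 1)
      obtain ⟨d2, h2⟩ := heig ![1, 1] (fun h => by simpa using congrFun h 0)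
      have a00 : ιK (f ![1, 0] 0) = d0 := by simpa [up] using congrFun h0 0
      have a10 : f ![1, 0] 1 = 0 := ιK.injective (by simpa [up] using congrFun h0 1)
      have a01 : f ![0, 1] 0 = 0 := ιK.injective (by simpa [up] using congrFun h1 0)
      have hsum : f ![1, 1] = f ![1, 0] + f ![0, 1] := by rw [← map_add]; congr 1; funext r; fin_cases r <;> simp
      have b0 : ιK (f ![1, 1] 0) = d2 := by simpa [up] using congrFun h2 0
      have b1 : ιK (f ![1, 1] 1) = d2 := by simpa [up] using congrFun h2 1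
      have heq : f ![1, 0] 0 = f ![0, 1] 1 := by
        apply ιK.injective
        rw [hsum] at b0 b1
        simp only [Pi.add_apply, a01, a10, add_zero, zero_add] at b0 b1
        rw [b0, b1]
      refine ⟨f ![1, 0] 0, fun v => ?_⟩
      have hv : v = v 0 • ![1, 0] + v 1 • ![0, 1] := by funext r; fin_cases r <;> simp
      conv_lhs => rw [hv, map_add, map_smul, map_smul]
      funext r
      fin_cases r <;> simp [a01, a10, heq, mul_comm]
    obtain ⟨c, hc⟩ := hscal
    obtain ⟨M', hM'⟩ : ∃ M', M' = (!![s, j; 0, s⁻¹] : Matrix (Fin 2) (Fin 2) (ZMod p)) ^ k :=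
      ⟨_, rfl⟩
    have hgI : Ind (F i).e g M' := hM' ▸ hnI.pow k
    have hM00 : ∀ k : ℕ, ((!![s, j; 0, s⁻¹] : Matrix (Fin 2) (Fin 2) (ZMod p)) ^ k) 0 0 =
        s ^ k ∧
        ((!![s, j; 0, s⁻¹] : Matrix (Fin 2) (Fin 2) (ZMod p)) ^ k) 1 1 = s⁻¹ ^ k ∧
        ((!![s, j; 0, s⁻¹] : Matrix (Fin 2) (Fin 2) (ZMod p)) ^ k) 1 0 = 0 := by
      intro k
      induction k with
      | zero => simp
      | succ k ih =>
        rw [pow_succ]
        refine ⟨?_, ?_, ?_⟩ <;> simp [Matrix.mul_apply, Fin.sum_univ_two, ih.1, ih.2.1, ih.2.2, pow_succ]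
    obtain ⟨m00, m11, m10⟩ := hM00 k
    rw [← hM'] at m00 m11 m10
    have hgN : g ∈ N := pow_mem hn k
    have hgπ : ∀ x : ↥(P : Subgroup G), ∀ (h : g * x * g⁻¹ ∈ (P : Subgroup G)),
        π ⟨g * x * g⁻¹, h⟩ = π x ^ c.val := by
      intro x h
      have h1 := hc (Multiplicative.toAdd (π x))
      rw [hTπ] at h1
      apply Multiplicative.toAdd.injective
      rw [toAdd_pow, ← Nat.cast_smul_eq_nsmul (ZMod p), ZMod.natCast_rightInverse c, ← h1]
      congr 2
    have hga : g * a i * g⁻¹ = (F i).e (Multiplicative.ofAdd ![M' 0 1, M' 1 1]) := by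
      conv_lhs => rw [← (F i).e_one]
      rw [hgI]
      congr 2
      funext r
      fin_cases r <;> simp [Matrix.mulVec, dotProduct, Fin.sum_univ_two]
    have hgz : g * (F i).z * g⁻¹ = pw (F i).z (s ^ k) := by
      conv_lhs => rw [← (F i).e_zero]
      rw [hgI, (F i).e_apply]
      simp [Matrix.mulVec, dotProduct, Fin.sum_univ_two, m00, m10, pw]
    have hc1 : c = s⁻¹ ^ k := by
      have h := hgπ ⟨a i, (F i).ha⟩ ((mem_normalizer_iff.mp hgN _).mp (F i).ha)
      have e : (⟨g * a i * g⁻¹, (mem_normalizer_iff.mp hgN _).mp (F i).ha⟩ : ↥(P : Subgroup G)) =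
          ⟨(F i).e (Multiplicative.ofAdd ![M' 0 1, M' 1 1]), (F i).range_le ⟨_, rfl⟩⟩ := Subtype.ext hga
      rw [e, hπe] at h
      have h' := congrArg Multiplicative.toAdd h
      rw [toAdd_pow, toAdd_ofAdd, ← Nat.cast_smul_eq_nsmul (ZMod p), ZMod.natCast_rightInverse c] at h'
      have h'' : M' 1 1 • va i = c • va i := h'
      rw [← m11]
      exact (smul_left_injective (ZMod p) (hva i) h'').symm
    -- conjugating the commutator
    have hbP : g * (F i).b * g⁻¹ ∈ (P : Subgroup G) := (mem_normalizer_iff.mp hgN _).mp (F i).hb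
    have haP : g * a i * g⁻¹ ∈ (P : Subgroup G) := (mem_normalizer_iff.mp hgN _).mp (F i).ha
    obtain ⟨w, hw, hwe⟩ : ∃ w ∈ Zc P, g * (F i).b * g⁻¹ = (F i).b ^ c.val * w := by
      have h := hgπ ⟨(F i).b, (F i).hb⟩ hbP
      rw [← map_pow, MonoidHom.eq_iff, hπk] at h
      exact ⟨((F i).b ^ c.val)⁻¹ * (g * (F i).b * g⁻¹), ⟨_, h, by simp⟩, by group⟩
    have hbI : Ind (F i).e ((F i).b ^ c.val) !![1, c; 0, 1] := by
      have := (F i).ind_b.pow c.val
      rwa [upper_pow, mul_one, ZMod.natCast_rightInverse c] at this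
    have hcomm : g * (F i).z * g⁻¹ = pw (F i).z (c * M' 1 1) := by
      have h1 : (F i).z = (F i).b * a i * (F i).b⁻¹ * (a i)⁻¹ := by rw [(F i).hba]; group
      have h2 : g * (F i).z * g⁻¹ = (g * (F i).b * g⁻¹) * (g * a i * g⁻¹) * (g * (F i).b * g⁻¹)⁻¹ *
          (g * a i * g⁻¹)⁻¹ := by rw [h1]; group
      rw [h2, hwe, show (F i).b ^ c.val * w * (g * a i * g⁻¹) * ((F i).b ^ c.val * w)⁻¹ =
        (F i).b ^ c.val * (w * (g * a i * g⁻¹)) * w⁻¹ * ((F i).b ^ c.val)⁻¹ by group,
        ← zc_comm P hw haP, mul_assoc _ (g * a i * g⁻¹ * w) w⁻¹, mul_inv_cancel_right, hga, hbI,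
        mul_inv_eq_iff_eq_mul, (F i).e_apply, (F i).e_apply]
      simp [Matrix.mulVec, dotProduct, Fin.sum_univ_two]
      rw [← mul_assoc, ← pw_add (F i).hzp, add_comm]
    have hkey : s ^ k = c * M' 1 1 := by
      have h := hgz.symm.trans hcomm
      have h' : (F i).e (Multiplicative.ofAdd (Pi.single 0 (s ^ k))) =
          (F i).e (Multiplicative.ofAdd (Pi.single 0 (c * M' 1 1))) := by
        rw [(F i).e_apply, (F i).e_apply]
        simpa [pw] using h
      simpa using congrFun (Multiplicative.ofAdd.injective ((F i).e_injective h')) 0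
    rw [m11, hc1, inv_pow] at hkey
    have h3 : t ^ (3 * k) = 1 := by
      rw [hs] at hkey
      apply Units.ext
      push_cast
      have hne : (t : ZMod p) ^ k ≠ 0 := pow_ne_zero _ t.ne_zero
      field_simp at hkey
      linear_combination hkey
    exact hE3 k hk hkE (hto ▸ orderOf_dvd_of_pow_eq_one h3)

end Count

theorem no_bad_order {p : ℕ} (hp : p.Prime) (hp13 : 7 < p) :
    ∀ k, 0 < k → k < (if p = 13 then 4 else 6) → ¬ (p - 1) ∣ 3 * k := by
  intro k hk hkE h
  have hle := Nat.le_of_dvd (by omega) h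
  split_ifs at hkE with h13
  · subst h13; omega
  · have hp16 : p = 11 ∨ 16 ≤ p - 1 := by
      by_contra hno
      push Not at hno
      have : p ≤ 16 := by omega
      interval_cases p <;> first | omega | (exact absurd hp (by decide))
    rcases hp16 with rfl | h16 <;> omega

section Theorems

variable (P : Sylow p G) (hE : IsExtraspecial p ↥(P : Subgroup G)) (hcard : Nat.card ↥(P : Subgroup G) = p ^ 3)
  (hexp : Monoid.exponent ↥(P : Subgroup G) = p)

include hE hcard hexp in
theorem three_radicals (A : Fin 3 → Subgroup G) (hA : Function.Injective A)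
    (hAP : ∀ i, A i ≤ (P : Subgroup G)) (hAcard : ∀ i, Nat.card ↥(A i) = p ^ 2)
    (hSL : ∀ i, ∀ φ : MulAut ↥(A i), orderOf φ = p → ∃ g : G, ∀ a : ↥(A i), (φ a : G) = g * (a : G) * g⁻¹) :
    p ≤ 13 := by
  by_contra hp13
  have hA1 : ∀ i, ∃ a ∈ A i, a ∉ Zc P := fun i => by
    by_contra h
    push Not at h
    have := Nat.le_of_dvd Nat.card_pos (card_dvd_of_le (show A i ≤ Zc P from h))
    rw [hAcard, card_zc P hE] at this
    have := hp.out.two_le
    nlinarith
  choose a ha haz using hA1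
  let F : ∀ i, Frame P (a i) := fun i => (exists_frame P hE hexp (hAP i (ha i)) (haz i)).some
  have hrange : ∀ i, (F i).e.range = A i := fun i => by
    refine Subgroup.eq_of_le_of_card_ge ?_ (by rw [(F i).card_range, hAcard])
    have hz : (F i).z ∈ A i := by
      by_contra hz
      have hzA : zpowers (F i).z ⊓ A i = ⊥ := by
        by_contra hne
        haveI : Fact (Nat.card (zpowers (F i).z)).Prime :=
          ⟨by rw [Nat.card_zpowers, orderOf_eq_prime (F i).hzp (F i).hz1]; exact hp.out⟩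
        rcases (zpowers (F i).z ⊓ A i).subgroupOf (zpowers (F i).z) |>.eq_bot_or_eq_top_of_prime_card with h | h
        · exact hne ((subgroupOf_eq_bot.mp h).eq_bot_of_le inf_le_left)
        · exact hz (subgroupOf_eq_top.mp h (mem_zpowers _)).2
      have hAc : IsMulCommutative ↥(A i) := IsPGroup.isMulCommutative_of_card_eq_prime_sq (hAcard i)
      have hcomm : ∀ x ∈ A i, ∀ y ∈ A i, x * y = y * x := fun x hx y hy =>
        congrArg Subtype.val (hAc.is_comm.comm (⟨x, hx⟩ : ↥(A i)) ⟨y, hy⟩)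
      set C := centralizer ({a i} : Set G) ⊓ (P : Subgroup G)
      have hle : zpowers (F i).z ⊔ A i ≤ C := sup_le
        (zpowers_le.mpr ⟨mem_centralizer_singleton_iff.mpr (zc_comm P (F i).hz (F i).ha).symm, (F i).zP⟩)
        (le_inf (fun x hx => mem_centralizer_singleton_iff.mpr (hcomm x hx _ (ha i))) (hAP i))
      have hcard' : Nat.card ↥(zpowers (F i).z ⊔ A i : Subgroup G) = p ^ 3 := by
        refine le_antisymm (hcard ▸ Nat.le_of_dvd Nat.card_pos
          (card_dvd_of_le (hle.trans inf_le_right))) ?_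
        have h := Nat.card_le_card_of_injective
          (fun q : ↥(zpowers (F i).z) × ↥(A i) => (⟨(q.1 : G) * q.2, mul_mem_sup q.1.2 q.2.2⟩ :
            ↥(zpowers (F i).z ⊔ A i : Subgroup G)))
          (fun q q' e => by
            exact Subgroup.mul_injective_of_disjoint (disjoint_iff.mpr hzA) (congrArg Subtype.val e))
        rw [Nat.card_prod, Nat.card_zpowers, orderOf_eq_prime (F i).hzp (F i).hz1, hAcard] at h
        rwa [pow_succ' p 2]
      have hPC : (P : Subgroup G) ≤ C := by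
        have := Subgroup.eq_of_le_of_card_ge (hle.trans inf_le_right) (by rw [hcard', hcard])
        exact this ▸ hle
      exact haz i (mem_zc P (hAP i (ha i)) fun y hy => mem_centralizer_singleton_iff.mp (hPC hy).1)
    rintro _ ⟨v, rfl⟩
    exact mul_mem (pow_mem hz _) (pow_mem (ha i) _)
  refine count P hE hcard hexp a F (fun i => ?_) (fun i j h => ?_) 6 3 (Or.inl ⟨rfl, rfl⟩) (by simp) ?_
  · let ε : Multiplicative (Vp p) ≃* ↥(A i) :=
      (MonoidHom.ofInjective (F i).e_injective).trans (MulEquiv.subgroupCongr (hrange i))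
    let L : Vp p ≃+ Vp p :=
      { toFun := fun v => ![v 0, v 0 + v 1]
        invFun := fun v => ![v 0, v 1 - v 0]
        left_inv := fun v => by funext r; fin_cases r <;> simp
        right_inv := fun v => by funext r; fin_cases r <;> simp
        map_add' := fun v w => by funext r; fin_cases r <;> simp; ring }
    let φ : MulAut ↥(A i) := MulAut.congr ε (AddEquiv.toMultiplicative L)
    have hφ : ∀ n : ℕ, ∀ v, (φ ^ n) (ε (Multiplicative.ofAdd v)) =
        ε (Multiplicative.ofAdd ![v 0, n * v 0 + v 1]) := by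
      intro n
      induction n with
      | zero => intro v; simp; congr 1; funext r; fin_cases r <;> simp
      | succ n ih =>
        intro v
        rw [pow_succ', MulAut.mul_apply, ih]
        show ε (Multiplicative.ofAdd (L (Multiplicative.toAdd (ε.symm (ε _))))) = _
        rw [ε.symm_apply_apply, toAdd_ofAdd]
        congr 2
        funext r
        fin_cases r <;> simp [L]; ring
    have hord : orderOf φ = p := by
      refine orderOf_eq_prime (MulEquiv.ext fun x => ?_) fun h => ?_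
      · obtain ⟨v, rfl⟩ := ε.surjective x
        rw [← ofAdd_toAdd v, hφ]
        refine congrArg ε (congrArg Multiplicative.ofAdd ?_)
        funext r
        fin_cases r <;> simp
      · have h1 := hφ 1 ![1, 0]
        rw [pow_one, h] at h1
        simpa using congrFun (Multiplicative.ofAdd.injective (ε.injective h1)) 1
    obtain ⟨g, hg⟩ := hSL i φ hord
    refine ⟨g, 1, one_ne_zero, fun v => ?_⟩
    have h := hg (ε (Multiplicative.ofAdd v))
    rw [← pow_one φ, hφ] at h
    refine h.symm.trans ?_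
    show (F i).e (Multiplicative.ofAdd _) = _
    congr 2
    funext r
    fin_cases r <;> simp [Matrix.mulVec, dotProduct, Fin.sum_univ_two]
  · refine hA (Subgroup.eq_of_le_of_card_ge ?_ (by rw [hAcard, hAcard])).symm
    rw [← hrange i, ← hrange j]
    rintro _ ⟨v, rfl⟩
    obtain ⟨i', hi'⟩ := (F i).zc_eq hE (F j).hz
    have hz : (F j).z ∈ (F i).e.range :=
      ⟨Multiplicative.ofAdd (Pi.single 0 i'), by rw [(F i).e_apply, hi']; simp [pw]⟩
    exact mul_mem (pow_mem hz _) (pow_mem h _)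
  · have := no_bad_order hp.out (by omega)
    rwa [if_neg (by omega)] at this

include hE hcard hexp in
theorem hasLower_of_conj {a : G} (F : Frame P a)
    (hconj : ∀ x y : ↥(P : Subgroup G), x ≠ 1 → y ≠ 1 → ∃ g : G, g * (x : G) * g⁻¹ = (y : G)) : HasLower F := by
  have ha1 : a ≠ 1 := fun e => F.a_not_mem (e ▸ (Zc P).one_mem)
  obtain ⟨g, hg⟩ := hconj ⟨a, F.ha⟩ ⟨F.z, F.zP⟩ (fun e => ha1 (congrArg Subtype.val e))
    (fun e => F.hz1 (congrArg Subtype.val e))
  replace hg : g * a * g⁻¹ = F.z := hg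
  set C := centralizer ({F.z} : Set G)
  have hPC : (P : Subgroup G) ≤ C := fun x hx => mem_centralizer_singleton_iff.mpr (zc_comm P F.hz hx)
  set A' := F.e.range.map (MulAut.conj g).toMonoidHom
  have hA'C : A' ≤ C := by
    rintro _ ⟨_, ⟨v, rfl⟩, rfl⟩
    refine mem_centralizer_singleton_iff.mpr ?_
    show g * F.e v * g⁻¹ * F.z = F.z * (g * F.e v * g⁻¹)
    have hav : F.e v * a = a * F.e v := by
      have h := congrArg F.e (mul_comm v (Multiplicative.ofAdd (Pi.single 1 1)))
      simpa [map_mul, F.e_one] using h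
    rw [← hg]
    calc g * F.e v * g⁻¹ * (g * a * g⁻¹) = g * (F.e v * a) * g⁻¹ := by group
      _ = g * (a * F.e v) * g⁻¹ := by rw [hav]
      _ = g * a * g⁻¹ * (g * F.e v * g⁻¹) := by group
  have hA'p : IsPGroup p (A'.subgroupOf C) := by
    refine IsPGroup.of_injective (((P.2.to_le F.range_le).map (MulAut.conj g).toMonoidHom))
      (subgroupOfEquivOfLe hA'C).toMonoidHom (MulEquiv.injective _)
  obtain ⟨Q, hQ⟩ := hA'p.exists_le_sylow
  obtain ⟨c, hc⟩ := MulAction.exists_smul_eq C Q (P.subtype hPC)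
  set g' : G := (c : G) * g
  have hg' : g' * a * g'⁻¹ = F.z := by
    have := mem_centralizer_singleton_iff.mp c.2
    calc g' * a * g'⁻¹ = (c : G) * (g * a * g⁻¹) * (c : G)⁻¹ := by simp [g', mul_assoc]
      _ = F.z := by rw [hg, this, mul_inv_cancel_right]
  have hin : ∀ v, g' * F.e v * g'⁻¹ ∈ (P : Subgroup G) := by
    intro v
    have h1 : (⟨g * F.e v * g⁻¹, hA'C ⟨_, ⟨v, rfl⟩, rfl⟩⟩ : C) ∈ Q :=
      hQ (show g * F.e v * g⁻¹ ∈ A' from ⟨_, ⟨v, rfl⟩, rfl⟩)
    have h2 : c * ⟨g * F.e v * g⁻¹, hA'C ⟨_, ⟨v, rfl⟩, rfl⟩⟩ * c⁻¹ ∈ P.subtype hPC := by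
      rw [← hc]
      exact ⟨_, h1, rfl⟩
    have h3 : (c : G) * (g * F.e v * g⁻¹) * (c : G)⁻¹ ∈ (P : Subgroup G) := h2
    simpa [g', mul_assoc] using h3
  set A'' := F.e.range.map (MulAut.conj g').toMonoidHom
  have hA'' : A'' ≤ (P : Subgroup G) := by
    rintro _ ⟨_, ⟨v, rfl⟩, rfl⟩
    exact hin v
  have hcardA : Nat.card A'' = p ^ 2 := by
    rw [← Nat.card_congr (equivMapOfInjective _ _ (MulEquiv.injective _)).toEquiv, F.card_range]
  have hzA : Zc P ≤ A'' := by
    intro w hw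
    obtain ⟨i, rfl⟩ := F.zc_eq hE hw
    exact pow_mem (show F.z ∈ A'' from ⟨a, ⟨_, F.e_one⟩, hg'⟩) _
  obtain ⟨b', hb', v₀, hv₀⟩ : ∃ b' ∈ (P : Subgroup G), ∃ v, b' * (g' * F.e v * g'⁻¹) ≠ (g' * F.e v * g'⁻¹) * b' := by
    by_contra h
    push Not at h
    have : A'' ≤ Zc P := by
      rintro _ ⟨_, ⟨v, rfl⟩, rfl⟩
      exact mem_zc P (hin v) fun b hb => h b hb v
    have h' := Nat.le_of_dvd Nat.card_pos (card_dvd_of_le this)
    rw [hcardA, card_zc P hE] at h'
    have := hp.out.two_le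
    nlinarith
  set y := g'⁻¹ * b' * g'
  have hyA : ∀ v, y * F.e v * y⁻¹ ∈ F.e.range := by
    intro v
    have h : b' * (g' * F.e v * g'⁻¹) * b'⁻¹ ∈ A'' := by
      rw [show b' * (g' * F.e v * g'⁻¹) * b'⁻¹ =
        (b' * (g' * F.e v * g'⁻¹) * b'⁻¹ * (g' * F.e v * g'⁻¹)⁻¹) * (g' * F.e v * g'⁻¹) by group]
      exact A''.mul_mem (hzA (comm_mem_zc P hE hb' (hin v))) ⟨_, ⟨v, rfl⟩, rfl⟩
    obtain ⟨w, hw, hwe⟩ := h
    have hwe' : g' * w * g'⁻¹ = b' * (g' * F.e v * g'⁻¹) * b'⁻¹ := hwe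
    rwa [show y * F.e v * y⁻¹ = w from ?_]
    calc y * F.e v * y⁻¹ = g'⁻¹ * (b' * (g' * F.e v * g'⁻¹) * b'⁻¹) * g' := by simp [y, mul_assoc]
      _ = w := by rw [← hwe']; group
  obtain ⟨w, hw⟩ := hyA (Multiplicative.ofAdd (Pi.single 0 1))
  set i₀ := Multiplicative.toAdd w 0
  set k₀ := Multiplicative.toAdd w 1
  have hya : y * a * y⁻¹ = a := by
    calc y * a * y⁻¹ = g'⁻¹ * (b' * (g' * a * g'⁻¹) * b'⁻¹) * g' := by simp [y, mul_assoc]
      _ = a := by rw [hg', zc_comm P F.hz hb', mul_inv_cancel_right, ← hg']; group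
  have hyI : Ind F.e y !![i₀, 0; k₀, 1] := by
    refine Ind.of_basis fun r => ?_
    fin_cases r
    · show y * F.e (Multiplicative.ofAdd (Pi.single 0 1)) * y⁻¹ = _
      rw [← hw, F.e_apply]
      show F.e (Multiplicative.ofAdd (Multiplicative.toAdd w)) = _
      rw [F.e_apply]
      simp [Matrix.mulVec, dotProduct, Fin.sum_univ_two, i₀, k₀]
    · show y * F.e (Multiplicative.ofAdd (Pi.single 1 1)) * y⁻¹ = _
      rw [F.e_one, hya, F.e_apply]
      simp [Matrix.mulVec, dotProduct, Fin.sum_univ_two, pw, ZMod.val_one]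
  have hyp : y ^ p = 1 := by
    have : y ^ p = g'⁻¹ * b' ^ p * g' := by
      simpa [y] using (map_pow (MulAut.conj g'⁻¹).toMonoidHom b' p).symm
    rw [this, pow_p P hexp hb']
    group
  have hi1 : i₀ = 1 := by
    have h := hyI.pow p (Pi.single 0 1)
    rw [hyp, one_mul, inv_one, mul_one] at h
    have h' := congrFun (Multiplicative.ofAdd.injective (F.e_injective h)) 0
    simp [Matrix.mulVec, dotProduct, Fin.sum_univ_two, (exists_corner_pow i₀ k₀ p).1, ZMod.pow_card] at h'
    exact h'.symm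
  rw [hi1] at hyI
  refine ⟨y, k₀, fun hk0 => hv₀ ?_, hyI⟩
  rw [hk0] at hyI
  have h := hyI (Multiplicative.toAdd v₀)
  rw [show (!![1, 0; 0, 1] : Matrix (Fin 2) (Fin 2) (ZMod p)) = 1 by simp [Matrix.one_fin_two],
    Matrix.one_mulVec, ofAdd_toAdd] at h
  have h' : y * F.e v₀ = F.e v₀ * y := mul_inv_eq_iff_eq_mul.mp h
  calc b' * (g' * F.e v₀ * g'⁻¹) = g' * (y * F.e v₀) * g'⁻¹ := by simp [y, mul_assoc]
    _ = g' * (F.e v₀ * y) * g'⁻¹ := by rw [h']
    _ = g' * F.e v₀ * g'⁻¹ * b' := by simp [y, mul_assoc]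

include hE hcard hexp in
theorem all_conjugate (hconj : ∀ x y : ↥(P : Subgroup G), x ≠ 1 → y ≠ 1 → ∃ g : G, g * (x : G) * g⁻¹ = (y : G)) :
    p ≤ 7 := by
  by_contra hp7
  obtain ⟨π, hπs, hπk⟩ := proj_exists P hE hcard hexp
  let x : ZMod p → ↥(P : Subgroup G) := fun j => (hπs (Multiplicative.ofAdd ![1, j])).choose
  have hx : ∀ j, π (x j) = Multiplicative.ofAdd ![1, j] := fun j => (hπs _).choose_spec
  have hπZ : ∀ {w : ↥(P : Subgroup G)}, (w : G) ∈ Zc P → π w = 1 := by
    intro w hw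
    obtain ⟨w', hw', e⟩ := hw
    obtain rfl : w' = w := Subtype.ext e
    have : w' ∈ π.ker := by rw [hπk]; exact hw'
    exact MonoidHom.mem_ker.mp this
  have hxz : ∀ j, (x j : G) ∉ Zc P := fun j h => by
    have h1 := hπZ h
    rw [hx] at h1
    simpa using congrFun (Multiplicative.ofAdd.injective (h1.trans ofAdd_zero.symm)) 0
  let F : ∀ j, Frame P (x j : G) := fun j => (exists_frame P hE hexp (x j).2 (hxz j)).some
  have hdist : ∀ i j, (x j : G) ∈ (F i).e.range → i = j := by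
    intro i j h
    obtain ⟨v, hv⟩ := h
    have h1 : x j = ⟨pw (F i).z (Multiplicative.toAdd v 0), map_subtype_le _ ((F i).pw_mem _)⟩ *
        x i ^ (Multiplicative.toAdd v 1).val := Subtype.ext hv.symm
    have h2 := congrArg π h1
    rw [map_mul, hπZ (w := ⟨pw (F i).z (Multiplicative.toAdd v 0), map_subtype_le _ ((F i).pw_mem _)⟩)
      ((F i).pw_mem _), one_mul, map_pow, hx, hx, ← ofAdd_nsmul] at h2
    have h3 := Multiplicative.ofAdd.injective h2
    have h40 := congrFun h3 0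
    have h41 := congrFun h3 1
    simp at h40 h41
    rw [h41, ← h40, one_mul]
  have hno := no_bad_order hp.out (not_le.mp hp7)
  by_cases h13 : p = 13
  · rw [if_pos h13] at hno
    exact count P hE hcard hexp (fun j => (x j : G)) F (fun j => hasLower_of_conj P hE hcard hexp (F j) hconj)
      hdist 4 13 (Or.inr ⟨rfl, rfl⟩) (by rw [ZMod.card, h13]) hno
  · rw [if_neg h13] at hno
    exact count P hE hcard hexp (fun j => (x j : G)) F (fun j => hasLower_of_conj P hE hcard hexp (F j) hconj)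
      hdist 6 3 (Or.inl ⟨rfl, rfl⟩) (by rw [ZMod.card]; omega) hno

end Theorems

end Cfsg.Lib.ExtraFusion
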