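import Mathlib
import Cfsg.Prelude
import Cfsg.Agent.PGroups.Basic
import Cfsg.Agent.Known.FormIndex

/-!
An extraspecial group of plus type extended by a group of isometries, inside the normalizer of its
faithful representation over the field with three elements.
-/

set_option linter.style.haveILetI false
set_option linter.unusedSectionVars false

namespace Cfsg.Lib.ExtraHol

open scoped commutatorElement

universe u v

variable {n : ℕ}

abbrev A (n : ℕ) := Fin n → ZMod 2
abbrev X (n : ℕ) := A n × A n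
abbrev W (n : ℕ) := A n → ZMod 3

def dot (a b : A n) : ZMod 2 := ∑ i, a i * b i
def sgn (t : ZMod 2) : ZMod 3 := if t = 0 then 1 else 2
/-- the cocycle -/
def coc (u v : X n) : ZMod 2 := dot v.2 u.1
def form (u : X n) : ZMod 2 := coc u u

theorem dot_comm (a b : A n) : dot a b = dot b a := Finset.sum_congr rfl fun _ _ => mul_comm _ _
theorem dot_add (a b c : A n) : dot a (b + c) = dot a b + dot a c := by
  simp [dot, mul_add, Finset.sum_add_distrib]
theorem add_dot (a b c : A n) : dot (a + b) c = dot a c + dot b c := by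
  simp [dot, add_mul, Finset.sum_add_distrib]
theorem dot_zero (a : A n) : dot a 0 = 0 := by simp [dot]
theorem zero_dot (a : A n) : dot 0 a = 0 := by simp [dot]
theorem dot_single (a : A n) (i : Fin n) : dot a (Pi.single i 1) = a i := by simp [dot, Pi.single_apply]

theorem sgn_add : ∀ a b, sgn (a + b) = sgn a * sgn b := by decide
theorem sgn_inj : ∀ a b, sgn a = sgn b → a = b := by decide
theorem sgn_ne : ∀ a, sgn a ≠ 0 := by decide
theorem z2 : ∀ a : ZMod 2, a = 0 ∨ a = 1 := by decide
theorem z2_self : ∀ a : ZMod 2, a + a = 0 := by decide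

theorem xadd_self (u : X n) : u + u = 0 := by ext <;> exact z2_self _
theorem vadd_self (a : A n) : a + a = 0 := by ext; exact z2_self _

theorem coc_add_left (u u' v : X n) : coc (u + u') v = coc u v + coc u' v := dot_add _ _ _
theorem coc_add_right (u v v' : X n) : coc u (v + v') = coc u v + coc u v' := add_dot _ _ _

/-- the monomial operators -/
def opEnd (t : ZMod 2) (u : X n) : Module.End (ZMod 3) (W n) where
  toFun f := fun v => sgn (t + dot u.2 v) * f (v + u.1)
  map_add' f g := by funext v; simp [mul_add]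
  map_smul' c f := by funext v; simp; ring

theorem opEnd_mul (t t' : ZMod 2) (u u' : X n) :
    opEnd t u * opEnd t' u' = opEnd (t + t' + coc u u') (u + u') := by
  refine LinearMap.ext fun f => funext fun v => ?_
  show sgn (t + dot u.2 v) * (sgn (t' + dot u'.2 (v + u.1)) * f (v + u.1 + u'.1)) = _
  show _ = sgn (t + t' + coc u u' + dot (u + u').2 v) * f (v + (u + u').1)
  rw [← mul_assoc, ← sgn_add, Prod.fst_add, Prod.snd_add, add_assoc v u.1 u'.1]
  congr 2
  rw [coc, dot_add, add_dot]
  ring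

theorem opEnd_zero : (opEnd 0 (0 : X n)) = 1 := by
  refine LinearMap.ext fun f => funext fun v => ?_
  show sgn (0 + dot (0 : X n).2 v) * f (v + (0 : X n).1) = f v
  simp [zero_dot, sgn]

def op (t : ZMod 2) (u : X n) : (Module.End (ZMod 3) (W n))ˣ where
  val := opEnd t u
  inv := opEnd (t + coc u u) u
  val_inv := by
    rw [opEnd_mul, xadd_self, show t + (t + coc u u) + coc u u = (t + coc u u) + (t + coc u u) by ring,
      z2_self, opEnd_zero]
  inv_val := by
    rw [opEnd_mul, xadd_self, show t + coc u u + t + coc u u = (t + coc u u) + (t + coc u u) by ring,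
      z2_self, opEnd_zero]

theorem op_mul (t t' : ZMod 2) (u u' : X n) : op t u * op t' u' = op (t + t' + coc u u') (u + u') :=
  Units.ext (opEnd_mul _ _ _ _)

theorem op_one : op 0 (0 : X n) = 1 := Units.ext opEnd_zero

theorem coc_zero_left (v : X n) : coc 0 v = 0 := dot_zero _
theorem coc_zero_right (v : X n) : coc v 0 = 0 := zero_dot _

theorem op_scalar_comm (t : ZMod 2) (g : (Module.End (ZMod 3) (W n))ˣ) : g * op t 0 = op t 0 * g := by
  refine Units.ext ?_
  have h : (opEnd t (0 : X n)) = sgn t • 1 := by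
    refine LinearMap.ext fun f => funext fun v => ?_
    show sgn (t + dot (0 : X n).2 v) * f (v + (0 : X n).1) = sgn t * f v
    simp [zero_dot]
  show (g : Module.End (ZMod 3) (W n)) * (opEnd t (0 : X n)) = (opEnd t (0 : X n)) * g
  rw [h, mul_smul_comm, smul_mul_assoc, mul_one, one_mul]

theorem op_split (t : ZMod 2) (u : X n) : op t u = op t 0 * op 0 u := by
  rw [op_mul, coc_zero_left, zero_add, add_zero, add_zero]

theorem op_comm (u v : X n) (s : ZMod 2) :
    op s u * op 0 v * (op s u)⁻¹ = op (coc u v + coc v u) v := by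
  rw [mul_inv_eq_iff_eq_mul, op_mul, op_mul, add_comm v u]
  congr 1
  have := z2_self (coc v u)
  linear_combination (-1 : ZMod 2) * this

theorem op_inj {t t' : ZMod 2} {u u' : X n} (h : op t u = op t' u') : t = t' ∧ u = u' := by
  classical
  have hv : ∀ f : W n, ∀ v, sgn (t + dot u.2 v) * f (v + u.1) = sgn (t' + dot u'.2 v) * f (v + u'.1) :=
    fun f v => congrFun (LinearMap.congr_fun (congrArg Units.val h) f) v
  have ha : u.1 = u'.1 := by
    have := hv (Pi.single u.1 1) 0
    by_contra hne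
    simp [zero_add, Ne.symm hne, sgn_ne] at this
  have hs : ∀ v, t + dot u.2 v = t' + dot u'.2 v := fun v => sgn_inj _ _ (by
    have := hv (fun _ => 1) v
    simpa using this)
  have ht : t = t' := by simpa [dot_zero] using hs 0
  refine ⟨ht, Prod.ext ha (funext fun i => ?_)⟩
  have := hs (Pi.single i 1)
  rwa [ht, add_right_inj, dot_single, dot_single] at this

theorem sum_sgn (b : A n) : ∑ v : A n, sgn (dot b v) = if b = 0 then (2 : ZMod 3) ^ n else 0 := by
  classical
  by_cases hb : b = 0
  · subst hb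
    simp [zero_dot, sgn]
  rw [if_neg hb]
  obtain ⟨i, hi⟩ := Function.ne_iff.mp hb
  have hi1 : b i = 1 := (z2 _).resolve_left hi
  set S := ∑ v : A n, sgn (dot b v)
  have h : S = sgn 1 * S := by
    rw [Finset.mul_sum]
    exact (Fintype.sum_equiv (Equiv.addRight (Pi.single i 1)) _ _ fun v => by
      rw [Equiv.coe_addRight, dot_add, dot_single, hi1, ← sgn_add]; congr 1; rw [add_comm 1, add_assoc, z2_self, add_zero])
  have h2 : ∀ S : ZMod 3, S = sgn 1 * S → S = 0 := by decide
  exact h2 _ h

/-- the diagonal sum of an operator -/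
theorem diag_sum (t : ZMod 2) (u : X n) :
    ∑ v : A n, opEnd t u (Pi.single v 1) v = if u = 0 then sgn t * (2 : ZMod 3) ^ n else 0 := by
  classical
  have h : ∀ v : A n, opEnd t u (Pi.single v 1) v = if u.1 = 0 then sgn t * sgn (dot u.2 v) else 0 := fun v => by
    show sgn (t + dot u.2 v) * (Pi.single v 1 : W n) (v + u.1) = _
    by_cases ha : u.1 = 0
    · simp [ha, sgn_add]
    · simp [ha]
  rw [Finset.sum_congr rfl fun v _ => h v]
  by_cases ha : u.1 = 0
  · simp only [ha, if_true, ← Finset.mul_sum, sum_sgn]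
    by_cases hb : u.2 = 0
    · rw [if_pos hb, if_pos (Prod.ext ha hb)]
    · rw [if_neg hb, if_neg (fun e => hb (by rw [e]; rfl)), mul_zero]
  · rw [if_neg (fun e => ha (by rw [e]; rfl))]
    simp [ha]

/-- operators commuting with all monomial operators -/
theorem scalar_of_commute (g : (Module.End (ZMod 3) (W n))ˣ) (h : ∀ u : X n, g * op 0 u = op 0 u * g) :
    ∃ s, g = op s 0 := by
  classical
  set T : Module.End (ZMod 3) (W n) := (g : Module.End (ZMod 3) (W n))
  have hT : ∀ (u : X n) (f : W n), T (opEnd 0 u f) = opEnd 0 u (T f) := fun u f =>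
    LinearMap.congr_fun (congrArg Units.val (h u)) f
  have hoff : ∀ w v, v ≠ w → T (Pi.single w 1) v = 0 := by
    intro w v hvw
    obtain ⟨i, hi⟩ := Function.ne_iff.mp hvw
    have h1 := congrFun (hT (0, Pi.single i 1) (Pi.single w 1)) v
    have e : opEnd 0 ((0 : A n), Pi.single i 1) (Pi.single w 1) = sgn (w i) • (Pi.single w 1 : W n) := by
      funext x
      show sgn (0 + dot (Pi.single i 1) x) * (Pi.single w 1 : W n) (x + 0) = _
      by_cases hx : x = w
      · subst hx; simp [dot_comm _ x, dot_single]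
      · simp [hx]
    rw [e, map_smul] at h1
    simp only [Pi.smul_apply, smul_eq_mul] at h1
    have h1' : sgn (w i) * T (Pi.single w 1) v = sgn (v i) * T (Pi.single w 1) v := by
      rw [h1]
      show sgn (0 + dot (Pi.single i 1) v) * T (Pi.single w 1) (v + 0) = _
      rw [zero_add, add_zero, dot_comm, dot_single]
    by_contra hne
    exact hi (sgn_inj _ _ (mul_right_cancel₀ hne h1').symm)
  set c := T (Pi.single 0 1) 0
  have hdiag : ∀ w, T (Pi.single w 1) w = c := by
    intro w
    have h1 := congrFun (hT (w, 0) (Pi.single 0 1)) w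
    have e : opEnd 0 (w, (0 : A n)) (Pi.single 0 1) = (Pi.single w 1 : W n) := by
      funext x
      show sgn (0 + dot 0 x) * (Pi.single 0 1 : W n) (x + w) = _
      by_cases hx : x = w
      · subst hx; simp [zero_dot, sgn, vadd_self]
      · have hx' : x + w ≠ 0 := fun e => hx (by rw [← add_zero x, ← vadd_self w, ← add_assoc, e, zero_add])
        simp [hx, hx']
    rw [e] at h1
    rw [h1]
    show sgn (0 + dot 0 w) * T (Pi.single 0 1) (w + w) = c
    simp [zero_dot, sgn, vadd_self, c]
  have hTc : T = c • 1 := by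
    refine LinearMap.pi_ext fun w x => funext fun v => ?_
    have hx : (Pi.single w x : W n) = x • Pi.single w 1 := by rw [← Pi.single_smul, smul_eq_mul, mul_one]
    rw [hx, map_smul]
    simp only [LinearMap.smul_apply, Module.End.one_apply, Pi.smul_apply, smul_eq_mul]
    by_cases hvw : v = w
    · subst hvw; rw [hdiag]; simp; ring
    · rw [hoff w v hvw]; simp [hvw]
  have hc : c ≠ 0 := fun h0 => by
    rw [h0, zero_smul] at hTc
    have h1 := congrFun (LinearMap.congr_fun (g.inv_mul) (fun _ => 1)) 0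
    simp [T] at hTc
  have h3 : ∀ c : ZMod 3, c ≠ 0 → ∃ s, c = sgn s := by decide
  obtain ⟨s, hs⟩ := h3 c hc
  refine ⟨s, Units.ext ?_⟩
  show T = opEnd s 0
  rw [hTc, hs]
  refine LinearMap.ext fun f => funext fun v => ?_
  show sgn s * f v = sgn (s + dot (0 : X n).2 v) * f (v + (0 : X n).1)
  simp [zero_dot]

/-- a lift of an isometry -/
theorem exists_quad {m : ℕ} (b : Module.Basis (Fin m) (ZMod 2) (X n)) (D : X n → X n → ZMod 2)
    (hl : ∀ u u' v, D (u + u') v = D u v + D u' v) (hr : ∀ u v v', D u (v + v') = D u v + D u v')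
    (hd : ∀ u, D u u = 0) : ∃ d : X n → ZMod 2, ∀ u v, d (u + v) = d u + d v + D u v := by
  classical
  have hs : ∀ u v, D v u = D u v := fun u v => by
    have h1 := hd (u + v)
    rw [hl, hr, hr, hd, hd, zero_add, add_zero] at h1
    have h2 : ∀ a b : ZMod 2, a + b = 0 → b = a := by decide
    exact h2 _ _ h1
  let L : X n → X n →ₗ[ZMod 2] ZMod 2 := fun u => AddMonoidHom.toZModLinearMap 2 (AddMonoidHom.mk' (D u) (hr u))
  let B : X n →ₗ[ZMod 2] X n →ₗ[ZMod 2] ZMod 2 :=
    AddMonoidHom.toZModLinearMap 2 (AddMonoidHom.mk' L fun u u' => LinearMap.ext fun v => hl u u' v)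
  let M : X n → X n → ZMod 2 := fun u v =>
    ∑ i, ∑ j, b.repr u i * b.repr v j * (if i < j then D (b i) (b j) else 0)
  have hMl : ∀ u u' v, M (u + u') v = M u v + M u' v := fun u u' v => by
    simp only [M, map_add, Finsupp.add_apply, add_mul, Finset.sum_add_distrib]
  have hMr : ∀ u v v', M u (v + v') = M u v + M u v' := fun u v v' => by
    simp only [M, map_add, Finsupp.add_apply, mul_add, add_mul, Finset.sum_add_distrib]
  refine ⟨fun u => M u u, fun u v => ?_⟩
  have hexp : D u v = ∑ i, ∑ j, b.repr u i * b.repr v j * D (b i) (b j) := by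
    show B u v = _
    conv_lhs => rw [← b.sum_repr u, ← b.sum_repr v]
    simp only [map_sum, map_smul, LinearMap.sum_apply, LinearMap.smul_apply, smul_eq_mul, Finset.mul_sum]
    rw [Finset.sum_comm]
    refine Finset.sum_congr rfl fun i _ => Finset.sum_congr rfl fun j _ => ?_
    show _ = b.repr u i * b.repr v j * B (b i) (b j)
    ring
  have hsum : M u v + M v u = D u v := by
    rw [hexp]
    simp only [M]
    rw [Finset.sum_comm (f := fun i j => b.repr v i * b.repr u j * (if i < j then D (b i) (b j) else 0)),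
      ← Finset.sum_add_distrib]
    refine Finset.sum_congr rfl fun i _ => ?_
    rw [← Finset.sum_add_distrib]
    refine Finset.sum_congr rfl fun j _ => ?_
    rcases lt_trichotomy i j with h | h | h
    · rw [if_pos h, if_neg h.le.not_gt]; ring
    · subst h; rw [hd]; simp
    · rw [if_neg h.le.not_gt, if_pos h, hs (b i) (b j)]; ring
  show M (u + v) (u + v) = M u u + M v v + D u v
  rw [hMl, hMr, hMr, ← hsum]
  ring

/-- the intertwining operator -/
theorem exists_intertwiner (r : X n ≃+ X n) (hr : ∀ u, form (r u) = form u) :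
    ∃ g : (Module.End (ZMod 3) (W n))ˣ, ∀ u, ∃ t, g * op 0 u * g⁻¹ = op t (r u) := by
  classical
  set b := Module.finBasis (ZMod 2) (X n)
  obtain ⟨d, hd⟩ := exists_quad b (fun u v => coc (r u) (r v) + coc u v)
    (fun u u' v => by simp only [map_add, coc_add_left]; ring)
    (fun u v v' => by simp only [map_add, coc_add_right]; ring)
    (fun u => by
      show form (r u) + form u = 0
      rw [hr, z2_self])
  have hd0 : d 0 = 0 := by
    have h := hd 0 0
    simp only [map_zero, coc_zero_left, add_zero] at h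
    rwa [z2_self] at h
  let Φ : ZMod 2 × X n → Module.End (ZMod 3) (W n) := fun g => opEnd (g.1 + d g.2) (r g.2)
  let Ψ : ZMod 2 × X n → Module.End (ZMod 3) (W n) := fun g => opEnd (g.1 + coc g.2 g.2) g.2
  let T : Module.End (ZMod 3) (W n) → Module.End (ZMod 3) (W n) := fun M => ∑ g, Φ g * M * Ψ g
  have hint : ∀ (M : Module.End (ZMod 3) (W n)) (u : X n), T M * opEnd 0 u = opEnd (d u) (r u) * T M := by
    intro M u
    simp only [T, Finset.sum_mul, Finset.mul_sum]
    symm
    refine Fintype.sum_equiv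
      { toFun := fun g => (g.1 + coc u g.2, u + g.2)
        invFun := fun g => (g.1 + coc u (u + g.2), u + g.2)
        left_inv := fun g => by
          show (g.1 + coc u g.2 + coc u (u + (u + g.2)), u + (u + g.2)) = g
          rw [← add_assoc u u, xadd_self, zero_add, add_assoc, z2_self, add_zero]
        right_inv := fun g => by
          show (g.1 + coc u (u + g.2) + coc u (u + g.2), u + (u + g.2)) = g
          rw [← add_assoc u u, xadd_self, zero_add, add_assoc, z2_self, add_zero] } _ _ fun g => ?_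
    show opEnd (d u) (r u) * (Φ g * M * Ψ g) = Φ (g.1 + coc u g.2, u + g.2) * M * Ψ (g.1 + coc u g.2, u + g.2) * opEnd 0 u
    have e1 : opEnd (d u) (r u) * Φ g = Φ (g.1 + coc u g.2, u + g.2) := by
      show opEnd _ _ * opEnd _ _ = opEnd _ _
      rw [opEnd_mul, map_add]
      congr 1
      show d u + (g.1 + d g.2) + coc (r u) (r g.2) = g.1 + coc u g.2 + d (u + g.2)
      rw [hd u g.2]
      have := z2_self (coc u g.2)
      linear_combination (-1 : ZMod 2) * this
    have e2 : Ψ g = Ψ (g.1 + coc u g.2, u + g.2) * opEnd 0 u := by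
      show opEnd _ _ = opEnd _ _ * opEnd _ _
      rw [opEnd_mul]
      congr 1
      · show g.1 + coc g.2 g.2 = g.1 + coc u g.2 + coc (u + g.2) (u + g.2) + 0 + coc (u + g.2) u
        simp only [coc_add_left, coc_add_right]
        have h1 := z2_self (coc u g.2)
        have h2 := z2_self (coc g.2 u)
        have h3 := z2_self (coc u u)
        linear_combination (-1 : ZMod 2) * h1 + (-1) * h2 + (-1) * h3
      · show g.2 = u + g.2 + u
        rw [add_comm u g.2, add_assoc, xadd_self, add_zero]
    rw [← mul_assoc, ← mul_assoc, e1, mul_assoc _ (Ψ _) (opEnd 0 u), ← e2]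
  -- some `T M` is non-zero
  let E : A n → A n → Module.End (ZMod 3) (W n) := fun v w => (LinearMap.single (ZMod 3) (fun _ => ZMod 3) v).comp (LinearMap.proj w)
  have hne : ∃ M, T M ≠ 0 := by
    by_contra hno
    push Not at hno
    have hS : ∑ v : A n, ∑ w : A n, T (E v w) (Pi.single w 1) v = 0 := by simp [hno]
    have hterm : ∀ g v w, (Φ g * E v w * Ψ g) (Pi.single w 1) v =
        Φ g (Pi.single v 1) v * Ψ g (Pi.single w 1) w := fun g v w => by
      simp only [Module.End.mul_apply, E, LinearMap.comp_apply, LinearMap.proj_apply, LinearMap.coe_single]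
      rw [show (Pi.single v (Ψ g (Pi.single w 1) w) : W n) = Ψ g (Pi.single w 1) w • Pi.single v 1 by
        rw [← Pi.single_smul, smul_eq_mul, mul_one], map_smul, Pi.smul_apply, smul_eq_mul, mul_comm]
    have hS' : ∑ g, (∑ v : A n, Φ g (Pi.single v 1) v) * (∑ w : A n, Ψ g (Pi.single w 1) w) = 0 := by
      rw [← hS]
      simp only [T, LinearMap.sum_apply, Finset.sum_apply, hterm, Finset.sum_mul, Finset.mul_sum]
      rw [Finset.sum_comm]
      conv_rhs => rw [Finset.sum_comm]
      refine Finset.sum_congr rfl fun v _ => ?_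
      rw [Finset.sum_comm]
    simp only [Φ, Ψ, diag_sum, mul_ite, ite_mul, zero_mul, mul_zero] at hS'
    rw [Fintype.sum_prod_type] at hS'
    dsimp only at hS'
    have h2 : ∀ t : ZMod 2, ∑ u : X n, (if u = 0 then if r u = 0 then
        sgn (t + d u) * 2 ^ n * (sgn (t + coc u u) * 2 ^ n) else 0 else (0 : ZMod 3)) = 1 := fun t => by
      rw [Finset.sum_ite_eq' Finset.univ (0 : X n), if_pos (Finset.mem_univ _), map_zero, if_pos rfl, hd0,
        coc_zero_left, add_zero]
      rw [show sgn t * 2 ^ n * (sgn t * 2 ^ n) = (sgn t * sgn t) * ((2 * 2 : ZMod 3) ^ n) by rw [mul_pow]; ring,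
        show ((2 : ZMod 3) * 2) = 1 by decide, one_pow, mul_one]
      exact (by decide : ∀ t : ZMod 2, sgn t * sgn t = 1) t
    simp only [h2] at hS'
    simp at hS'
    exact absurd hS' (by decide)
  obtain ⟨M, hM⟩ := hne
  set T₀ := T M
  have hker : ∀ u f, T₀ f = 0 → T₀ (opEnd 0 u f) = 0 := fun u f hf => by
    rw [← Module.End.mul_apply, hint, Module.End.mul_apply, hf, map_zero]
  have hinj : Function.Injective T₀ := by
    rw [injective_iff_map_eq_zero]
    intro f hf
    by_contra hf0
    obtain ⟨v₀, hv₀⟩ := Function.ne_iff.mp hf0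
    have h1 : T₀ (Pi.single v₀ 1) = 0 := by
      have e : ∑ b : A n, sgn (dot b v₀) • opEnd 0 ((0 : A n), b) f = ((2 : ZMod 3) ^ n * f v₀) • Pi.single v₀ 1 := by
        funext v
        simp only [Finset.sum_apply, Pi.smul_apply, smul_eq_mul]
        have e1 : ∀ b : A n, sgn (dot b v₀) * (opEnd 0 ((0 : A n), b) f v) = sgn (dot (v₀ + v) b) * f v := fun b => by
          show sgn (dot b v₀) * (sgn (0 + dot b v) * f (v + 0)) = _
          rw [zero_add, add_zero, ← mul_assoc, ← sgn_add, dot_comm (v₀ + v), dot_add]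
        rw [Finset.sum_congr rfl fun b _ => e1 b, ← Finset.sum_mul, sum_sgn]
        by_cases hv : v = v₀
        · subst hv; simp [vadd_self]
        · have : v₀ + v ≠ 0 := fun e => hv (by rw [← add_zero v, ← vadd_self v₀, add_comm v, add_assoc, e, add_zero])
          simp [hv, this]
      have h2 := congrArg T₀ e
      rw [map_sum, map_smul] at h2
      simp only [map_smul, hker _ f hf, smul_zero, Finset.sum_const_zero] at h2
      exact (smul_eq_zero.mp h2.symm).resolve_left (mul_ne_zero (pow_ne_zero _ (by decide)) hv₀)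
    refine hM (LinearMap.pi_ext fun w x => ?_)
    have e2 : (Pi.single w x : W n) = x • opEnd 0 (v₀ + w, (0 : A n)) (Pi.single v₀ 1) := by
      funext v
      show _ = x * (sgn (0 + dot 0 v) * (Pi.single v₀ 1 : W n) (v + (v₀ + w)))
      by_cases hv : v = w
      · subst hv
        rw [show v + (v₀ + v) = v₀ by rw [add_comm v, add_assoc, vadd_self, add_zero]]
        simp [zero_dot, sgn]
      · have : v + (v₀ + w) ≠ v₀ := fun e => hv (by
          calc v = v + ((v₀ + w) + (v₀ + w)) := by rw [vadd_self, add_zero]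
            _ = v₀ + (v₀ + w) := by rw [← add_assoc v, e]
            _ = w := by rw [← add_assoc, vadd_self, zero_add])
        simp [hv, this]
    rw [e2, map_smul, hker _ _ h1, smul_zero]
    rfl
  obtain ⟨g, hg⟩ := (Module.End.isUnit_iff T₀).mpr (Finite.injective_iff_bijective.mp hinj)
  refine ⟨g, fun u => ⟨d u, ?_⟩⟩
  rw [mul_inv_eq_iff_eq_mul]
  refine Units.ext ?_
  show (g : Module.End (ZMod 3) (W n)) * opEnd 0 u = opEnd (d u) (r u) * g
  rw [hg]
  exact hint M u

section Ext

variable {K : Type v} [Group K] (ρ : K → (X n ≃+ X n)) (hone : ρ 1 = AddEquiv.refl _)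
  (hmul : ∀ k l u, ρ (k * l) u = ρ k (ρ l u))

/-- `g` induces `k` -/
def Ind (g : (Module.End (ZMod 3) (W n))ˣ) (k : K) : Prop := ∀ u, ∃ t, g * op 0 u * g⁻¹ = op t (ρ k u)

theorem ind_op {g : (Module.End (ZMod 3) (W n))ˣ} {k : K} (h : Ind ρ g k) (s : ZMod 2) (u : X n) :
    ∃ t, g * op s u * g⁻¹ = op t (ρ k u) := by
  obtain ⟨t, ht⟩ := h u
  refine ⟨s + t, ?_⟩
  rw [op_split s u, show g * (op s 0 * op 0 u) * g⁻¹ = g * op s 0 * (op 0 u * g⁻¹) by group, op_scalar_comm,
    show op s 0 * g * (op 0 u * g⁻¹) = op s 0 * (g * op 0 u * g⁻¹) by group, ht, op_mul, coc_zero_left, add_zero,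
    zero_add]

/-- the group of the extension -/
def grp : Subgroup (Module.End (ZMod 3) (W n))ˣ where
  carrier := {g | ∃ k, Ind ρ g k}
  one_mem' := ⟨1, fun u => ⟨0, by simp [hone]⟩⟩
  mul_mem' := by
    rintro g h ⟨k, hk⟩ ⟨l, hl⟩
    refine ⟨k * l, fun u => ?_⟩
    obtain ⟨t, ht⟩ := hl u
    obtain ⟨s, hs⟩ := ind_op ρ hk t (ρ l u)
    refine ⟨s, ?_⟩
    rw [hmul, ← hs, ← ht]
    group
  inv_mem' := by
    rintro g ⟨k, hk⟩
    refine ⟨k⁻¹, fun u => ?_⟩
    have hcan : ρ k (ρ k⁻¹ u) = u := by rw [← hmul, mul_inv_cancel, hone]; rfl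
    obtain ⟨t, ht⟩ := hk (ρ k⁻¹ u)
    rw [hcan] at ht
    refine ⟨t, ?_⟩
    have h1 : g⁻¹ * op t u * g = op 0 (ρ k⁻¹ u) := by rw [← ht]; group
    calc g⁻¹ * op 0 u * g⁻¹⁻¹ = g⁻¹ * (op t 0 * op t u) * g := by
          rw [op_mul, coc_zero_left, z2_self, zero_add, zero_add, inv_inv]
      _ = (g⁻¹ * op t 0) * (op t u * g) := by group
      _ = op t 0 * (g⁻¹ * op t u * g) := by rw [op_scalar_comm]; group
      _ = op t (ρ k⁻¹ u) := by rw [h1, ← op_split]

include hone hmul in
/-- the extension of `K` by the extraspecial group -/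
theorem exists_extension (hn : 1 ≤ n) (hinj : ∀ k l, (∀ u, ρ k u = ρ l u) → k = l)
    (hform : ∀ k u, form (ρ k u) = form u) :
    ∃ (R : Type) (_ : Group R) (_ : Finite R) (Q : Subgroup R) (hN : Q.Normal) (e : R ⧸ Q ≃* K)
      (χ : ↥Q →* Multiplicative (X n)), Cfsg.IsExtraspecial 2 ↥Q ∧ Nat.card ↥Q = 2 ^ (2 * n + 1) ∧
      Function.Surjective χ ∧ χ.ker = Subgroup.center ↥Q ∧
      (∀ (r : R) (a : ↥Q), χ ⟨r * a * r⁻¹, hN.conj_mem (a : R) a.2 r⟩ =
        Multiplicative.ofAdd (ρ (e (r : R ⧸ Q)) (Multiplicative.toAdd (χ a)))) ∧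
      ∀ a : ↥Q, a * a = 1 ↔ form (Multiplicative.toAdd (χ a)) = 0 := by
  classical
  haveI : Fact (Nat.Prime 2) := ⟨Nat.prime_two⟩
  haveI : Finite (Module.End (ZMod 3) (W n)) := Finite.of_injective _ DFunLike.coe_injective
  set R := grp ρ hone hmul
  have huniq : ∀ {g k l}, Ind ρ g k → Ind ρ g l → k = l := fun {g k l} hk hl => hinj k l fun u => by
    obtain ⟨t, ht⟩ := hk u
    obtain ⟨s, hs⟩ := hl u
    exact (op_inj (ht.symm.trans hs)).2
  let φ : R →* K := MonoidHom.mk' (fun g => g.2.choose) fun g h => huniq (g * h).2.choose_spec (fun u => by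
    obtain ⟨t, ht⟩ := h.2.choose_spec u
    obtain ⟨s, hs⟩ := ind_op ρ g.2.choose_spec t (ρ h.2.choose u)
    refine ⟨s, ?_⟩
    rw [hmul, ← hs, ← ht]
    simp only [Subgroup.coe_mul]
    group)
  have hφ : ∀ g : R, Ind ρ (g : (Module.End (ZMod 3) (W n))ˣ) (φ g) := fun g => g.2.choose_spec
  have hsurj : Function.Surjective φ := fun k => by
    obtain ⟨g, hg⟩ := exists_intertwiner (ρ k) (hform k)
    exact ⟨⟨g, k, hg⟩, huniq (hφ _) hg⟩
  have hop : ∀ s u, Ind ρ (op s u) 1 := fun s u v => ⟨_, by rw [op_comm, hone]; rfl⟩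
  set Q := φ.ker
  let i : ZMod 2 × X n → Q := fun g => ⟨⟨op g.1 g.2, 1, hop _ _⟩, huniq (hφ _) (hop g.1 g.2)⟩
  have hi : Function.Bijective i := by
    refine ⟨fun g h e => ?_, ?_⟩
    · obtain ⟨e1, e2⟩ := op_inj (congrArg (fun q : Q => ((q : R) : (Module.End (ZMod 3) (W n))ˣ)) e)
      exact Prod.ext e1 e2
    rintro ⟨⟨g, hgR⟩, hgQ⟩
    have hg : Ind ρ g 1 := by
      have := hφ ⟨g, hgR⟩
      rwa [show φ ⟨g, hgR⟩ = 1 from hgQ] at this
    choose l hl using fun u => hg u
    simp only [hone, AddEquiv.refl_apply] at hl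
    have hladd : ∀ u v, l (u + v) = l u + l v := fun u v => by
      have h1 : g * op (coc u v) (u + v) * g⁻¹ = op (l u + l v + coc u v) (u + v) := by
        rw [← op_mul, ← hl u, ← hl v,
          show op (coc u v) (u + v) = op 0 u * op 0 v by rw [op_mul, zero_add, zero_add]]
        group
      have h2 : g * op (coc u v) (u + v) * g⁻¹ = op (coc u v + l (u + v)) (u + v) := by
        rw [op_split (coc u v), show g * (op (coc u v) 0 * op 0 (u + v)) * g⁻¹ =
          g * op (coc u v) 0 * (op 0 (u + v) * g⁻¹) by group, op_scalar_comm,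
          show op (coc u v) 0 * g * (op 0 (u + v) * g⁻¹) = op (coc u v) 0 * (g * op 0 (u + v) * g⁻¹) by group,
          hl, op_mul, coc_zero_left, zero_add, add_zero]
      have h3 := (op_inj (h2.symm.trans h1)).1
      linear_combination h3
    let L : X n →ₗ[ZMod 2] ZMod 2 := AddMonoidHom.toZModLinearMap 2 (AddMonoidHom.mk' l hladd)
    let x : A n := fun j => L (Pi.single j 1, 0)
    let y : A n := fun j => L (0, Pi.single j 1)
    have hL : ∀ u : X n, l u = dot x u.1 + dot y u.2 := by
      intro u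
      show L u = _
      have h1 : L.comp (LinearMap.inl (ZMod 2) (A n) (A n)) = ∑ j, x j • LinearMap.proj j := by
        refine LinearMap.pi_ext fun j c => ?_
        rcases z2 c with rfl | rfl
        · simp [LinearMap.sum_apply, Prod.mk_zero_zero]
        · simp [x, Pi.single_apply, LinearMap.sum_apply]
      have h2 : L.comp (LinearMap.inr (ZMod 2) (A n) (A n)) = ∑ j, y j • LinearMap.proj j := by
        refine LinearMap.pi_ext fun j c => ?_
        rcases z2 c with rfl | rfl
        · simp [LinearMap.sum_apply, Prod.mk_zero_zero]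
        · simp [y, Pi.single_apply, LinearMap.sum_apply]
      have e1 := LinearMap.congr_fun h1 u.1
      have e2 := LinearMap.congr_fun h2 u.2
      simp [LinearMap.sum_apply] at e1 e2
      have e3 : u = (u.1, 0) + (0, u.2) := by simp
      rw [e3, map_add, e1, e2]
      simp [dot]
    have hcom : ∀ u, coc (y, x) u + coc u (y, x) = l u := fun u => by
      rw [hL]
      show dot u.2 y + dot x u.1 = _
      rw [dot_comm u.2, add_comm]
    obtain ⟨s, hs⟩ := scalar_of_commute ((op 0 (y, x))⁻¹ * g) fun u => by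
      have h1 : g * op 0 u = op 0 (y, x) * op 0 u * (op 0 (y, x))⁻¹ * g := by
        rw [op_comm, hcom, ← hl u]; group
      rw [mul_assoc, h1]
      group
    refine ⟨(s, (y, x)), Subtype.ext (Subtype.ext ?_)⟩
    show op s (y, x) = g
    rw [show g = op 0 (y, x) * op s 0 by rw [← hs, mul_inv_cancel_left], op_mul, coc_zero_right, zero_add,
      add_zero, add_zero]
  let j := Equiv.ofBijective i hi
  have himul : ∀ g h : ZMod 2 × X n, i g * i h = i (g.1 + h.1 + coc g.2 h.2, g.2 + h.2) := fun g h =>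
    Subtype.ext (Subtype.ext (op_mul _ _ _ _))
  have hi1 : i (0, 0) = 1 := Subtype.ext (Subtype.ext op_one)
  let χ : Q →* Multiplicative (X n) := MonoidHom.mk' (fun q => Multiplicative.ofAdd (j.symm q).2) fun q q' => by
    obtain ⟨g, rfl⟩ := hi.2 q
    obtain ⟨h, rfl⟩ := hi.2 q'
    rw [himul]
    simp [j, ofAdd_add]
  have hχi : ∀ g, χ (i g) = Multiplicative.ofAdd g.2 := fun g => by simp [χ, j]
  have hcen : ∀ g, i g ∈ Subgroup.center Q ↔ g.2 = 0 := by
    intro g
    rw [Subgroup.mem_center_iff]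
    constructor
    · intro h
      have hz : ∀ u, coc u g.2 = coc g.2 u := fun u => by
        have := congrArg Prod.fst (hi.1 ((himul (0, u) g).symm.trans ((h (i (0, u))).trans (himul g (0, u)))))
        simpa using this
      refine Prod.ext (funext fun k => ?_) (funext fun k => ?_)
      · have := hz (0, Pi.single k 1)
        simp only [coc, dot_zero] at this
        rw [dot_comm, dot_single] at this
        exact this.symm
      · have := hz (Pi.single k 1, 0)
        simp only [coc, zero_dot, dot_single] at this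
        exact this
    · intro h q
      obtain ⟨u, rfl⟩ := hi.2 q
      rw [himul, himul, h, coc_zero_left, coc_zero_right, add_comm u.1, zero_add, add_zero, add_zero]
  have hsq : ∀ g, i g * i g = i (form g.2, 0) := fun g => by
    rw [himul, z2_self, zero_add, xadd_self]; rfl
  have hcard : Nat.card Q = 2 ^ (2 * n + 1) := by
    rw [← Nat.card_congr j, Nat.card_eq_fintype_card]
    simp [pow_succ, two_mul, pow_add]
    ring
  have hQp : IsPGroup 2 Q := IsPGroup.of_card hcard
  have hcc : Nat.card (Subgroup.center Q) = 2 := by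
    let f : ZMod 2 → Subgroup.center Q := fun t => ⟨i (t, 0), (hcen _).mpr rfl⟩
    have hf : Function.Bijective f := by
      refine ⟨fun a b e => congrArg Prod.fst (hi.1 (congrArg Subtype.val e)), ?_⟩
      rintro ⟨q, hq⟩
      obtain ⟨g, rfl⟩ := hi.2 q
      exact ⟨g.1, Subtype.ext (congrArg i (Prod.ext rfl ((hcen g).mp hq).symm))⟩
    rw [← Nat.card_congr (Equiv.ofBijective f hf), Nat.card_zmod]
  have hcomm : commutator Q = Subgroup.center Q := by
    refine le_antisymm ?_ ?_
    · rw [_root_.commutator_def, Subgroup.commutator_le]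
      intro a _ b _
      obtain ⟨g, rfl⟩ := hi.2 a
      obtain ⟨h, rfl⟩ := hi.2 b
      have e : χ ⁅i g, i h⁆ = 1 := by rw [map_commutatorElement, commutatorElement_eq_one_iff_mul_comm, mul_comm]
      obtain ⟨c, hc⟩ := hi.2 ⁅i g, i h⁆
      rw [← hc, hcen]
      rw [← hc, hχi] at e
      exact e
    · have k0 : Fin n := ⟨0, hn⟩
      have hne : (⁅i (0, ((Pi.single k0 1 : A n), 0)), i (0, (0, (Pi.single k0 1 : A n)))⁆) = i (1, 0) := by
        rw [commutatorElement_def, mul_inv_eq_iff_eq_mul, mul_inv_eq_iff_eq_mul]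
        rw [himul, himul, himul]
        refine congrArg i (Prod.ext ?_ ?_)
        · simp [coc, dot_single, zero_dot, dot_zero, add_dot, dot_add]
        · simp [add_comm]
      intro q hq
      obtain ⟨g, rfl⟩ := hi.2 q
      have hg := (hcen g).mp hq
      rw [show g = (g.1, 0) from Prod.ext rfl hg]
      rcases z2 g.1 with e | e
      · rw [e, hi1]; exact one_mem _
      · rw [e, ← hne, _root_.commutator_def]
        exact Subgroup.commutator_mem_commutator (Subgroup.mem_top _) (Subgroup.mem_top _)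
  have hfr : frattini Q = Subgroup.center Q := by
    refine le_antisymm (fun q hq => ?_) (hcomm ▸ Cfsg.Lib.PGroups.commutator_le_frattini hQp)
    by_contra hqc
    rw [Subgroup.mem_center_iff] at hqc
    push Not at hqc
    obtain ⟨y, hy⟩ := hqc
    set C := Subgroup.centralizer ({y} : Set Q)
    have hcz : ∀ a : Q, ⁅a, y⁆ ∈ Subgroup.center Q := fun a => by
      rw [← hcomm, _root_.commutator_def]
      exact Subgroup.commutator_mem_commutator (Subgroup.mem_top _) (Subgroup.mem_top _)
    have hdvd : ∀ a b : Q, a ∉ C → b ∉ C → a⁻¹ * b ∈ C := fun a b ha hb => by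
      have hab : ⁅a, y⁆ = ⁅b, y⁆ := by
        have hone : ∀ c : Q, c ∉ C → (⟨⁅c, y⁆, hcz c⟩ : Subgroup.center Q) ≠ 1 := fun c hc e =>
          hc (Subgroup.mem_centralizer_singleton_iff.mpr
            (commutatorElement_eq_one_iff_mul_comm.mp (congrArg Subtype.val e)))
        obtain ⟨z, hz, hall⟩ := (Nat.card_eq_two_iff' (1 : Subgroup.center Q)).mp hcc
        exact congrArg Subtype.val ((hall _ (hone a ha)).trans (hall _ (hone b hb)).symm)
      refine Subgroup.mem_centralizer_singleton_iff.mpr ?_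
      simp only [commutatorElement_def, mul_left_inj] at hab
      calc a⁻¹ * b * y = a⁻¹ * (b * y * b⁻¹) * b := by group
        _ = a⁻¹ * (a * y * a⁻¹) * b := by rw [hab]
        _ = y * (a⁻¹ * b) := by group
    have hqC : q ∉ C := fun h => hy (Subgroup.mem_centralizer_singleton_iff.mp h).symm
    refine hqC (frattini_le_coatom ?_ hq)
    refine ⟨fun e => hqC (e ▸ Subgroup.mem_top q), fun M hM => ?_⟩
    obtain ⟨m, hm, hmC⟩ := SetLike.exists_of_lt hM
    refine eq_top_iff.mpr fun b _ => ?_
    by_cases hb : b ∈ C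
    · exact hM.le hb
    · simpa using mul_mem hm (hM.le (hdvd m b hmC hb))
  refine ⟨R, inferInstance, inferInstance, Q, inferInstance, QuotientGroup.quotientKerEquivOfSurjective φ hsurj,
    χ, ⟨⟨hQp, hfr, hcomm⟩, hcc⟩, hcard, ?_, ?_, ?_, ?_⟩
  · exact fun u => ⟨i (0, Multiplicative.toAdd u), by rw [hχi]; rfl⟩
  · ext q
    obtain ⟨g, rfl⟩ := hi.2 q
    rw [MonoidHom.mem_ker, hχi, hcen]
    exact Iff.rfl
  · intro r a
    obtain ⟨g, rfl⟩ := hi.2 a
    obtain ⟨t, ht⟩ := ind_op ρ (hφ r) g.1 g.2
    rw [hχi, toAdd_ofAdd]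
    have e : (⟨r * (i g : R) * r⁻¹, (inferInstance : Q.Normal).conj_mem _ (i g).2 r⟩ : Q) = i (t, ρ (φ r) g.2) :=
      Subtype.ext (Subtype.ext ht)
    refine (congrArg χ e).trans ?_
    rw [hχi]
    rfl
  · intro a
    obtain ⟨g, rfl⟩ := hi.2 a
    rw [hsq, hχi, toAdd_ofAdd, ← hi1, hi.1.eq_iff, Prod.ext_iff]
    exact ⟨fun h => h.1, fun h => ⟨h, rfl⟩⟩

end Ext

/-- coordinates for a form of plus type -/
theorem main {K : Type v} [Group K] {U : Type u} [AddCommGroup U] [Module (ZMod 2) U] [Module.Finite (ZMod 2) U]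
    (n : ℕ) (hn1 : 1 ≤ n) (hn : Module.finrank (ZMod 2) U = 2 * n) (σ : Representation (ZMod 2) K U)
    (hσ : Function.Injective σ) (q : QuadraticForm (ZMod 2) U) (hq : ∀ (k : K) (u : U), q (σ k u) = q u)
    (hnd : (QuadraticMap.polarBilin q).Nondegenerate)
    (hplus : ∃ S : Submodule (ZMod 2) U, Module.finrank (ZMod 2) ↥S = n ∧ ∀ w ∈ S, q w = 0) :
    ∃ (R : Type) (_ : Group R) (_ : Finite R) (Q : Subgroup R) (hN : Q.Normal) (e : R ⧸ Q ≃* K)
      (χ : ↥Q →* Multiplicative U), Cfsg.IsExtraspecial 2 ↥Q ∧ Nat.card ↥Q = 2 ^ (2 * n + 1) ∧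
      Function.Surjective χ ∧ χ.ker = Subgroup.center ↥Q ∧
      (∀ (r : R) (a : ↥Q), χ ⟨r * a * r⁻¹, hN.conj_mem (a : R) a.2 r⟩ =
        Multiplicative.ofAdd (σ (e (r : R ⧸ Q)) (Multiplicative.toAdd (χ a)))) ∧
      ∀ a : ↥Q, a * a = 1 ↔ q (Multiplicative.toAdd (χ a)) = 0 := by
  obtain ⟨S, hS, hS0⟩ := hplus
  obtain ⟨D⟩ := Cfsg.Lib.FormNormal.exists_decomp (Q := q) _ ⊤ rfl (Cfsg.Lib.FormNormal.nd_top q hnd)
  have hm : D.m = n := by
    rw [← hS]
    exact Cfsg.Lib.FormNormal.index_eq hnd D S hS0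
      (Cfsg.Lib.FormNormal.half_max hnd S hS0 (by rw [hn, hS]; omega))
  have hK0 : Module.finrank (ZMod 2) D.K = 0 := by
    have := D.dim
    rw [finrank_top, hn, hm] at this
    omega
  obtain ⟨c, hc⟩ := Cfsg.Lib.FormNormal.plus_equiv D hm hK0
  let τ : U ≃+ X n := c.toAddEquiv.trans
    { toFun := fun f => (fun i => f (.inl i), fun i => f (.inr i))
      invFun := fun p => Sum.elim p.1 p.2
      left_inv := fun f => by funext i; cases i <;> rfl
      right_inv := fun p => rfl
      map_add' := fun f f' => rfl }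
  have hτ : ∀ u, form (τ u) = q u := fun u => by
    rw [hc]
    show dot _ _ = _
    unfold dot
    exact Finset.sum_congr rfl fun i _ => mul_comm _ _
  have hlin : ∀ k, Function.Bijective (σ k) := fun k => by
    refine ⟨fun a b h => ?_, fun b => ⟨σ k⁻¹ b, ?_⟩⟩
    · have := congrArg (σ k⁻¹) h
      simpa [← Module.End.mul_apply, ← map_mul] using this
    · rw [← Module.End.mul_apply, ← map_mul, mul_inv_cancel, map_one]; rfl
  let ρ : K → (X n ≃+ X n) := fun k =>
    (τ.symm.trans (AddEquiv.ofBijective (σ k).toAddMonoidHom (hlin k))).trans τ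
  have hρ : ∀ k u, ρ k u = τ (σ k (τ.symm u)) := fun k u => rfl
  obtain ⟨R, i1, i2, Q, hN, e, χ, h1, h2, h3, h4, h5, h6⟩ := exists_extension ρ
    (AddEquiv.ext fun u => by simp [hρ]) (fun k l u => by simp [hρ, Module.End.mul_apply]) hn1
    (fun k l h => hσ (LinearMap.ext fun u => τ.injective (by simpa [hρ] using h (τ u))))
    (fun k u => by rw [hρ, hτ, hq, ← hτ, τ.apply_symm_apply])
  refine ⟨R, i1, i2, Q, hN, e, (AddEquiv.toMultiplicative τ.symm).toMonoidHom.comp χ, h1, h2,
    (AddEquiv.toMultiplicative τ.symm).surjective.comp h3, ?_, fun r a => ?_, fun a => ?_⟩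
  · rw [← h4]
    ext a
    simp [MonoidHom.mem_ker]
  · show Multiplicative.ofAdd (τ.symm (Multiplicative.toAdd (χ ⟨r * a * r⁻¹, _⟩))) = _
    rw [h5, toAdd_ofAdd, hρ, τ.symm_apply_apply]
    rfl
  · rw [h6, ← hτ]
    show _ ↔ form (τ (τ.symm (Multiplicative.toAdd (χ a)))) = 0
    rw [τ.apply_symm_apply]

end Cfsg.Lib.ExtraHol
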