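import Cfsg.Agent.PGroups.ExtraspecialIso
import Cfsg.Prelude.Def_KGroupFacts

/-!
The outer automorphism group of an extraspecial `2`-group with three orthogonal dihedral pairs
does not lift: a dihedral group of order `8` in it has no faithful lift.
-/

set_option autoImplicit false
set_option linter.style.haveILetI false
set_option linter.unusedSectionVars false

namespace Cfsg.Lib.ExtraOut

open Subgroup
open scoped commutatorElement
open Cfsg.Lib.PGroups.ExtraspecialIso

universe u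

variable {Q : Type u} [Group Q] [Finite Q] {z : Q}

/-- powers indexed by `ZMod 2` -/
def pw (w : Q) (i : ZMod 2) : Q := w ^ i.val

theorem pw_zero (w : Q) : pw w 0 = 1 := pow_zero w

theorem pw_one (w : Q) : pw w 1 = w := pow_one w

theorem zmod_cases (i : ZMod 2) : i = 0 ∨ i = 1 := by revert i; decide

theorem pw_add {w : Q} (hw : w * w = 1) (i j : ZMod 2) : pw w (i + j) = pw w i * pw w j := by
  rcases zmod_cases i with rfl | rfl <;> rcases zmod_cases j with rfl | rfl <;>
    simp [pw_zero, pw_one, hw, show (1 : ZMod 2) + 1 = 0 by decide]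

theorem pw_commute {w v : Q} (h : Commute w v) (i : ZMod 2) : Commute (pw w i) v := h.pow_left _

theorem zz (h : ES 2 Q z) : z * z = 1 := by rw [← pow_two, ← h.ord, pow_orderOf_eq_one]

theorem cz (h : ES 2 Q z) (q : Q) : z * q = q * z := (h.commute_z q).symm.eq

theorem pw_z_inj (h : ES 2 Q z) {i j : ZMod 2} (e : pw z i = pw z j) : i = j := by
  haveI : Fact (Nat.Prime 2) := ⟨Nat.prime_two⟩
  rcases zmod_cases i with rfl | rfl <;> rcases zmod_cases j with rfl | rfl <;>
    simp [pw_zero, pw_one, h.z_ne_one, h.z_ne_one.symm] at e ⊢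

open Classical in
/-- the commutator pairing with `w` -/
noncomputable def cm (w q : Q) : ZMod 2 := if Commute q w then 0 else 1

theorem cm_of_commute {w q : Q} (hq : Commute q w) : cm w q = 0 := if_pos hq

theorem swap (h : ES 2 Q z) (w q : Q) : w * q = q * w * pw z (cm w q) := by
  unfold cm
  split_ifs with hq
  · rw [pw_zero, mul_one, hq.eq]
  · rw [pw_one]
    rcases h.eq_one_or (h.comm w q) with e | e
    · exact absurd (commutatorElement_eq_one_iff_commute.mp e).symm hq
    · rw [commutatorElement_def, mul_inv_eq_iff_eq_mul, mul_inv_eq_iff_eq_mul] at e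
      rw [e, mul_assoc, cz h]

theorem cm_of_commutator (h : ES 2 Q z) {w q : Q} (hwq : ⁅q, w⁆ = z) : cm w q = 1 :=
  if_neg fun hc => by
    haveI : Fact (Nat.Prime 2) := ⟨Nat.prime_two⟩
    exact h.z_ne_one (hwq ▸ commutatorElement_eq_one_iff_commute.mpr hc)

theorem cm_of_commutator' (h : ES 2 Q z) {w q : Q} (hwq : ⁅w, q⁆ = z) : cm w q = 1 :=
  if_neg fun hc => by
    haveI : Fact (Nat.Prime 2) := ⟨Nat.prime_two⟩
    exact h.z_ne_one (hwq ▸ commutatorElement_eq_one_iff_commute.mpr hc.symm)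

theorem cm_mul (h : ES 2 Q z) (w a b : Q) : cm w (a * b) = cm w a + cm w b := by
  refine pw_z_inj h (mul_left_cancel (a := a * b * w) ?_)
  rw [← swap h w (a * b), pw_add (zz h)]
  calc w * (a * b) = w * a * b := by group
    _ = a * (w * (pw z (cm w a) * b)) := by rw [swap h w a]; group
    _ = a * (w * b) * pw z (cm w a) := by rw [(pw_commute (cz h b) _).eq]; group
    _ = a * b * w * (pw z (cm w b) * pw z (cm w a)) := by rw [swap h w b]; group
    _ = _ := by rw [((pw_commute (h.commute_z _).symm (cm w b))).eq]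

theorem pw_swap (h : ES 2 Q z) (w q : Q) (i : ZMod 2) : pw w i * q = q * pw w i * pw z (i * cm w q) := by
  rcases zmod_cases i with rfl | rfl
  · simp [pw_zero]
  · rw [pw_one, one_mul]; exact swap h w q

/-- the reflection in `r`, `r² = z` -/
noncomputable def reflHom (h : ES 2 Q z) (r : Q) (hr : r * r = z) : Q →* Q :=
  MonoidHom.mk' (fun q => q * pw r (cm r q)) fun a b => by
    rw [cm_mul h]
    generalize hα : cm r a = i
    generalize hβ : cm r b = j
    calc a * b * pw r (i + j) = a * b * (pw r i * pw r j * pw z (i * j)) := by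
          congr 1
          rcases zmod_cases i with rfl | rfl <;> rcases zmod_cases j with rfl | rfl <;>
            simp [pw_zero, pw_one, hr, zz h, show (1 : ZMod 2) + 1 = 0 by decide]
      _ = a * (b * pw r i * pw z (i * j)) * pw r j := by
          rw [mul_assoc (pw r i), ← (pw_commute (cz h (pw r j)) (i * j)).eq]; group
      _ = a * (pw r i * b) * pw r j := by rw [pw_swap h r b i, hβ]
      _ = a * pw r i * (b * pw r j) := by group

theorem reflHom_apply (h : ES 2 Q z) (r : Q) (hr : r * r = z) (q : Q) :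
    reflHom h r hr q = q * pw r (cm r q) := rfl

theorem reflHom_bijective (h : ES 2 Q z) (r : Q) (hr : r * r = z) : Function.Bijective (reflHom h r hr) := by
  refine Finite.injective_iff_bijective.mp ((injective_iff_map_eq_one _).mpr fun q hq => ?_)
  rw [reflHom_apply] at hq
  have hc : Commute q r := by
    rw [eq_inv_of_mul_eq_one_left hq]
    exact ((Commute.refl r).pow_left _).inv_left
  rwa [cm_of_commute hc, pw_zero, mul_one] at hq

/-- the automorphism given by the reflection -/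
noncomputable def refl (h : ES 2 Q z) (r : Q) (hr : r * r = z) : MulAut Q :=
  MulEquiv.ofBijective (reflHom h r hr) (reflHom_bijective h r hr)

theorem refl_apply (h : ES 2 Q z) (r : Q) (hr : r * r = z) (q : Q) : refl h r hr q = q * pw r (cm r q) := rfl

/-- the translation part of a transvection -/
def dd (z u v : Q) (i j k : ZMod 2) : Q := pw u i * pw v j * pw z k

theorem dd_commute (h : ES 2 Q z) {u v w : Q} (hu : Commute u w) (hv : Commute v w) (i j k : ZMod 2) :
    Commute (dd z u v i j k) w :=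
  ((pw_commute hu i).mul_left (pw_commute hv j)).mul_left (pw_commute (cz h w) k)

theorem dd_add (h : ES 2 Q z) {u v : Q} (hu : u * u = 1) (hv : v * v = 1) (huv : Commute u v)
    (i j k i' j' k' : ZMod 2) :
    dd z u v i j k * dd z u v i' j' k' = dd z u v (i + i') (j + j') (k + k') := by
  unfold dd
  rw [pw_add hu, pw_add hv, pw_add (zz h),
    (pw_commute (cz h (pw u i' * pw v j')) k).mul_mul_mul_comm,
    (show Commute (pw v j) (pw u i') from Commute.pow_pow huv.symm _ _).mul_mul_mul_comm]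

theorem dd_swap (h : ES 2 Q z) (u v q : Q) (i j k : ZMod 2) :
    dd z u v i j k * q = q * dd z u v i j (k + (i * cm u q + j * cm v q)) := by
  unfold dd
  have hc : ∀ (w : Q) (l : ZMod 2), pw z l * w = w * pw z l := fun w l => (pw_commute (cz h w) l).eq
  calc pw u i * pw v j * pw z k * q = pw u i * (pw v j * q) * pw z k := by
        rw [mul_assoc _ (pw z k), hc]; group
    _ = pw u i * q * pw v j * pw z (j * cm v q) * pw z k := by rw [pw_swap h v q j]; group
    _ = q * pw u i * (pw z (i * cm u q) * pw v j) * pw z (j * cm v q) * pw z k := by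
        rw [pw_swap h u q i]; group
    _ = q * pw u i * pw v j * (pw z (i * cm u q) * pw z (j * cm v q) * pw z k) := by rw [hc]; group
    _ = _ := by rw [← pw_add (zz h), ← pw_add (zz h), add_comm _ k]; group

/-- the transvection attached to two commuting involutions -/
noncomputable def eichHom (h : ES 2 Q z) (u v : Q) (hu : u * u = 1) (hv : v * v = 1) (huv : Commute u v) :
    Q →* Q :=
  MonoidHom.mk' (fun q => q * dd z u v (cm v q) (cm u q) (cm u q * cm v q)) fun a b => by
    rw [cm_mul h, cm_mul h]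
    generalize hi : cm v a = i
    generalize hj : cm u a = j
    generalize hi' : cm v b = i'
    generalize hj' : cm u b = j'
    calc a * b * dd z u v (i + i') (j + j') ((j + j') * (i + i'))
        = a * b * (dd z u v i j (j * i + (i * j' + j * i')) * dd z u v i' j' (j' * i')) := by
          rw [dd_add h hu hv huv]; congr 2; ring
      _ = a * (dd z u v i j (j * i) * b) * dd z u v i' j' (j' * i') := by
          rw [show dd z u v i j (j * i) * b = b * dd z u v i j (j * i + (i * j' + j * i')) by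
            rw [dd_swap h, hi', hj']]
          group
      _ = a * dd z u v i j (j * i) * (b * dd z u v i' j' (j' * i')) := by group

theorem eichHom_apply (h : ES 2 Q z) (u v : Q) (hu : u * u = 1) (hv : v * v = 1) (huv : Commute u v) (q : Q) :
    eichHom h u v hu hv huv q = q * dd z u v (cm v q) (cm u q) (cm u q * cm v q) := rfl

theorem eichHom_bijective (h : ES 2 Q z) (u v : Q) (hu : u * u = 1) (hv : v * v = 1) (huv : Commute u v) :
    Function.Bijective (eichHom h u v hu hv huv) := by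
  refine Finite.injective_iff_bijective.mp ((injective_iff_map_eq_one _).mpr fun q hq => ?_)
  rw [eichHom_apply] at hq
  have hcu : Commute q u := by
    rw [eq_inv_of_mul_eq_one_left hq]
    exact (dd_commute h (Commute.refl u) huv.symm _ _ _).inv_left
  have hcv : Commute q v := by
    rw [eq_inv_of_mul_eq_one_left hq]
    exact (dd_commute h huv (Commute.refl v) _ _ _).inv_left
  rwa [cm_of_commute hcu, cm_of_commute hcv, mul_zero, dd, pw_zero, pw_zero, pw_zero, one_mul, one_mul,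
    mul_one] at hq

/-- the automorphism given by the transvection -/
noncomputable def eich (h : ES 2 Q z) (u v : Q) (hu : u * u = 1) (hv : v * v = 1) (huv : Commute u v) :
    MulAut Q :=
  MulEquiv.ofBijective (eichHom h u v hu hv huv) (eichHom_bijective h u v hu hv huv)

theorem eich_apply (h : ES 2 Q z) (u v : Q) (hu : u * u = 1) (hv : v * v = 1) (huv : Commute u v) (q : Q) :
    eich h u v hu hv huv q = q * dd z u v (cm v q) (cm u q) (cm u q * cm v q) := rfl

/-- three orthogonal dihedral pairs -/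
structure Frame (z : Q) where
  x1 : Q
  x2 : Q
  x3 : Q
  y1 : Q
  y2 : Q
  y3 : Q
  sx1 : x1 * x1 = 1
  sx2 : x2 * x2 = 1
  sx3 : x3 * x3 = 1
  sy1 : y1 * y1 = 1
  sy2 : y2 * y2 = 1
  sy3 : y3 * y3 = 1
  p1 : ⁅y1, x1⁆ = z
  p2 : ⁅y2, x2⁆ = z
  p3 : ⁅y3, x3⁆ = z
  c12 : Commute x1 x2
  c13 : Commute x1 x3
  c23 : Commute x2 x3
  d12 : Commute y1 y2
  d13 : Commute y1 y3
  d23 : Commute y2 y3
  e12 : Commute x1 y2
  e13 : Commute x1 y3
  e21 : Commute x2 y1
  e23 : Commute x2 y3
  e31 : Commute x3 y1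
  e32 : Commute x3 y2
  gen : ∀ f g : MulAut Q, f x1 = g x1 → f x2 = g x2 → f x3 = g x3 → f y1 = g y1 → f y2 = g y2 →
    f y3 = g y3 → (∀ c, Commute c x1 → Commute c x2 → Commute c x3 → Commute c y1 → Commute c y2 →
    Commute c y3 → f c = g c) → f = g

theorem step [Fact (Nat.Prime 2)] {R : Type u} [Group R] [Finite R] {w : R} (h : ES 2 R w)
    (E : Subgroup R) (hE : Cfsg.IsElementaryAbelian 2 E) (hcard : 4 ≤ Nat.card E) :
    ∃ x y : R, x * x = 1 ∧ y * y = 1 ∧ ⁅y, x⁆ = w ∧
      Cfsg.IsElementaryAbelian 2 (E.subgroupOf (pairCentralizer x y)) ∧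
      Nat.card E ≤ 2 * Nat.card (E.subgroupOf (pairCentralizer x y)) := by
  obtain ⟨x, hxE, hxw⟩ : ∃ x ∈ E, x ∉ zpowers w := by
    by_contra hh
    push Not at hh
    have := card_le_of_le (show E ≤ zpowers w from hh)
    rw [Nat.card_zpowers, h.ord] at this
    omega
  have hx2 : x ^ 2 = 1 := hE.2 x hxE
  obtain ⟨y, hxy, hy2⟩ := h.exists_dihedral_pair (h.cen ▸ hxw) hx2
  set C := pairCentralizer x y
  haveI := hE.1
  refine ⟨x, y, by rwa [← pow_two], by rwa [← pow_two], hxy, ⟨?_, ?_⟩, ?_⟩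
  · refine ⟨⟨fun a b => Subtype.ext (Subtype.ext ?_)⟩⟩
    exact congrArg (fun t : E => (t : R))
      (mul_comm' (⟨((a : C) : R), a.2⟩ : E) (⟨((b : C) : R), b.2⟩ : E))
  · exact fun a ha => Subtype.ext (by rw [SubgroupClass.coe_pow]; exact hE.2 _ ha)
  · let φ : E →* Multiplicative (ZMod 2) := MonoidHom.mk' (fun q => Multiplicative.ofAdd (cm y (q : R)))
      fun a b => by rw [Subgroup.coe_mul, cm_mul h, ofAdd_add]
    have h1 : Nat.card φ.range ≤ 2 :=
      (card_le_card_group _).trans (by simp [Nat.card_eq_fintype_card])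
    have h2 : Nat.card φ.ker ≤ Nat.card (E.subgroupOf C) := by
      have hmem : ∀ q : φ.ker, (q.1 : R) ∈ C := fun q => mem_pairCentralizer.2 ⟨
        congrArg Subtype.val (mul_comm' q.1 ⟨x, hxE⟩), by
          have h0 : cm y (q.1 : R) = 0 := Multiplicative.ofAdd.injective q.2
          have h1 := swap h y (q.1 : R)
          rw [h0, pw_zero, mul_one] at h1
          exact h1.symm⟩
      refine Nat.card_le_card_of_injective (fun q => ⟨⟨(q.1 : R), hmem q⟩, q.1.2⟩) fun a b e => ?_
      exact Subtype.ext (Subtype.ext (congrArg (fun t : E.subgroupOf C => ((t : C) : R)) e))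
    calc Nat.card E = Nat.card φ.ker * φ.ker.index := (card_mul_index _).symm
      _ = Nat.card φ.ker * Nat.card φ.range := by rw [index_ker]
      _ ≤ _ := by rw [mul_comm 2]; exact Nat.mul_le_mul h2 h1

theorem exists_frame (h : ES 2 Q z) (E : Subgroup Q) (hE : Cfsg.IsElementaryAbelian 2 E)
    (hcard : 16 ≤ Nat.card E) : Nonempty (Frame z) := by
  haveI : Fact (Nat.Prime 2) := ⟨Nat.prime_two⟩
  obtain ⟨x1, y1, sx1, sy1, p1, hE1, hc1⟩ := step h E hE (by omega)
  have h1 := h.restrict p1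
  obtain ⟨x2, y2, sx2, sy2, p2, hE2, hc2⟩ := step h1 _ hE1 (by omega)
  have h2 := h1.restrict p2
  obtain ⟨x3, y3, sx3, sy3, p3, -, -⟩ := step h2 _ hE2 (by omega)
  obtain ⟨a2, b2⟩ := mem_pairCentralizer.1 x2.2
  obtain ⟨a2', b2'⟩ := mem_pairCentralizer.1 y2.2
  obtain ⟨a3, b3⟩ := mem_pairCentralizer.1 x3.1.2
  obtain ⟨a3', b3'⟩ := mem_pairCentralizer.1 y3.1.2
  obtain ⟨u3, v3⟩ := mem_pairCentralizer.1 x3.2
  obtain ⟨u3', v3'⟩ := mem_pairCentralizer.1 y3.2
  have cv : ∀ {R : Type u} [Group R] {H : Subgroup R} {a b : H}, Commute a b → Commute (a : R) (b : R) :=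
    fun hab => congrArg Subtype.val hab
  refine ⟨{ x1 := x1, x2 := x2, x3 := x3.1, y1 := y1, y2 := y2, y3 := y3.1
            sx1 := sx1, sy1 := sy1
            sx2 := congrArg Subtype.val sx2, sy2 := congrArg Subtype.val sy2
            sx3 := congrArg (fun t => ((t : pairCentralizer x1 y1) : Q)) (congrArg Subtype.val sx3)
            sy3 := congrArg (fun t => ((t : pairCentralizer x1 y1) : Q)) (congrArg Subtype.val sy3)
            p1 := p1, p2 := congrArg Subtype.val p2
            p3 := congrArg (fun t => ((t : pairCentralizer x1 y1) : Q)) (congrArg Subtype.val p3)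
            c12 := a2.symm, c13 := a3.symm, c23 := (cv u3).symm
            d12 := b2'.symm, d13 := b3'.symm, d23 := (cv v3').symm
            e12 := a2'.symm, e13 := a3'.symm, e21 := b2, e23 := (cv u3').symm
            e31 := b3, e32 := cv v3
            gen := ?_ }⟩
  intro f g f1 f2 f3 g1 g2 g3 hc
  refine MulEquiv.ext fun q => ?_
  obtain ⟨a, b, q1, hq1, rfl⟩ := h.exists_coord p1 q
  obtain ⟨a', b', q2, hq2, e2⟩ := h1.exists_coord p2 ⟨q1, hq1⟩
  obtain ⟨a'', b'', q3, hq3, e3⟩ := h2.exists_coord p3 ⟨q2, hq2⟩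
  obtain ⟨r1, r2⟩ := mem_pairCentralizer.1 q2.2
  obtain ⟨r3, r4⟩ := mem_pairCentralizer.1 hq3
  obtain ⟨r5, r6⟩ := mem_pairCentralizer.1 q3.2
  obtain ⟨r7, r8⟩ := mem_pairCentralizer.1 q3.1.2
  have e2' : q1 = (x2 : Q) ^ a' * (y2 : Q) ^ b' * (q2 : Q) := by simpa using congrArg Subtype.val e2
  have e3' : (q2 : Q) = (x3.1 : Q) ^ a'' * (y3.1 : Q) ^ b'' * (q3.1 : Q) := by
    simpa using congrArg (fun t : pairCentralizer x2 y2 => ((t.1 : pairCentralizer x1 y1) : Q)) e3
  rw [e2', e3']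
  simp only [map_mul, map_pow, f1, f2, f3, g1, g2, g3]
  rw [hc _ r7 (cv r5) (cv (cv r3)) r8 (cv r6) (cv (cv r4))]

/-- the fourth power of the product, computed from its square -/
theorem fourth (h : ES 2 Q z) (F : Frame z) (k : MulAut Q) {c s : Q} (hc : ∀ q, c * q = q * c) (hs : ∀ q, s * q = q * s)
    (cc : c * c = 1) (ss : s * s = 1) (kc : k c = c) (ks : k s = s) (k2 : k F.x2 = F.x2)
    (k3 : k F.x3 = F.x3 * F.x2 * s) (k3' : k F.y3 = F.y3 * F.x2 * s)
    (k2' : k F.y2 = F.y2 * F.y3 * F.x3 * F.x2 * c) :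
    k (k F.x3) = F.x3 ∧ k (k F.y3) = F.y3 ∧ k (k F.y2) = F.y2 * z := by
  have e : ∀ w, w * F.x2 * s * F.x2 * s = w := fun w => by
    rw [mul_assoc (w * F.x2) s, hs, ← mul_assoc (w * F.x2) F.x2, mul_assoc w F.x2, F.sx2, mul_one, mul_assoc, ss,
      mul_one]
  have hz : F.y3 * F.x3 * F.y3 * F.x3 = z := by
    have hp := F.p3
    rw [commutatorElement_def, inv_eq_of_mul_eq_one_right F.sy3, inv_eq_of_mul_eq_one_right F.sx3] at hp
    exact hp
  refine ⟨by rw [k3, map_mul, map_mul, k3, k2, ks]; exact e _, by rw [k3', map_mul, map_mul, k3', k2, ks]; exact e _, ?_⟩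
  rw [k2', map_mul, map_mul, map_mul, map_mul, k2', k3', k3, k2, kc]
  set Y := F.y3
  set X := F.x3
  set T := F.x2
  have hTY : Commute T Y := F.e23
  have hTX : Commute T X := F.c23
  have mc : ∀ q t, q * c * t = q * t * c := fun q t => by rw [mul_assoc, hc, mul_assoc]
  have ms : ∀ q t, q * s * t = q * t * s := fun q t => by rw [mul_assoc, hs, mul_assoc]
  calc F.y2 * Y * X * T * c * (Y * T * s) * (X * T * s) * T * c
      = F.y2 * Y * X * T * (Y * T) * (X * T) * T * (s * s) * (c * c) := by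
        simp only [← mul_assoc, mc _ Y, mc _ T, mc _ X, mc _ s, ms _ Y, ms _ T, ms _ X]
    _ = F.y2 * Y * X * T * (Y * T) * (X * T) * T := by rw [cc, mul_one, ss, mul_one]
    _ = F.y2 * Y * X * (T * Y) * T * X * (T * T) := by group
    _ = F.y2 * Y * X * Y * (T * T) * X := by rw [F.sx2, mul_one, mul_one, hTY.eq, ← mul_assoc _ Y T, mul_assoc _ T T, F.sx2, mul_one]
    _ = F.y2 * (Y * X * Y * X) := by rw [F.sx2, mul_one]; group
    _ = F.y2 * z := by rw [hz]

/-- congruence modulo `⟨z⟩` -/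
def Near (z q q' : Q) : Prop := ∃ i : ZMod 2, q = q' * pw z i

theorem obstruction (h : ES 2 Q z) (F : Frame z) (a b : MulAut Q) (ha : a * a = 1) (hb : b * b = 1)
    (a3 : Near z (a F.x3) F.y3) (a1' : Near z (a F.y1) (F.y1 * F.x2))
    (a2' : Near z (a F.y2) (F.y2 * F.x1)) (b1 : Near z (b F.x1) F.x1)
    (b2' : Near z (b F.y2) (F.y2 * F.x3)) (b3' : Near z (b F.y3) (F.y3 * F.x2)) :
    ((a * b) * (a * b) * ((a * b) * (a * b))) F.y2 = F.y2 * z := by
  haveI : Fact (Nat.Prime 2) := ⟨Nat.prime_two⟩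
  have hfix : ∀ (f : MulAut Q) i, f (pw z i) = pw z i := fun f i => by
    have h1 : f z ∈ center Q := mem_center_iff.mpr fun q => by
      obtain ⟨q, rfl⟩ := f.surjective q
      rw [← map_mul, ← map_mul, cz h]
    rw [h.cen] at h1
    rcases h.eq_one_or h1 with e | e
    · exact absurd (f.injective (e.trans (map_one f).symm)) h.z_ne_one
    · rw [pw, map_pow, e]
  have hcen : ∀ i q, pw z i * q = q * pw z i := fun i q => (pw_commute (cz h q) i).eq
  have hsq : ∀ i, pw z i * pw z i = 1 := fun i => by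
    rw [← pw_add (zz h), CharTwo.add_self_eq_zero, pw_zero]
  have haa : ∀ q, a (a q) = q := fun q => DFunLike.congr_fun ha q
  have hbb : ∀ q, b (b q) = q := fun q => DFunLike.congr_fun hb q
  -- exact values forced by the involutions
  have key : ∀ (f : MulAut Q), (∀ q, f (f q) = q) → ∀ (y x : Q), x * x = 1 → Near z (f y) (y * x) → f x = x := by
    intro f hf y x hx ⟨i, hi⟩
    have h1 : y * x * pw z i * f x * pw z i = y := by
      conv_rhs => rw [← hf y, hi, map_mul, map_mul, hfix, hi]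
    rw [mul_assoc (y * x * pw z i), ← hcen i (f x), mul_assoc (y * x), ← mul_assoc (pw z i), hsq, one_mul, mul_assoc,
      mul_eq_left] at h1
    exact (eq_inv_of_mul_eq_one_right h1).trans (inv_eq_of_mul_eq_one_right hx)
  have A2 := key a haa F.y1 F.x2 F.sx2 a1'
  have A1 := key a haa F.y2 F.x1 F.sx1 a2'
  have B2 := key b hbb F.y3 F.x2 F.sx2 b3'
  have B3 := key b hbb F.y2 F.x3 F.sx3 b2'
  obtain ⟨u, A3⟩ := a3
  obtain ⟨v, A2'⟩ := a2'
  obtain ⟨w, B1⟩ := b1
  obtain ⟨r, B2'⟩ := b2'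
  obtain ⟨s, B3'⟩ := b3'
  have A3' : a F.y3 = F.x3 * pw z u := by
    have h1 : a F.y3 * pw z u = F.x3 := by
      conv_rhs => rw [← haa F.x3, A3, map_mul, hfix]
    rw [← h1, mul_assoc, hsq, mul_one]
  have hT : ∀ q, (a * b) q = a (b q) := fun _ => rfl
  have k2 : ((a * b) * (a * b)) F.x2 = F.x2 := by
    rw [MulAut.mul_apply, hT, hT, B2, A2, B2, A2]
  have k3 : ((a * b) * (a * b)) F.x3 = F.x3 * F.x2 * pw z s := by
    rw [MulAut.mul_apply, hT, hT, B3, A3, map_mul, map_mul, hfix, hfix, B3', map_mul, map_mul, hfix, A2, A3',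
      mul_assoc F.x3 (pw z u), hcen u F.x2, ← mul_assoc F.x3, mul_assoc (F.x3 * F.x2) (pw z u), hcen u (pw z s),
      ← mul_assoc, mul_assoc _ (pw z u), hsq, mul_one]
  have k3' : ((a * b) * (a * b)) F.y3 = F.y3 * F.x2 * pw z s := by
    rw [MulAut.mul_apply, hT, hT]
    simp only [B3', map_mul, hfix, A2, A3', B2, B3, A3]
    calc F.y3 * pw z u * pw z u * F.x2 * pw z s = F.y3 * (pw z u * pw z u) * F.x2 * pw z s := by group
      _ = _ := by rw [hsq, mul_one]
  have k2' : ((a * b) * (a * b)) F.y2 = F.y2 * F.y3 * F.x3 * F.x2 * pw z (w + u + s) := by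
    rw [MulAut.mul_apply, hT, hT]
    simp only [B2', B3', B1, A2', map_mul, hfix, A1, A2, A3', B2, B3, A3]
    rw [pw_add (zz h), pw_add (zz h)]
    have m : ∀ i q t, q * pw z i * t = q * t * pw z i := fun i q t => by rw [mul_assoc, hcen, mul_assoc]
    simp only [← mul_assoc, m _ _ F.y3, m _ _ F.x1, m _ _ F.x3, m _ _ F.x2]
    rw [mul_assoc F.y2 F.x1 F.y3, F.e13.eq, ← mul_assoc, mul_assoc (F.y2 * F.y3) F.x1 F.x1, F.sx1, mul_one]
    simp only [mul_assoc]
    congr 4
    rcases zmod_cases v with rfl | rfl <;> rcases zmod_cases u with rfl | rfl <;>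
      rcases zmod_cases r with rfl | rfl <;> rcases zmod_cases w with rfl | rfl <;>
        rcases zmod_cases s with rfl | rfl <;> simp [pw_zero, pw_one, zz h]
  exact (fourth h F _ (fun q => hcen _ q) (fun q => hcen _ q) (hsq _) (hsq _) (hfix _ _) (hfix _ _) k2 k3 k3' k2').2.2

/-- **no complement** -/
theorem not_isComplement (h : ES 2 Q z) (F : Frame z) (L : Subgroup (MulAut Q)) :
    ¬ (Cfsg.Inn Q).IsComplement' L := by
  intro hL
  haveI : Fact (Nat.Prime 2) := ⟨Nat.prime_two⟩
  have hr : F.x3 * F.y3 * (F.x3 * F.y3) = z := by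
    have hp := congrArg (·⁻¹) F.p3
    simp only [commutatorElement_inv] at hp
    rw [commutatorElement_def, inv_eq_of_mul_eq_one_right F.sy3, inv_eq_of_mul_eq_one_right F.sx3,
      inv_eq_of_mul_eq_one_right (zz h)] at hp
    rw [← mul_assoc]
    exact hp
  set r := F.x3 * F.y3
  set E := eich h F.x1 F.x2 F.sx1 F.sx2 F.c12 with hEdef
  set T := refl h r hr with hTdef
  set A : MulAut Q := E * T with hA
  set B := eich h F.x2 F.x3 F.sx2 F.sx3 F.c23 with hB
  -- pairings
  have o1 : ∀ w q : Q, Commute q w → cm w q = (0 : ZMod 2) := fun _ _ => cm_of_commute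
  have hrc : ∀ q, Commute q F.x3 → Commute q F.y3 → cm r q = 0 := fun q u v => cm_of_commute (u.mul_right v)
  have hne : ¬ Commute F.x3 F.y3 := fun hc =>
    h.z_ne_one (F.p3.symm.trans (commutatorElement_eq_one_iff_commute.mpr hc.symm))
  have hr3 : cm r F.x3 = 1 := if_neg fun hc => hne (by
    have e : F.x3 * (F.x3 * F.y3) = F.x3 * F.y3 * F.x3 := hc.eq
    rw [mul_assoc] at e
    exact mul_left_cancel e)
  have hr3' : cm r F.y3 = 1 := if_neg fun hc => hne (by
    have e : F.y3 * (F.x3 * F.y3) = F.x3 * F.y3 * F.y3 := hc.eq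
    rw [← mul_assoc] at e
    exact (mul_right_cancel e).symm)
  have hEa : ∀ q, E q = q * dd z F.x1 F.x2 (cm F.x2 q) (cm F.x1 q) (cm F.x1 q * cm F.x2 q) :=
    fun q => eich_apply h _ _ _ _ _ q
  have hBa : ∀ q, B q = q * dd z F.x2 F.x3 (cm F.x3 q) (cm F.x2 q) (cm F.x2 q * cm F.x3 q) :=
    fun q => eich_apply h _ _ _ _ _ q
  have hTa : ∀ q, T q = q * pw r (cm r q) := fun q => refl_apply h r hr q
  have fixE : ∀ q, Commute q F.x1 → Commute q F.x2 → E q = q := fun q u v => by
    rw [hEa, o1 _ _ u, o1 _ _ v]; simp [dd, pw_zero]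
  have fixB : ∀ q, Commute q F.x2 → Commute q F.x3 → B q = q := fun q u v => by
    rw [hBa, o1 _ _ u, o1 _ _ v]; simp [dd, pw_zero]
  have fixT : ∀ q, Commute q F.x3 → Commute q F.y3 → T q = q := fun q u v => by
    rw [hTa, hrc q u v, pw_zero, mul_one]
  have fixA : ∀ q, Commute q F.x1 → Commute q F.x2 → Commute q F.x3 → Commute q F.y3 → A q = q :=
    fun q u v s t => by rw [hA, MulAut.mul_apply, fixT q s t, fixE q u v]
  have A1 : A F.x1 = F.x1 := fixA _ (Commute.refl _) F.c12 F.c13 F.e13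
  have A2 : A F.x2 = F.x2 := fixA _ F.c12.symm (Commute.refl _) F.c23 F.e23
  have Az : A z = z := fixA _ (cz h _) (cz h _) (cz h _) (cz h _)
  have Bz : B z = z := fixB _ (cz h _) (cz h _)
  have Er : E r = r := fixE _ ((F.c13.symm).mul_left F.e13.symm) ((F.c23.symm).mul_left F.e23.symm)
  have A3 : A F.x3 = F.y3 := by
    rw [hA, MulAut.mul_apply, hTa, hr3, pw_one, ← mul_assoc, F.sx3, one_mul,
      fixE _ F.e13.symm F.e23.symm]
  have A3' : A F.y3 = F.x3 * z := by
    have : F.y3 * (F.x3 * F.y3) = F.x3 * z := by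
      refine mul_left_cancel (a := F.x3) ?_
      rw [← mul_assoc F.x3 F.x3, F.sx3, one_mul, ← mul_assoc]
      exact hr
    rw [hA, MulAut.mul_apply, hTa, hr3', pw_one, this, map_mul, fixE _ F.c13.symm F.c23.symm,
      fixE _ (cz h _) (cz h _)]
  have A1' : A F.y1 = F.y1 * F.x2 := by
    rw [hA, MulAut.mul_apply, fixT _ F.e31.symm F.d13, hEa, cm_of_commutator h F.p1, o1 _ _ F.e21.symm]
    simp [dd, pw_zero, pw_one]
  have A2' : A F.y2 = F.y2 * F.x1 := by
    rw [hA, MulAut.mul_apply, fixT _ F.e32.symm F.d23, hEa, cm_of_commutator h F.p2, o1 _ _ F.e12.symm]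
    simp [dd, pw_zero, pw_one]
  have B1 : B F.x1 = F.x1 := fixB _ F.c12 F.c13
  have B2 : B F.x2 = F.x2 := fixB _ (Commute.refl _) F.c23
  have B3 : B F.x3 = F.x3 := fixB _ F.c23.symm (Commute.refl _)
  have B1' : B F.y1 = F.y1 := fixB _ F.e21.symm F.e31.symm
  have B2' : B F.y2 = F.y2 * F.x3 := by
    rw [hBa, cm_of_commutator h F.p2, o1 _ _ F.e32.symm]
    simp [dd, pw_zero, pw_one]
  have B3' : B F.y3 = F.y3 * F.x2 := by
    rw [hBa, cm_of_commutator h F.p3, o1 _ _ F.e23.symm]
    simp [dd, pw_zero, pw_one]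
  -- squares
  have hEE : ∀ (u v : Q) (hu : u * u = 1) (hv : v * v = 1) (huv : Commute u v),
      eich h u v hu hv huv * eich h u v hu hv huv = 1 := by
    intro u v hu hv huv
    refine MulEquiv.ext fun q => ?_
    rw [MulAut.mul_apply, eich_apply, eich_apply, cm_mul h, cm_mul h,
      o1 u _ (dd_commute h (Commute.refl u) huv.symm _ _ _), o1 v _ (dd_commute h huv (Commute.refl v) _ _ _),
      add_zero, add_zero, mul_assoc, dd_add h hu hv huv, CharTwo.add_self_eq_zero, CharTwo.add_self_eq_zero,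
      CharTwo.add_self_eq_zero]
    simp [dd, pw_zero]
  have hET : E * T = T * E := by
    refine MulEquiv.ext fun q => ?_
    have hdc : Commute (dd z F.x1 F.x2 (cm F.x2 q) (cm F.x1 q) (cm F.x1 q * cm F.x2 q)) r :=
      dd_commute h (F.c13.mul_right F.e13) (F.c23.mul_right F.e23) _ _ _
    have e1 : E (T q) = E q * pw r (cm r q) := by rw [hTa, map_mul, pw, map_pow, Er]
    have e2 : T (E q) = E q * pw r (cm r q) := by
      rw [hTa (E q)]
      congr 2
      rw [hEa, cm_mul h, o1 _ _ hdc, add_zero]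
    rw [MulAut.mul_apply, MulAut.mul_apply, e1, e2]
  have hTT : T * T = MulAut.conj r := by
    refine MulEquiv.ext fun q => ?_
    have h1 : cm r (pw r (cm r q)) = 0 := o1 _ _ (pw_commute (Commute.refl r) _)
    rw [MulAut.mul_apply, MulAut.conj_apply, hTa, hTa, cm_mul h, h1, add_zero, swap h r q]
    generalize cm r q = i
    rcases zmod_cases i with rfl | rfl
    · simp [pw_zero, mul_assoc]
    · simp only [pw_one]
      rw [mul_assoc, hr, mul_assoc (q * r), cz h r⁻¹, ← mul_assoc, mul_inv_cancel_right]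
  have hAA : A * A ∈ Cfsg.Inn Q := ⟨r, by
    have e : A * A = E * E * (T * T) := by
      rw [hA, show E * T * (E * T) = E * (T * E) * T by group, ← hET]; group
    rw [e, hEE, one_mul, hTT]⟩
  have hBB : B * B ∈ Cfsg.Inn Q := ⟨1, by rw [map_one, hB, hEE]⟩
  set H := A * B with hH
  have K : ∀ q, (H * H) q = A (B (A (B q))) := fun _ => rfl
  have k1 : (H * H) F.x1 = F.x1 := by rw [K, B1, A1, B1, A1]
  have k2 : (H * H) F.x2 = F.x2 := by rw [K, B2, A2, B2, A2]
  have k1' : (H * H) F.y1 = F.y1 := by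
    rw [K, B1', A1', map_mul, map_mul, B1', B2, A1', A2, mul_assoc, F.sx2, mul_one]
  have k3 : (H * H) F.x3 = F.x3 * F.x2 * z := by
    rw [K, B3, A3, B3', map_mul, A3', A2, mul_assoc, cz h, mul_assoc]
  have k3' : (H * H) F.y3 = F.y3 * F.x2 * z := by
    rw [K, B3', map_mul, A3', A2]
    simp only [map_mul, B2, B3, Bz, A2, A3, Az]
    rw [mul_assoc, cz h, mul_assoc]
  have k2' : (H * H) F.y2 = F.y2 * F.y3 * F.x3 * F.x2 * z := by
    rw [K, B2', map_mul, A2', A3]
    simp only [map_mul, B2', B1, B3', A2', A3, A1, A3', A2]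
    rw [mul_assoc F.y2 F.x1 F.y3, F.e13.eq, ← mul_assoc F.y2 F.y3 F.x1, mul_assoc (F.y2 * F.y3) F.x1 F.x1,
      F.sx1, mul_one, mul_assoc F.x3 z F.x2, cz h, ← mul_assoc, ← mul_assoc]
  have hcz : ∀ q, z * q = q * z := cz h
  have Hz : (H * H) z = z := by rw [K, Bz, Az, Bz, Az]
  obtain ⟨h3, h3', h2'⟩ := fourth h F (H * H) hcz hcz (zz h) (zz h) Hz Hz k2 k3 k3' k2'
  have hfix : ∀ q, Commute q F.x2 → MulAut.conj F.x2 q = q := fun q u => by
    rw [MulAut.conj_apply, ← u.eq, mul_inv_cancel_right]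
  have hH4 : H * H * (H * H) ∈ Cfsg.Inn Q := ⟨F.x2, by
    refine (F.gen _ _ ?_ ?_ ?_ ?_ ?_ ?_ ?_).symm
    · rw [MulAut.mul_apply, k1, k1, hfix _ F.c12]
    · rw [MulAut.mul_apply, k2, k2, hfix _ (Commute.refl _)]
    · rw [MulAut.mul_apply, h3, hfix _ F.c23.symm]
    · rw [MulAut.mul_apply, k1', k1', hfix _ F.e21.symm]
    · rw [MulAut.mul_apply, h2', MulAut.conj_apply, swap h F.x2 F.y2, cm_of_commutator h F.p2, pw_one,
        mul_assoc (F.y2 * F.x2) z, cz h, ← mul_assoc, mul_inv_cancel_right]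
    · rw [MulAut.mul_apply, h3', hfix _ F.e23.symm]
    · intro c c1 c2 c3 _ _ c6
      have e : (H * H) c = c := by rw [K, fixB c c2 c3, fixA c c1 c2 c3 c6, fixB c c2 c3, fixA c c1 c2 c3 c6]
      rw [MulAut.mul_apply, e, e, hfix c c2]⟩
  -- the lifts
  have lift : ∀ f : MulAut Q, ∃ l ∈ L, ∃ i ∈ Cfsg.Inn Q, l = i * f := fun f => by
    obtain ⟨i, hi, l, hl, e⟩ := mem_sup_of_normal_left.mp (hL.sup_eq_top.ge (mem_top f))
    exact ⟨l, hl, i⁻¹, inv_mem hi, by rw [← e, inv_mul_cancel_left]⟩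
  obtain ⟨a, ha, i, hi, hai⟩ := lift A
  obtain ⟨b, hb, j, hj, hbj⟩ := lift B
  let π := QuotientGroup.mk' (Cfsg.Inn Q)
  have hπi : ∀ {f : MulAut Q}, f ∈ Cfsg.Inn Q → π f = 1 := fun hf => (QuotientGroup.eq_one_iff _).mpr hf
  have hπa : π a = π A := by rw [hai, map_mul, hπi hi, one_mul]
  have hπb : π b = π B := by rw [hbj, map_mul, hπi hj, one_mul]
  have hout : ∀ {f : MulAut Q}, f ∈ L → π f = 1 → f = 1 := fun hf e =>
    Subgroup.mem_bot.mp (hL.disjoint.le_bot ⟨(QuotientGroup.eq_one_iff _).mp e, hf⟩)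
  have haa : a * a = 1 := hout (mul_mem ha ha) (by rw [map_mul, hπa, ← map_mul, hπi hAA])
  have hbb : b * b = 1 := hout (mul_mem hb hb) (by rw [map_mul, hπb, ← map_mul, hπi hBB])
  have h4 : a * b * (a * b) * (a * b * (a * b)) = 1 := hout
    (mul_mem (mul_mem (mul_mem ha hb) (mul_mem ha hb)) (mul_mem (mul_mem ha hb) (mul_mem ha hb)))
    (by simp only [map_mul, hπa, hπb]; simp only [← map_mul]; exact hπi hH4)
  have near : ∀ (l f i : MulAut Q), i ∈ Cfsg.Inn Q → l = i * f → ∀ q q', f q = q' → Near z (l q) q' := by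
    rintro _ f _ ⟨g, rfl⟩ rfl q q' e
    refine ⟨cm g q', ?_⟩
    rw [MulAut.mul_apply, e, MulAut.conj_apply, swap h g q', mul_assoc (q' * g),
      (pw_commute (cz h g⁻¹) (cm g q')).eq, ← mul_assoc, mul_inv_cancel_right]
  have := obstruction h F a b haa hbb (near a A i hi hai _ _ A3) (near a A i hi hai _ _ A1')
    (near a A i hi hai _ _ A2') (near b B j hj hbj _ _ B1) (near b B j hj hbj _ _ B2') (near b B j hj hbj _ _ B3')
  rw [h4] at this
  exact h.z_ne_one (mul_eq_left.mp this.symm)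

theorem inn_no_complement (n : ℕ) (hn : 3 ≤ n) (hQ : Cfsg.IsExtraspecial 2 Q)
    (hplus : ∃ E : Subgroup Q, Cfsg.IsElementaryAbelian 2 E ∧ Nat.card E = 2 ^ (n + 1))
    (L : Subgroup (MulAut Q)) : ¬ (Cfsg.Inn Q).IsComplement' L := by
  haveI : Fact (Nat.Prime 2) := ⟨Nat.prime_two⟩
  obtain ⟨z, hz, hz1⟩ := exists_z hQ
  have h := ES.of_isExtraspecial hQ hz hz1
  obtain ⟨E, hE, hc⟩ := hplus
  have h16 : 16 ≤ Nat.card E := hc ▸ (show 2 ^ 4 ≤ 2 ^ (n + 1) from Nat.pow_le_pow_right (by norm_num) (by omega))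
  obtain ⟨F⟩ := exists_frame h E hE h16
  exact not_isComplement h F L

end Cfsg.Lib.ExtraOut
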