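import Cfsg.Agent.PGroups.ExtraspecialIso
import Cfsg.Agent.SolvStruct.PGroupBasics
import Cfsg.Prelude.Def_Transfer

/-!
Elements of order four in extraspecial two-groups of plus type.
-/

set_option linter.style.haveILetI false
set_option linter.unusedSectionVars false

namespace Cfsg.Lib.ExtraPlusCount

open Subgroup
open scoped commutatorElement

universe u

variable {E : Type u} [Group E] [Finite E]

theorem centralizer_eq_self {m : ℕ} (hE : Cfsg.IsExtraspecial 2 E) (hcard : Nat.card E = 2 ^ (2 * m + 1))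
    (A : Subgroup E) (hA : IsMulCommutative A) (hAc : Nat.card A = 2 ^ (m + 1)) :
    centralizer (A : Set E) = A := by
  haveI : Fact (Nat.Prime 2) := ⟨Nat.prime_two⟩
  have hi : A.relIndex ⊤ = 2 ^ m := by
    have h := A.index_mul_card
    rw [hcard, hAc, show 2 ^ (2 * m + 1) = 2 ^ m * 2 ^ (m + 1) by rw [← pow_add]; congr 1; omega] at h
    rw [relIndex_top_right]
    exact Nat.eq_of_mul_eq_mul_right (Nat.two_pow_pos (m + 1)) h
  have h1 := Cfsg.Lib.SolvStruct.relIndex_centralizer_tower hE.1.1 (le_of_eq hE.1.2.2) hE.2 m A ⊤ le_top hi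
  rw [coe_top, centralizer_univ] at h1
  have h2 : center E ≤ centralizer (A : Set E) := center_le_centralizer _
  refine (eq_of_le_of_card_ge (le_centralizer_iff_isMulCommutative.2 hA) ?_).symm
  have h4 := relIndex_mul_relIndex ⊥ (center E) (centralizer (A : Set E)) bot_le h2
  rw [relIndex_bot_left, relIndex_bot_left, hE.2] at h4
  rw [hAc, ← h4, pow_succ']
  exact Nat.mul_le_mul_left 2 h1

theorem card_orderOf_four {m : ℕ} (hE : Cfsg.IsExtraspecial 2 E) (hcard : Nat.card E = 2 ^ (2 * m + 1))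
    (A : Subgroup E) (hA : Cfsg.IsElementaryAbelian 2 A) (hAc : Nat.card A = 2 ^ (m + 1)) :
    Nat.card {x : E // orderOf x = 4} = 2 ^ (2 * m) - 2 ^ m := by
  classical
  haveI : Fact (Nat.Prime 2) := ⟨Nat.prime_two⟩
  obtain ⟨z, hz, hz1⟩ := Cfsg.Lib.PGroups.ExtraspecialIso.exists_z hE
  have h := Cfsg.Lib.PGroups.ExtraspecialIso.ES.of_isExtraspecial hE hz hz1
  have hzz : z * z = 1 := by rw [← pow_two, ← h.ord, pow_orderOf_eq_one]
  have hC := centralizer_eq_self hE hcard A hA.1 hAc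
  have hA2 : ∀ a ∈ A, a * a = 1 := fun a ha => by rw [← pow_two]; exact hA.2 a ha
  have hsel : ∀ x : E, x ∉ A → ∃ a ∈ A, a * x = z * (x * a) := by
    intro x hx
    rw [← hC, mem_centralizer_iff] at hx
    push Not at hx
    obtain ⟨a, ha, hax⟩ := hx
    refine ⟨a, ha, ?_⟩
    rcases h.eq_one_or (h.comm a x) with e | e
    · exact absurd (commutatorElement_eq_one_iff_mul_comm.1 e) hax
    · rw [← e, commutatorElement_def]; group
  -- the choice depends on the coset only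
  have hsel' : ∀ q : E ⧸ A, ∃ a ∈ A, ∀ x : E, (x : E ⧸ A) = q → x ∉ A → a * x = z * (x * a) := by
    intro q
    induction q using QuotientGroup.induction_on with
    | _ y =>
      by_cases hy : y ∈ A
      · refine ⟨1, one_mem _, fun x hxy hx => absurd ?_ hx⟩
        have h1 := QuotientGroup.eq.1 hxy
        have h2 : x⁻¹ ∈ A := by simpa [mul_assoc] using mul_mem h1 (inv_mem hy)
        simpa using inv_mem h2
      obtain ⟨a, ha, e⟩ := hsel y hy
      refine ⟨a, ha, fun x hxy _ => ?_⟩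
      obtain ⟨b, hb, rfl⟩ : ∃ b ∈ A, y * b = x :=
        ⟨y⁻¹ * x, QuotientGroup.eq.1 hxy.symm, mul_inv_cancel_left y x⟩
      have hab : a * b = b * a := congrArg Subtype.val (hA.1.is_comm.comm (⟨a, ha⟩ : A) ⟨b, hb⟩)
      calc a * (y * b) = a * y * b := (mul_assoc _ _ _).symm
        _ = z * (y * a) * b := by rw [e]
        _ = z * (y * (a * b)) := by group
        _ = z * (y * b * a) := by rw [hab]; group
  choose s hs hsp using hsel'
  let f : {x : E // x ∉ A ∧ x ^ 2 = 1} → {x : E // x ∉ A ∧ x ^ 2 ≠ 1} := fun x =>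
    ⟨x.1 * s (x.1 : E ⧸ A), fun hm => x.2.1 (by simpa using mul_mem hm (inv_mem (hs (x.1 : E ⧸ A)))), by
      have hc := hsp _ x.1 rfl x.2.1
      rw [pow_two, show x.1 * s (x.1 : E ⧸ A) * (x.1 * s (x.1 : E ⧸ A)) =
        x.1 * (s (x.1 : E ⧸ A) * x.1) * s (x.1 : E ⧸ A) by group, hc,
        show x.1 * (z * (x.1 * s (x.1 : E ⧸ A))) * s (x.1 : E ⧸ A) =
          x.1 * (z * x.1) * (s (x.1 : E ⧸ A) * s (x.1 : E ⧸ A)) by group, hA2 _ (hs _), mul_one,
        ← (h.commute_z x.1).eq, ← mul_assoc, ← pow_two, x.2.2, one_mul]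
      exact hz1⟩
  let g : {x : E // x ∉ A ∧ x ^ 2 ≠ 1} → {x : E // x ∉ A ∧ x ^ 2 = 1} := fun x =>
    ⟨x.1 * s (x.1 : E ⧸ A), fun hm => x.2.1 (by simpa using mul_mem hm (inv_mem (hs (x.1 : E ⧸ A)))), by
      have hc := hsp _ x.1 rfl x.2.1
      have hx2 : x.1 ^ 2 = z := (h.eq_one_or (h.pow x.1)).resolve_left x.2.2
      rw [pow_two, show x.1 * s (x.1 : E ⧸ A) * (x.1 * s (x.1 : E ⧸ A)) =
        x.1 * (s (x.1 : E ⧸ A) * x.1) * s (x.1 : E ⧸ A) by group, hc,
        show x.1 * (z * (x.1 * s (x.1 : E ⧸ A))) * s (x.1 : E ⧸ A) =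
          x.1 * (z * x.1) * (s (x.1 : E ⧸ A) * s (x.1 : E ⧸ A)) by group, hA2 _ (hs _), mul_one,
        ← (h.commute_z x.1).eq, ← mul_assoc, ← pow_two, hx2, hzz]⟩
  have hcoset : ∀ x : E, ((x * s (x : E ⧸ A) : E) : E ⧸ A) = (x : E ⧸ A) := fun x =>
    QuotientGroup.eq.2 (by simpa using inv_mem (hs (x : E ⧸ A)))
  have e1 : Nat.card {x : E // x ∉ A ∧ x ^ 2 = 1} = Nat.card {x : E // x ∉ A ∧ x ^ 2 ≠ 1} :=
    Nat.card_congr ⟨f, g,
      fun x => Subtype.ext (by
        show x.1 * s (x.1 : E ⧸ A) * s ((x.1 * s (x.1 : E ⧸ A) : E) : E ⧸ A) = x.1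
        rw [hcoset, mul_assoc, hA2 _ (hs _), mul_one]),
      fun x => Subtype.ext (by
        show x.1 * s (x.1 : E ⧸ A) * s ((x.1 * s (x.1 : E ⧸ A) : E) : E ⧸ A) = x.1
        rw [hcoset, mul_assoc, hA2 _ (hs _), mul_one])⟩
  haveI := Fintype.ofFinite E
  have e2 : Nat.card {x : E // orderOf x = 4} = Nat.card {x : E // x ∉ A ∧ x ^ 2 ≠ 1} := by
    refine Nat.card_congr (Equiv.subtypeEquivRight fun x => ⟨fun hx => ?_, fun hx => ?_⟩)
    · refine ⟨fun hm => ?_, fun h2 => ?_⟩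
      · have := Nat.le_of_dvd (by norm_num) (orderOf_dvd_of_pow_eq_one (hA.2 x hm))
        omega
      · have := Nat.le_of_dvd (by norm_num) (orderOf_dvd_of_pow_eq_one h2)
        omega
    · refine orderOf_eq_prime_pow (p := 2) (n := 1) (by simpa using hx.2) ?_
      show x ^ 4 = 1
      rw [show (4 : ℕ) = 2 * 2 from rfl, pow_mul, (h.eq_one_or (h.pow x)).resolve_left hx.2, pow_two, hzz]
  have e3 := Finset.card_filter_add_card_filter_not (s := (Finset.univ : Finset E).filter fun x => x ∉ A)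
    (fun x => x ^ 2 = 1)
  have e4 := Finset.card_filter_add_card_filter_not (s := (Finset.univ : Finset E)) (fun x => x ∈ A)
  rw [Finset.filter_filter, Finset.filter_filter, ← Fintype.card_subtype, ← Fintype.card_subtype,
    ← Nat.card_eq_fintype_card, ← Nat.card_eq_fintype_card] at e3
  rw [Finset.card_univ, ← Nat.card_eq_fintype_card, hcard, ← Fintype.card_subtype, ← Nat.card_eq_fintype_card,
    show Nat.card {x : E // x ∈ A} = 2 ^ (m + 1) from hAc] at e4
  rw [e1] at e3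
  rw [e2]
  simp only [ne_eq] at e3 ⊢
  have p1 : 2 ^ (2 * m + 1) = 2 * 2 ^ (2 * m) := by ring
  have p2 : 2 ^ (m + 1) = 2 * 2 ^ m := by ring
  omega

end Cfsg.Lib.ExtraPlusCount
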