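import Cfsg.Agent.PGroups.SpecialCoprime
import Cfsg.Agent.Coprime.Action
import Cfsg.Agent.Transfer.Basic
import Cfsg.Prelude.Def_Transfer
import Mathlib.GroupTheory.Abelianization.Defs

/-!
`O^p` of the normal closure of a quadratically acting subgroup centralizes the Frattini subgroup.
-/

set_option linter.style.haveILetI false
set_option linter.unusedSectionVars false

namespace Cfsg.Lib.FrattiniStab

open Subgroup
open scoped commutatorElement

universe u

variable {G : Type u} [Group G] [Finite G] {p : ℕ} [hp : Fact p.Prime]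

theorem residual_centralizes_frattini (P : Subgroup G) (hP : IsPGroup p ↥P) (H : Subgroup G)
    (hH : H ≤ normalizer (P : Set G)) (Y : Subgroup G) (hYH : Y ≤ H)
    (hYc : Y ≤ centralizer ((⁅P, P⁆ : Subgroup G) : Set G)) (hel : Cfsg.IsElementaryAbelian p ⁅P, Y⁆)
    (NY : Subgroup G) (hNY : NY = (normalClosure ((Y.subgroupOf H : Subgroup ↥H) : Set ↥H)).map H.subtype) :
    (Cfsg.pResidual p ↥NY).map NY.subtype ≤ centralizer (((frattini ↥P).map P.subtype : Subgroup G) : Set G) := by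
  set D : Subgroup G := ⁅P, P⁆ with hD
  have hDP : D ≤ P := commutator_le_self P
  have hPD : P ≤ normalizer (D : Set G) := Cfsg.Lib.Coprime.le_normalizer_commutator_left P P
  have hND : ∀ g ∈ normalizer (P : Set G), ∀ c ∈ D, g * c * g⁻¹ ∈ D := by
    intro g hg c hc
    have h1 : D.map (MulAut.conj g).toMonoidHom = D := by
      have h0 : P.map (MulAut.conj g).toMonoidHom = P := mem_normalizer_iff_map_conj_eq.1 hg
      rw [hD, Subgroup.map_commutator, h0]
    exact h1.le ⟨c, hc, rfl⟩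
  let W : Subgroup G :=
    { carrier := {g | g ∈ normalizer (P : Set G) ∧ g ∈ centralizer (D : Set G) ∧
        ∀ x ∈ P, g * x ^ p * g⁻¹ * (x ^ p)⁻¹ ∈ D}
      one_mem' := ⟨one_mem _, one_mem _, fun x _ => by simp⟩
      mul_mem' := by
        rintro g h ⟨hg1, hg2, hg3⟩ ⟨hh1, hh2, hh3⟩
        refine ⟨mul_mem hg1 hh1, mul_mem hg2 hh2, fun x hx => ?_⟩
        have hc := hh3 x hx
        have e : g * (h * x ^ p * h⁻¹ * (x ^ p)⁻¹) * g⁻¹ = h * x ^ p * h⁻¹ * (x ^ p)⁻¹ :=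
          mul_inv_eq_iff_eq_mul.2 (mem_centralizer_iff.1 hg2 _ hc).symm
        rw [show g * h * x ^ p * (g * h)⁻¹ * (x ^ p)⁻¹ =
          (g * (h * x ^ p * h⁻¹ * (x ^ p)⁻¹) * g⁻¹) * (g * x ^ p * g⁻¹ * (x ^ p)⁻¹) by group, e]
        exact mul_mem hc (hg3 x hx)
      inv_mem' := by
        rintro g ⟨hg1, hg2, hg3⟩
        refine ⟨inv_mem hg1, inv_mem hg2, fun x hx => ?_⟩
        have hc := inv_mem (hg3 x hx)
        rw [show g⁻¹ * x ^ p * g⁻¹⁻¹ * (x ^ p)⁻¹ = g⁻¹ * (g * x ^ p * g⁻¹ * (x ^ p)⁻¹)⁻¹ * g⁻¹⁻¹ by group]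
        exact hND _ (inv_mem hg1) _ hc }
  have hYW : Y ≤ W := fun y hy => by
    refine ⟨hH (hYH hy), hYc hy, fun x hx => ?_⟩
    set c : G := y * x * y⁻¹ * x⁻¹ with hc
    have hcP : c ∈ P := mul_mem ((mem_normalizer_iff.1 (hH (hYH hy)) x).1 hx) (inv_mem hx)
    have hcp : c ^ p = 1 := hel.2 c (by
      rw [commutator_comm]
      exact commutator_mem_commutator hy hx)
    have hq : Abelianization.of ((⟨c, hcP⟩ * ⟨x, hx⟩ : P) ^ p) = Abelianization.of ((⟨x, hx⟩ : P) ^ p) := by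
      rw [map_pow, map_mul, mul_pow, ← map_pow, ← map_pow,
        show (⟨c, hcP⟩ : P) ^ p = 1 from Subtype.ext hcp, map_one, one_mul]
    have hmem : ((⟨c, hcP⟩ * ⟨x, hx⟩ : P) ^ p) * ((⟨x, hx⟩ : P) ^ p)⁻¹ ∈ commutator P := by
      rw [← Abelianization.ker_of, MonoidHom.mem_ker, map_mul, map_inv, hq, mul_inv_cancel]
    have h2 := mem_map_of_mem P.subtype hmem
    rw [map_subtype_commutator] at h2
    convert h2 using 1
    simp only [map_mul, map_pow, map_inv, coe_subtype]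
    rw [show c * x = y * x * y⁻¹ by rw [hc]; group, conj_pow]
  have hWn : (W.subgroupOf H).Normal := ⟨by
    rintro ⟨g, hgH⟩ ⟨hg1, hg2, hg3⟩ ⟨h, hh⟩
    refine ⟨mul_mem (mul_mem (hH hh) hg1) (inv_mem (hH hh)), ?_, fun x hx => ?_⟩
    · refine mem_centralizer_iff.2 fun c hc => ?_
      show c * (h * g * h⁻¹) = h * g * h⁻¹ * c
      have h1 := hND _ (inv_mem (hH hh)) c hc
      rw [inv_inv] at h1
      have h2 : (h⁻¹ * c * h) * g = g * (h⁻¹ * c * h) := mem_centralizer_iff.1 hg2 _ h1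
      calc c * (h * g * h⁻¹) = h * ((h⁻¹ * c * h) * g) * h⁻¹ := by group
        _ = h * g * h⁻¹ * c := by rw [h2]; group
    · show h * g * h⁻¹ * x ^ p * (h * g * h⁻¹)⁻¹ * (x ^ p)⁻¹ ∈ D
      have hx' : h⁻¹ * x * h ∈ P := by
        have := (mem_normalizer_iff.1 (inv_mem (hH hh)) x).1 hx
        simpa using this
      have h1 : h * (g * (h⁻¹ * x * h) ^ p * g⁻¹ * ((h⁻¹ * x * h) ^ p)⁻¹) * h⁻¹ ∈ D :=
        hND h (hH hh) _ (hg3 _ hx')
      rwa [show (h⁻¹ * x * h) ^ p = h⁻¹ * x ^ p * h by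
          have := map_pow (MulAut.conj h⁻¹) x p
          simpa using this.symm,
        show h * (g * (h⁻¹ * x ^ p * h) * g⁻¹ * (h⁻¹ * x ^ p * h)⁻¹) * h⁻¹ =
          h * g * h⁻¹ * x ^ p * (h * g * h⁻¹)⁻¹ * (x ^ p)⁻¹ by group] at h1⟩
  have hNW : NY ≤ W := by
    rw [hNY, map_le_iff_le_comap]
    haveI : (W.comap H.subtype).Normal := hWn
    exact normalClosure_le_normal (SetLike.coe_subset_coe.mpr (fun y hy => hYW hy))
  rw [map_le_iff_le_comap]
  refine (closure_le _).2 fun g hg => ?_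
  show (g : G) ∈ centralizer (((frattini ↥P).map P.subtype : Subgroup G) : Set G)
  obtain ⟨hg1, hg2, hg3⟩ : (g : G) ∈ W := hNW g.2
  set A := zpowers (g : G)
  have hAW : A ≤ W := zpowers_le.2 (hNW g.2)
  obtain ⟨k, hk⟩ := IsPGroup.iff_card.1 (hP.to_le hDP)
  have hcop : (Nat.card A).Coprime (Nat.card D) := by
    rw [Nat.card_zpowers, hk, Subgroup.orderOf_coe]
    exact Nat.Coprime.pow_right k hg
  have hfix : ∀ x ∈ P, x ^ p ∈ centralizer (A : Set G) := fun x hx => by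
    refine Cfsg.Lib.Coprime.centralizes_of_coprime_chain hcop (fun a ha => (hAW ha).2.1) fun a ha => ?_
    rw [show (x ^ p)⁻¹ * a * x ^ p * a⁻¹ = (x ^ p)⁻¹ * (a * x ^ p * a⁻¹ * (x ^ p)⁻¹) * (x ^ p)⁻¹⁻¹ by group]
    exact (mem_normalizer_iff.1 (hPD (inv_mem (pow_mem hx p))) _).1 ((hAW ha).2.2 x hx)
  set N := (centralizer ({(g : G)} : Set G)).subgroupOf P
  have hcomN : commutator P ≤ N := fun c hc => by
    have h2 := mem_map_of_mem P.subtype hc
    rw [map_subtype_commutator] at h2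
    exact mem_centralizer_singleton_iff.2 (mem_centralizer_iff.1 hg2 _ h2)
  haveI : N.Normal := ⟨fun n hn x => by
    rw [show x * n * x⁻¹ = ⁅x, n⁆ * n by rw [commutatorElement_def]; group]
    exact mul_mem (hcomN (commutator_mem_commutator (mem_top x) (mem_top n))) hn⟩
  have hF := Cfsg.Lib.PGroups.SpecialCoprime.frattini_le_of_elementary (p := p) N
    (fun x => mem_centralizer_singleton_iff.2 (mem_centralizer_iff.1 (hfix x x.2) g (mem_zpowers _)).symm) hcomN
  refine mem_centralizer_iff.2 ?_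
  rintro _ ⟨f, hf, rfl⟩
  exact mem_centralizer_singleton_iff.1 (hF hf)

end Cfsg.Lib.FrattiniStab
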