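import Cfsg.Agent.Transfer.Frobenius
import Cfsg.Agent.Components.Supplement
import Cfsg.Prelude.Def_SylowControl
import Cfsg.Prelude.Def_SylowChains

/-!
Families of normalizers attached to a normalizer functor and the control of Sylow intersections.
-/

set_option linter.style.haveILetI false
set_option linter.unusedSectionVars false

namespace Cfsg.Lib.FunctorControl

open Subgroup Relation
open Cfsg.Lib.Components (card_subgroupOf_of_le)

variable {G : Type*} [Group G] [Finite G] {p : ℕ} [Fact p.Prime]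

/-- One step of a controlled chain. -/
def Step (p : ℕ) (𝓕 : Set (Subgroup G)) (D : Subgroup G) (a b : Sylow p G) : Prop :=
  ∃ (X : Subgroup G) (x : G), X ∈ Cfsg.sylowMembers p 𝓕 (a : Subgroup G) ∧
    X ∈ Cfsg.sylowMembers p 𝓕 (b : Subgroup G) ∧ x ∈ X ∧
    Cfsg.subgroupConjRight x (b : Subgroup G) = (a : Subgroup G) ∧ D ≤ (b : Subgroup G) ⊓ X

/-- A step inside the normalizer of a member of `f` at a Sylow subgroup. -/
def FullStep (f : Subgroup G → Set (Subgroup G)) (D : Subgroup G) (a b : Sylow p G) : Prop :=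
  ∃ (Q : Sylow p G) (F : Subgroup G) (x : G), F ∈ f (Q : Subgroup G) ∧
    (a : Subgroup G) ≤ normalizer (F : Set G) ∧ (b : Subgroup G) ≤ normalizer (F : Set G) ∧
    x ∈ normalizer (F : Set G) ∧ Cfsg.subgroupConjRight x (b : Subgroup G) = (a : Subgroup G) ∧
    D ≤ (b : Subgroup G)

omit [Finite G] in
theorem member_of_le {𝓕 : Set (Subgroup G)} {X : Subgroup G} (hX : X ∈ 𝓕) (S : Sylow p G)
    (P : Sylow p X) (h : (P : Subgroup X).map X.subtype ≤ (S : Subgroup G)) :
    X ∈ Cfsg.sylowMembers p 𝓕 (S : Subgroup G) := by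
  refine ⟨hX, P, le_antisymm (le_inf h (map_subtype_le _)) ?_⟩
  have hI : IsPGroup p ((S : Subgroup G).subgroupOf X) := S.2.comap_subtype
  have he := P.is_maximal' hI (fun a ha => h (mem_map_of_mem X.subtype ha))
  rintro a ⟨haS, haX⟩
  exact ⟨⟨a, haX⟩, he.le haS, rfl⟩

omit [Finite G] in
theorem member_of_sylow_le {𝓕 : Set (Subgroup G)} {X : Subgroup G} (hX : X ∈ 𝓕) (S : Sylow p G)
    (h : (S : Subgroup G) ≤ X) : X ∈ Cfsg.sylowMembers p 𝓕 (S : Subgroup G) :=
  member_of_le hX S (S.subtype h) (by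
    rw [Sylow.coe_subtype, subgroupOf_map_subtype]
    exact inf_le_left)

/-- Chains give the witnesses required by `ControlsSylowIntersections`. -/
theorem exists_chain {𝓕 : Set (Subgroup G)} {D : Subgroup G} {S T : Sylow p G}
    (h : ReflTransGen (Step p 𝓕 D) S T) :
    ∃ (n : ℕ) (c : Fin (n + 1) → Sylow p G) (X : Fin n → Subgroup G) (x : Fin n → G),
      c 0 = S ∧ c (Fin.last n) = T ∧
      ∀ i : Fin n,
        X i ∈ Cfsg.sylowMembers p 𝓕 (c i.castSucc : Subgroup G) ∧
        X i ∈ Cfsg.sylowMembers p 𝓕 (c i.succ : Subgroup G) ∧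
        x i ∈ X i ∧ Cfsg.subgroupConjRight (x i) (c i.succ : Subgroup G) = (c i.castSucc : Subgroup G) ∧
        D ≤ (c i.succ : Subgroup G) ⊓ X i := by
  induction h using ReflTransGen.head_induction_on with
  | refl => exact ⟨0, fun _ => T, Fin.elim0, Fin.elim0, rfl, rfl, fun i => i.elim0⟩
  | head hstep _ ih =>
    rename_i a b _
    obtain ⟨n, c, X, x, h0, hl, hc⟩ := ih
    obtain ⟨Y, y, h1, h2, h3, h4, h5⟩ := hstep
    refine ⟨n + 1, Fin.cons a c, Fin.cons Y X, Fin.cons y x, rfl, ?_, ?_⟩
    · rw [← Fin.succ_last, Fin.cons_succ, hl]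
    · intro i
      refine Fin.cases ?_ (fun j => ?_) i
      · simpa [h0] using And.intro h1 (And.intro h2 (And.intro h3 (And.intro h4 h5)))
      · simpa [← Fin.succ_castSucc] using hc j

/-- A chain inside a regular subgroup. -/
theorem local_chain {f : Subgroup G → Set (Subgroup G)} (hf : Cfsg.IsNormalizerFunctor p f)
    {M : Subgroup G} (hM : Cfsg.IsFunctorRegular p f M) {D : Subgroup G} (hD : D ≠ ⊥)
    (A B : Sylow p M) (hA : D ≤ (A : Subgroup M).map M.subtype) (hB : D ≤ (B : Subgroup M).map M.subtype) :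
    ReflTransGen (fun a b : Sylow p M => ∃ (P : Sylow p M) (F : Subgroup G) (x : G),
      F ∈ f ((P : Subgroup M).map M.subtype) ∧
      (a : Subgroup M).map M.subtype ≤ normalizer (F : Set G) ∧
      (b : Subgroup M).map M.subtype ≤ normalizer (F : Set G) ∧
      x ∈ normalizer (F : Set G) ∧ x ∈ M ∧
      Cfsg.subgroupConjRight x ((b : Subgroup M).map M.subtype) = (a : Subgroup M).map M.subtype ∧
      D ≤ (b : Subgroup M).map M.subtype) A B := by
  by_cases hAB : A = B
  · subst hAB
    exact .refl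
  have hne : (A : Subgroup M) ⊓ (B : Subgroup M) ≠ ⊥ := by
    intro h
    refine hD ((eq_bot_iff_forall _).2 fun d hd => ?_)
    obtain ⟨a, ha, rfl⟩ := hA hd
    obtain ⟨b, hb, hab⟩ := hB hd
    have : b = a := M.subtype_injective hab
    subst this
    have h1 : b ∈ (⊥ : Subgroup M) := h.le ⟨ha, hb⟩
    rw [mem_bot] at h1
    rw [h1, map_one]
  obtain ⟨n, c, X, x, h0, hl, hc⟩ := hM A B hAB hne
  have hDc : ∀ j, D ≤ (c j : Subgroup M).map M.subtype := by
    intro j
    refine Fin.cases ?_ (fun i => ?_) j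
    · rw [h0]
      exact hA
    · intro d hd
      obtain ⟨a, ha, rfl⟩ := hA hd
      obtain ⟨b, hb, hab⟩ := hB hd
      have : b = a := M.subtype_injective hab
      subst this
      exact mem_map_of_mem _ ((hc i).2.2.2.2 ⟨ha, hb⟩).1
  rw [← h0, ← hl]
  suffices h : ∀ j, ReflTransGen _ (c 0) (c j) from h _
  intro j
  induction j using Fin.induction with
  | zero => exact .refl
  | succ i ih =>
    refine ih.tail ?_
    obtain ⟨h1, h2, h3, h4, -⟩ := hc i
    obtain ⟨Y, ⟨P, F, hF, hY⟩, hYX⟩ := h1.1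
    have hPN : (P : Subgroup M).map M.subtype ≤ normalizer (F : Set G) :=
      le_normalizer.trans (((hf _ (P.2.map _)).1 F hF).2)
    have hle : ∀ e : Sylow p M, X i ∈ Cfsg.sylowMembers p
        ((fun Z : Subgroup G => Z.subgroupOf M) '' Cfsg.functorFamily p f M) (e : Subgroup M) →
        (e : Subgroup M).map M.subtype ≤ normalizer (F : Set G) := by
      rintro e ⟨-, R, hR⟩
      have hPX : (P : Subgroup M) ≤ X i := by
        intro a ha
        rw [← hYX, mem_subgroupOf, hY]
        exact ⟨a.2, hPN (mem_map_of_mem M.subtype ha)⟩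
      obtain ⟨R', hR'⟩ := (P.2.comap_subtype (K := X i)).exists_le_sylow
      have hcard : Nat.card (e : Subgroup M) ≤ Nat.card ((e : Subgroup M) ⊓ X i : Subgroup M) := by
        rw [← hR, card_map_of_injective (X i).subtype_injective, Sylow.card_eq_multiplicity e,
          ← Sylow.card_eq_multiplicity P, ← card_subgroupOf_of_le hPX]
        refine (Nat.le_of_dvd Nat.card_pos (card_dvd_of_le hR')).trans (le_of_eq ?_)
        rw [Sylow.card_eq_multiplicity R', Sylow.card_eq_multiplicity R]
      have heX : (e : Subgroup M) ≤ X i := by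
        have := eq_of_le_of_card_ge inf_le_left hcard
        exact inf_eq_left.1 this
      rintro _ ⟨a, ha, rfl⟩
      have h := heX ha
      rw [← hYX, mem_subgroupOf, hY] at h
      exact h.2
    have hxF : (x i : G) ∈ normalizer (F : Set G) := by
      have h := h3
      rw [← hYX, mem_subgroupOf, hY] at h
      exact h.2
    refine ⟨P, F, (x i : G), hF, hle _ (hc i).1, hle _ h2, hxF, (x i).2, ?_, hDc _⟩
    rw [← h4]
    simp only [Cfsg.subgroupConjRight, Subgroup.map_map]
    congr 1

omit [Fact p.Prime] in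
theorem conj_functor {f : Subgroup G → Set (Subgroup G)} (hf : Cfsg.IsNormalizerFunctor p f)
    {Q : Sylow p G} {F : Subgroup G} (hF : F ∈ f (Q : Subgroup G)) (g : G) :
    F.map (MulAut.conj g).toMonoidHom ∈ f ((g • Q : Sylow p G) : Subgroup G) := by
  rw [Cfsg.Lib.Transfer.sylow_smul_coe]
  exact ((hf _ Q.2).2 g).ge ⟨F, hF, rfl⟩

/-- Steps are stable under conjugation. -/
theorem fullStep_conj {f : Subgroup G → Set (Subgroup G)} (hf : Cfsg.IsNormalizerFunctor p f)
    {D : Subgroup G} {a b : Sylow p G} (g : G) (h : FullStep f D a b) :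
    FullStep f (D.map (MulAut.conj g).toMonoidHom) (g • a) (g • b) := by
  obtain ⟨Q, F, x, hF, ha, hb, hx, hxb, hD⟩ := h
  refine ⟨g • Q, _, g * x * g⁻¹, conj_functor hf hF g, ?_, ?_, ?_, ?_, ?_⟩
  · rw [Cfsg.Lib.Transfer.sylow_smul_coe, ← map_equiv_normalizer_eq]
    exact map_mono ha
  · rw [Cfsg.Lib.Transfer.sylow_smul_coe, ← map_equiv_normalizer_eq]
    exact map_mono hb
  · rw [← map_equiv_normalizer_eq]
    exact ⟨x, hx, rfl⟩
  · rw [Cfsg.Lib.Transfer.sylow_smul_coe, Cfsg.Lib.Transfer.sylow_smul_coe, ← hxb]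
    simp only [Cfsg.subgroupConjRight, Subgroup.map_map]
    congr 1
    ext y
    simp [mul_assoc]
  · rw [Cfsg.Lib.Transfer.sylow_smul_coe]
    exact map_mono hD

/-- In a regular subgroup containing a Sylow subgroup all chains consist of full steps. -/
theorem full_chain {f : Subgroup G → Set (Subgroup G)} (hf : Cfsg.IsNormalizerFunctor p f)
    {M : Subgroup G} (hM : Cfsg.IsFunctorRegular p f M) {D : Subgroup G} (hD : D ≠ ⊥)
    (S T : Sylow p G) (hS : (S : Subgroup G) ≤ M) (hT : (T : Subgroup G) ≤ M)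
    (hDS : D ≤ (S : Subgroup G)) (hDT : D ≤ (T : Subgroup G)) :
    ReflTransGen (FullStep f D) S T := by
  have hcard : ∀ e : Sylow p M, Nat.card ((e : Subgroup M).map M.subtype) = p ^ (Nat.card G).factorization p := by
    intro e
    rw [card_map_of_injective M.subtype_injective, Sylow.card_eq_multiplicity e,
      ← Sylow.card_eq_multiplicity (S.subtype hS), Sylow.coe_subtype, card_subgroupOf_of_le hS,
      Sylow.card_eq_multiplicity]
  let lift : Sylow p M → Sylow p G := fun e => Sylow.ofCard _ (hcard e)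
  have hlift : ∀ e, ((lift e : Sylow p G) : Subgroup G) = (e : Subgroup M).map M.subtype := fun e =>
    Sylow.coe_ofCard _ _
  have key : ∀ R : Sylow p G, ∀ hR : (R : Subgroup G) ≤ M, lift (R.subtype hR) = R := fun R hR =>
    Sylow.ext (by rw [hlift, Sylow.coe_subtype, subgroupOf_map_subtype, inf_eq_left.2 hR])
  rw [← key S hS, ← key T hT]
  refine (local_chain hf hM hD (S.subtype hS) (T.subtype hT) ?_ ?_).lift lift ?_
  · rw [← hlift, key S hS]
    exact hDS
  · rw [← hlift, key T hT]
    exact hDT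
  · rintro a b ⟨P, F, x, hF, ha, hb, hx, -, hxb, hDb⟩
    refine ⟨lift P, F, x, ?_, ?_, ?_, hx, ?_, ?_⟩
    · rw [hlift]; exact hF
    · rw [hlift]; exact ha
    · rw [hlift]; exact hb
    · rw [hlift, hlift]; exact hxb
    · rw [hlift]; exact hDb

theorem fullStep_step {f : Subgroup G → Set (Subgroup G)} {𝓕 : Set (Subgroup G)}
    (h𝓕 : Cfsg.functorFamily p f ⊤ ⊆ 𝓕) {D : Subgroup G} {a b : Sylow p G} (h : FullStep f D a b) :
    Step p 𝓕 D a b := by
  obtain ⟨Q, F, x, hF, ha, hb, hx, hxb, hD⟩ := h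
  have hmem : normalizer (F : Set G) ∈ 𝓕 := by
    refine h𝓕 ⟨Q.subtype le_top, F, ?_, (top_inf_eq _).symm⟩
    rwa [Sylow.coe_subtype, subgroupOf_map_subtype, inf_top_eq]
  exact ⟨_, x, member_of_sylow_le hmem a ha, member_of_sylow_le hmem b hb, hx, hxb,
    le_inf hD (hD.trans hb)⟩

/-- **Alperin's theorem for functor families.** -/
theorem controls {f : Subgroup G → Set (Subgroup G)} (hf : Cfsg.IsNormalizerFunctor p f)
    (hf1 : ∀ P : Subgroup G, IsPGroup p ↥P → P ≠ ⊥ → ∀ F ∈ f P, F ≠ ⊥) (𝓕 : Set (Subgroup G))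
    (h1 : Cfsg.functorFamily p f ⊤ ⊆ 𝓕)
    (h2 : ∀ M, Cfsg.IsMaximalPLocal p M → ¬ Cfsg.IsFunctorRegular p f M → M ∈ 𝓕) :
    Cfsg.ControlsSylowIntersections p 𝓕 := by
  suffices h : ∀ D : Subgroup G, D ≠ ⊥ → ∀ S T : Sylow p G, D ≤ (S : Subgroup G) → D ≤ (T : Subgroup G) →
      ReflTransGen (Step p 𝓕 D) S T by
    intro S T _ hne
    exact exists_chain (h _ hne S T inf_le_left inf_le_right)
  intro D
  induction D using IsWellFounded.induction (· > · : Subgroup G → Subgroup G → Prop) with
  | ind D ih =>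
  intro hD0
  have big : ∀ S T : Sylow p G, D < (S : Subgroup G) ⊓ (T : Subgroup G) →
      ReflTransGen (Step p 𝓕 D) S T := by
    intro S T hlt
    refine ReflTransGen.mono ?_ _ _ (ih _ hlt (fun h => hlt.not_ge (h ▸ bot_le)) S T inf_le_left inf_le_right)
    rintro a b ⟨X, x, e1, e2, e3, e4, e5⟩
    exact ⟨X, x, e1, e2, e3, e4, hlt.le.trans e5⟩
  -- common subgroups larger than `D`
  have big' : ∀ (E : Subgroup G) (S T : Sylow p G), D ≤ E → Nat.card D < Nat.card E →
      E ≤ (S : Subgroup G) → E ≤ (T : Subgroup G) → ReflTransGen (Step p 𝓕 D) S T := by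
    intro E S T hDE hlt hS hT
    refine big S T (lt_of_lt_of_le (lt_of_le_of_ne hDE fun e => hlt.ne (by rw [e])) (le_inf hS hT))
  have claim : ∀ k : ℕ, ∀ L : Subgroup G, Cfsg.IsPLocal p L → ∀ A B : Sylow p L,
      Nat.card G ≤ Nat.card (A : Subgroup L) + k →
      D ≤ (A : Subgroup L).map L.subtype → D ≤ (B : Subgroup L).map L.subtype →
      Nat.card D < Nat.card (A : Subgroup L) → ∀ S T : Sylow p G,
      (A : Subgroup L).map L.subtype ≤ (S : Subgroup G) →
      (B : Subgroup L).map L.subtype ≤ (T : Subgroup G) → ReflTransGen (Step p 𝓕 D) S T := by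
    intro k
    induction k using Nat.strong_induction_on with
    | _ k ihk =>
    intro L hL A B hk hA hB hlt S T hS hT
    have hABc : Nat.card (A : Subgroup L) = Nat.card (B : Subgroup L) := by
      rw [Sylow.card_eq_multiplicity A, Sylow.card_eq_multiplicity B]
    have hAc : Nat.card ((A : Subgroup L).map L.subtype) = Nat.card (A : Subgroup L) :=
      card_map_of_injective L.subtype_injective
    have hBc : Nat.card ((B : Subgroup L).map L.subtype) = Nat.card (B : Subgroup L) :=
      card_map_of_injective L.subtype_injective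
    obtain ⟨M, ⟨hMl, hLM⟩, hMmax⟩ := (Set.toFinite {M : Subgroup G | Cfsg.IsPLocal p M ∧ L ≤ M}).exists_maximal
      ⟨L, hL, le_rfl⟩
    have hMmax' : Cfsg.IsMaximalPLocal p M :=
      ⟨hMl, fun N hN hle => le_antisymm (hMmax ⟨hN, hLM.trans hle⟩ hle) hle⟩
    have hAM : IsPGroup p (((A : Subgroup L).map L.subtype).subgroupOf M) := (A.2.map _).comap_subtype
    have hBM : IsPGroup p (((B : Subgroup L).map L.subtype).subgroupOf M) := (B.2.map _).comap_subtype
    obtain ⟨A', hA'⟩ := hAM.exists_le_sylow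
    obtain ⟨B', hB'⟩ := hBM.exists_le_sylow
    have hAA : (A : Subgroup L).map L.subtype ≤ (A' : Subgroup M).map M.subtype := fun a ha =>
      ⟨⟨a, hLM (map_subtype_le _ ha)⟩, hA' ha, rfl⟩
    have hBB : (B : Subgroup L).map L.subtype ≤ (B' : Subgroup M).map M.subtype := fun a ha =>
      ⟨⟨a, hLM (map_subtype_le _ ha)⟩, hB' ha, rfl⟩
    have hAc' : Nat.card ((A' : Subgroup M).map M.subtype) = Nat.card (A' : Subgroup M) :=
      card_map_of_injective M.subtype_injective
    have hge : Nat.card (A : Subgroup L) ≤ Nat.card (A' : Subgroup M) := by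
      rw [← hAc, ← hAc']
      exact Nat.le_of_dvd Nat.card_pos (card_dvd_of_le hAA)
    obtain ⟨S', hS'⟩ := (A'.2.map M.subtype).exists_le_sylow
    obtain ⟨T', hT'⟩ := (B'.2.map M.subtype).exists_le_sylow
    have e1 := big' _ S S' hA (by omega) hS (hAA.trans hS')
    have e2 := big' _ T' T hB (by omega) (hBB.trans hT') hT
    refine e1.trans (ReflTransGen.trans ?_ e2)
    by_cases hsame : Nat.card (A' : Subgroup M) ≠ Nat.card (A : Subgroup L)
    · exact ihk (k - 1) (by have := card_le_card_group ((A : Subgroup L).map L.subtype)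
                            have := card_le_card_group ((A' : Subgroup M).map M.subtype)
                            omega) M hMl A' B' (by omega) (hA.trans hAA) (hB.trans hBB) (by omega) S' T' hS' hT'
    push Not at hsame
    have hDA' := hA.trans hAA
    have hDB' := hB.trans hBB
    have hAB' : Nat.card (A' : Subgroup M) = Nat.card (B' : Subgroup M) := by
      rw [Sylow.card_eq_multiplicity A', Sylow.card_eq_multiplicity B']
    have hBc' : Nat.card ((B' : Subgroup M).map M.subtype) = Nat.card (B' : Subgroup M) :=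
      card_map_of_injective M.subtype_injective
    by_cases hreg : Cfsg.IsFunctorRegular p f M
    swap
    · -- one step in the singular subgroup `M`
      obtain ⟨m, hm⟩ := MulAction.exists_smul_eq M A' B'
      set T₂ := ((m : G)⁻¹ • T' : Sylow p G)
      have hAT : (A' : Subgroup M).map M.subtype ≤ (T₂ : Subgroup G) := by
        rw [Cfsg.Lib.Transfer.sylow_smul_coe]
        rintro _ ⟨a, ha, rfl⟩
        refine ⟨(m : G) * a * (m : G)⁻¹, hT' ⟨m * a * m⁻¹, ?_, rfl⟩, by simp [mul_assoc]⟩
        rw [← hm]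
        exact ⟨a, ha, rfl⟩
      refine (big' _ S' T₂ hDA' (by omega) hS' hAT).tail ⟨M, m, ?_, ?_, m.2, ?_, ?_⟩
      · exact member_of_le (h2 M hMmax' hreg) T₂ A' hAT
      · exact member_of_le (h2 M hMmax' hreg) T' B' hT'
      · rw [Cfsg.Lib.Transfer.sylow_smul_coe]
        rfl
      · exact le_inf (hDB'.trans hT') (hDB'.trans (map_subtype_le _))
    by_cases hfull : Nat.card (A' : Subgroup M) = p ^ (Nat.card G).factorization p
    · have hSeq : (A' : Subgroup M).map M.subtype = (S' : Subgroup G) :=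
        eq_of_le_of_card_ge hS' (by rw [hAc', hfull, Sylow.card_eq_multiplicity])
      have hTeq : (B' : Subgroup M).map M.subtype = (T' : Subgroup G) :=
        eq_of_le_of_card_ge hT' (by rw [hBc', ← hAB', hfull, Sylow.card_eq_multiplicity])
      exact ReflTransGen.mono (fun a b h => fullStep_step h1 h) _ _ (full_chain hf hreg hD0 S' T'
        (hSeq ▸ map_subtype_le _) (hTeq ▸ map_subtype_le _) (hSeq ▸ hDA') (hTeq ▸ hDB'))
    have good : ∀ c : Sylow p M, ReflTransGen (fun a b : Sylow p M => ∃ (P : Sylow p M) (F : Subgroup G) (x : G),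
        F ∈ f ((P : Subgroup M).map M.subtype) ∧
        (a : Subgroup M).map M.subtype ≤ normalizer (F : Set G) ∧
        (b : Subgroup M).map M.subtype ≤ normalizer (F : Set G) ∧
        x ∈ normalizer (F : Set G) ∧ x ∈ M ∧
        Cfsg.subgroupConjRight x ((b : Subgroup M).map M.subtype) = (a : Subgroup M).map M.subtype ∧
        D ≤ (b : Subgroup M).map M.subtype) A' c →
        D ≤ (c : Subgroup M).map M.subtype ∧ ∀ R : Sylow p G, (c : Subgroup M).map M.subtype ≤ (R : Subgroup G) →
          ReflTransGen (Step p 𝓕 D) S' R := by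
      intro c hc
      induction hc with
      | refl => exact ⟨hDA', fun R hR => big' _ S' R hDA' (by omega) hS' hR⟩
      | tail _ hstep ihc =>
        rename_i a b _
        obtain ⟨P, F, x, hF, ha, hb, -, -, -, hDb⟩ := hstep
        refine ⟨hDb, fun R hR => ?_⟩
        have hPc : Nat.card ((P : Subgroup M).map M.subtype) = Nat.card (A' : Subgroup M) := by
          rw [card_map_of_injective M.subtype_injective, Sylow.card_eq_multiplicity P,
            Sylow.card_eq_multiplicity A']
        obtain ⟨hFP, hNF⟩ := (hf _ (P.2.map _)).1 F hF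
        have hF1 : F ≠ ⊥ := hf1 _ (P.2.map _) (fun h => by
          rw [h, Subgroup.card_bot] at hPc
          have : 0 < Nat.card D := Nat.card_pos
          omega) F hF
        have hLloc : Cfsg.IsPLocal p (normalizer (F : Set G)) := ⟨F, (P.2.map M.subtype).to_le hFP, hF1, rfl⟩
        set L' := normalizer (F : Set G)
        obtain ⟨Qa, hQa⟩ := ((a.2.map M.subtype).comap_subtype (K := L')).exists_le_sylow
        obtain ⟨Qb, hQb⟩ := ((b.2.map M.subtype).comap_subtype (K := L')).exists_le_sylow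
        have haQ : (a : Subgroup M).map M.subtype ≤ (Qa : Subgroup L').map L'.subtype := fun y hy =>
          ⟨⟨y, ha hy⟩, hQa hy, rfl⟩
        have hbQ : (b : Subgroup M).map M.subtype ≤ (Qb : Subgroup L').map L'.subtype := fun y hy =>
          ⟨⟨y, hb hy⟩, hQb hy, rfl⟩
        obtain ⟨Ra, hRa⟩ := (Qa.2.map L'.subtype).exists_le_sylow
        obtain ⟨Rb, hRb⟩ := (Qb.2.map L'.subtype).exists_le_sylow
        -- the Sylow subgroups of `L'` are larger
        obtain ⟨U, hU⟩ := (P.2.map M.subtype).exists_le_sylow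
        have hPU : (P : Subgroup M).map M.subtype < (U : Subgroup G) := by
          refine lt_of_le_of_ne hU fun e => hfull ?_
          rw [← hPc, e, Sylow.card_eq_multiplicity]
        have hgrow := Cfsg.Lib.Transfer.lt_inf_normalizer_of_lt U hPU
        have hlt' : Nat.card (A' : Subgroup M) < Nat.card (Qa : Subgroup L') := by
          set W := (U : Subgroup G) ⊓ normalizer (((P : Subgroup M).map M.subtype : Subgroup G) : Set G)
          obtain ⟨QW, hQW⟩ := ((U.2.to_le (inf_le_left : W ≤ _)).comap_subtype (K := L')).exists_le_sylow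
          have hWL : W ≤ L' := inf_le_right.trans hNF
          have h1 : Nat.card W ≤ Nat.card (Qa : Subgroup L') := by
            rw [← card_subgroupOf_of_le hWL, Sylow.card_eq_multiplicity Qa, ← Sylow.card_eq_multiplicity QW]
            exact Nat.le_of_dvd Nat.card_pos (card_dvd_of_le hQW)
          have h2 : Nat.card ((P : Subgroup M).map M.subtype) < Nat.card W :=
            lt_of_not_ge fun h => hgrow.ne (eq_of_le_of_card_ge hgrow.le h)
          omega
        have f1 := ihc.2 Ra (haQ.trans hRa)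
        have f2 := ihk (k - 1) (by have := card_le_card_group ((Qa : Subgroup L').map L'.subtype)
                                   rw [card_map_of_injective L'.subtype_injective] at this
                                   omega) L' hLloc Qa Qb (by omega) (ihc.1.trans haQ) (hDb.trans hbQ)
          (by omega) Ra Rb hRa hRb
        have hbc : Nat.card ((b : Subgroup M).map M.subtype) = Nat.card (A' : Subgroup M) := by
          rw [card_map_of_injective M.subtype_injective, Sylow.card_eq_multiplicity b,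
            Sylow.card_eq_multiplicity A']
        exact (f1.trans f2).trans (big' _ Rb R hDb (by omega) (hbQ.trans hRb) hR)
    exact (good B' (local_chain hf hreg hD0 A' B' hDA' hDB')).2 T' hT'
  intro S T hS hT
  by_cases hlt : D < (S : Subgroup G) ⊓ (T : Subgroup G)
  · exact big S T hlt
  have hDeq : D = (S : Subgroup G) ⊓ (T : Subgroup G) :=
    (le_inf hS hT).eq_or_lt.resolve_right hlt
  by_cases hST : S = T
  · subst hST
    exact .refl
  have hltS : D < (S : Subgroup G) := lt_of_le_of_ne hS fun e => hST (Sylow.ext (S.is_maximal' T.2 (by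
    rw [← e, hDeq]; exact inf_le_right)).symm)
  have hltT : D < (T : Subgroup G) := lt_of_le_of_ne hT fun e => hST (Sylow.ext (T.is_maximal' S.2 (by
    rw [← e, hDeq]; exact inf_le_left)))
  set L := normalizer (D : Set G)
  have hL : Cfsg.IsPLocal p L := ⟨D, S.2.to_le hS, hD0, rfl⟩
  have hWS := Cfsg.Lib.Transfer.lt_inf_normalizer_of_lt S hltS
  have hWT := Cfsg.Lib.Transfer.lt_inf_normalizer_of_lt T hltT
  obtain ⟨A, hA⟩ := ((S.2.to_le (inf_le_left : (S : Subgroup G) ⊓ L ≤ _)).comap_subtype (K := L)).exists_le_sylow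
  obtain ⟨B, hB⟩ := ((T.2.to_le (inf_le_left : (T : Subgroup G) ⊓ L ≤ _)).comap_subtype (K := L)).exists_le_sylow
  have hSA : (S : Subgroup G) ⊓ L ≤ (A : Subgroup L).map L.subtype := fun y hy =>
    ⟨⟨y, hy.2⟩, hA hy, rfl⟩
  have hTB : (T : Subgroup G) ⊓ L ≤ (B : Subgroup L).map L.subtype := fun y hy =>
    ⟨⟨y, hy.2⟩, hB hy, rfl⟩
  obtain ⟨S', hS'⟩ := (A.2.map L.subtype).exists_le_sylow
  obtain ⟨T', hT'⟩ := (B.2.map L.subtype).exists_le_sylow
  have hc1 : Nat.card D < Nat.card ((S : Subgroup G) ⊓ L : Subgroup G) :=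
    lt_of_not_ge fun h => hWS.ne (eq_of_le_of_card_ge hWS.le h)
  have hc2 : Nat.card D < Nat.card ((T : Subgroup G) ⊓ L : Subgroup G) :=
    lt_of_not_ge fun h => hWT.ne (eq_of_le_of_card_ge hWT.le h)
  have hc3 : Nat.card D < Nat.card (A : Subgroup L) := by
    rw [← show Nat.card ((A : Subgroup L).map L.subtype) = Nat.card (A : Subgroup L) from
      card_map_of_injective L.subtype_injective]
    exact hc1.trans_le (Nat.le_of_dvd Nat.card_pos (card_dvd_of_le hSA))
  have g1 := big' _ S S' hWS.le hc1 inf_le_left (hSA.trans hS')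
  have g2 := big' _ T' T hWT.le hc2 (hTB.trans hT') inf_le_left
  exact (g1.trans (claim (Nat.card G) L hL A B (by omega) (hWS.le.trans hSA) (hWT.le.trans hTB) hc3
    S' T' hS' hT')).trans g2

/-- Regularity passes to a product of two regular subgroups over a Sylow subgroup. -/
theorem regular_top_of_product {f : Subgroup G → Set (Subgroup G)} (hf : Cfsg.IsNormalizerFunctor p f)
    (S₀ : Sylow p G) {G₁ G₂ : Subgroup G} (h₁ : (S₀ : Subgroup G) ≤ G₁) (h₂ : (S₀ : Subgroup G) ≤ G₂)
    (hprod : ∀ g : G, ∃ g₁ ∈ G₁, ∃ g₂ ∈ G₂, g = g₁ * g₂)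
    (hr₁ : Cfsg.IsFunctorRegular p f G₁) (hr₂ : Cfsg.IsFunctorRegular p f G₂) :
    Cfsg.IsFunctorRegular p f ⊤ := by
  -- chains from `S₀`
  have base : ∀ (g : G) (D : Subgroup G), D ≠ ⊥ → D ≤ (S₀ : Subgroup G) →
      D ≤ ((g • S₀ : Sylow p G) : Subgroup G) → ReflTransGen (FullStep f D) S₀ (g • S₀) := by
    intro g D hD hDS hDT
    obtain ⟨a, ha, b, hb, rfl⟩ := hprod g
    set c := (MulAut.conj a).toMonoidHom
    set I := (G₁ ⊓ G₂).map c
    have hI1 : I ≤ G₁ := by
      rintro _ ⟨y, hy, rfl⟩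
      exact mul_mem (mul_mem ha hy.1) (inv_mem ha)
    have hT2 : (((a * b) • S₀ : Sylow p G) : Subgroup G) ≤ G₂.map c := by
      rw [Cfsg.Lib.Transfer.sylow_smul_coe]
      rintro _ ⟨y, hy, rfl⟩
      exact ⟨b * y * b⁻¹, mul_mem (mul_mem hb (h₂ hy)) (inv_mem hb), by simp [c, mul_assoc]⟩
    have haS : ((a • S₀ : Sylow p G) : Subgroup G) ≤ I := by
      rw [Cfsg.Lib.Transfer.sylow_smul_coe]
      exact map_mono (le_inf h₁ h₂)
    have hDI : D ≤ I := by
      intro d hd
      obtain ⟨y, hy, rfl⟩ := hT2 (hDT hd)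
      refine ⟨y, ⟨?_, hy⟩, rfl⟩
      have := mul_mem (mul_mem (inv_mem ha) (h₁ (hDS hd))) ha
      simpa [c, mul_assoc] using this
    obtain ⟨U', hU'⟩ := ((S₀.2.to_le hDS).comap_subtype (K := I)).exists_le_sylow
    have hUc : Nat.card ((U' : Subgroup I).map I.subtype) = p ^ (Nat.card G).factorization p := by
      rw [card_map_of_injective I.subtype_injective, Sylow.card_eq_multiplicity U',
        ← Sylow.card_eq_multiplicity ((a • S₀ : Sylow p G).subtype haS), Sylow.coe_subtype,
        card_subgroupOf_of_le haS, Sylow.card_eq_multiplicity]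
    set U := Sylow.ofCard _ hUc with hU
    have hUI : (U : Subgroup G) ≤ I := by
      rw [hU, Sylow.coe_ofCard]; exact map_subtype_le _
    have hDU : D ≤ (U : Subgroup G) := by
      rw [hU, Sylow.coe_ofCard]; exact fun d hd => ⟨⟨d, hDI hd⟩, hU' hd, rfl⟩
    refine (full_chain hf hr₁ hD S₀ U h₁ (hUI.trans hI1) hDS hDU).trans ?_
    have hmapc : ∀ {R : Sylow p G} {K : Subgroup G}, (R : Subgroup G) ≤ K.map c →
        ((a⁻¹ • R : Sylow p G) : Subgroup G) ≤ K := by
      intro R K h
      rw [Cfsg.Lib.Transfer.sylow_smul_coe]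
      rintro _ ⟨y, hy, rfl⟩
      obtain ⟨z, hz, rfl⟩ := h hy
      simpa [c, mul_assoc] using hz
    have hD' : D.map (MulAut.conj a⁻¹).toMonoidHom ≠ ⊥ := fun h =>
      hD ((map_eq_bot_iff_of_injective _ (MulAut.conj a⁻¹).injective).1 h)
    have hch := full_chain hf hr₂ hD' (a⁻¹ • U) (a⁻¹ • ((a * b) • S₀))
      (hmapc (hUI.trans (map_mono inf_le_right))) (hmapc hT2)
      (by rw [Cfsg.Lib.Transfer.sylow_smul_coe]; exact map_mono hDU)
      (by rw [Cfsg.Lib.Transfer.sylow_smul_coe]; exact map_mono hDT)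
    have hch' := hch.lift (fun R => a • R) (p := FullStep f D) fun x y h => by
      have h' := fullStep_conj hf a h
      rwa [Subgroup.map_map, show ((MulAut.conj a).toMonoidHom.comp (MulAut.conj a⁻¹).toMonoidHom) =
        MonoidHom.id G from by ext; simp [mul_assoc], Subgroup.map_id] at h'
    have hch'' : ReflTransGen (FullStep f D) (a • a⁻¹ • U) (a • a⁻¹ • (a * b) • S₀) := hch'
    simpa only [smul_inv_smul] using hch''
  have all : ∀ (D : Subgroup G), D ≠ ⊥ → ∀ S T : Sylow p G, D ≤ (S : Subgroup G) → D ≤ (T : Subgroup G) →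
      ReflTransGen (FullStep f D) S T := by
    intro D hD S T hS hT
    obtain ⟨g, rfl⟩ := MulAction.exists_smul_eq G S₀ S
    obtain ⟨k, rfl⟩ := MulAction.exists_smul_eq G S₀ T
    have hmap : ∀ {R : Sylow p G}, D ≤ ((g • R : Sylow p G) : Subgroup G) →
        D.map (MulAut.conj g⁻¹).toMonoidHom ≤ (R : Subgroup G) := by
      intro R h
      rw [Cfsg.Lib.Transfer.sylow_smul_coe] at h
      rintro _ ⟨y, hy, rfl⟩
      obtain ⟨z, hz, rfl⟩ := h hy
      simpa [mul_assoc] using SetLike.mem_coe.1 hz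
    have hb := base (g⁻¹ * k) (D.map (MulAut.conj g⁻¹).toMonoidHom)
      (fun h => hD ((map_eq_bot_iff_of_injective _ (MulAut.conj g⁻¹).injective).1 h)) (hmap hS)
      (hmap (by rwa [← mul_smul, mul_inv_cancel_left]))
    have hb' := hb.lift (fun R => g • R) (p := FullStep f D) fun x y h => by
      have h' := fullStep_conj hf g h
      rwa [Subgroup.map_map, show ((MulAut.conj g).toMonoidHom.comp (MulAut.conj g⁻¹).toMonoidHom) =
        MonoidHom.id G from by ext; simp [mul_assoc], Subgroup.map_id] at h'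
    have hb'' : ReflTransGen (FullStep f D) (g • S₀) (g • (g⁻¹ * k) • S₀) := hb'
    simpa only [← mul_smul, mul_inv_cancel_left] using hb''
  intro S T hST hne
  have hc : ∀ R : Sylow p (⊤ : Subgroup G),
      Nat.card ((R : Subgroup (⊤ : Subgroup G)).map (⊤ : Subgroup G).subtype) = p ^ (Nat.card G).factorization p := by
    intro R
    rw [card_map_of_injective (⊤ : Subgroup G).subtype_injective, Sylow.card_eq_multiplicity R,
      Subgroup.card_top]
  let down : Sylow p G → Sylow p (⊤ : Subgroup G) := fun R => R.subtype le_top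
  have hdown : ∀ R : Sylow p (⊤ : Subgroup G), down (Sylow.ofCard _ (hc R)) = R := fun R =>
    Sylow.ext (by
      rw [Sylow.coe_subtype, Sylow.coe_ofCard, Subgroup.subgroupOf, comap_map_eq_self_of_injective
        (⊤ : Subgroup G).subtype_injective])
  have hD : ((S : Subgroup (⊤ : Subgroup G)) ⊓ T).map (⊤ : Subgroup G).subtype ≠ ⊥ := fun h =>
    hne ((map_eq_bot_iff_of_injective _ (⊤ : Subgroup G).subtype_injective).1 h)
  have hch := all _ hD (Sylow.ofCard _ (hc S)) (Sylow.ofCard _ (hc T))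
    (by rw [Sylow.coe_ofCard]; exact map_mono inf_le_left)
    (by rw [Sylow.coe_ofCard]; exact map_mono inf_le_right)
  have hch' := hch.lift down (p := Step p ((fun X : Subgroup G => X.subgroupOf ⊤) '' Cfsg.functorFamily p f ⊤)
    ((S : Subgroup (⊤ : Subgroup G)) ⊓ T)) ?_
  · have hch'' : ReflTransGen _ (down (Sylow.ofCard _ (hc S))) (down (Sylow.ofCard _ (hc T))) := hch'
    rw [hdown, hdown] at hch''
    exact exists_chain hch''
  · rintro a b ⟨Q, F, x, hF, ha, hb, hx, hxb, hDb⟩
    have hmem : (normalizer (F : Set G)).subgroupOf ⊤ ∈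
        (fun X : Subgroup G => X.subgroupOf ⊤) '' Cfsg.functorFamily p f ⊤ := by
      refine ⟨_, ⟨Q.subtype le_top, F, ?_, (top_inf_eq _).symm⟩, rfl⟩
      rwa [Sylow.coe_subtype, subgroupOf_map_subtype, inf_top_eq]
    refine ⟨_, ⟨x, mem_top x⟩, member_of_sylow_le hmem (down a) (fun y hy => ha hy),
      member_of_sylow_le hmem (down b) (fun y hy => hb hy), hx, ?_, ?_⟩
    · apply map_injective (⊤ : Subgroup G).subtype_injective
      simp only [down, Sylow.coe_subtype, Cfsg.subgroupConjRight, Subgroup.map_map] at hxb ⊢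
      rw [show (⊤ : Subgroup G).subtype.comp (MulAut.conj (⟨x, mem_top x⟩ : (⊤ : Subgroup G))⁻¹).toMonoidHom =
        ((MulAut.conj x⁻¹).toMonoidHom).comp (⊤ : Subgroup G).subtype from rfl, ← Subgroup.map_map,
        subgroupOf_map_subtype, inf_top_eq, subgroupOf_map_subtype, inf_top_eq, hxb]
    · intro y hy
      exact ⟨hDb ⟨y, hy, rfl⟩, hb (hDb ⟨y, hy, rfl⟩)⟩

end Cfsg.Lib.FunctorControl
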