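import Cfsg.Agent.Classical.SL
import Cfsg.Agent.Classical.SLExtra
import Cfsg.Agent.Components.PComponentsExtra
import Cfsg.Agent.Components.Cores
import Cfsg.Prelude.Def_CaseTheorems

/-!
An involution of `GL n` whose centralizer has a component modulo its core.
-/

set_option linter.style.haveILetI false
set_option linter.unusedSectionVars false

namespace Cfsg.Lib.Misc.GLInvolution

open Matrix

variable {F : Type*} [Field F] [Fintype F]

theorem isQuasisimple_SL (hF : Odd (Fintype.card F)) {m : ℕ} (hm : 2 ≤ m) (h2 : m = 2 → 4 ≤ Fintype.card F) :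
    Cfsg.IsQuasisimple (Matrix.SpecialLinearGroup (Fin m) F) := by
  have hsimple := Cfsg.Lib.Classical.isSimpleGroup_PSL_fin (F := F) hm (fun h => by
    rw [Nat.card_eq_fintype_card]; exact h2 h)
  refine ⟨⟨?_⟩, hsimple⟩
  rcases eq_or_lt_of_le hm with rfl | h3
  · classical
    obtain ⟨a, ha⟩ : ∃ a : F, a ∉ ({0, 1, -1} : Finset F) := by
      by_contra h
      push Not at h
      have h5 : 5 ≤ Fintype.card F := by
        rcases hF with ⟨k, hk⟩
        have := h2 rfl
        omega
      have := (Finset.card_le_card (fun x _ => h x : (Finset.univ : Finset F) ⊆ {0, 1, -1})).trans Finset.card_le_three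
      rw [Finset.card_univ] at this
      omega
    simp only [Finset.mem_insert, Finset.mem_singleton, not_or] at ha
    have ha2 : a ^ 2 ≠ 1 := fun h => by
      rcases sq_eq_one_iff.mp h with h | h
      · exact ha.2.1 h
      · exact ha.2.2 h
    refine Cfsg.Lib.Classical.eq_top_of_transvection_mem _ fun i j hij c => ?_
    obtain ⟨x, y, hxy⟩ := Cfsg.Lib.Classical.transvection_mem_commutatorSet_of_ne ha.1 ha2 hij c
    rw [← hxy]
    exact Subgroup.commutator_mem_commutator (Subgroup.mem_top x) (Subgroup.mem_top y)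
  · exact Cfsg.Lib.Classical.SL_commutator_eq_top (by rw [Fintype.card_fin]; omega)

theorem main [DecidableEq F] (hF : Odd (Fintype.card F)) (m : ℕ) (hm : 2 ≤ m) (h2 : m = 2 → 4 ≤ Fintype.card F) :
    ∃ t : GL (Fin (m + 1)) F, orderOf t = 2 ∧ t ∉ Subgroup.center (GL (Fin (m + 1)) F) ∧
      Cfsg.HasComponent (↥(Subgroup.centralizer ({t} : Set (GL (Fin (m + 1)) F))) ⧸
        Cfsg.oddCore ↥(Subgroup.centralizer ({t} : Set (GL (Fin (m + 1)) F)))) := by
  classical
  haveI : NeZero m := ⟨by omega⟩
  have h20 : (2 : F) ≠ 0 := Ring.two_ne_zero fun h2 =>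
    Nat.not_even_iff_odd.mpr hF (Nat.even_iff.mpr (FiniteField.even_card_of_char_two h2))
  set R := Matrix.reindexAlgEquiv F F (finSumFinEquiv (m := m) (n := 1)) with hR
  set T₀ : Matrix (Fin m ⊕ Fin 1) (Fin m ⊕ Fin 1) F := fromBlocks 1 0 0 (-1) with hT₀
  have hTT : T₀ * T₀ = 1 := by
    rw [hT₀, fromBlocks_multiply]; simp [fromBlocks_one]
  let t : GL (Fin (m + 1)) F := ⟨R T₀, R T₀, by rw [← map_mul, hTT, map_one], by rw [← map_mul, hTT, map_one]⟩
  have htval : R.symm (t : Matrix (Fin (m + 1)) (Fin (m + 1)) F) = T₀ := R.symm_apply_apply T₀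
  have ht1 : t ≠ 1 := fun h => by
    have := congrArg (fun M : GL (Fin (m + 1)) F => R.symm (M : Matrix (Fin (m + 1)) (Fin (m + 1)) F) (Sum.inr 0) (Sum.inr 0)) h
    simp only [htval, Units.val_one, map_one, hT₀] at this
    simp at this
    exact h20 (by linear_combination (-1 : F) * this)
  have hto : orderOf t = 2 := orderOf_eq_prime (by rw [pow_two]; exact Units.ext (show R T₀ * R T₀ = 1 by rw [← map_mul, hTT, map_one])) ht1
  refine ⟨t, hto, ?_, ?_⟩
  · intro hc
    set N : Matrix (Fin m ⊕ Fin 1) (Fin m ⊕ Fin 1) F := fromBlocks 1 (Matrix.of fun _ _ => (1 : F)) 0 1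
    set N' : Matrix (Fin m ⊕ Fin 1) (Fin m ⊕ Fin 1) F := fromBlocks 1 (Matrix.of fun _ _ => (-1 : F)) 0 1
    have hNN : N * N' = 1 ∧ N' * N = 1 := by
      constructor <;> · simp only [N, N']; rw [fromBlocks_multiply]; simp [← fromBlocks_one]; ext i j; simp
    let u : GL (Fin (m + 1)) F := ⟨R N, R N', by rw [← map_mul, hNN.1, map_one], by rw [← map_mul, hNN.2, map_one]⟩
    have h := congrArg (fun M : GL (Fin (m + 1)) F => R.symm (M : Matrix (Fin (m + 1)) (Fin (m + 1)) F))
      (Subgroup.mem_center_iff.mp hc u)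
    simp only [Units.val_mul, map_mul, htval, show R.symm (u : Matrix (Fin (m + 1)) (Fin (m + 1)) F) = N from
      R.symm_apply_apply N, hT₀, N] at h
    rw [fromBlocks_multiply, fromBlocks_multiply] at h
    have := congrFun (congrFun (fromBlocks_inj.mp h).2.1 0) 0
    simp at this
    exact h20 (by linear_combination (-1 : F) * this)
  set C := Subgroup.centralizer ({t} : Set (GL (Fin (m + 1)) F)) with hC
  have hblock : ∀ g : C, ∃ A D, R.symm ((g : GL (Fin (m + 1)) F) : Matrix (Fin (m + 1)) (Fin (m + 1)) F) =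
      fromBlocks A 0 0 D := by
    intro g
    set X := R.symm ((g : GL (Fin (m + 1)) F) : Matrix (Fin (m + 1)) (Fin (m + 1)) F)
    have h := congrArg (fun M : GL (Fin (m + 1)) F => R.symm (M : Matrix (Fin (m + 1)) (Fin (m + 1)) F))
      (Subgroup.mem_centralizer_singleton_iff.mp g.2)
    simp only [Units.val_mul, map_mul, htval] at h
    change X * T₀ = T₀ * X at h
    rw [← fromBlocks_toBlocks X, hT₀, fromBlocks_multiply, fromBlocks_multiply, fromBlocks_inj] at h
    obtain ⟨-, hB, hC', -⟩ := h
    refine ⟨X.toBlocks₁₁, X.toBlocks₂₂, ?_⟩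
    conv_lhs => rw [← fromBlocks_toBlocks X]
    have e12 : X.toBlocks₁₂ = 0 := by
      ext i j
      have := congrFun (congrFun hB i) j
      simp at this
      have h2' : (2 : F) * X.toBlocks₁₂ i j = 0 := by linear_combination (-1 : F) * this
      exact (mul_eq_zero.mp h2').resolve_left h20
    have e21 : X.toBlocks₂₁ = 0 := by
      ext i j
      have := congrFun (congrFun hC' i) j
      simp at this
      have h2' : (2 : F) * X.toBlocks₂₁ i j = 0 := by linear_combination this
      exact (mul_eq_zero.mp h2').resolve_left h20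
    rw [e12, e21]
  let χ : C →* F × F :=
  { toFun := fun g => (((g : GL (Fin (m + 1)) F) : Matrix (Fin (m + 1)) (Fin (m + 1)) F).det,
      R.symm ((g : GL (Fin (m + 1)) F) : Matrix (Fin (m + 1)) (Fin (m + 1)) F) (Sum.inr 0) (Sum.inr 0))
    map_one' := Prod.ext det_one (by simp)
    map_mul' := fun g h => by
      obtain ⟨A, D, hg⟩ := hblock g
      obtain ⟨A', D', hh⟩ := hblock h
      refine Prod.ext (det_mul _ _) ?_
      show R.symm (((g : GL (Fin (m + 1)) F) : Matrix (Fin (m + 1)) (Fin (m + 1)) F) *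
        ((h : GL (Fin (m + 1)) F) : Matrix (Fin (m + 1)) (Fin (m + 1)) F)) (Sum.inr 0) (Sum.inr 0) =
        R.symm ((g : GL (Fin (m + 1)) F) : Matrix (Fin (m + 1)) (Fin (m + 1)) F) (Sum.inr 0) (Sum.inr 0) *
        R.symm ((h : GL (Fin (m + 1)) F) : Matrix (Fin (m + 1)) (Fin (m + 1)) F) (Sum.inr 0) (Sum.inr 0)
      rw [map_mul, hg, hh, fromBlocks_multiply]
      simp [Matrix.mul_apply] }
  let up (A : Matrix (Fin m) (Fin m) F) : Matrix (Fin (m + 1)) (Fin (m + 1)) F := R (fromBlocks A 0 0 1)
  have hup : ∀ A B, up (A * B) = up A * up B := fun A B => by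
    simp only [up, ← map_mul, fromBlocks_multiply]; simp
  have hdetR : ∀ X, (R X).det = X.det := fun X => Matrix.det_reindexAlgEquiv F F _ X
  let e₀ : Matrix.SpecialLinearGroup (Fin m) F →* GL (Fin (m + 1)) F :=
    (Units.map ({ toFun := fun A => up A, map_one' := by simp [up, fromBlocks_one], map_mul' := hup } :
      Matrix (Fin m) (Fin m) F →* Matrix (Fin (m + 1)) (Fin (m + 1)) F)).comp Matrix.SpecialLinearGroup.toGL
  have he₀ : ∀ A, (e₀ A : Matrix (Fin (m + 1)) (Fin (m + 1)) F) = up (A : Matrix (Fin m) (Fin m) F) := fun _ => rfl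
  have he₀C : ∀ A, e₀ A ∈ C := fun A => by
    refine Subgroup.mem_centralizer_singleton_iff.mpr (Units.ext ?_)
    show up (A : Matrix (Fin m) (Fin m) F) * R T₀ = R T₀ * up (A : Matrix (Fin m) (Fin m) F)
    simp only [up, hT₀, ← map_mul, fromBlocks_multiply]
    simp
  let e : Matrix.SpecialLinearGroup (Fin m) F →* C := e₀.codRestrict C he₀C
  have hker : χ.ker = e.range := by
    refine le_antisymm (fun g hg => ?_) ?_
    · obtain ⟨A, D, hgX⟩ := hblock g
      have h1 : ((g : GL (Fin (m + 1)) F) : Matrix (Fin (m + 1)) (Fin (m + 1)) F).det = 1 := congrArg Prod.fst hg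
      have h2' : R.symm ((g : GL (Fin (m + 1)) F) : Matrix (Fin (m + 1)) (Fin (m + 1)) F) (Sum.inr 0) (Sum.inr 0) = 1 :=
        congrArg Prod.snd hg
      have hD : D = 1 := by
        rw [hgX, fromBlocks_apply₂₂] at h2'
        ext i j
        fin_cases i; fin_cases j
        simpa using h2'
      have hgval : ((g : GL (Fin (m + 1)) F) : Matrix (Fin (m + 1)) (Fin (m + 1)) F) = up A := by
        rw [show up A = R (fromBlocks A 0 0 1) from rfl, ← hD, ← hgX, AlgEquiv.apply_symm_apply]
      rw [hgval, show up A = R (fromBlocks A 0 0 1) from rfl, hdetR, det_fromBlocks_zero₁₂, det_one, mul_one] at h1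
      exact ⟨⟨A, h1⟩, Subtype.ext (Units.ext hgval.symm)⟩
    · rintro _ ⟨A, rfl⟩
      refine Prod.ext ?_ ?_
      · show (up (A : Matrix (Fin m) (Fin m) F)).det = 1
        rw [show up (A : Matrix (Fin m) (Fin m) F) = R (fromBlocks (A : Matrix (Fin m) (Fin m) F) 0 0 1) from rfl,
          hdetR, det_fromBlocks_zero₁₂, det_one, mul_one, A.2]
      · show R.symm (up (A : Matrix (Fin m) (Fin m) F)) (Sum.inr 0) (Sum.inr 0) = 1
        rw [show R.symm (up (A : Matrix (Fin m) (Fin m) F)) = fromBlocks (A : Matrix (Fin m) (Fin m) F) 0 0 1 from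
          R.symm_apply_apply _, fromBlocks_apply₂₂, one_apply_eq]
  have hinj : Function.Injective e := fun A B h => by
    have h' := R.injective (congrArg (fun z : C => ((z : GL (Fin (m + 1)) F) : Matrix (Fin (m + 1)) (Fin (m + 1)) F)) h)
    exact Subtype.ext (fromBlocks_inj.mp h').1
  set π := QuotientGroup.mk' (Cfsg.oddCore C)
  haveI : e.range.Normal := hker ▸ MonoidHom.normal_ker χ
  haveI : (e.range.map π).Normal := Subgroup.Normal.map inferInstance π (QuotientGroup.mk'_surjective _)
  refine ⟨e.range.map π, Subgroup.Normal.isSubnormal inferInstance, ?_⟩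
  let h : Matrix.SpecialLinearGroup (Fin m) F →* e.range.map π := (π.subgroupMap e.range).comp e.rangeRestrict
  have hh : Function.Surjective h := (π.subgroupMap_surjective e.range).comp e.rangeRestrict_surjective
  haveI : Nontrivial (e.range.map π) := by
    obtain ⟨i, j, hij⟩ : ∃ i j : Fin m, i ≠ j := ⟨⟨0, by omega⟩, ⟨1, by omega⟩, by simp [Fin.ext_iff]⟩
    set w := Matrix.SpecialLinearGroup.diag2n hij (-1 : F) (by norm_num) with hwdef
    have hw2 : w * w = 1 := by
      refine Subtype.ext ?_
      show (diagonal fun k => if k = i then (-1 : F) else if k = j then (-1 : F)⁻¹ else 1) *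
        (diagonal fun k => if k = i then (-1 : F) else if k = j then (-1 : F)⁻¹ else 1) = 1
      rw [diagonal_mul_diagonal, ← diagonal_one]
      congr 1
      funext k
      split_ifs <;> norm_num
    have hw1 : w ≠ 1 := fun h => by
      have h' := congrArg (fun M : Matrix.SpecialLinearGroup (Fin m) F => (M : Matrix (Fin m) (Fin m) F) i i) h
      have h'' : (-1 : F) = 1 := by
        simpa [hwdef, Matrix.SpecialLinearGroup.diag2n] using h'
      exact h20 (by linear_combination (-1 : F) * h'')
    have how : orderOf (e w) = 2 := by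
      rw [orderOf_injective e hinj]; exact orderOf_eq_prime (by rw [pow_two]; exact hw2) hw1
    refine ⟨⟨h w, 1, fun hc => ?_⟩⟩
    have hm' : e w ∈ Cfsg.oddCore C := (QuotientGroup.eq_one_iff _).mp (congrArg Subtype.val hc)
    have hc2 := Cfsg.Lib.Components.coprime_card_pPrimeCore (G := C) 2
    have hd := Subgroup.orderOf_dvd_natCard _ hm'
    rw [how] at hd
    exact absurd (Nat.eq_one_of_dvd_coprimes hc2 hd dvd_rfl) (by norm_num)
  exact Cfsg.Lib.Components.qs_of_surjective (isQuasisimple_SL hF hm h2) h hh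

end Cfsg.Lib.Misc.GLInvolution
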