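import Cfsg.Agent.Components.Misc.GenFittingAction
import Mathlib.GroupTheory.Abelianization.Defs

/-!
The factor of the generalized Fitting subgroup moved by a `p`-group, and the part it centralizes.
-/

set_option linter.style.haveILetI false
set_option linter.unusedSectionVars false

namespace Cfsg.Lib.GenFittingFactor

open Subgroup Cfsg.Lib.Components Cfsg.Lib.GenFittingAction
open scoped commutatorElement

universe u

variable {H : Type u} [Group H] [Finite H] {p : ℕ} [hp : Fact p.Prime]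

/-- if `x` fixes `z = [x, f]` then `[x ^ n, f] = z ^ n` -/
theorem iterate_eq {x f z : H} (hz : x * f * x⁻¹ = z * f) (hfix : x * z * x⁻¹ = z) :
    ∀ n : ℕ, x ^ n * f * (x ^ n)⁻¹ = z ^ n * f := by
  intro n
  induction n with
  | zero => simp
  | succ n ih =>
    calc x ^ (n + 1) * f * (x ^ (n + 1))⁻¹ = x * (x ^ n * f * (x ^ n)⁻¹) * x⁻¹ := by rw [pow_succ']; group
      _ = (x * z * x⁻¹) ^ n * (x * f * x⁻¹) := by rw [ih, conj_pow]; group
      _ = z ^ (n + 1) * f := by rw [hfix, hz, pow_succ, mul_assoc]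

/-- a `p`-element fixing its commutator with `f` centralizes `f` if that commutator is a `p'`-element -/
theorem eq_one_of_fixed {x f z : H} (hz : x * f * x⁻¹ = z * f) (hfix : x * z * x⁻¹ = z)
    (hx : ∃ k, orderOf x = p ^ k) (hco : (orderOf z).Coprime p) : z = 1 := by
  obtain ⟨k, hk⟩ := hx
  have h := iterate_eq hz hfix (p ^ k)
  rw [← hk, pow_orderOf_eq_one, one_mul, inv_one, mul_one, eq_comm, mul_eq_right, hk] at h
  exact orderOf_eq_one_iff.1 (Nat.eq_one_of_dvd_coprimes (Nat.Coprime.pow_right k hco) dvd_rfl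
    (orderOf_dvd_of_pow_eq_one h))

theorem factor_props (hO : Cfsg.pCore p H = ⊥) (Q : Subgroup H) (hQ : IsPGroup p ↥Q) (L : Subgroup H)
    (hL : L = ⁅Cfsg.generalizedFittingSubgroup H, Q⁆) (F : Subgroup H)
    (hF : F ≤ Cfsg.generalizedFittingSubgroup H ∧ Cfsg.generalizedFittingSubgroup H ≤ normalizer (F : Set H) ∧
      Q ≤ centralizer (F : Set H) ∧ ∀ N : Subgroup H, N ≤ Cfsg.generalizedFittingSubgroup H →
        Cfsg.generalizedFittingSubgroup H ≤ normalizer (N : Set H) → Q ≤ centralizer (N : Set H) → N ≤ F) :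
    F = Cfsg.generalizedFittingSubgroup H ⊓ centralizer ((L ⊔ Q : Subgroup H) : Set H) ∧ ⁅L, Q⁆ = L ∧
      L ⊓ F ≤ (frattini ↥L).map L.subtype ∧
      (∀ B : Subgroup H, IsPGroup p ↥B → B ≤ normalizer (Q : Set H) → ⁅L, B⁆ ≤ F → ⁅L, B⁆ = ⊥) ∧
      (Nat.card ↥(centralizer ((F ⊔ L : Subgroup H) : Set H))).Coprime p := by
  set Fs := Cfsg.generalizedFittingSubgroup H
  obtain ⟨hFle, hFn, hFQ, hFmax⟩ := hF
  haveI : Fs.Normal := inferInstance
  have hsn : Fs.IsSubnormal := Normal.isSubnormal inferInstance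
  have hFsn : ∀ g : H, g ∈ normalizer (Fs : Set H) := fun g => (normalizer_eq_top_iff.2 inferInstance).ge (mem_top g)
  have hQn : Q ≤ normalizer (Fs : Set H) := fun g _ => hFsn g
  obtain ⟨h1, h2⟩ := action_decomp Fs Q hQn hQ (pCore_eq_bot_of_subnormal hO hsn) (genFitting_eq_top hsn le_rfl)
  rw [← hL] at h1 h2
  have hLF : L ≤ Fs := hL ▸ Cfsg.Lib.Coprime.commutator_le_of_le_normalizer hQn
  have hFsL : Fs ≤ normalizer (L : Set H) := hL ▸ GenFittingAction.le_normalizer_commutator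
  have hQL : Q ≤ normalizer (L : Set H) := hL ▸ Cfsg.Lib.Coprime.le_normalizer_commutator_right Q Fs
  set C := Fs ⊓ centralizer ((L ⊔ Q : Subgroup H) : Set H) with hC
  have hconj : ∀ g ∈ normalizer (L : Set H), g ∈ normalizer (Q : Set H) → g ∈ normalizer (C : Set H) := by
    intro g hg1 hg2
    have h3 : ((L ⊔ Q : Subgroup H)).map (MulAut.conj g).toMonoidHom = L ⊔ Q := by
      have e1 : L.map (MulAut.conj g).toMonoidHom = L := mem_normalizer_iff_map_conj_eq.1 hg1
      have e2 : Q.map (MulAut.conj g).toMonoidHom = Q := mem_normalizer_iff_map_conj_eq.1 hg2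
      rw [Subgroup.map_sup, e1, e2]
    have hgLQ : g ∈ normalizer ((L ⊔ Q : Subgroup H) : Set H) := mem_normalizer_iff_map_conj_eq.2 h3
    have key : ∀ a : H, a ∈ normalizer ((L ⊔ Q : Subgroup H) : Set H) → ∀ x ∈ C, a * x * a⁻¹ ∈ C := by
      intro a ha x hx
      refine mem_inf.mpr ⟨(mem_normalizer_iff.1 (hFsn a) x).1 (mem_inf.1 hx).1, mem_centralizer_iff.2 fun y hy => ?_⟩
      have hy' : a⁻¹ * y * a ∈ L ⊔ Q := by
        have := (mem_normalizer_iff.1 (inv_mem ha) y).1 hy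
        simpa using this
      calc y * (a * x * a⁻¹) = a * ((a⁻¹ * y * a) * x) * a⁻¹ := by group
        _ = a * x * a⁻¹ * y := by rw [mem_centralizer_iff.1 (mem_inf.1 hx).2 _ hy']; group
    exact Cfsg.Lib.Coprime.mem_normalizer_of_conj_mem (key g hgLQ)
      (fun x hx => by simpa using key g⁻¹ (inv_mem hgLQ) x hx)
  have hCn : Fs ≤ normalizer (C : Set H) := by
    refine h1.ge.trans (sup_le ?_ fun c hc => hconj c (hFsL (mem_inf.1 hc).1)
      (centralizer_le_normalizer _ (mem_inf.1 hc).2))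
    refine le_trans (fun l hl => mem_centralizer_iff.2 fun c hc => ?_) (centralizer_le_normalizer _)
    exact (mem_centralizer_iff.1 (mem_inf.1 hc).2 l (mem_sup_left hl)).symm
  have hCF : C ≤ F := hFmax C inf_le_left hCn fun q hq => mem_centralizer_iff.2 fun c hc =>
    (mem_centralizer_iff.1 (mem_inf.1 hc).2 q (mem_sup_right hq)).symm
  have hLcF : L ≤ centralizer (F : Set H) := by
    rw [← commutator_eq_bot_iff_le_centralizer, hL]
    refine commutator_commutator_eq_bot_of_rotate ?_ ?_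
    · rw [commutator_eq_bot_iff_le_centralizer.2 hFQ, commutator_bot_left]
    · refine le_bot_iff.1 ?_
      refine (commutator_mono (Cfsg.Lib.Coprime.commutator_le_of_le_normalizer hFn) le_rfl).trans ?_
      rw [commutator_comm, commutator_eq_bot_iff_le_centralizer.2 hFQ]
  have hFC : F = C := by
    refine le_antisymm (le_inf hFle ?_) hCF
    rw [← commutator_eq_bot_iff_le_centralizer, commutator_comm, commutator_eq_bot_iff_le_centralizer]
    exact sup_le hLcF hFQ
  have hZc : ∀ z ∈ L ⊓ F, ∀ l ∈ L, z * l = l * z := fun z hz l hl =>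
    mem_centralizer_iff.1 (hLcF hl) z (mem_inf.1 hz).2
  have hLsn : L.IsSubnormal :=
    IsSubnormal.trans hLF (Normal.isSubnormal (normal_subgroupOf_of_le_normalizer hFsL)) hsn
  have hZco : ∀ z ∈ L ⊓ F, (orderOf z).Coprime p := by
    intro z hz
    have hcF : z ∈ Cfsg.fittingSubgroup H := by
      have hzn : ((zpowers z).subgroupOf L).Normal := ⟨fun n hn g => by
        have : g * n = n * g := Subtype.ext ((mem_centralizer_iff.1 (hLcF g.2) n
          ((zpowers_le.2 (mem_inf.1 hz).2 : zpowers z ≤ F) hn)).symm)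
        rwa [this, mul_inv_cancel_right]⟩
      exact le_fitting_of_subnormal (IsSubnormal.trans (zpowers_le.2 (mem_inf.1 hz).1) hzn.isSubnormal hLsn)
        (by letI : CommGroup ↥(zpowers z) := { mul_comm := fun a b => mul_comm' a b }; infer_instance) (mem_zpowers z)
    refine Nat.Coprime.coprime_dvd_left (Subgroup.orderOf_dvd_natCard _ hcF) ?_
    exact (hp.out.coprime_iff_not_dvd.2 (not_dvd_card_fitting hO)).symm
  refine ⟨hFC, h2.symm, ?_, ?_, ?_⟩
  · -- Frattini
    intro z hz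
    have hzL : z ∈ L := (mem_inf.1 hz).1
    classical
    haveI := Fintype.ofFinite Q
    let φ : Q → L → L := fun q l => ⟨(q : H) * l * (q : H)⁻¹, (mem_normalizer_iff.1 (hQL q.2) l).1 l.2⟩
    let ν : L →* Abelianization L :=
      { toFun := fun l => ∏ q : Q, Abelianization.of (φ q l)
        map_one' := Finset.prod_eq_one fun q _ => by
          rw [show φ q 1 = 1 from Subtype.ext (by simp [φ]), map_one]
        map_mul' := fun a b => by
          rw [← Finset.prod_mul_distrib]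
          refine Finset.prod_congr rfl fun q _ => ?_
          rw [← map_mul]
          exact congrArg _ (Subtype.ext (by simp [φ, mul_assoc])) }
    have hshift : ∀ (q₀ : Q) (l : L), ν (φ q₀ l) = ν l := fun q₀ l => by
      show ∏ q : Q, Abelianization.of (φ q (φ q₀ l)) = ∏ q : Q, Abelianization.of (φ q l)
      refine Fintype.prod_equiv (Equiv.mulRight q₀) _ _ fun q => ?_
      exact congrArg _ (Subtype.ext (by simp [φ, mul_assoc]))
    have hker : L ≤ ν.ker.map L.subtype := by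
      conv_lhs => rw [h2]
      rw [commutator_le]
      intro l hl q hq
      refine ⟨⟨l, hl⟩ * φ ⟨q, hq⟩ ⟨l, hl⟩⁻¹, ?_, ?_⟩
      · rw [SetLike.mem_coe, MonoidHom.mem_ker, map_mul, hshift, ← map_mul, mul_inv_cancel, map_one]
      · show l * (q * l⁻¹ * q⁻¹) = ⁅l, q⁆
        rw [commutatorElement_def]; group
    obtain ⟨w, hw, hwz⟩ := hker hzL
    have hw' : w = ⟨z, hzL⟩ := Subtype.ext hwz
    subst hw'
    have hfixz : ∀ q : Q, φ q ⟨z, hzL⟩ = ⟨z, hzL⟩ := fun q => Subtype.ext (by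
      show (q : H) * z * (q : H)⁻¹ = z
      rw [← mem_centralizer_iff.1 (hFQ q.2) z (mem_inf.1 hz).2, mul_inv_cancel_right])
    have hν : ν ⟨z, hzL⟩ = Abelianization.of (⟨z, hzL⟩ : L) ^ Fintype.card Q := by
      show ∏ q : Q, Abelianization.of (φ q ⟨z, hzL⟩) = _
      simp only [hfixz, Finset.prod_const, Finset.card_univ]
    obtain ⟨k, hk⟩ := IsPGroup.iff_card.1 hQ
    rw [SetLike.mem_coe, MonoidHom.mem_ker, hν, ← Nat.card_eq_fintype_card, hk] at hw
    have hof : (⟨z, hzL⟩ : L) ∈ commutator L := by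
      rw [← Abelianization.ker_of, MonoidHom.mem_ker, ← orderOf_eq_one_iff]
      refine Nat.eq_one_of_dvd_coprimes (Nat.Coprime.pow_right k (hZco z hz)) ?_ (orderOf_dvd_of_pow_eq_one hw)
      exact (orderOf_map_dvd _ _).trans (by rw [Subgroup.orderOf_mk])
    refine ⟨⟨z, hzL⟩, ?_, rfl⟩
    show (⟨z, hzL⟩ : L) ∈ frattini L
    rw [frattini, Order.radical]
    refine Subgroup.mem_iInf.2 fun M => Subgroup.mem_iInf.2 fun hM => ?_
    by_contra hzM
    have hzc : (⟨z, hzL⟩ : L) ∈ center L := mem_center_iff.2 fun l => Subtype.ext (hZc z hz l l.2).symm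
    have htop : M ⊔ center L = ⊤ := hM.2 _ (lt_of_le_of_ne le_sup_left fun e => hzM (e ▸ mem_sup_right hzc))
    have hcomm : commutator L ≤ M := by
      rw [_root_.commutator_def, commutator_le]
      intro a _ b _
      obtain ⟨a₁, ha₁, u, hu, rfl⟩ := mem_sup_of_normal_right.1 (htop.ge (mem_top a))
      obtain ⟨b₁, hb₁, v, hv, rfl⟩ := mem_sup_of_normal_right.1 (htop.ge (mem_top b))
      have hu' : ∀ g : L, Commute g u := fun g => mem_center_iff.1 hu g
      have hv' : ∀ g : L, Commute g v := fun g => mem_center_iff.1 hv g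
      have e : ⁅a₁ * u, b₁ * v⁆ = ⁅a₁, b₁⁆ := by
        simp only [commutatorElement_def, mul_inv_rev]
        calc a₁ * u * (b₁ * v) * (u⁻¹ * a₁⁻¹) * (v⁻¹ * b₁⁻¹)
            = a₁ * (u * (b₁ * v)) * u⁻¹ * a₁⁻¹ * v⁻¹ * b₁⁻¹ := by group
          _ = a₁ * b₁ * (v * a₁⁻¹) * v⁻¹ * b₁⁻¹ := by rw [(hu' (b₁ * v)).symm.eq]; group
          _ = a₁ * b₁ * a₁⁻¹ * b₁⁻¹ := by rw [(hv' a₁⁻¹).symm.eq]; group
      rw [e]
      exact mul_mem (mul_mem (mul_mem ha₁ hb₁) (inv_mem ha₁)) (inv_mem hb₁)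
    exact hzM (hcomm hof)
  · -- subgroups normalizing `Q`
    intro B hB hBQ hLB
    have hBL : B ≤ normalizer (L : Set H) := fun b hb => by
      have e1 : Fs.map (MulAut.conj b).toMonoidHom = Fs := mem_normalizer_iff_map_conj_eq.1 (hFsn b)
      have e2 : Q.map (MulAut.conj b).toMonoidHom = Q := mem_normalizer_iff_map_conj_eq.1 (hBQ hb)
      refine mem_normalizer_iff_map_conj_eq.2 ?_
      show L.map (MulAut.conj b).toMonoidHom = L
      rw [hL, Subgroup.map_commutator, e1, e2]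
    have hθ : ∀ b ∈ B, ∀ l ∈ L, b * l * b⁻¹ * l⁻¹ ∈ L ⊓ F := fun b hb l hl => mem_inf.mpr
      ⟨mul_mem ((mem_normalizer_iff.1 (hBL hb) l).1 hl) (inv_mem hl), hLB (by
        rw [commutator_comm]
        exact commutator_mem_commutator hb hl)⟩
    -- elements of `Q` acting trivially modulo `L ⊓ F` act trivially
    have htriv : ∀ d ∈ Q, (∀ l ∈ L, d * l * d⁻¹ * l⁻¹ ∈ L ⊓ F) → ∀ l ∈ L, d * l * d⁻¹ = l := by
      intro d hd hm l hl
      refine mul_inv_eq_one.1 (eq_one_of_fixed (p := p) (x := d) (f := l) (z := d * l * d⁻¹ * l⁻¹) (by group) ?_ ?_ (hZco _ (hm l hl)))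
      · rw [← mem_centralizer_iff.1 (hFQ hd) _ (mem_inf.1 (hm l hl)).2, mul_inv_cancel_right]
      · obtain ⟨k, hk⟩ := IsPGroup.iff_orderOf.1 hQ ⟨d, hd⟩
        exact ⟨k, by rwa [Subgroup.orderOf_mk] at hk⟩
    refine le_bot_iff.1 ?_
    rw [commutator_comm, commutator_le]
    intro b hb l hl
    rw [mem_bot, commutatorElement_def]
    -- the set of fixed elements
    have hq : ∀ q ∈ Q, ∀ w ∈ L, b * (q * w * q⁻¹) * b⁻¹ * (q * w * q⁻¹)⁻¹ = b * w * b⁻¹ * w⁻¹ := by
      intro q hq w hw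
      set z := b * w * b⁻¹ * w⁻¹ with hz
      have hzm := hθ b hb w hw
      rw [← hz] at hzm
      set q' := b * q * b⁻¹
      have hq' : q' ∈ Q := (mem_normalizer_iff.1 (hBQ hb) q).1 hq
      have hqw : q * w * q⁻¹ ∈ L := (mem_normalizer_iff.1 (hQL hq) w).1 hw
      have hdQ : q⁻¹ * q' ∈ Q := mul_mem (inv_mem hq) hq'
      have ez : q' * z * q'⁻¹ = z := by
        rw [← mem_centralizer_iff.1 (hFQ hq') z (mem_inf.1 hzm).2, mul_inv_cancel_right]
      have hd : ∀ v ∈ L, (q⁻¹ * q') * v * (q⁻¹ * q')⁻¹ * v⁻¹ ∈ L ⊓ F := by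
        intro v hv
        -- `q⁻¹ q' = [q⁻¹, b]` acts trivially modulo `L ⊓ F`
        have hv1 : b⁻¹ * v * b ∈ L := by
          have := (mem_normalizer_iff.1 (inv_mem (hBL hb)) v).1 hv
          simpa using this
        have hv2 : q * (b⁻¹ * v * b) * q⁻¹ ∈ L := (mem_normalizer_iff.1 (hQL hq) _).1 hv1
        have hz1 := hθ b⁻¹ (inv_mem hb) v hv
        have hz2 := hθ b hb _ hv2
        have ez1 : q * (b⁻¹ * v * b⁻¹⁻¹ * v⁻¹) * q⁻¹ = b⁻¹ * v * b⁻¹⁻¹ * v⁻¹ := by
          rw [← mem_centralizer_iff.1 (hFQ hq) _ (mem_inf.1 hz1).2, mul_inv_cancel_right]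
        set y := b * (q * (b⁻¹ * v * b) * q⁻¹) * b⁻¹ * (q * (b⁻¹ * v * b) * q⁻¹)⁻¹ with hy
        have ez2 : q⁻¹ * y * q⁻¹⁻¹ = y := by
          rw [← mem_centralizer_iff.1 (hFQ (inv_mem hq)) _ (mem_inf.1 hz2).2, mul_inv_cancel_right]
        have e : q⁻¹ * q' * v * (q⁻¹ * q')⁻¹ * v⁻¹ = (q⁻¹ * y * q⁻¹⁻¹) * (b⁻¹ * v * b⁻¹⁻¹ * v⁻¹) := by
          rw [hy]; simp only [q']; group
        rw [e, ez2]
        exact mul_mem hz2 hz1
      have h4 := htriv _ hdQ hd w hw
      have h5 : q' * w * q'⁻¹ = q * w * q⁻¹ := by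
        calc q' * w * q'⁻¹ = q * ((q⁻¹ * q') * w * (q⁻¹ * q')⁻¹) * q⁻¹ := by group
          _ = q * w * q⁻¹ := by rw [h4]
      calc b * (q * w * q⁻¹) * b⁻¹ * (q * w * q⁻¹)⁻¹ = (q' * z * q'⁻¹) * (q' * w * q'⁻¹) * (q * w * q⁻¹)⁻¹ := by
            rw [hz]; simp only [q']; group
        _ = z := by rw [ez, h5]; group
    let S : Subgroup H :=
      { carrier := {w | w ∈ L ∧ b * w * b⁻¹ = w}
        one_mem' := ⟨one_mem _, by group⟩
        mul_mem' := fun {x y} hx hy => ⟨mul_mem hx.1 hy.1, by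
          rw [show b * (x * y) * b⁻¹ = (b * x * b⁻¹) * (b * y * b⁻¹) by group, hx.2, hy.2]⟩
        inv_mem' := fun {x} hx => ⟨inv_mem hx.1, by
          rw [show b * x⁻¹ * b⁻¹ = (b * x * b⁻¹)⁻¹ by group, hx.2]⟩ }
    have hS : L ≤ S := by
      conv_lhs => rw [h2]
      rw [commutator_le]
      intro w hw q hq'
      rw [commutatorElement_def]
      have hm1 : q * w⁻¹ * q⁻¹ ∈ L := (mem_normalizer_iff.1 (hQL hq') _).1 (inv_mem hw)
      refine ⟨by rw [show w * q * w⁻¹ * q⁻¹ = w * (q * w⁻¹ * q⁻¹) by group]; exact mul_mem hw hm1, ?_⟩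
      refine mul_inv_eq_one.1 ?_
      have hmem := hθ b hb w hw
      have e2 := hq q hq' w⁻¹ (inv_mem hw)
      have hc : ∀ v ∈ L, ∀ z ∈ L ⊓ F, v * z = z * v := fun v hv z hz => (hZc z hz v hv).symm
      calc b * (w * q * w⁻¹ * q⁻¹) * b⁻¹ * (w * q * w⁻¹ * q⁻¹)⁻¹
          = (b * w * b⁻¹) * (b * (q * w⁻¹ * q⁻¹) * b⁻¹ * (q * w⁻¹ * q⁻¹)⁻¹) * w⁻¹ := by group
        _ = (b * w * b⁻¹) * (b * w⁻¹ * b⁻¹ * w⁻¹⁻¹) * w⁻¹ := by rw [e2]
        _ = 1 := by group
    have := (hS hl).2
    rw [this, mul_inv_cancel]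
  · -- the centralizer
    set Zc := centralizer ((F ⊔ L : Subgroup H) : Set H)
    rw [Nat.coprime_comm, hp.out.coprime_iff_not_dvd]
    intro hd
    obtain ⟨⟨x, hxZ⟩, hxo⟩ := exists_prime_orderOf_dvd_card' p hd
    rw [Subgroup.orderOf_mk] at hxo
    have hxc : ∀ y ∈ F ⊔ L, x * y * x⁻¹ = y := fun y hy => by
      rw [← mem_centralizer_iff.1 hxZ y hy, mul_inv_cancel_right]
    set M := Fs ⊓ centralizer (L : Set H)
    have hMnorm : ∀ g ∈ normalizer (L : Set H), g ∈ normalizer (M : Set H) := by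
      intro g hg
      refine mem_inf.1 (mem_inf.mpr ⟨?_, mem_top g⟩ : g ∈ normalizer (M : Set H) ⊓ ⊤) |>.1
      have key : ∀ a ∈ normalizer (L : Set H), ∀ m ∈ M, a * m * a⁻¹ ∈ M := fun a ha m hm => mem_inf.mpr
        ⟨(mem_normalizer_iff.1 (hFsn a) m).1 (mem_inf.1 hm).1, mem_centralizer_iff.2 fun l hl => by
          have hl' : a⁻¹ * l * a ∈ L := by
            have := (mem_normalizer_iff.1 (inv_mem ha) l).1 hl
            simpa using this
          calc l * (a * m * a⁻¹) = a * ((a⁻¹ * l * a) * m) * a⁻¹ := by group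
            _ = a * m * a⁻¹ * l := by rw [mem_centralizer_iff.1 (mem_inf.1 hm).2 _ hl']; group⟩
      exact Cfsg.Lib.Coprime.mem_normalizer_of_conj_mem (key g hg) (fun m hm => by simpa using key g⁻¹ (inv_mem hg) m hm)
    have hMF : M ≤ F ⊔ L := by
      have hMsn : M.IsSubnormal := IsSubnormal.trans inf_le_left
        (Normal.isSubnormal (normal_subgroupOf_of_le_normalizer fun g hg => hMnorm g (hFsL hg))) hsn
      obtain ⟨d1, -⟩ := action_decomp M Q (fun q hq => hMnorm q (hQL hq)) hQ (pCore_eq_bot_of_subnormal hO hMsn)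
        (genFitting_eq_top hMsn inf_le_left)
      refine d1.ge.trans (sup_le ?_ ?_)
      · rw [hL]
        exact (commutator_mono inf_le_left le_rfl).trans le_sup_right
      · refine le_trans (fun m hm => ?_) (le_sup_left.trans' hFC.ge)
        refine mem_inf.mpr ⟨(mem_inf.1 (mem_inf.1 hm).1).1, ?_⟩
        have hle : L ⊔ Q ≤ centralizer ({m} : Set H) := sup_le
          (fun l hl => mem_centralizer_singleton_iff.2 (mem_centralizer_iff.1 (mem_inf.1 (mem_inf.1 hm).1).2 l hl))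
          (fun q hq => mem_centralizer_singleton_iff.2 (mem_centralizer_iff.1 (mem_inf.1 hm).2 q hq))
        exact mem_centralizer_iff.2 fun y hy => mem_centralizer_singleton_iff.1 (hle hy)
    have hθ : ∀ f ∈ Fs, x * f * x⁻¹ * f⁻¹ ∈ M := by
      intro f hf
      obtain ⟨w, hw, c, hc, rfl⟩ := (Cfsg.Lib.Coprime.mem_sup_of_le_normalizer
        (inf_le_left.trans hFsL : Fs ⊓ centralizer (Q : Set H) ≤ normalizer (L : Set H))).1 (h1.ge hf)
      have hcF : c ∈ Fs := (mem_inf.1 hc).1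
      have hm : x * c * x⁻¹ * c⁻¹ ∈ M := by
        refine mem_inf.mpr ⟨mul_mem ((mem_normalizer_iff.1 (hFsn x) c).1 hcF) (inv_mem hcF), ?_⟩
        have hxL : x ∈ centralizer (L : Set H) := centralizer_le (SetLike.coe_subset_coe.mpr le_sup_right) hxZ
        rw [show x * c * x⁻¹ * c⁻¹ = x * (c * x⁻¹ * c⁻¹) by group]
        refine mul_mem hxL (mem_centralizer_iff.2 fun l hl => ?_)
        have hl' : c⁻¹ * l * c ∈ L := by
          have := (mem_normalizer_iff.1 (inv_mem (hFsL hcF)) l).1 hl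
          simpa using this
        calc l * (c * x⁻¹ * c⁻¹) = c * ((c⁻¹ * l * c) * x⁻¹) * c⁻¹ := by group
          _ = c * x⁻¹ * c⁻¹ * l := by rw [mem_centralizer_iff.1 (inv_mem hxL) _ hl']; group
      rw [show x * (w * c) * x⁻¹ * (w * c)⁻¹ = (x * w * x⁻¹) * (x * c * x⁻¹ * c⁻¹) * w⁻¹ by group,
        hxc w (mem_sup_right hw)]
      exact (mem_normalizer_iff.1 (hMnorm w (le_normalizer hw)) _).1 hm
    have hall : Fs ≤ centralizer ({x} : Set H) := by
      refine sup_le (sSup_le fun K hK => ?_) fun f hf => ?_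
      · have hKFs : K ≤ Fs := (comp_le_layer hK).trans layer_le_genFitting
        have hK' := comp_subgroupOf hK hKFs
        have hfin : K ≤ F ⊔ L := by
          rcases comp_le_commutator Fs Q _ hK' Fs hQn le_rfl (map_subtype_le _) with h | h
          · rw [map_subgroupOf_eq_of_le hKFs, ← hL] at h
            exact le_sup_of_le_right h
          · rw [map_subgroupOf_eq_of_le hKFs] at h
            refine le_sup_of_le_left (hFmax K hKFs ?_ ?_)
            · refine sup_le (comp_normal_in_layer hK) (le_trans ?_ (centralizer_le_normalizer _))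
              rw [← commutator_eq_bot_iff_le_centralizer, commutator_comm]
              exact le_bot_iff.1 ((commutator_mono (comp_le_layer hK) le_rfl).trans layer_commute_fitting.le)
            · rw [← commutator_eq_bot_iff_le_centralizer, commutator_comm, commutator_eq_bot_iff_le_centralizer]
              exact h
        exact fun k hk => mem_centralizer_singleton_iff.2 (mem_centralizer_iff.1 hxZ k (hfin hk))
      · have hfFs : f ∈ Fs := fitting_le_genFitting hf
        haveI : (Cfsg.fittingSubgroup H).Characteristic := characteristic_iff_map_eq.mpr fun e => fitting_map_equiv e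
        have hzf : x * f * x⁻¹ * f⁻¹ ∈ Cfsg.fittingSubgroup H :=
          mul_mem ((inferInstance : (Cfsg.fittingSubgroup H).Normal).conj_mem f hf x) (inv_mem hf)
        have h3 : x * f * x⁻¹ * f⁻¹ = 1 := eq_one_of_fixed (p := p) (x := x) (f := f) (by group)
          (hxc _ (hMF (hθ f hfFs))) ⟨1, by rw [hxo, pow_one]⟩
          (Nat.Coprime.coprime_dvd_left (Subgroup.orderOf_dvd_natCard _ hzf)
            (hp.out.coprime_iff_not_dvd.2 (not_dvd_card_fitting hO)).symm)
        rw [mul_inv_eq_one, mul_inv_eq_iff_eq_mul] at h3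
        exact mem_centralizer_singleton_iff.2 h3.symm
    have hbot := eq_bot_of_centralizes hO (zpowers x) (IsPGroup.of_card (n := 1) (by rw [Nat.card_zpowers, hxo, pow_one]))
      (zpowers_le.2 (mem_centralizer_iff.2 fun f hf => mem_centralizer_singleton_iff.1 (hall hf)))
    rw [zpowers_eq_bot] at hbot
    rw [hbot, orderOf_one] at hxo
    exact hp.out.one_lt.ne hxo

end Cfsg.Lib.GenFittingFactor
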