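import Cfsg.Agent.Components.Misc.CoprimeProduct
import Cfsg.Prelude.Def_PLocal

/-!
Gillam: metabelian groups have normal abelian subgroups of maximal order.
-/

set_option linter.style.haveILetI false
set_option linter.unusedSectionVars false

namespace Cfsg.Lib.Gillam

open Subgroup
open scoped Pointwise commutatorElement

universe u

variable {S : Type u} [Group S] [Finite S]

theorem exists_normal_max_abelian (hmeta : IsMulCommutative ↥(commutator S))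
    (A : Subgroup S) (hA : A ∈ Cfsg.maxAbelianSubgroups S) :
    ∃ B ∈ Cfsg.maxAbelianSubgroups S, B.Normal ∧ B ≤ normalClosure (A : Set S) := by
  classical
  set N := normalClosure (A : Set S)
  set V := commutator S ⊓ N with hV
  haveI : V.Normal := inferInstance
  have hVc : ∀ a ∈ V, ∀ b ∈ V, a * b = b * a := fun a ha b hb =>
    congrArg Subtype.val (hmeta.is_comm.comm (⟨a, (mem_inf.1 ha).1⟩ : commutator S) ⟨b, (mem_inf.1 hb).1⟩)
  obtain ⟨A₀, ⟨hA₀, hA₀N⟩, hmax⟩ := Set.Finite.exists_maximalFor (fun X : Subgroup S => Nat.card ↥(X ⊓ V))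
    {X | X ∈ Cfsg.maxAbelianSubgroups S ∧ X ≤ N} (Set.toFinite _) ⟨A, hA, subset_normalClosure⟩
  refine ⟨A₀, hA₀, ⟨fun a ha y => ?_⟩, hA₀N⟩
  by_contra hya
  set A' := A₀.map (MulAut.conj y).toMonoidHom with hA'
  have hA'c : Nat.card A' = Nat.card A₀ := card_map_of_injective (MulEquiv.injective _)
  have hAnorm : A₀ ≤ normalizer (V : Set S) := le_top.trans (normalizer_eq_top_iff.2 inferInstance).ge
  have hA'le : A' ≤ V ⊔ A₀ := by
    rintro _ ⟨x, hx, rfl⟩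
    show y * x * y⁻¹ ∈ V ⊔ A₀
    rw [show y * x * y⁻¹ = ⁅y, x⁆ * x by rw [commutatorElement_def]; group]
    refine mul_mem (mem_sup_left (mem_inf.mpr ⟨commutator_mem_commutator (mem_top y) (mem_top x), ?_⟩)) (mem_sup_right hx)
    rw [commutatorElement_def]
    exact mul_mem ((inferInstance : N.Normal).conj_mem x (hA₀N hx) y) (inv_mem (hA₀N hx))
  set W := A₀ ⊔ A'
  set E := W ⊓ V with hE
  have hWV : W ≤ V ⊔ A₀ := sup_le le_sup_right hA'le
  have hAE : A₀ ≤ normalizer (E : Set S) :=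
    Cfsg.Lib.Coprime.le_normalizer_inf (le_sup_left.trans le_normalizer) hAnorm
  have hW : W = E ⊔ A₀ := by
    refine le_antisymm (fun w hw => ?_) (sup_le inf_le_left le_sup_left)
    obtain ⟨v, hv, a', ha', rfl⟩ := (Cfsg.Lib.Coprime.mem_sup_of_le_normalizer hAnorm).1 (hWV hw)
    refine mul_mem (mem_sup_left (mem_inf.mpr ⟨?_, hv⟩)) (mem_sup_right ha')
    simpa using mul_mem hw (inv_mem ((le_sup_left : A₀ ≤ W) ha'))
  have hc₀ : ∀ a ∈ A₀, ∀ b ∈ A₀, a * b = b * a := fun a ha b hb =>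
    congrArg Subtype.val (hA₀.1.is_comm.comm (⟨a, ha⟩ : A₀) ⟨b, hb⟩)
  have hcen : W ≤ centralizer ((A₀ ⊓ A' : Subgroup S) : Set S) := by
    refine sup_le (fun a ha => mem_centralizer_iff.2 fun z hz => hc₀ z (mem_inf.1 hz).1 a ha) ?_
    intro a' ha'
    refine mem_centralizer_iff.2 fun z hz => ?_
    obtain ⟨u, hu, rfl⟩ := ha'
    obtain ⟨w, hw, e⟩ := (mem_inf.1 hz).2
    rw [← e, ← map_mul, ← map_mul, hc₀ w hw u hu]
  set B := (A₀ ⊓ A') ⊔ E with hBdef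
  have hEn : E ≤ normalizer ((A₀ ⊓ A' : Subgroup S) : Set S) :=
    (inf_le_left.trans hcen).trans (centralizer_le_normalizer _)
  have hzw : ∀ z ∈ A₀ ⊓ A', ∀ w ∈ W, z * w = w * z := fun z hz w hw => mem_centralizer_iff.1 (hcen hw) z hz
  have hBab : IsMulCommutative B := by
    refine ⟨⟨fun a b => Subtype.ext ?_⟩⟩
    obtain ⟨z, hz, e, he, hae⟩ := (Cfsg.Lib.Coprime.mem_sup_of_le_normalizer hEn).1 a.2
    obtain ⟨z', hz', e', he', hbe⟩ := (Cfsg.Lib.Coprime.mem_sup_of_le_normalizer hEn).1 b.2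
    show (a : S) * b = b * a
    rw [← hae, ← hbe]
    have h1 := hzw z hz e' (mem_inf.1 he').1
    have h2 := hzw z' hz' e (mem_inf.1 he).1
    have h3 := hc₀ z (mem_inf.1 hz).1 z' (mem_inf.1 hz').1
    have h4 := hVc e (mem_inf.1 he).2 e' (mem_inf.1 he').2
    calc z * e * (z' * e') = z * (e * z') * e' := by group
      _ = z * (z' * e) * e' := by rw [h2]
      _ = (z * z') * (e * e') := by group
      _ = (z' * z) * (e' * e) := by rw [h3, h4]
      _ = z' * (z * e') * e := by group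
      _ = z' * (e' * z) * e := by rw [h1]
      _ = z' * e' * (z * e) := by group
  -- counting
  have k1 : Nat.card W * Nat.card ↥(E ⊓ A₀) = Nat.card E * Nat.card A₀ := by
    rw [hW]; exact Cfsg.Lib.Coprime.card_sup_mul_card_inf hAE
  have k2 : Nat.card A₀ * Nat.card A' ≤ Nat.card W * Nat.card ↥(A₀ ⊓ A') := by
    rw [← Cfsg.Lib.CoprimeProduct.card_set_mul A₀ A']
    refine Nat.mul_le_mul_right _ ?_
    rw [Nat.card_coe_set_eq, show Nat.card W = (W : Set S).ncard from Nat.card_coe_set_eq _]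
    exact Set.ncard_le_ncard (Cfsg.Lib.CoprimeProduct.mul_subset le_sup_left le_sup_right) (Set.toFinite _)
  have hEA : E ⊓ A₀ = A₀ ⊓ V := le_antisymm (le_inf inf_le_right (inf_le_left.trans inf_le_right))
    (le_inf (le_inf (inf_le_left.trans le_sup_left) inf_le_right) inf_le_left)
  rw [hEA] at k1
  have k3 : Nat.card A₀ * Nat.card ↥(A₀ ⊓ V) ≤ Nat.card E * Nat.card ↥(A₀ ⊓ A') := by
    refine Nat.le_of_mul_le_mul_left ?_ (Nat.card_pos (α := A₀))
    calc Nat.card A₀ * (Nat.card A₀ * Nat.card ↥(A₀ ⊓ V)) = (Nat.card A₀ * Nat.card A') * Nat.card ↥(A₀ ⊓ V) := by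
          rw [hA'c]; ring
      _ ≤ (Nat.card W * Nat.card ↥(A₀ ⊓ A')) * Nat.card ↥(A₀ ⊓ V) := Nat.mul_le_mul_right _ k2
      _ = (Nat.card W * Nat.card ↥(A₀ ⊓ V)) * Nat.card ↥(A₀ ⊓ A') := by ring
      _ = Nat.card A₀ * (Nat.card E * Nat.card ↥(A₀ ⊓ A')) := by rw [k1]; ring
  have k4 : Nat.card B * Nat.card ↥((A₀ ⊓ A') ⊓ E) = Nat.card ↥(A₀ ⊓ A') * Nat.card E :=
    Cfsg.Lib.Coprime.card_sup_mul_card_inf hEn
  have k5 : Nat.card ↥((A₀ ⊓ A') ⊓ E) ≤ Nat.card ↥(A₀ ⊓ V) :=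
    Nat.le_of_dvd Nat.card_pos (card_dvd_of_le (inf_le_inf inf_le_left inf_le_right))
  have hBle : Nat.card A₀ ≤ Nat.card B := by
    refine Nat.le_of_mul_le_mul_right ?_ (Nat.card_pos (α := ↥(A₀ ⊓ V)))
    calc Nat.card A₀ * Nat.card ↥(A₀ ⊓ V) ≤ Nat.card E * Nat.card ↥(A₀ ⊓ A') := k3
      _ = Nat.card B * Nat.card ↥((A₀ ⊓ A') ⊓ E) := by rw [k4]; ring
      _ ≤ Nat.card B * Nat.card ↥(A₀ ⊓ V) := Nat.mul_le_mul_left _ k5
  have hBmax : B ∈ Cfsg.maxAbelianSubgroups S := ⟨hBab, fun C hC => (hA₀.2 C hC).trans hBle⟩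
  have hlt : Nat.card ↥(A₀ ⊓ A') < Nat.card A₀ := by
    refine lt_of_le_of_ne (Nat.le_of_dvd Nat.card_pos (card_dvd_of_le inf_le_left)) fun e => hya ?_
    have h1 : A₀ ⊓ A' = A₀ := eq_of_le_of_card_ge inf_le_left e.ge
    have h2 : A₀ = A' := eq_of_le_of_card_ge (inf_eq_left.1 h1) hA'c.le
    exact h2.ge ⟨a, ha, rfl⟩
  have hElt : Nat.card ↥(A₀ ⊓ V) < Nat.card E :=
    Nat.lt_of_mul_lt_mul_left (a := Nat.card A₀) (lt_of_le_of_lt k3
      (by rw [mul_comm (Nat.card A₀)]; exact Nat.mul_lt_mul_of_pos_left hlt Nat.card_pos))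
  have hBN : B ≤ N := sup_le (inf_le_left.trans hA₀N) (inf_le_right.trans inf_le_right)
  have hEB : Nat.card E ≤ Nat.card ↥(B ⊓ V) :=
    Nat.le_of_dvd Nat.card_pos (card_dvd_of_le (le_inf le_sup_right inf_le_right))
  have hh : Nat.card ↥(B ⊓ V) ≤ Nat.card ↥(A₀ ⊓ V) := hmax (show B ∈ {X | X ∈ Cfsg.maxAbelianSubgroups S ∧ X ≤ N}
    from ⟨hBmax, hBN⟩) (le_of_lt (lt_of_lt_of_le hElt hEB))
  omega

end Cfsg.Lib.Gillam
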