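import Cfsg.Agent.OddLocal.PLengthBasic
import Cfsg.Agent.Components.Misc.GenFittingAction
import Cfsg.Agent.S1324

/-!
A `q'`-subgroup of a solvable group whose commutators with the centralisers of hyperplanes are `q'`-groups
lies in the `q'`-core.
-/

namespace Cfsg.Lib.Misc.Hyperplane

open Subgroup
open scoped commutatorElement

set_option linter.style.haveILetI false

variable {H : Type*} [Group H] [Finite H]

theorem exists_hyperplane {p : ℕ} [hp : Fact p.Prime] {A : Subgroup H} (hA : IsPGroup p A)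
    (hA1 : p ∣ Nat.card A) : ∃ B : Subgroup H, B ≤ A ∧ B.relIndex A = p := by
  obtain ⟨n, hn⟩ := IsPGroup.iff_card.mp hA
  rcases n with _ | n
  · rw [hn, pow_zero] at hA1
    exact absurd hA1 hp.out.not_dvd_one
  obtain ⟨B₀, hB₀⟩ := Sylow.exists_subgroup_card_pow_prime p
    (show p ^ n ∣ Nat.card A from hn ▸ pow_dvd_pow p n.le_succ)
  refine ⟨B₀.map A.subtype, map_subtype_le _, ?_⟩
  have h : B₀.index = p := by
    have h1 := B₀.card_mul_index
    rw [hB₀, hn, pow_succ] at h1
    exact Nat.eq_of_mul_eq_mul_left (pow_pos hp.out.pos n) h1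
  rw [relIndex, subgroupOf, comap_map_eq_self_of_injective A.subtype_injective, h]

theorem le_core {p : ℕ} [hp : Fact p.Prime] {A K : Subgroup H} (hA : Cfsg.IsElementaryAbelian p A)
    (hA2 : p ^ 2 ≤ Nat.card ↥A) (hK : ¬ p ∣ Nat.card ↥K) (hKs : Group.IsSolvable ↥K)
    (hAK : A ≤ normalizer (K : Set H)) {q : ℕ} [hq : Fact q.Prime] {U : Subgroup H} (hU : U ≤ K)
    (hUq : ¬ q ∣ Nat.card ↥U) (hcomm : ∀ B : Subgroup H, B ≤ A → B.relIndex A = p →
      ¬ q ∣ Nat.card ↥⁅U, K ⊓ centralizer (B : Set H)⁆) :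
    U ≤ (Cfsg.pPrimeCore q ↥K).map K.subtype := by
  haveI := hA.1
  haveI := hKs
  set D := Cfsg.pPrimeCore q ↥K with hD
  set M := Cfsg.pPrimePCore q ↥K with hM
  haveI hMc : M.Characteristic := Characteristic.comap_quotient_mk inferInstance
  set π := QuotientGroup.mk' D with hπ
  have hπs : Function.Surjective π := QuotientGroup.mk'_surjective _
  have hMπ : M.map π = Cfsg.pCore q (↥K ⧸ D) := map_comap_eq_self_of_surjective hπs _
  have hDM : D ≤ M := fun x hx => by
    show π x ∈ Cfsg.pCore q _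
    rw [show π x = 1 from (QuotientGroup.eq_one_iff x).mpr hx]
    exact one_mem _
  have hApg : IsPGroup p A := fun a => ⟨1, Subtype.ext (by simpa using hA.2 a a.2)⟩
  obtain ⟨n, hn⟩ := IsPGroup.iff_card.mp hApg
  have hAM : A ≤ normalizer ((M.map K.subtype : Subgroup H) : Set H) :=
    hAK.trans (Cfsg.Lib.GenFittingAction.le_normalizer_map_char K M)
  have hcopM : (Nat.card A).Coprime (Nat.card (M.map K.subtype : Subgroup H)) := by
    rw [hn]
    exact ((hp.out.coprime_iff_not_dvd.mpr hK).coprime_dvd_right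
      (card_dvd_of_le (map_subtype_le M))).pow_left n
  have hsolA : Group.IsSolvable A := Group.isSolvable_of_comm fun a b => mul_comm' a b
  obtain ⟨P, hP⟩ := Cfsg.Lib.Coprime.exists_invariant_sylow hAM hcopM (Or.inl hsolA) q
  set P' : Subgroup H := (P : Subgroup (M.map K.subtype : Subgroup H)).map
    (M.map K.subtype).subtype with hP'
  have hP'M : P' ≤ M.map K.subtype := map_subtype_le _
  have hP'K : P' ≤ K := hP'M.trans (map_subtype_le _)
  set C : Subgroup (↥K ⧸ D) := centralizer (((U.subgroupOf K).map π : Subgroup (↥K ⧸ D)) : Set (↥K ⧸ D))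
    with hC
  have step : ∀ B : Subgroup H, B ≤ A → B.relIndex A = p →
      P' ⊓ centralizer (B : Set H) ≤ (C.comap π).map K.subtype := by
    intro B hBA hBp x hx
    have hxK : x ∈ K := hP'K hx.1
    have hxM : (⟨x, hxK⟩ : K) ∈ M := by
      obtain ⟨m, hm, hmx⟩ := hP'M hx.1
      rw [show (⟨x, hxK⟩ : K) = m from Subtype.ext hmx.symm]
      exact hm
    set S : Subgroup K := (⁅U, K ⊓ centralizer (B : Set H)⁆).subgroupOf K ⊓ M with hS
    have hSq : (Nat.card S).Coprime q := by
      refine Nat.Coprime.coprime_dvd_left (card_dvd_of_le (inf_le_left : S ≤ _)) ?_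
      have hle : ⁅U, K ⊓ centralizer (B : Set H)⁆ ≤ K :=
        (commutator_mono hU inf_le_left).trans (commutator_le.mpr fun a ha b hb =>
          mul_mem (mul_mem (mul_mem ha hb) (inv_mem ha)) (inv_mem hb))
      rw [Nat.card_congr (subgroupOfEquivOfLe hle).toEquiv]
      exact Nat.Coprime.symm (hq.out.coprime_iff_not_dvd.mpr (hcomm B hBA hBp))
    have hSD : S ≤ D := by
      have h1 : S.map π ≤ Cfsg.pCore q _ := (map_mono inf_le_right).trans hMπ.le
      have h2 : Nat.card (S.map π) = 1 := by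
        obtain ⟨k, hk⟩ := IsPGroup.iff_card.mp
          ((Cfsg.Lib.Components.isPGroup_pCore q).to_le h1)
        exact Nat.eq_one_of_dvd_coprimes (hSq.pow_right k) (card_map_dvd _ _) (dvd_of_eq hk)
      intro s hs
      refine (QuotientGroup.eq_one_iff s).mp ?_
      have h3 : π s ∈ S.map π := mem_map_of_mem π hs
      rwa [eq_bot_of_card_eq _ h2, mem_bot] at h3
    refine ⟨⟨x, hxK⟩, ?_, rfl⟩
    show π _ ∈ C
    rw [hC, mem_centralizer_iff]
    rintro _ ⟨u, hu, rfl⟩
    refine commutatorElement_eq_one_iff_mul_comm.mp ?_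
    rw [← map_commutatorElement]
    refine (QuotientGroup.eq_one_iff _).mpr (hSD ⟨?_, ?_⟩)
    · exact commutator_mem_commutator (mem_subgroupOf.mp hu) ⟨hxK, hx.2⟩
    · show _ ∈ M
      rw [commutatorElement_def]
      exact mul_mem (Normal.conj_mem (inferInstance : M.Normal) _ hxM u) (inv_mem hxM)
  have hP'C : P' ≤ (C.comap π).map K.subtype := by
    have hgen := Cfsg.Agent.S1324.result p A P' hA hA2
      (fun h => hK (h.trans (card_dvd_of_le hP'K))) hP
    rw [hgen]
    refine iSup_le fun B => ?_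
    have hd : (B : Subgroup H).relIndex A ∣ p ^ n := hn ▸ relIndex_dvd_card _ _
    obtain ⟨j, -, hj⟩ := (Nat.dvd_prime_pow hp.out).mp hd
    rcases j with _ | j
    · have hAB : A ≤ (B : Subgroup H) := relIndex_eq_one.mp (by rw [hj, pow_zero])
      obtain ⟨B₀, hB₀A, hB₀⟩ := exists_hyperplane hApg (by
        rw [hn]; refine dvd_pow_self p ?_; rintro rfl; rw [hn, pow_zero] at hA2
        have h4 := Nat.pow_le_pow_left hp.out.two_le 2; omega)
      exact (inf_le_inf_left _ (centralizer_le (SetLike.coe_subset_coe.mpr (hB₀A.trans hAB)))).trans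
        (step B₀ hB₀A hB₀)
    · refine step B B.2.1 (le_antisymm B.2.2 ?_)
      rw [hj]
      exact Nat.le_self_pow j.succ_ne_zero p
  have hker : π.ker ≤ C.comap π := fun x hx => by
    show π x ∈ C
    rw [MonoidHom.mem_ker.mp hx]; exact one_mem _
  have hMC : M ≤ C.comap π := by
    rw [← relIndex_eq_one]
    have h1 : (C.comap π).relIndex M ∣ P'.relIndex (M.map K.subtype) := by
      rw [← relIndex_map_map_of_injective (H := C.comap π) (K := M) K.subtype_injective]
      exact relIndex_dvd_of_le_left _ hP'C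
    obtain ⟨k, hk⟩ := IsPGroup.iff_card.mp (Cfsg.Lib.Components.isPGroup_pCore (G := ↥K ⧸ D) q)
    have h2 : (C.comap π).relIndex M ∣ q ^ k := by
      rw [relIndex_comap, hMπ, ← hk]
      exact relIndex_dvd_card _ _
    refine Nat.eq_one_of_dvd_coprimes (Nat.Coprime.pow_right k (Nat.Coprime.symm
      (hq.out.coprime_iff_not_dvd.mpr ?_))) h1 h2
    rw [relIndex, subgroupOf, hP', comap_map_eq_self_of_injective (subtype_injective _)]
    exact P.not_dvd_index
  have hUC : (U.subgroupOf K).map π ≤ centralizer (Cfsg.pCore q (↥K ⧸ D) : Set (↥K ⧸ D)) := by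
    rw [← hMπ, le_centralizer_iff]
    exact map_le_iff_le_comap.mpr hMC
  intro u hu
  refine ⟨⟨u, hU hu⟩, ?_, rfl⟩
  have h1 := hUC.trans Cfsg.Lib.OddP.charP_quotient_pPrimeCore
  obtain ⟨k, hk⟩ := IsPGroup.iff_card.mp ((Cfsg.Lib.Components.isPGroup_pCore q).to_le h1)
  have h2 : Nat.card ((U.subgroupOf K).map π) = 1 := by
    refine Nat.eq_one_of_dvd_coprimes (Nat.Coprime.pow_right k ?_) (card_map_dvd _ _) (dvd_of_eq hk)
    rw [Nat.card_congr (subgroupOfEquivOfLe hU).toEquiv]
    exact Nat.Coprime.symm (hq.out.coprime_iff_not_dvd.mpr hUq)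
  refine (QuotientGroup.eq_one_iff (⟨u, hU hu⟩ : K)).mp ?_
  have h3 : π ⟨u, hU hu⟩ ∈ (U.subgroupOf K).map π := mem_map_of_mem π (mem_subgroupOf.mpr hu)
  rwa [eq_bot_of_card_eq _ h2, mem_bot] at h3

end Cfsg.Lib.Misc.Hyperplane
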