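import Cfsg.Agent.Components.CharP
import Cfsg.Agent.Coprime.Generation
import Cfsg.Prelude.Def_CaseTheorems

/-!
The cores of the centralizers of an elementary abelian `2`-subgroup `Y` of order at least eight, when
these centralizers have trivial layers and one of them has characteristic two: the cores are abelian,
inverted by that involution, and commute with each other.
-/

set_option linter.unusedSectionVars false
set_option linter.style.haveILetI false

namespace Cfsg.Lib.Components.InvertedCores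

open Subgroup

variable {X : Type*} [Group X] [Finite X]

/-- The odd core of the centralizer of `y`, as a subgroup of the whole group. -/
def O (y : X) : Subgroup X :=
  (Cfsg.oddCore ↥(centralizer ({y} : Set X))).map (centralizer ({y} : Set X)).subtype

theorem O_le (y : X) : O y ≤ centralizer ({y} : Set X) := map_subtype_le _

theorem card_O (y : X) : (Nat.card (O y)).Coprime 2 := by
  rw [O, card_map_of_injective (subtype_injective _)]
  exact coprime_card_pPrimeCore 2

theorem le_O {y : X} {R : Subgroup X} (hR : R ≤ centralizer ({y} : Set X))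
    (hc : (Nat.card R).Coprime 2) (hn : centralizer ({y} : Set X) ≤ normalizer (R : Set X)) :
    R ≤ O y := by
  set C := centralizer ({y} : Set X)
  haveI : (R.subgroupOf C).Normal := (normal_subgroupOf_iff_le_normalizer hR).2 hn
  have h1 : R.subgroupOf C ≤ Cfsg.oddCore C :=
    le_pPrimeCore (by rw [Nat.card_congr (subgroupOfEquivOfLe hR).toEquiv]; exact hc)
  intro r hr
  exact mem_map.2 ⟨⟨r, hR hr⟩, h1 (mem_subgroupOf.2 hr), rfl⟩

theorem normalizes_map {C : Subgroup X} (K : Subgroup C) [hK : K.Normal] :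
    C ≤ normalizer ((K.map C.subtype : Subgroup X) : Set X) := by
  intro c hc
  rw [mem_normalizer_iff]
  intro r
  constructor
  · rintro ⟨r', hr', rfl⟩
    exact ⟨⟨c, hc⟩ * r' * ⟨c, hc⟩⁻¹, hK.conj_mem r' hr' _, rfl⟩
  · rintro ⟨r', hr', he⟩
    refine ⟨⟨c, hc⟩⁻¹ * r' * ⟨c, hc⟩, ?_, ?_⟩
    · simpa using hK.conj_mem r' hr' (⟨c, hc⟩ : C)⁻¹
    · rw [map_mul, map_mul, map_inv, he]
      show c⁻¹ * (c * r * c⁻¹) * c = r
      group

theorem normalizes_O (y : X) : centralizer ({y} : Set X) ≤ normalizer (O y : Set X) :=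
  normalizes_map _

theorem inv_conj {t u : X} (ht : t * t = 1) : t * u⁻¹ * t = (t * u * t)⁻¹ := by
  rw [mul_inv_rev, mul_inv_rev, inv_eq_of_mul_eq_one_right ht, mul_assoc]

theorem eq_one_of_pow {x : X} {a b : ℕ} (hab : a.Coprime b) (ha : x ^ a = 1) (hb : x ^ b = 1) :
    x = 1 := by
  have h := pow_gcd_eq_one (m := a) (n := b) |>.2 ⟨ha, hb⟩
  rwa [hab.gcd_eq_one, pow_one] at h

/-- An involution without fixed points inverts. -/
theorem inverted {R : Subgroup X} {z : X} (hzz : z * z = 1)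
    (hzR : z ∈ normalizer (R : Set X)) (hfix : R ⊓ centralizer ({z} : Set X) = ⊥) {x : X}
    (hx : x ∈ R) : z * x * z = x⁻¹ := by
  have hzi : z⁻¹ = z := inv_eq_of_mul_eq_one_right hzz
  have hmem : ∀ u ∈ R, z * u * z ∈ R := fun u hu => by
    have := (mem_normalizer_iff.1 hzR u).1 hu
    rwa [hzi] at this
  let f : R → R := fun u => ⟨(u : X)⁻¹ * (z * u * z), mul_mem (inv_mem u.2) (hmem u u.2)⟩
  have hf : Function.Injective f := by
    intro u v huv
    have h : (u : X)⁻¹ * (z * u * z) = (v : X)⁻¹ * (z * v * z) := congrArg Subtype.val huv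
    have h1 : (v : X) * (u : X)⁻¹ ∈ R ⊓ centralizer ({z} : Set X) := by
      refine mem_inf.2 ⟨mul_mem v.2 (inv_mem u.2), mem_centralizer_singleton_iff.2 ?_⟩
      have h2 : (v : X) * (u : X)⁻¹ * (z * u * z) = z * v * z := by rw [mul_assoc, h]; group
      have h3 : z * (v : X) = (v : X) * (u : X)⁻¹ * z * (u : X) := by
        calc z * (v : X) = (z * v * z) * z := by rw [mul_assoc (z * (v : X)), hzz, mul_one]
          _ = (v : X) * (u : X)⁻¹ * (z * u * z) * z := by rw [h2]
          _ = (v : X) * (u : X)⁻¹ * z * (u : X) * (z * z) := by group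
          _ = _ := by rw [hzz, mul_one]
      rw [show z * ((v : X) * (u : X)⁻¹) = z * (v : X) * (u : X)⁻¹ by group, h3]
      group
    rw [hfix, mem_bot, mul_inv_eq_one] at h1
    exact Subtype.ext h1.symm
  obtain ⟨u, hu⟩ := (Finite.injective_iff_surjective.1 hf) ⟨x, hx⟩
  have hu' : (u : X)⁻¹ * (z * u * z) = x := congrArg Subtype.val hu
  rw [← hu']
  calc z * ((u : X)⁻¹ * (z * u * z)) * z = z * (u : X)⁻¹ * z * (u : X) * (z * z) := by group
    _ = z⁻¹ * (u : X)⁻¹ * z⁻¹ * (u : X) := by rw [hzz, mul_one, hzi]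
    _ = _ := by group

theorem comm_of_inverted {R : Subgroup X} {z : X} (hzz : z * z = 1)
    (h : ∀ x ∈ R, z * x * z = x⁻¹) {a b : X} (ha : a ∈ R) (hb : b ∈ R) : a * b = b * a := by
  have h1 := h _ (mul_mem ha hb)
  have h2 : z * (a * b) * z = (z * a * z) * (z * b * z) := by
    calc z * (a * b) * z = z * a * (z * z) * b * z := by rw [hzz, mul_one]; group
      _ = _ := by group
  rw [h2, h a ha, h b hb, mul_inv_rev] at h1
  have h3 := congrArg (fun t => t⁻¹) h1
  simpa using h3.symm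

section Main

variable (Y : Subgroup X) (hY : Cfsg.IsElementaryAbelian 2 Y)
  {z : X} (hzY : z ∈ Y)
  (hzc : Cfsg.generalizedFittingSubgroup ↥(centralizer ({z} : Set X)) =
    Cfsg.pCore 2 ↥(centralizer ({z} : Set X)))
include hY hzY hzc

theorem sq_eq {w : X} (hw : w ∈ Y) : w * w = 1 := by
  rw [← pow_two]; exact hY.2 w hw

theorem comm_Y {a b : X} (ha : a ∈ Y) (hb : b ∈ Y) : a * b = b * a := by
  haveI := hY.1
  exact setLike_mul_comm ha hb

/-- A subgroup of odd order of `C(z) ∩ C(w)` normalized by it is trivial. -/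
theorem signalizer_bot {w : X} (hw : w ∈ Y) {W : Subgroup X} (hWz : W ≤ centralizer ({z} : Set X))
    (hWw : W ≤ centralizer ({w} : Set X)) (hWo : (Nat.card W).Coprime 2)
    (hn : centralizer ({z} : Set X) ⊓ centralizer ({w} : Set X) ≤ normalizer (W : Set X)) :
    W = ⊥ := by
  haveI : Fact (Nat.Prime 2) := ⟨Nat.prime_two⟩
  have hch : CharPGroup 2 ↥(centralizer ({z} : Set X)) := charP_iff_genFitting.2 hzc
  set C := centralizer ({z} : Set X) with hC
  set P := (Cfsg.pCore 2 C).map C.subtype with hP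
  have hPp : IsPGroup 2 P := (isPGroup_pCore 2).map _
  have hPn : C ≤ normalizer (P : Set X) := normalizes_map _
  have hwC : w ∈ C := mem_centralizer_singleton_iff.2 (comm_Y Y hY hzY hzc hw hzY)
  have hP2 : IsPGroup 2 (zpowers w) := fun ⟨v, hv⟩ => ⟨1, Subtype.ext (by
    obtain ⟨k, rfl⟩ := mem_zpowers_iff.1 hv
    show (w ^ k) ^ (2 ^ 1) = 1
    rw [pow_one, ← zpow_natCast, ← zpow_mul, mul_comm, zpow_mul, zpow_natCast, hY.2 w hw, one_zpow])⟩
  have hcz : centralizer (zpowers w : Set X) = centralizer ({w} : Set X) :=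
    Cfsg.Lib.Coprime.centralizer_zpowers w
  have hWP : W ≤ centralizer (P : Set X) := by
    refine pxq hP2 hPp hWo (hcz ▸ hWw) (zpowers_le.2 (hPn hwC)) (hWz.trans hPn) ?_
    intro u hu
    rw [mem_centralizer_iff]
    intro d hd
    rw [hcz] at hd
    obtain ⟨hdP, hdw⟩ := mem_inf.1 hd
    have hdC : d ∈ C := map_subtype_le _ hdP
    have h1 : u * d * u⁻¹ * d⁻¹ ∈ W := by
      rw [show u * d * u⁻¹ * d⁻¹ = u * (d * u⁻¹ * d⁻¹) by group]
      exact mul_mem hu ((mem_normalizer_iff.1 (hn (mem_inf.2 ⟨hdC, hdw⟩)) _).1 (inv_mem hu))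
    have h2 : u * d * u⁻¹ * d⁻¹ ∈ P :=
      mul_mem ((mem_normalizer_iff.1 (hPn (hWz hu)) _).1 hdP) (inv_mem hdP)
    have h3 : u * d * u⁻¹ * d⁻¹ ∈ P ⊓ W := mem_inf.2 ⟨h2, h1⟩
    rw [coprime_pGroup_disjoint hPp hWo, mem_bot, mul_inv_eq_one, mul_inv_eq_iff_eq_mul] at h3
    exact h3.symm
  have hWle : W ≤ P := by
    intro u hu
    refine mem_map.2 ⟨⟨u, hWz hu⟩, hch (mem_centralizer_iff.2 fun d hd => Subtype.ext ?_), rfl⟩
    exact mem_centralizer_iff.1 (hWP hu) _ (mem_map_of_mem _ hd)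
  rw [← inf_eq_right.2 hWle]
  exact coprime_pGroup_disjoint hPp hWo

theorem O_inverted {w : X} (hw : w ∈ Y) {x : X} (hx : x ∈ O w) : z * x * z = x⁻¹ := by
  have hzw : z ∈ centralizer ({w} : Set X) :=
    mem_centralizer_singleton_iff.2 (comm_Y Y hY hzY hzc hzY hw)
  refine inverted (sq_eq Y hY hzY hzc hzY) (normalizes_O w hzw) ?_ hx
  refine signalizer_bot Y hY hzY hzc hw inf_le_right (inf_le_left.trans (O_le w))
    ((card_O w).coprime_dvd_left (card_dvd_of_le inf_le_left)) ?_
  exact Cfsg.Lib.Coprime.le_normalizer_inf (inf_le_right.trans (normalizes_O w))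
    (inf_le_left.trans le_normalizer)

theorem O_comm {w : X} (hw : w ∈ Y) {a b : X} (ha : a ∈ O w) (hb : b ∈ O w) : a * b = b * a :=
  comm_of_inverted (sq_eq Y hY hzY hzc hzY) (fun _ hx => O_inverted Y hY hzY hzc hw hx) ha hb

/-- Balance. -/
theorem balance {y w : X} (hy : y ∈ Y) (hw : w ∈ Y)
    (hE : Cfsg.layer ↥(centralizer ({w} : Set X)) = ⊥) {a : X} (ha : a ∈ O y)
    (haw : a ∈ centralizer ({w} : Set X)) : a ∈ O w := by
  classical
  haveI : Fact (Nat.Prime 2) := ⟨Nat.prime_two⟩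
  set C := centralizer ({w} : Set X) with hC
  set R := (Cfsg.pCore 2 C).map C.subtype with hR
  have hRp : IsPGroup 2 R := (isPGroup_pCore 2).map _
  have hRn : C ≤ normalizer (R : Set X) := normalizes_map _
  have hyC : y ∈ C := mem_centralizer_singleton_iff.2 (comm_Y Y hY hzY hzc hy hw)
  have hzC : z ∈ C := mem_centralizer_singleton_iff.2 (comm_Y Y hY hzY hzc hzY hw)
  have hzy : z ∈ centralizer ({y} : Set X) :=
    mem_centralizer_singleton_iff.2 (comm_Y Y hY hzY hzc hzY hy)
  set W := O y ⊓ C with hW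
  have hWo : (Nat.card W).Coprime 2 := (card_O y).coprime_dvd_left (card_dvd_of_le inf_le_left)
  have hP2 : IsPGroup 2 (zpowers y) := fun ⟨v, hv⟩ => ⟨1, Subtype.ext (by
    obtain ⟨k, rfl⟩ := mem_zpowers_iff.1 hv
    show (y ^ k) ^ (2 ^ 1) = 1
    rw [pow_one, ← zpow_natCast, ← zpow_mul, mul_comm, zpow_mul, zpow_natCast, hY.2 y hy, one_zpow])⟩
  have hcy : centralizer (zpowers y : Set X) = centralizer ({y} : Set X) :=
    Cfsg.Lib.Coprime.centralizer_zpowers y
  have hWR : W ≤ centralizer (R : Set X) := by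
    refine pxq hP2 hRp hWo (hcy ▸ (inf_le_left.trans (O_le y))) (zpowers_le.2 (hRn hyC))
      (inf_le_right.trans hRn) ?_
    intro u hu
    rw [mem_centralizer_iff]
    intro d hd
    rw [hcy] at hd
    obtain ⟨hdR, hdy⟩ := mem_inf.1 hd
    obtain ⟨huO, huC⟩ := mem_inf.1 hu
    have h1 : u * d * u⁻¹ * d⁻¹ ∈ O y := by
      rw [show u * d * u⁻¹ * d⁻¹ = u * (d * u⁻¹ * d⁻¹) by group]
      exact mul_mem huO ((mem_normalizer_iff.1 (normalizes_O y hdy) _).1 (inv_mem huO))
    have h2 : u * d * u⁻¹ * d⁻¹ ∈ R :=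
      mul_mem ((mem_normalizer_iff.1 (hRn huC) _).1 hdR) (inv_mem hdR)
    have h3 : u * d * u⁻¹ * d⁻¹ ∈ R ⊓ O y := mem_inf.2 ⟨h2, h1⟩
    rw [coprime_pGroup_disjoint hRp (card_O y), mem_bot, mul_inv_eq_one, mul_inv_eq_iff_eq_mul] at h3
    exact h3.symm
  have hzi : z⁻¹ = z := inv_eq_of_mul_eq_one_right (sq_eq Y hY hzY hzc hzY)
  have hza : z * a * z = a⁻¹ := O_inverted Y hY hzY hzc hy ha
  have haR : ∀ d ∈ R, d * a = a * d := fun d hd => mem_centralizer_iff.1 (hWR ⟨ha, haw⟩) d hd
  have haO : ∀ k ∈ O w, k * (a * a) = (a * a) * k := by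
    intro k hk
    set k' := a * k * a⁻¹ with hk'
    have hk'O : k' ∈ O w := (mem_normalizer_iff.1 (normalizes_O w haw) _).1 hk
    have h1 := O_inverted Y hY hzY hzc hw hk'O
    have h2 := O_inverted Y hY hzY hzc hw hk
    have h3 : z * k' * z = (z * a * z) * (z * k * z) * (z * a⁻¹ * z) := by
      calc z * k' * z = z * a * (z * z) * k * (z * z) * a⁻¹ * z := by
            rw [sq_eq Y hY hzY hzc hzY, hk', mul_one, mul_one]; group
        _ = _ := by group
    have hza' : z * a⁻¹ * z = a := by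
      rw [← hza]
      calc z * (z * a * z) * z = (z * z) * a * (z * z) := by group
        _ = a := by rw [sq_eq Y hY hzY hzc hzY, one_mul, mul_one]
    rw [h1, hza, h2, hza', hk'] at h3
    have h4 := congrArg (fun t => a * t⁻¹ * a) h3
    calc k * (a * a) = a * (a⁻¹ * k⁻¹ * a)⁻¹⁻¹⁻¹ * a := by group
      _ = a * (a * k * a⁻¹)⁻¹⁻¹ * a := by
          simp only [inv_inv] at h4 ⊢
          exact h4.symm
      _ = a * a * k := by group
  -- `a²` centralizes the Fitting subgroup of `C`
  have hF : centralizer (Cfsg.fittingSubgroup C : Set C) ≤ Cfsg.fittingSubgroup C :=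
    centralizer_fitting_le_iff.2 hE
  have hFle : Cfsg.fittingSubgroup C ≤ Cfsg.pCore 2 C ⊔ Cfsg.oddCore C := by
    rw [fitting_eq_iSup_pCore]
    refine iSup_le fun p => ?_
    by_cases hp : (p : ℕ) = 2
    · rw [hp]; exact le_sup_left
    · haveI := Fact.mk p.2
      obtain ⟨k, hk⟩ := IsPGroup.iff_card.mp (isPGroup_pCore (G := C) p.1)
      exact le_trans (le_pPrimeCore (by
        rw [hk]; exact Nat.Coprime.pow_left _ ((Nat.coprime_primes p.2 Nat.prime_two).mpr hp)))
        le_sup_right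
  have ha2 : (⟨a * a, mul_mem haw haw⟩ : C) ∈ Cfsg.pCore 2 C ⊔ Cfsg.oddCore C := by
    refine hFle (hF (mem_centralizer_iff.2 fun f hf => ?_))
    have hle : Cfsg.pCore 2 C ⊔ Cfsg.oddCore C ≤
        centralizer ({(⟨a * a, mul_mem haw haw⟩ : C)} : Set C) := by
      refine sup_le (fun r hr => ?_) (fun r hr => ?_) <;>
        refine mem_centralizer_singleton_iff.2 (Subtype.ext ?_)
      · show (r : X) * (a * a) = a * a * r
        rw [← mul_assoc, haR r ⟨r, hr, rfl⟩, mul_assoc, haR r ⟨r, hr, rfl⟩, mul_assoc]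
      · exact haO r ⟨r, hr, rfl⟩
    exact mem_centralizer_singleton_iff.1 (hle (hFle hf))
  obtain ⟨r, hr, k, hk, hrk⟩ := (mem_sup_of_normal_left (s := Cfsg.pCore 2 C)).1 ha2
  -- hence `a` lies in the core
  let π := QuotientGroup.mk' (Cfsg.oddCore C)
  obtain ⟨j, hj⟩ := isPGroup_pCore (G := C) 2 ⟨r, hr⟩
  set a' : C := ⟨a, haw⟩ with ha'
  have hao : a' ^ Nat.card (O y) = 1 := Subtype.ext (by
    show a ^ Nat.card (O y) = 1
    exact congrArg Subtype.val (pow_card_eq_one' (x := (⟨a, ha⟩ : O y))))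
  have h2j : π a' ^ (2 ^ (j + 1)) = 1 := by
    rw [pow_succ', pow_mul, ← map_pow π a' 2]
    have hsq : a' ^ 2 = r * k := by rw [pow_two, hrk]; rfl
    rw [hsq, map_mul, show π k = 1 from (QuotientGroup.eq_one_iff k).2 hk, mul_one, ← map_pow,
      show r ^ 2 ^ j = 1 from congrArg Subtype.val hj, map_one]
  have h1 : π a' = 1 := eq_one_of_pow ((card_O y).pow_right (j + 1))
    (by rw [← map_pow, hao, map_one]) h2j
  exact ⟨a', (QuotientGroup.eq_one_iff a').1 h1, rfl⟩

variable (h8 : 8 ≤ Nat.card Y)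
  (hE : ∀ x ∈ Y, x ≠ 1 → Cfsg.layer ↥(centralizer ({x} : Set X)) = ⊥)
include h8 hE

omit h8 in
/-- Simultaneous eigenvectors generate. -/
theorem eigen {y : X} (hy : y ∈ Y) : ∀ (l : List X), (∀ w ∈ l, w ∈ Y) → ∀ a ∈ O y,
    a ∈ closure {x : X | x ∈ O y ∧ ∀ w ∈ l, w * x * w = x ∨ w * x * w = x⁻¹} := by
  intro l
  induction l with
  | nil => exact fun _ a ha => subset_closure ⟨ha, fun w hw => absurd hw (List.not_mem_nil)⟩
  | cons w l ih =>
    intro hl a ha
    refine (closure_le _).2 ?_ (ih (fun v hv => hl v (List.mem_cons_of_mem _ hv)) a ha)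
    rintro x ⟨hxO, hx⟩
    have hwY := hl w List.mem_cons_self
    have hww := sq_eq Y hY hzY hzc hwY
    have hwi : w⁻¹ = w := inv_eq_of_mul_eq_one_right hww
    have hwC : w ∈ centralizer ({y} : Set X) :=
      mem_centralizer_singleton_iff.2 (comm_Y Y hY hzY hzc hwY hy)
    obtain ⟨x', hx'⟩ : ∃ x', x' = w * x * w := ⟨_, rfl⟩
    have hx'O : x' ∈ O y := by
      have := (mem_normalizer_iff.1 (normalizes_O y hwC) x).1 hxO
      rwa [hwi, ← hx'] at this
    have hwx' : w * x' * w = x := by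
      calc w * x' * w = (w * w) * x * (w * w) := by rw [hx']; group
        _ = x := by rw [hww, one_mul, mul_one]
    have hxx' : Commute x x' := O_comm Y hY hzY hzc hy hxO hx'O
    have hinv : ∀ u : X, w * u⁻¹ * w = (w * u * w)⁻¹ := fun u => inv_conj hww
    have hmul : ∀ u v : X, ∀ t : X, t * t = 1 → t * (u * v) * t = (t * u * t) * (t * v * t) :=
      fun u v t ht => by
        calc t * (u * v) * t = t * u * (t * t) * v * t := by rw [ht, mul_one]; group
          _ = _ := by group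
    have hlw : ∀ v ∈ l, v * x' * v = w * (v * x * v) * w := fun v hv => by
      have hc := comm_Y Y hY hzY hzc hwY (hl v (List.mem_cons_of_mem _ hv))
      calc v * x' * v = (v * w) * x * (w * v) := by rw [hx']; group
        _ = (w * v) * x * (v * w) := by rw [hc]
        _ = _ := by group
    have key : ∀ u ∈ ({x * x', x * x'⁻¹} : Set X),
        u ∈ {x : X | x ∈ O y ∧ ∀ v ∈ w :: l, v * x * v = x ∨ v * x * v = x⁻¹} := by
      intro u hu
      refine ⟨?_, fun v hv => ?_⟩
      · rcases hu with rfl | rfl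
        exacts [mul_mem hxO hx'O, mul_mem hxO (inv_mem hx'O)]
      rcases List.mem_cons.1 hv with rfl | hv
      · rcases hu with rfl | rfl
        · left; rw [hmul _ _ _ hww, hwx', ← hx', hxx'.eq]
        · right
          rw [hmul _ _ _ hww, hinv, hwx', ← hx', mul_inv_rev, inv_inv]
      · have hvY := hl v (List.mem_cons_of_mem _ hv)
        have hvv := sq_eq Y hY hzY hzc hvY
        have hvi : v⁻¹ = v := inv_eq_of_mul_eq_one_right hvv
        have hvinv : v * x'⁻¹ * v = (v * x' * v)⁻¹ := inv_conj hvv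
        rcases hx v hv with he | he <;> rcases hu with rfl | rfl
        · left; rw [hmul _ _ _ hvv, hlw v hv, he, ← hx']
        · left; rw [hmul _ _ _ hvv, hvinv, hlw v hv, he, ← hx']
        · right; rw [hmul _ _ _ hvv, hlw v hv, he, hinv, ← hx', mul_inv_rev]
          exact (hxx'.inv_inv).eq
        · right; rw [hmul _ _ _ hvv, hvinv, hlw v hv, he, hinv, ← hx', inv_inv, mul_inv_rev, inv_inv]
          exact (hxx'.inv_left).eq
    have hsq : x * x ∈ closure
        {x : X | x ∈ O y ∧ ∀ v ∈ w :: l, v * x * v = x ∨ v * x * v = x⁻¹} := by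
      have he : x * x = (x * x') * (x * x'⁻¹) := by
        calc x * x = x * (x * x') * x'⁻¹ := by group
          _ = x * (x' * x) * x'⁻¹ := by rw [hxx'.eq]
          _ = _ := by group
      rw [he]
      exact mul_mem (subset_closure (key _ (Or.inl rfl))) (subset_closure (Or.inr rfl |> key _))
    obtain ⟨m, hm⟩ := exists_pow_eq_self_of_coprime (n := 2) (x := x)
      ((card_O y).symm.coprime_dvd_right (Subgroup.orderOf_dvd_natCard _ hxO))
    rw [SetLike.mem_coe, ← hm, pow_two]
    exact pow_mem hsq m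

/-- The elements lying in all `O e`, `e` in some subgroup of index two of `Y`. -/
def Gens : Set X := {x | ∃ E : Subgroup X, E ≤ Y ∧ Nat.card Y ≤ 2 * Nat.card E ∧
  ∀ e ∈ E, e ≠ 1 → x ∈ O e}

omit h8 in
theorem O_le_gens {y : X} (hy : y ∈ Y) (hy1 : y ≠ 1) : O y ≤ closure (Gens Y) := by
  classical
  intro a ha
  haveI := Fintype.ofFinite Y
  let l : List X := (Finset.univ : Finset Y).toList.map Subtype.val
  have hl : ∀ w, w ∈ l ↔ w ∈ Y := fun w => by simp [l]
  refine (closure_le _).2 ?_ (eigen Y hY hzY hzc hE hy l (fun w hw => (hl w).1 hw) a ha)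
  rintro x ⟨hxO, hx⟩
  refine subset_closure ⟨Y ⊓ centralizer ({x} : Set X), inf_le_left, ?_, fun e he he1 => ?_⟩
  · set E := Y ⊓ centralizer ({x} : Set X) with hE'
    let f : E × Bool → Y := fun p => if p.2 then ⟨z * p.1, mul_mem hzY p.1.2.1⟩ else ⟨p.1, p.1.2.1⟩
    have hf : Function.Surjective f := by
      intro w
      by_cases hwx : (w : X) ∈ centralizer ({x} : Set X)
      · exact ⟨(⟨w, w.2, hwx⟩, false), Subtype.ext rfl⟩
      · have hinvw : (w : X) * x * w = x⁻¹ := (hx w ((hl w).2 w.2)).resolve_left fun h => hwx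
          (mem_centralizer_singleton_iff.2 (by
            calc (w : X) * x = (w * x * w) * w := by
                  rw [mul_assoc _ (w : X) (w : X), sq_eq Y hY hzY hzc w.2, mul_one]
              _ = x * w := by rw [h]))
        refine ⟨(⟨z * w, mul_mem hzY w.2, mem_centralizer_singleton_iff.2 ?_⟩, true),
          Subtype.ext ?_⟩
        · have hzx := O_inverted Y hY hzY hzc hy hxO
          have hwz := comm_Y Y hY hzY hzc hzY w.2
          have h1 : z * (w * x * w) * z = x := by
            rw [hinvw]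
            calc z * x⁻¹ * z = (z⁻¹ * x * z⁻¹)⁻¹ := by group
              _ = x := by rw [inv_eq_of_mul_eq_one_right (sq_eq Y hY hzY hzc hzY), hzx, inv_inv]
          calc z * w * x = z * w * x * (w * w) * (z * z) := by
                rw [sq_eq Y hY hzY hzc w.2, sq_eq Y hY hzY hzc hzY, mul_one, mul_one]
            _ = z * (w * x * w) * (w * z) * z := by group
            _ = z * (w * x * w) * (z * w) * z := by rw [hwz]
            _ = (z * (w * x * w) * z) * (w * z) := by group
            _ = x * (z * w) := by rw [h1, hwz]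
        · show z * (z * (w : X)) = w
          rw [← mul_assoc, sq_eq Y hY hzY hzc hzY, one_mul]
    have h := Nat.card_le_card_of_surjective f hf
    rw [Nat.card_prod, Nat.card_eq_fintype_card (α := Bool), Fintype.card_bool] at h
    omega
  · obtain ⟨heY, hec⟩ := mem_inf.1 he
    exact balance Y hY hzY hzc hy heY (hE e heY he1) hxO
      (mem_centralizer_singleton_iff.2 (mem_centralizer_singleton_iff.1 hec).symm)

theorem gens_comm {a b : X} (ha : a ∈ Gens Y) (hb : b ∈ Gens Y) : a * b = b * a := by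
  obtain ⟨E, hEY, hEc, hEa⟩ := ha
  obtain ⟨E', hE'Y, hE'c, hEb⟩ := hb
  obtain ⟨e, he, he1⟩ : ∃ e ∈ E ⊓ E', e ≠ 1 := by
    by_contra! hall
    let f : E × E' → Y := fun p => ⟨p.1 * p.2, mul_mem (hEY p.1.2) (hE'Y p.2.2)⟩
    have hf : Function.Injective f := by
      rintro ⟨a, b⟩ ⟨c, d⟩ h
      have h1 : (a : X) * b = c * d := congrArg Subtype.val h
      have h2 : (c : X)⁻¹ * a = (d : X) * (b : X)⁻¹ := by
        rw [eq_mul_inv_iff_mul_eq, mul_assoc, h1]; group
      have h3 : (c : X)⁻¹ * a = 1 := hall _ (mem_inf.2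
        ⟨mul_mem (inv_mem c.2) a.2, h2 ▸ mul_mem d.2 (inv_mem b.2)⟩)
      have h4 : (d : X) * (b : X)⁻¹ = 1 := h2 ▸ h3
      exact Prod.ext (Subtype.ext (inv_mul_eq_one.1 h3).symm)
        (Subtype.ext (mul_inv_eq_one.1 h4).symm)
    have h := Nat.card_le_card_of_injective f hf
    rw [Nat.card_prod] at h
    nlinarith
  exact O_comm Y hY hzY hzc (hEY he.1) (hEa e he.1 he1) (hEb e he.2 he1)

theorem odd_closure : Odd (Nat.card (closure (Gens Y))) := by
  haveI : IsMulCommutative (closure (Gens Y)) :=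
    isMulCommutative_closure fun a ha b hb => gens_comm Y hY hzY hzc h8 hE ha hb
  rw [← Nat.not_even_iff_odd, even_iff_two_dvd]
  intro h2
  haveI : Fact (Nat.Prime 2) := ⟨Nat.prime_two⟩
  obtain ⟨⟨t, ht⟩, hto⟩ := exists_prime_orderOf_dvd_card' (G := closure (Gens Y)) 2 h2
  rw [orderOf_mk] at hto
  have hall : t ∈ closure (Gens Y) ∧ Odd (orderOf t) := by
    refine ⟨ht, ?_⟩
    refine closure_induction (p := fun u _ => Odd (orderOf u)) ?_ ?_ ?_ ?_ ht
    · rintro u ⟨E, hEY, hEc, hEu⟩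
      obtain ⟨e, he, he1⟩ : ∃ e ∈ E, e ≠ 1 := by
        by_contra! hall
        rw [(eq_bot_iff_forall _).2 hall, card_bot] at hEc
        omega
      exact (Nat.coprime_two_right.1 (card_O e)).of_dvd_nat
        (Subgroup.orderOf_dvd_natCard _ (hEu e he he1))
    · simp
    · intro u v hu hv h1 h2
      exact (h1.mul h2).of_dvd_nat ((Commute.orderOf_mul_dvd_lcm (setLike_mul_comm hu hv)).trans
        (Nat.lcm_dvd_mul _ _))
    · intro u _ h
      rwa [orderOf_inv]
  rw [hto] at hall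
  exact absurd hall.2 (by decide)

end Main

theorem O_conj {n y : X} : (O y).map (MulAut.conj n).toMonoidHom ≤ O (n * y * n⁻¹) := by
  refine le_O ?_ ?_ ?_
  · rintro _ ⟨r, hr, rfl⟩
    have h := mem_centralizer_singleton_iff.1 (O_le y hr)
    refine mem_centralizer_singleton_iff.2 ?_
    show n * r * n⁻¹ * (n * y * n⁻¹) = n * y * n⁻¹ * (n * r * n⁻¹)
    calc n * r * n⁻¹ * (n * y * n⁻¹) = n * (r * y) * n⁻¹ := by group
      _ = n * (y * r) * n⁻¹ := by rw [h]
      _ = _ := by group
  · rw [card_map_of_injective (MulAut.conj n).injective]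
    exact card_O y
  · intro c hc
    have h := mem_centralizer_singleton_iff.1 hc
    have hc' : n⁻¹ * c * n ∈ centralizer ({y} : Set X) := mem_centralizer_singleton_iff.2 (by
      calc n⁻¹ * c * n * y = n⁻¹ * (c * (n * y * n⁻¹)) * n := by group
        _ = n⁻¹ * ((n * y * n⁻¹) * c) * n := by rw [h]
        _ = _ := by group)
    rw [mem_normalizer_iff]
    intro r
    simp only [mem_map, MulEquiv.coe_toMonoidHom, MulAut.conj_apply]
    constructor
    · rintro ⟨u, hu, rfl⟩
      exact ⟨_, (mem_normalizer_iff.1 (normalizes_O y hc') u).1 hu, by group⟩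
    · rintro ⟨u, hu, he⟩
      refine ⟨(n⁻¹ * c * n)⁻¹ * u * (n⁻¹ * c * n), ?_, ?_⟩
      · refine (mem_normalizer_iff.1 (normalizes_O y hc') _).2 ?_
        convert hu using 1
        group
      · calc n * ((n⁻¹ * c * n)⁻¹ * u * (n⁻¹ * c * n)) * n⁻¹ = c⁻¹ * (n * u * n⁻¹) * c := by group
          _ = r := by rw [he]; group

end Cfsg.Lib.Components.InvertedCores
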