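import Cfsg.Agent.InvolCalc.Dihedral
import Cfsg.Agent.Transfer.Basic
import Cfsg.Agent.Coprime.Basic
import Cfsg.Prelude.Def_LocalEven

/-!
Involvement of a dihedral group of order `2p`.
-/

set_option linter.style.haveILetI false
set_option linter.unusedSectionVars false

namespace Cfsg.Lib.InvolvesDihedral

open Subgroup

universe u

variable {G : Type u} [Group G] [Finite G] {p : ℕ} [hp : Fact p.Prime]

theorem exists_inverting (x : G) (P : Subgroup G) (hxo : ∃ k : ℕ, orderOf x = 2 ^ k) (hP : IsPGroup p P)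
    (hx : x ∈ normalizer (P : Set G)) (hxc : x ∉ centralizer (P : Set G)) :
    ∃ x y : G, (∃ k : ℕ, orderOf x = 2 ^ k) ∧ (∃ k : ℕ, orderOf y = p ^ k) ∧ y ≠ 1 ∧ x * y * x⁻¹ = y⁻¹ := by
  obtain ⟨k, hk⟩ := hxo
  have hex : ∃ j, x ^ 2 ^ j ∈ centralizer (P : Set G) := ⟨k, by rw [← hk, pow_orderOf_eq_one]; exact one_mem _⟩
  classical
  obtain ⟨j, hj⟩ : ∃ j, Nat.find hex = j + 1 := ⟨Nat.find hex - 1, by
    rcases Nat.eq_zero_or_pos (Nat.find hex) with h | h
    · have := Nat.find_spec hex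
      rw [h, pow_zero, pow_one] at this
      exact absurd this hxc
    · omega⟩
  set t := x ^ 2 ^ j
  have ht1 : t ∉ centralizer (P : Set G) := Nat.find_min hex (by omega)
  have ht2 : t * t ∈ centralizer (P : Set G) := by
    have := Nat.find_spec hex
    rw [hj, pow_succ, pow_mul, sq] at this
    exact this
  rw [mem_centralizer_iff] at ht1
  push Not at ht1
  obtain ⟨u, hu, hne⟩ := ht1
  have htP : t ∈ normalizer (P : Set G) := pow_mem hx _
  refine ⟨t, t * u * t⁻¹ * u⁻¹, ?_, ?_, ?_, ?_⟩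
  · obtain ⟨i, -, hi⟩ := (Nat.dvd_prime_pow Nat.prime_two).1 (hk ▸ orderOf_pow_dvd (x := x) (2 ^ j))
    exact ⟨i, hi⟩
  · obtain ⟨i, hi⟩ := IsPGroup.iff_orderOf.1 hP ⟨_, mul_mem ((mem_normalizer_iff.1 htP u).1 hu) (inv_mem hu)⟩
    exact ⟨i, by rw [Subgroup.orderOf_mk] at hi; exact hi⟩
  · rw [Ne, mul_inv_eq_one, mul_inv_eq_iff_eq_mul]
    exact fun e => hne e.symm
  · have h2 : t * t * u = u * (t * t) := (mem_centralizer_iff.1 ht2 u hu).symm
    calc t * (t * u * t⁻¹ * u⁻¹) * t⁻¹ = (t * t * u) * t⁻¹ * u⁻¹ * t⁻¹ := by group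
      _ = (t * u * t⁻¹ * u⁻¹)⁻¹ := by rw [h2]; group

theorem involves_of_inverting (hp2 : p ≠ 2) (x y : G) (hy : ∃ k : ℕ, orderOf y = p ^ k)
    (hy1 : y ≠ 1) (hxy : x * y * x⁻¹ = y⁻¹) :
    Cfsg.Involves (DihedralGroup p) G := by
  obtain ⟨z, hz, hzo, hxz⟩ : ∃ z : G, z ≠ 1 ∧ orderOf z = p ∧ x * z * x⁻¹ = z⁻¹ := by
    obtain ⟨k, hk⟩ := hy
    rcases k with _ | k
    · exact absurd (orderOf_eq_one_iff.1 (by simpa using hk)) hy1
    refine ⟨y ^ p ^ k, ?_, ?_, ?_⟩
    · intro h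
      have := Nat.le_of_dvd (pow_pos hp.out.pos k) (hk ▸ orderOf_dvd_of_pow_eq_one h)
      exact absurd this (Nat.pow_lt_pow_right hp.out.one_lt (Nat.lt_succ_self k)).not_ge
    · rw [orderOf_pow' y (pow_ne_zero k hp.out.pos.ne'), hk, Nat.gcd_eq_right (pow_dvd_pow p k.le_succ),
        pow_succ, Nat.mul_div_cancel_left _ (pow_pos hp.out.pos k)]
    · rw [← conj_pow, hxy, inv_pow]
  set K := closure ({x, z} : Set G)
  have hxK : x ∈ K := subset_closure (Set.mem_insert x _)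
  have hzK : z ∈ K := subset_closure (Set.mem_insert_of_mem x rfl)
  have hx2z : x ^ 2 * z = z * x ^ 2 := by
    have h1 : x * z⁻¹ * x⁻¹ = z := by rw [← inv_inj, ← conj_inv, inv_inv, hxz]
    calc x ^ 2 * z = x * (x * z * x⁻¹) * x⁻¹ * x ^ 2 := by rw [sq]; group
      _ = z * x ^ 2 := by rw [hxz, h1]
  set R := zpowers (x ^ 2)
  have hRc : K ≤ centralizer (R : Set G) := by
    rw [closure_le]
    rintro g (rfl | rfl) <;> refine mem_centralizer_iff.2 fun r hr => ?_
    · obtain ⟨i, rfl⟩ := mem_zpowers_iff.1 hr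
      exact ((Commute.pow_self g 2).zpow_left i).eq
    · obtain ⟨i, rfl⟩ := mem_zpowers_iff.1 hr
      exact ((show Commute (x ^ 2) g from hx2z).zpow_left i).eq
  haveI hn : (R.subgroupOf K).Normal := normal_subgroupOf_of_le_normalizer (hRc.trans (centralizer_le_normalizer _))
  refine ⟨K, R, hn, ?_⟩
  set π := QuotientGroup.mk' (R.subgroupOf K)
  set X := π ⟨x, hxK⟩
  set Z := π ⟨z, hzK⟩
  have hZo : orderOf Z = p := by
    refine orderOf_eq_prime ?_ fun h => hz ?_
    · rw [← map_pow, show (⟨z, hzK⟩ : K) ^ p = 1 from Subtype.ext (by rw [← hzo]; exact pow_orderOf_eq_one z), map_one]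
    · have h1 : z ∈ R := (QuotientGroup.eq_one_iff (N := R.subgroupOf K) _).1 h
      have h2 : x * z * x⁻¹ = z := by
        obtain ⟨i, rfl⟩ := mem_zpowers_iff.1 h1
        rw [((Commute.pow_self x 2).zpow_left i).eq.symm, mul_inv_cancel_right]
      have h3 : z * z = 1 := mul_eq_one_iff_eq_inv.2 (h2.symm.trans hxz)
      have h4 := orderOf_dvd_of_pow_eq_one (show z ^ 2 = 1 by rw [sq, h3])
      rw [hzo] at h4
      exact absurd ((Nat.prime_dvd_prime_iff_eq hp.out Nat.prime_two).1 h4) hp2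
  have hXX : X * X = 1 := by
    rw [← map_mul]
    exact (QuotientGroup.eq_one_iff (N := R.subgroupOf K) _).2 (show x * x ∈ R from ⟨1, by simp [sq]⟩)
  have hXZ : X * Z * X⁻¹ = Z⁻¹ := by
    rw [← map_inv, ← map_inv, ← map_mul, ← map_mul]
    congr 1
    exact Subtype.ext hxz
  have hX1 : X ≠ 1 := fun h => by
    rw [h, one_mul, inv_one, mul_one] at hXZ
    have h4 := orderOf_dvd_of_pow_eq_one (show Z ^ 2 = 1 by rw [sq]; exact mul_eq_one_iff_eq_inv.2 hXZ)
    rw [hZo] at h4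
    exact absurd ((Nat.prime_dvd_prime_iff_eq hp.out Nat.prime_two).1 h4) hp2
  have hXi : X⁻¹ = X := inv_eq_of_mul_eq_one_right hXX
  have hW : (X * Z) * (X * Z) = 1 := by
    rw [hXi] at hXZ
    rw [show X * Z * (X * Z) = (X * Z * X) * Z by group, hXZ, inv_mul_cancel]
  have hne : X ≠ X * Z := fun h => by
    have hZ1 : Z = 1 := mul_eq_left.1 h.symm
    rw [hZ1, orderOf_one] at hZo
    exact hp.out.ne_one hZo.symm
  have hW1 : X * Z ≠ 1 := fun h => by
    have hZX : Z = X := by rw [← hXi]; exact eq_inv_of_mul_eq_one_right h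
    have h4 := orderOf_dvd_of_pow_eq_one (show Z ^ 2 = 1 by rw [sq, hZX, hXX])
    rw [hZo] at h4
    exact absurd ((Nat.prime_dvd_prime_iff_eq hp.out Nat.prime_two).1 h4) hp2
  obtain ⟨e⟩ := Cfsg.Lib.InvolCalc.exists_dihedral_equiv (Cfsg.Lib.InvolCalc.order_two_of_mul_self hXX hX1)
    (Cfsg.Lib.InvolCalc.order_two_of_mul_self hW hW1) hne
  have htop : closure ({X, X * Z} : Set (K ⧸ R.subgroupOf K)) = ⊤ := by
    rw [eq_top_iff]
    rintro q -
    obtain ⟨⟨g, hg⟩, rfl⟩ := QuotientGroup.mk'_surjective _ q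
    have hXm : X ∈ closure ({X, X * Z} : Set (K ⧸ R.subgroupOf K)) := subset_closure (Set.mem_insert X _)
    have hZm : Z ∈ closure ({X, X * Z} : Set (K ⧸ R.subgroupOf K)) := by
      simpa using mul_mem (inv_mem hXm) (subset_closure (Set.mem_insert_of_mem X (rfl : X * Z = X * Z)))
    induction hg using closure_induction with
    | mem w hw =>
      rcases hw with rfl | rfl
      · exact hXm
      · exact hZm
    | one => exact (map_one π).symm ▸ one_mem _
    | mul a b ha hb h1 h2 =>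
      show π (⟨a, ha⟩ * ⟨b, hb⟩) ∈ _
      rw [map_mul]; exact mul_mem h1 h2
    | inv a ha h1 =>
      show π (⟨a, ha⟩⁻¹) ∈ _
      rw [map_inv]; exact inv_mem h1
  rw [show orderOf (X * (X * Z)) = p by rw [← mul_assoc, hXX, one_mul, hZo]] at e
  exact ⟨(Subgroup.topEquiv.symm.trans (MulEquiv.subgroupCongr htop.symm)).trans e⟩

theorem exists_of_involves (h : Cfsg.Involves (DihedralGroup p) G) (hp2 : p ≠ 2) :
    ∃ (x : G) (P : Subgroup G), (∃ k : ℕ, orderOf x = 2 ^ k) ∧ IsPGroup p ↥P ∧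
      x ∈ normalizer (P : Set G) ∧ x ∉ centralizer (P : Set G) := by
  obtain ⟨K, R, hn, ⟨e⟩⟩ := h
  haveI := hn
  let f : K →* DihedralGroup p := e.toMonoidHom.comp (QuotientGroup.mk' (R.subgroupOf K))
  have hf : Function.Surjective f := e.surjective.comp (QuotientGroup.mk'_surjective _)
  haveI : NeZero p := ⟨hp.out.pos.ne'⟩
  set C : Subgroup (DihedralGroup p) := zpowers (DihedralGroup.r 1)
  have hC : ∀ i : ZMod p, DihedralGroup.r i ∈ C := fun i =>
    mem_zpowers_iff.2 ⟨(i.val : ℤ), by simp⟩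
  have hCr : ∀ d ∈ C, ∃ i : ZMod p, d = DihedralGroup.r i := fun d hd => by
    obtain ⟨k, rfl⟩ := mem_zpowers_iff.1 hd
    exact ⟨(k : ZMod p), by simp⟩
  haveI : C.Normal := ⟨fun d hd g => by
    obtain ⟨i, rfl⟩ := hCr d hd
    rcases g with j | j
    · simpa using hC i
    · simpa using hC (-i)⟩
  set N := C.comap f
  obtain ⟨P⟩ := (inferInstance : Nonempty (Sylow p N))
  set P' := (P : Subgroup N).map N.subtype
  have hPC : P'.map f = C := by
    refine eq_of_le_of_card_ge ?_ ?_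
    · rintro _ ⟨_, ⟨a, -, rfl⟩, rfl⟩
      exact a.2
    · have hsub : Function.Surjective (f.subgroupComap C) := fun c => by
        obtain ⟨k, hk⟩ := hf c
        exact ⟨⟨k, show f k ∈ C from hk ▸ c.2⟩, Subtype.ext hk⟩
      let P₁ := P.mapSurjective hsub
      have hle : Nat.card C ∣ Nat.card (P₁ : Subgroup C) := by
        rw [P₁.card_eq_multiplicity, Nat.card_zpowers, DihedralGroup.orderOf_r_one, hp.out.factorization_self, pow_one]
      refine (Nat.le_of_dvd Nat.card_pos hle).trans (le_of_eq ?_)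
      rw [← card_map_of_injective C.subtype_injective]
      congr 1
      rw [show P'.map f = ((P₁ : Subgroup C)).map C.subtype by
        show ((P : Subgroup N).map N.subtype).map f = ((P : Subgroup N).map (f.subgroupComap C)).map C.subtype
        rw [Subgroup.map_map, Subgroup.map_map]; rfl]
  haveI : N.Normal := inferInstance
  have hFr := Sylow.normalizer_sup_eq_top P
  obtain ⟨k₀, hk₀⟩ := hf (DihedralGroup.sr 0)
  obtain ⟨g, hg, n, hn', e0⟩ := mem_sup_of_normal_right.1 (hFr.ge (mem_top k₀))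
  have hgN : g ∉ N := fun h => by
    have h1 : k₀ ∈ N := by rw [← e0]; exact mul_mem h hn'
    obtain ⟨i, hi⟩ := hCr _ (show f k₀ ∈ C from h1)
    rw [hk₀] at hi
    cases hi
  obtain ⟨a, b, ha, hb, hab, hao, hbo⟩ := Cfsg.Lib.Transfer.exists_pPart 2 g
  have hbN : b ∈ N := by
    show f b ∈ C
    rcases hfb : f b with i | i
    · exact hC i
    · exfalso
      have h1 := orderOf_map_dvd f b
      rw [hfb, DihedralGroup.orderOf_sr] at h1
      exact (Nat.Prime.coprime_iff_not_dvd Nat.prime_two).1 hbo.symm h1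
  have haN : a ∉ N := fun h => hgN (hab ▸ mul_mem h hbN)
  refine ⟨a, P'.map K.subtype, ?_, (P.2.map N.subtype).map K.subtype, ?_, fun hac => ?_⟩
  · obtain ⟨k, hk⟩ := hao
    exact ⟨k, by rwa [Subgroup.orderOf_coe]⟩
  · exact le_normalizer_map K.subtype (mem_map_of_mem K.subtype (zpowers_le.2 hg ha))
  · rcases hfa : f a with i | i
    · exact haN (show f a ∈ C from hfa ▸ hC i)
    · obtain ⟨u, hu, hur⟩ := hPC.ge (hC 1)
      have h1 : u * a = a * u := Subtype.ext (mem_centralizer_iff.1 hac u ⟨u, hu, rfl⟩)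
      have h2 := congrArg f h1
      rw [map_mul, map_mul, hfa, hur, DihedralGroup.r_mul_sr, DihedralGroup.sr_mul_r] at h2
      have h3 : i - 1 = i + 1 := DihedralGroup.sr.inj h2
      have h4 : ((2 : ℕ) : ZMod p) = 0 := by linear_combination -h3
      rw [ZMod.natCast_eq_zero_iff] at h4
      exact absurd ((Nat.prime_dvd_prime_iff_eq hp.out Nat.prime_two).1 h4) hp2

theorem involves_dihedral_iff (hp2 : p ≠ 2) :
    (Cfsg.Involves (DihedralGroup p) G ↔ ∃ (x : G) (P : Subgroup G), (∃ k : ℕ, orderOf x = 2 ^ k) ∧ IsPGroup p ↥P ∧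
        x ∈ normalizer (P : Set G) ∧ x ∉ centralizer (P : Set G)) ∧
      (Cfsg.Involves (DihedralGroup p) G ↔ ∃ x y : G, (∃ k : ℕ, orderOf x = 2 ^ k) ∧ (∃ k : ℕ, orderOf y = p ^ k) ∧
        y ≠ 1 ∧ x * y * x⁻¹ = y⁻¹) := by
  refine ⟨⟨fun h => exists_of_involves h hp2, ?_⟩, ⟨fun h => ?_, ?_⟩⟩
  · rintro ⟨x, P, h1, h2, h3, h4⟩
    obtain ⟨x', y, -, hy, hy1, hxy⟩ := exists_inverting x P h1 h2 h3 h4
    exact involves_of_inverting hp2 x' y hy hy1 hxy
  · obtain ⟨x, P, h1, h2, h3, h4⟩ := exists_of_involves h hp2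
    exact exists_inverting x P h1 h2 h3 h4
  · rintro ⟨x, y, -, hy, hy1, hxy⟩
    exact involves_of_inverting hp2 x y hy hy1 hxy

end Cfsg.Lib.InvolvesDihedral
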