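import Cfsg.Agent.Components.Misc.Isolated
import Cfsg.Agent.Frobenius.Kernel
import Cfsg.Agent.Transfer.Frobenius
import Cfsg.Prelude.Def_IsolatedElements

/-!
An isolated `p`-element centralizing the `p'`-subgroups it normalizes is central.
-/

set_option linter.style.haveILetI false
set_option linter.unusedSectionVars false

namespace Cfsg.Lib.Misc.IsolatedCentralizing

open Subgroup

universe u

theorem central : ∀ (n : ℕ) {G : Type u} [Group G] [Finite G], Nat.card G ≤ n →
    ∀ {p : ℕ} [Fact p.Prime] (x : G), IsPGroup p (zpowers x) → Cfsg.IsIsolated x →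
    (∀ H : Subgroup G, (Nat.card H).Coprime p → (∀ h ∈ H, x * h * x⁻¹ ∈ H) → ∀ h ∈ H, x * h = h * x) →
    x ∈ Subgroup.center G := by
  intro n
  induction n with
  | zero =>
    intro G _ _ h
    exact absurd h Nat.card_pos.not_ge
  | succ n ih =>
  intro G _ _ hcard p _ x hxp hiso hb
  have heq : ∀ g : G, Commute x (g * x * g⁻¹) → g * x = x * g := fun g hg =>
    mul_inv_eq_iff_eq_mul.1 (hiso g hg)
  set C := centralizer ({x} : Set G) with hC
  have hprop : ∀ M : Subgroup G, x ∈ M → M ≠ ⊤ → M ≤ C := by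
    intro M hxM hM
    have hlt : Nat.card M < Nat.card G :=
      lt_of_le_of_ne (card_le_card_group M) fun e => hM ((card_eq_iff_eq_top M).1 e)
    have hxpM : IsPGroup p (zpowers (⟨x, hxM⟩ : M)) := by
      obtain ⟨k, hk⟩ := IsPGroup.iff_card.1 hxp
      exact IsPGroup.of_card (n := k) (by rw [Nat.card_zpowers, Subgroup.orderOf_mk, ← Nat.card_zpowers, hk])
    have hz := ih (G := M) (p := p) (by omega) ⟨x, hxM⟩ hxpM
      (fun g hg => Subtype.ext (hiso g (congrArg Subtype.val hg))) (fun K hK hKx k hk =>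
        Subtype.ext (hb (K.map M.subtype)
          (by rw [card_map_of_injective M.subtype_injective]; exact hK)
          (by rintro _ ⟨a, ha, rfl⟩; exact ⟨_, hKx a ha, rfl⟩) k ⟨k, hk, rfl⟩))
    exact fun m hm => mem_centralizer_singleton_iff.2 (congrArg Subtype.val (mem_center_iff.1 hz ⟨m, hm⟩))
  by_contra hxZ
  have hCtop : C ≠ ⊤ := fun h => hxZ (mem_center_iff.2 fun g =>
    mem_centralizer_singleton_iff.1 (h.ge (mem_top g)))
  set Z := Subgroup.center G with hZ
  set q := QuotientGroup.mk' Z with hq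
  have hZC : Z ≤ C := fun z hz => mem_centralizer_singleton_iff.2 (mem_center_iff.1 hz x).symm
  have hxC : x ∈ C := mem_centralizer_singleton_iff.2 rfl
  have hcom : (C.map q).comap q = C := by
    rw [comap_map_eq, hq, QuotientGroup.ker_mk', sup_eq_left.2 hZC]
  have hF : Cfsg.IsFrobeniusComplement (C.map q) := by
    refine ⟨fun h => hxZ ?_, fun h => hCtop ?_, fun g hg => ?_⟩
    · have h1 : q x ∈ C.map q := mem_map_of_mem q hxC
      rw [h, mem_bot] at h1
      exact (QuotientGroup.eq_one_iff x).1 h1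
    · rw [← hcom, h, comap_top]
    · rw [eq_bot_iff_forall]
      rintro _ ⟨⟨a, ha, rfl⟩, hb'⟩
      by_contra hne
      have haZ : a ∉ Z := fun h => hne ((QuotientGroup.eq_one_iff a).2 h)
      obtain ⟨g, rfl⟩ := QuotientGroup.mk'_surjective Z g
      obtain ⟨_, ⟨b, hbC, rfl⟩, hbe⟩ := hb'
      have hbe' : q (g * b * g⁻¹) = q a := by
        rw [map_mul, map_mul, map_inv]
        exact hbe
      obtain ⟨z, hz, hza⟩ := (QuotientGroup.mk'_eq_mk' Z).1 hbe'
      have hCa : centralizer ({a} : Set G) ≤ C := by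
        refine hprop _ (mem_centralizer_singleton_iff.2 (mem_centralizer_singleton_iff.1 ha).symm) fun h => ?_
        exact haZ (mem_center_iff.2 fun y => mem_centralizer_singleton_iff.1 (h.ge (mem_top y)))
      have hgx : g * x * g⁻¹ ∈ C := by
        refine hCa (mem_centralizer_singleton_iff.2 ?_)
        have hcb : b * x = x * b := mem_centralizer_singleton_iff.1 hbC
        have hzc : ∀ y, y * z = z * y := mem_center_iff.1 hz
        rw [← hza]
        calc g * x * g⁻¹ * (g * b * g⁻¹ * z) = g * (x * b) * g⁻¹ * z := by group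
          _ = g * (b * x) * g⁻¹ * z := by rw [hcb]
          _ = g * b * g⁻¹ * ((g * x * g⁻¹) * z) := by group
          _ = g * b * g⁻¹ * (z * (g * x * g⁻¹)) := by rw [hzc]
          _ = _ := by group
      apply hg
      exact mem_map_of_mem q (mem_centralizer_singleton_iff.2
        (heq g (mem_centralizer_singleton_iff.1 hgx).symm))
  obtain ⟨K, -, hKn, hKc⟩ := Cfsg.Lib.Frobenius.exists_kernel hF
  haveI := hKn
  set N := K.comap q with hN
  have hcopK : (Nat.card K).Coprime p := by
    refine (Nat.Coprime.symm ((Fact.out : p.Prime).coprime_iff_not_dvd.2 fun hd => ?_))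
    -- a `p`-element of `K` would commute with a conjugate of `x`
    obtain ⟨⟨k, hk⟩, hko⟩ := exists_prime_orderOf_dvd_card' (G := K) p hd
    rw [Subgroup.orderOf_mk] at hko
    have hkp : IsPGroup p (zpowers k) := IsPGroup.of_card (n := 1) (by rw [Nat.card_zpowers, hko, pow_one])
    have hcop : (Nat.card K).Coprime (Nat.card (C.map q)) := by
      rw [← hKc.index_eq_card]
      exact Nat.Coprime.coprime_dvd_right (Cfsg.Lib.Frobenius.card_dvd_card_kernel_sub_one hF)
        ((Nat.coprime_self_sub_right (Nat.pos_of_ne_zero (Subgroup.index_ne_zero_of_finite))).2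
          (Nat.coprime_one_right _))
    have h1 : p ∣ Nat.card (C.map q) := by
      have hxo : orderOf (q x) ∣ Nat.card (C.map q) := Subgroup.orderOf_dvd_natCard _ (mem_map_of_mem q hxC)
      obtain ⟨i, hi⟩ := IsPGroup.iff_card.1 hxp
      rw [Nat.card_zpowers] at hi
      obtain ⟨j, -, hj⟩ := (Nat.dvd_prime_pow (Fact.out : p.Prime)).1 (hi ▸ orderOf_map_dvd q x)
      rcases Nat.eq_zero_or_pos j with rfl | hj0
      · rw [pow_zero, orderOf_eq_one_iff] at hj
        exact absurd ((QuotientGroup.eq_one_iff x).1 hj) hxZ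
      · rw [hj] at hxo
        exact (dvd_pow_self p hj0.ne').trans hxo
    exact (Fact.out : p.Prime).ne_one (Nat.eq_one_of_dvd_coprimes hcop hd h1)
  have hNPC : Cfsg.HasNormalPComplement p N := by
    refine Cfsg.Lib.Transfer.hasNormalPComplement_of_frobenius fun Q hQ g _ _ a ha => ?_
    have haK : q a ∈ K := a.2
    obtain ⟨k, hk⟩ := hQ ⟨a, ha⟩
    have hak : (a : G) ^ p ^ k = 1 := congrArg (fun t : Q => ((t : N) : G)) hk
    have hqa : q a = 1 := by
      have h1 : orderOf (q a) ∣ p ^ k := orderOf_dvd_of_pow_eq_one (by rw [← map_pow, hak, map_one])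
      have h2 : orderOf (q a) ∣ Nat.card K := Subgroup.orderOf_dvd_natCard _ haK
      exact orderOf_eq_one_iff.1 (Nat.eq_one_of_dvd_coprimes (hcopK.symm.pow_left k) h1 h2)
    exact Subtype.ext (mem_center_iff.1 ((QuotientGroup.eq_one_iff (a : G)).1 hqa) g).symm
  obtain ⟨L, hL, hLc, i, hi⟩ := Cfsg.Lib.Transfer.hasNormalPComplement_iff.1 hNPC
  have hmemL := fun a : N => Cfsg.Lib.Transfer.mem_iff_coprime_orderOf hLc hi a
  have hNn : N.Normal := inferInstance
  have hLx : ∀ l ∈ L.map N.subtype, x * l = l * x := by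
    refine hb _ (by rw [card_map_of_injective N.subtype_injective]; exact hLc) ?_
    rintro _ ⟨a, ha, rfl⟩
    refine ⟨⟨_, hNn.conj_mem a a.2 x⟩, (hmemL _).2 ?_, rfl⟩
    rw [Subgroup.orderOf_mk,
      show x * (a : G) * x⁻¹ = MulAut.conj x (a : G) from rfl, MulEquiv.orderOf_eq, Subgroup.orderOf_coe]
    exact (hmemL _).1 ha
  have hNC : N ≤ C := by
    intro a ha
    have hq1 : (q a) ^ Nat.card K = 1 := orderOf_dvd_iff_pow_eq_one.1 (Subgroup.orderOf_dvd_natCard _ ha)
    have haZ : a ^ Nat.card K ∈ C := hZC ((QuotientGroup.eq_one_iff _).1 (by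
      rw [← map_pow] at hq1; exact hq1))
    have haL : a ^ p ^ i ∈ C := by
      refine mem_centralizer_singleton_iff.2 (hLx _ ⟨(⟨a, ha⟩ : N) ^ p ^ i, ?_, rfl⟩).symm
      rw [← hi]
      exact pow_index_mem L _
    obtain ⟨u, v, huv⟩ : ∃ u v : ℤ, (1 : ℤ) = (Nat.card K : ℤ) * u + ((p ^ i : ℕ) : ℤ) * v := by
      refine ⟨Nat.gcdA (Nat.card K) (p ^ i), Nat.gcdB (Nat.card K) (p ^ i), ?_⟩
      rw [← Nat.gcd_eq_gcd_ab, (hcopK.pow_right i).gcd_eq_one, Nat.cast_one]
    rw [← zpow_one a, huv, zpow_add, zpow_mul, zpow_mul, zpow_natCast, zpow_natCast]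
    exact mul_mem (zpow_mem haZ u) (zpow_mem haL v)
  have hKH : K ≤ C.map q := fun k hk => by
    obtain ⟨a, rfl⟩ := QuotientGroup.mk'_surjective Z k
    exact mem_map_of_mem q (hNC hk)
  have hKbot : K = ⊥ := by
    rw [← inf_eq_left.2 hKH]
    exact hKc.disjoint.eq_bot
  rw [hKbot, isComplement'_bot_left] at hKc
  exact hF.2.1 hKc

end Cfsg.Lib.Misc.IsolatedCentralizing
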