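import Cfsg.Agent.Components.Misc.PMinimalComp
import Cfsg.Prelude.Def_Amalgam

/-!
The `p`-minimal subgroups over a Sylow subgroup generate `O^{p'}`.
-/

set_option linter.style.haveILetI false
set_option linter.unusedSectionVars false

namespace Cfsg.Lib.PMinimalGen

open Subgroup
open scoped Pointwise

universe u

variable {G : Type u} [Group G] [Finite G] {p : ℕ} [hp : Fact p.Prime]

theorem le_join_normalizer_rel (S : Sylow p G) (J : Subgroup G) (X : Subgroup G)
    (hJ : ∀ P : Subgroup G, (S : Subgroup G) ≤ P → P ≤ X → Cfsg.IsPMinimal p P → P ≤ J)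
    (hX : (S : Subgroup G) ≤ X) : X ≤ J ⊔ normalizer ((S : Subgroup G) : Set G) := by
  induction X using (wellFounded_lt (α := Subgroup G)).induction with
  | _ X ih =>
    set T : Sylow p X := S.subtype hX
    have hT : (T : Subgroup X) = (S : Subgroup G).subgroupOf X := rfl
    by_cases hn : (T : Subgroup X).Normal
    · rw [hT, normal_subgroupOf_iff_le_normalizer hX] at hn
      exact hn.trans le_sup_right
    obtain ⟨M₁, hM₁, hle⟩ := (eq_top_or_exists_le_coatom (T : Subgroup X)).resolve_left fun h => hn (h ▸ inferInstance)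
    by_cases hu : ∀ M₂ : Subgroup X, IsCoatom M₂ → (T : Subgroup X) ≤ M₂ → M₂ = M₁
    · exact (hJ X hX le_rfl (Cfsg.Lib.PMinimalComp.isPMinimal_of_one T hn
        ⟨M₁, ⟨hM₁, hle⟩, fun M hM => hu M hM.1 hM.2⟩)).trans le_sup_left
    push Not at hu
    obtain ⟨M₂, hM₂, hle₂, hne⟩ := hu
    have htop : M₁ ⊔ M₂ = ⊤ := hM₁.2 _ (lt_of_le_of_ne le_sup_left fun e =>
      ((hM₂.le_iff.1 (le_sup_right.trans e.ge)).elim (fun h => hM₁.1 h) fun h => hne h.symm))
    have step : ∀ M : Subgroup X, IsCoatom M → (T : Subgroup X) ≤ M →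
        M.map X.subtype ≤ J ⊔ normalizer ((S : Subgroup G) : Set G) := fun M hM hTM => by
      refine ih _ (lt_of_le_of_ne (map_subtype_le M) fun h => hM.1 (map_injective X.subtype_injective ?_))
        (fun P h1 h2 => hJ P h1 (h2.trans (map_subtype_le M))) ?_
      · rw [h, ← MonoidHom.range_eq_map, range_subtype]
      · exact fun x hx => ⟨⟨x, hX hx⟩, hTM hx, rfl⟩
    intro x hx
    have h1 := mem_map_of_mem X.subtype (htop.ge (mem_top (⟨x, hx⟩ : X)))
    rw [Subgroup.map_sup] at h1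
    exact (sup_le (step M₁ hM₁ hle) (step M₂ hM₂ hle₂) :
      M₁.map X.subtype ⊔ M₂.map X.subtype ≤ J ⊔ normalizer ((S : Subgroup G) : Set G)) h1

theorem le_join_normalizer (S : Sylow p G) (J : Subgroup G)
    (hJ : ∀ P : Subgroup G, (S : Subgroup G) ≤ P → Cfsg.IsPMinimal p P → P ≤ J) (X : Subgroup G)
    (hX : (S : Subgroup G) ≤ X) : X ≤ J ⊔ normalizer ((S : Subgroup G) : Set G) :=
  le_join_normalizer_rel S J X (fun P h1 _ => hJ P h1) hX

theorem generation (S : Sylow p G) :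
    (S : Subgroup G) ⊔ (⨆ P : {P : Subgroup G // (S : Subgroup G) ≤ P ∧ Cfsg.IsPMinimal p ↥P}, (P : Subgroup G)) =
        Cfsg.pElementClosure p (⊤ : Subgroup G) ∧
      (∀ g : G, ∃ x ∈ Cfsg.pElementClosure p (⊤ : Subgroup G),
        ∃ y ∈ normalizer ((S : Subgroup G) : Set G), g = x * y) := by
  set N := normalizer ((S : Subgroup G) : Set G)
  set ι := {P : Subgroup G // (S : Subgroup G) ≤ P ∧ Cfsg.IsPMinimal p ↥P}
  set J := (S : Subgroup G) ⊔ ⨆ P : ι, (P : Subgroup G)
  have hNJ : N ≤ normalizer (J : Set G) := fun n hn => by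
    refine Cfsg.Lib.SolvStruct.mem_normalizer_of_conj_smul_le ?_
    rw [Cfsg.Lib.SolvStruct.conj_smul_eq_map, Subgroup.map_sup, Subgroup.map_iSup]
    have hS : (S : Subgroup G).map (MulAut.conj n).toMonoidHom = (S : Subgroup G) := mem_normalizer_iff_map_conj_eq.1 hn
    refine sup_le_sup (le_of_eq hS) (iSup_le fun P => ?_)
    let e : (P : Subgroup G) ≃* ↥((P : Subgroup G).map (MulAut.conj n).toMonoidHom) :=
      (P : Subgroup G).equivMapOfInjective _ (MulEquiv.injective _)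
    refine le_iSup_of_le (⟨_, hS.ge.trans (map_mono P.2.1), ?_⟩ : ι) le_rfl
    obtain ⟨hn1, hu⟩ := P.2.2 (S.subtype P.2.1)
    refine Cfsg.Lib.PMinimalComp.isPMinimal_of_one
      ((S.subtype P.2.1).mapSurjective (f := e.toMonoidHom) e.surjective) (fun h => hn1 ?_) ?_
    · have h2 : (((S.subtype P.2.1 : Sylow p (P : Subgroup G)) : Subgroup (P : Subgroup G)).map e.toMonoidHom).comap e.toMonoidHom
          = (S.subtype P.2.1 : Sylow p (P : Subgroup G)) := comap_map_eq_self_of_injective e.injective _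
      rw [← h2]
      exact Normal.comap h _
    · obtain ⟨M, ⟨hM, hSM⟩, huniq⟩ := hu
      refine ⟨e.mapSubgroup M, ⟨(e.mapSubgroup.isCoatom_iff M).2 hM, e.mapSubgroup.monotone hSM⟩, ?_⟩
      rintro M' ⟨hM', hS'⟩
      rw [← huniq (e.mapSubgroup.symm M') ⟨(e.mapSubgroup.symm.isCoatom_iff M').2 hM',
        e.mapSubgroup.le_symm_apply.2 hS'⟩, OrderIso.apply_symm_apply]
  have htop : J ⊔ N = ⊤ := top_le_iff.1 (le_join_normalizer S J
    (fun P h1 h2 => le_sup_of_le_right (le_iSup_of_le (⟨P, h1, h2⟩ : ι) le_rfl)) ⊤ le_top)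
  haveI : J.Normal := normalizer_eq_top_iff.1 (top_le_iff.1 (htop.ge.trans (sup_le le_normalizer hNJ)))
  set C := Cfsg.pElementClosure p (⊤ : Subgroup G)
  haveI : C.Normal := ⟨fun x hx g => by
    have h : C.map (MulAut.conj g).toMonoidHom ≤ C := by
      rw [show C = closure {x : G | x ∈ (⊤ : Subgroup G) ∧ ∃ k : ℕ, orderOf x = p ^ k} from rfl,
        MonoidHom.map_closure, closure_le]
      rintro _ ⟨y, ⟨-, k, hk⟩, rfl⟩
      exact subset_closure ⟨mem_top _, k, by rw [← hk]; exact MulEquiv.orderOf_eq (MulAut.conj g) y⟩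
    exact h ⟨x, hx, rfl⟩⟩
  have hSC : (S : Subgroup G) ≤ C := fun x hx => by
    obtain ⟨k, hk⟩ := IsPGroup.iff_orderOf.1 S.2 ⟨x, hx⟩
    exact subset_closure ⟨mem_top x, k, by rwa [Subgroup.orderOf_mk] at hk⟩
  have heq : J = C := by
    refine le_antisymm (sup_le hSC (iSup_le fun P => ?_)) ((closure_le J).2 ?_)
    · have h1 := Cfsg.Lib.YMin.eq_top_of_normal (Cfsg.Lib.PMinimal.isMinimalOver P.2.2 (S.subtype P.2.1))
        (X := C.subgroupOf (P : Subgroup G)) normal_subgroupOf (fun x hx => hSC hx)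
      exact subgroupOf_eq_top.1 h1
    · rintro x ⟨-, k, hk⟩
      have hxp : IsPGroup p (zpowers x) := IsPGroup.of_card (by rw [Nat.card_zpowers, hk])
      obtain ⟨S', hS'⟩ := hxp.exists_le_sylow
      obtain ⟨g, rfl⟩ := MulAction.exists_smul_eq G S S'
      have h1 := hS' (mem_zpowers x)
      rw [Cfsg.Lib.Transfer.sylow_smul_coe] at h1
      obtain ⟨y, hy, rfl⟩ := h1
      exact (inferInstance : J.Normal).conj_mem y (mem_sup_left hy) g
  refine ⟨heq, fun g => ?_⟩
  rw [← heq]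
  obtain ⟨x, hx, y, hy, e⟩ := mem_sup_of_normal_left.1 (htop.ge (mem_top g))
  exact ⟨x, hx, y, hy, e.symm⟩

end Cfsg.Lib.PMinimalGen
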