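import Cfsg.Agent.Components.Misc.BenderLeads
import Cfsg.Agent.Components.Misc.PMinimalGen
import Cfsg.Agent.Coprime.MaximalInvariant
import Cfsg.Agent.Coprime.Generation
import Cfsg.Agent.Coprime.Fitting
import Cfsg.Agent.ClassSize.Basic
import Cfsg.Agent.PGroups.Basic
import Cfsg.Agent.Transfer.Tate

/-!
An isolated `p`-minimal subgroup: the normal closure of its `p`-residual is either the residual
itself or semisimple modulo its `p`-core.
-/

set_option autoImplicit false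
set_option linter.unusedSectionVars false
set_option linter.style.haveILetI false

namespace Cfsg.Lib.Misc.IsolatedPMin

open Subgroup Cfsg.Lib.Components Cfsg.Lib.Misc.BenderPair Cfsg.Lib.Misc.BenderLeads
open scoped commutatorElement

universe u

variable {G : Type u} [Group G] [Finite G] {p : ℕ} [Fact p.Prime]

/-- the residual of a subgroup -/
abbrev res (p : ℕ) (P : Subgroup G) : Subgroup G := (Cfsg.pResidual p ↥P).map P.subtype

/-- the hypotheses -/
structure Hyp (S : Sylow p G) (P L Y : Subgroup G) : Prop where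
  hSP : (S : Subgroup G) ≤ P
  hmin : Cfsg.IsPMinimal p ↥P
  hL : L = normalizer ((S : Subgroup G) : Set G) ⊔
    ⨆ P' : {P' : Subgroup G // (S : Subgroup G) ≤ P' ∧ Cfsg.IsPMinimal p ↥P' ∧ P' ≠ P}, (P' : Subgroup G)
  hiso : ¬ (Cfsg.pCore p ↥L).map L.subtype ≤ (Cfsg.pCore p ↥P).map P.subtype
  hY : Y = normalClosure ((res p P : Subgroup G) : Set G)

variable {S : Sylow p G} {P L Y : Subgroup G}

theorem Hyp.S_le_L (h : Hyp S P L Y) : (S : Subgroup G) ≤ L := by
  rw [h.hL]; exact le_normalizer.trans le_sup_left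

theorem Hyp.NS_le_L (h : Hyp S P L Y) : normalizer ((S : Subgroup G) : Set G) ≤ L := by
  rw [h.hL]; exact le_sup_left

theorem Hyp.le_L_of_not_le (h : Hyp S P L Y) (X : Subgroup G) :
    (S : Subgroup G) ≤ X → ¬ P ≤ X → X ≤ L := by
  induction X using (wellFounded_lt (α := Subgroup G)).induction with
  | _ X ih =>
    intro hX hPX
    set T : Sylow p X := S.subtype hX
    have hT : (T : Subgroup X) = (S : Subgroup G).subgroupOf X := rfl
    by_cases hn : (T : Subgroup X).Normal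
    · rw [hT, normal_subgroupOf_iff_le_normalizer hX] at hn
      exact hn.trans h.NS_le_L
    obtain ⟨M₁, hM₁, hle⟩ := (eq_top_or_exists_le_coatom (T : Subgroup X)).resolve_left fun e => hn (e ▸ inferInstance)
    by_cases hu : ∀ M₂ : Subgroup X, IsCoatom M₂ → (T : Subgroup X) ≤ M₂ → M₂ = M₁
    · rw [h.hL]
      refine le_sup_of_le_right (le_iSup_of_le ⟨X, hX, Cfsg.Lib.PMinimalComp.isPMinimal_of_one T hn
        ⟨M₁, ⟨hM₁, hle⟩, fun M hM => hu M hM.1 hM.2⟩, fun e => hPX e.ge⟩ le_rfl)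
    push Not at hu
    obtain ⟨M₂, hM₂, hle₂, hne⟩ := hu
    have htop : M₁ ⊔ M₂ = ⊤ := hM₁.2 _ (lt_of_le_of_ne le_sup_left fun e =>
      ((hM₂.le_iff.1 (le_sup_right.trans e.ge)).elim (fun h => hM₁.1 h) fun h => hne h.symm))
    have step : ∀ M : Subgroup X, IsCoatom M → (T : Subgroup X) ≤ M → M.map X.subtype ≤ L := fun M hM hTM => by
      refine ih _ (lt_of_le_of_ne (map_subtype_le M) fun e => hM.1 (map_injective X.subtype_injective ?_))
        (fun x hx => ⟨⟨x, hX hx⟩, hTM hx, rfl⟩) fun hP => hPX (hP.trans (map_subtype_le M))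
      rw [e, ← MonoidHom.range_eq_map, range_subtype]
    intro x hx
    have h1 := mem_map_of_mem X.subtype (htop.ge (mem_top (⟨x, hx⟩ : X)))
    rw [Subgroup.map_sup] at h1
    exact (sup_le (step M₁ hM₁ hle) (step M₂ hM₂ hle₂) : M₁.map X.subtype ⊔ M₂.map X.subtype ≤ L) h1

theorem Hyp.Q_le_S (h : Hyp S P L Y) : cr p L ≤ (S : Subgroup G) := by
  have h1 := map_mono (f := L.subtype) (Cfsg.Lib.Coprime.pCore_le_sylow p (S.subtype h.S_le_L))
  rwa [show ((S.subtype h.S_le_L : Sylow p L) : Subgroup L) = (S : Subgroup G).subgroupOf L from rfl,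
    map_subgroupOf_eq_of_le h.S_le_L] at h1

theorem le_crP {P X : Subgroup G} (hX : IsPGroup p X) (hXP : X ≤ P) (hn : P ≤ normalizer (X : Set G)) :
    X ≤ cr p P := by
  haveI : (X.subgroupOf P).Normal := normal_subgroupOf_of_le_normalizer hn
  have h1 := map_mono (f := P.subtype) (le_pCore (hX.comap_of_injective P.subtype P.subtype_injective) :
    X.subgroupOf P ≤ pCore p P)
  rwa [map_subgroupOf_eq_of_le hXP] at h1

theorem Hyp.not_P_le_L (h : Hyp S P L Y) : ¬ P ≤ L := fun hle =>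
  h.hiso (le_crP (isPGroup_cr L) (h.Q_le_S.trans h.hSP) (hle.trans (cr_normalizer p L)))

theorem Hyp.P_le (h : Hyp S P L Y) : P ≤ res p P ⊔ (S : Subgroup G) := by
  have h1 := map_mono (f := P.subtype) (Cfsg.Lib.Transfer.pResidual_sup_sylow (S.subtype h.hSP)).ge
  rwa [← MonoidHom.range_eq_map, range_subtype, Subgroup.map_sup,
    show ((S.subtype h.hSP : Sylow p P) : Subgroup P) = (S : Subgroup G).subgroupOf P from rfl,
    map_subgroupOf_eq_of_le h.hSP] at h1

theorem res_le_of {P U : Subgroup G} (S : Sylow p G) (hSU : (S : Subgroup G) ≤ normalizer (U : Set G))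
    (hP : P ≤ U ⊔ (S : Subgroup G)) : res p P ≤ U := by
  refine map_le_iff_le_comap.mpr ((closure_le _).2 fun x hx => ?_)
  exact Cfsg.Lib.PIrr.coprime_mem S.2 hSU (hP x.2) (by rw [Subgroup.coe_subtype, Subgroup.orderOf_coe]; exact hx)

theorem Hyp.rule (h : Hyp S P L Y) {U : Subgroup G} (hSU : (S : Subgroup G) ≤ normalizer (U : Set G)) :
    res p P ≤ U ∨ U ≤ L := by
  by_cases hP : P ≤ U ⊔ (S : Subgroup G)
  · exact Or.inl (res_le_of S hSU hP)
  · exact Or.inr (le_sup_left.trans (h.le_L_of_not_le _ le_sup_right hP))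

theorem Hyp.not_res_le_L (h : Hyp S P L Y) : ¬ res p P ≤ L := fun hle =>
  h.not_P_le_L (h.P_le.trans (sup_le hle h.S_le_L))

theorem Hyp.res_le_closure (h : Hyp S P L Y) :
    res p P ≤ normalClosure ((cr p L : Subgroup G) : Set G) := by
  set X := normalClosure ((cr p L : Subgroup G) : Set G)
  set T : Sylow p P := S.subtype h.hSP
  obtain ⟨-, M, ⟨hM, hTM⟩, -⟩ := h.hmin T
  haveI : (X.subgroupOf P).Normal := normal_subgroupOf
  rcases Cfsg.Lib.PMinimal.not_le_normal h.hmin T M hM hTM (X.subgroupOf P) with h1 | h1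
  · exact (map_mono h1).trans (by rw [subgroupOf_map_subtype]; exact inf_le_left)
  exfalso
  apply h.hiso
  have h2 := (Cfsg.Lib.PMinimal.pminimal_props h.hmin T M hM hTM).1 (X.subgroupOf P)
    (Normal.isSubnormal inferInstance) (h1.trans (normalCore_le M))
  intro x hx
  have hxS := h.Q_le_S hx
  exact ⟨⟨x, h.hSP hxS⟩, h2 ⟨subset_normalClosure hx, hxS⟩, rfl⟩

theorem Hyp.Y_normal (h : Hyp S P L Y) : Y.Normal := h.hY ▸ normalClosure_normal

theorem Hyp.res_le_Y (h : Hyp S P L Y) : res p P ≤ Y := h.hY ▸ fun _ hx => subset_normalClosure hx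

theorem Hyp.Y_le_of (h : Hyp S P L Y) {N : Subgroup G} [N.Normal] (hN : res p P ≤ N) : Y ≤ N := by
  rw [h.hY]; exact normalClosure_le_normal hN

theorem Hyp.sup_eq_top (h : Hyp S P L Y) : Y ⊔ L = ⊤ := by
  have h1 := Cfsg.Lib.PMinimalGen.le_join_normalizer S (Y ⊔ L) (fun P' h1 h2 => by
    by_cases e : P' = P
    · rw [e]; exact h.P_le.trans (sup_le_sup h.res_le_Y h.S_le_L)
    · refine le_sup_of_le_right ?_
      rw [h.hL]
      exact le_sup_of_le_right (le_iSup_of_le ⟨P', h1, h2, e⟩ le_rfl)) ⊤ le_top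
  exact top_le_iff.mp (h1.trans (sup_le le_rfl (h.NS_le_L.trans le_sup_right)))

/-- a normal subgroup not over `Y` -/
theorem Hyp.normal_props (h : Hyp S P L Y) (N : Subgroup G) [hN : N.Normal] (hN' : ¬ res p P ≤ N) :
    N ≤ L ∧ ⁅N, cr p L⁆ ≤ pCore p G := by
  have hNL : N ≤ L := (h.rule (normalizer_eq_top_iff.mpr hN ▸ le_top)).resolve_left hN'
  refine ⟨hNL, ?_⟩
  set I := cr p L ⊓ N
  have h1 : ⁅N, cr p L⁆ ≤ I := le_inf
    (by rw [commutator_comm]; exact le_normalizer_iff_commutator_le_left.mp (hNL.trans (cr_normalizer p L)))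
    (le_normalizer_iff_commutator_le_left.mp (normalizer_eq_top_iff.mpr hN ▸ le_top))
  refine h1.trans (le_pCore_of_subnormal (isSubnormal_of_normal_in hN.isSubnormal inf_le_right ?_)
    ((isPGroup_cr L).to_le inf_le_left))
  exact fun g hg => inf_normalizer_le_normalizer_inf ⟨cr_normalizer p L (hNL hg), le_normalizer hg⟩

/-! ### modulo `O_p(G)` -/

local notation "π" => QuotientGroup.mk' (Cfsg.pCore p G)

theorem surj : Function.Surjective (π) := QuotientGroup.mk'_surjective _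

theorem Hyp.R_le_S (_h : Hyp S P L Y) : pCore p G ≤ (S : Subgroup G) := Cfsg.Lib.Coprime.pCore_le_sylow p S

theorem Hyp.comap_L (h : Hyp S P L Y) : (L.map (π)).comap (π) = L := by
  rw [comap_map_eq, QuotientGroup.ker_mk', sup_eq_left]
  exact h.R_le_S.trans h.S_le_L

theorem Hyp.bar_sup (h : Hyp S P L Y) : Y.map (π) ⊔ L.map (π) = ⊤ := by
  rw [← Subgroup.map_sup, h.sup_eq_top, map_top_of_surjective _ (QuotientGroup.mk'_surjective _)]

theorem Hyp.not_res_le (h : Hyp S P L Y) : ¬ (res p P).map (π) ≤ L.map (π) := fun hle =>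
  h.not_res_le_L (by rw [← h.comap_L]; exact map_le_iff_le_comap.mp hle)

theorem Hyp.bar_not_le (h : Hyp S P L Y) : ¬ Y.map (π) ≤ L.map (π) := fun hle =>
  h.not_res_le ((map_mono h.res_le_Y).trans hle)

theorem Hyp.bar_rule (h : Hyp S P L Y) {U : Subgroup (G ⧸ pCore p G)}
    (hU : (S : Subgroup G).map (π) ≤ normalizer (U : Set (G ⧸ pCore p G))) :
    (res p P).map (π) ≤ U ∨ U ≤ L.map (π) := by
  have hS : (S : Subgroup G) ≤ normalizer ((U.comap (π) : Subgroup G) : Set G) := by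
    intro s hs
    rw [mem_normalizer_iff]
    intro x
    rw [mem_comap, mem_comap, map_mul, map_mul, map_inv]
    exact mem_normalizer_iff.mp (hU (mem_map_of_mem _ hs)) _
  rcases h.rule hS with h1 | h1
  · exact Or.inl (map_le_iff_le_comap.mpr h1)
  · right
    rw [← map_comap_eq_self_of_surjective (QuotientGroup.mk'_surjective (pCore p G)) U]
    exact map_mono h1

/-- a normal subgroup of the quotient not over `Ȳ` -/
theorem Hyp.bar_normal (h : Hyp S P L Y) (X : Subgroup (G ⧸ pCore p G)) [X.Normal]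
    (hX : ¬ Y.map (π) ≤ X) :
    X ≤ L.map (π) ∧ ⁅X, Y.map (π)⁆ = ⊥ ∧ ⁅X, (cr p L).map (π)⁆ = ⊥ := by
  have hN : ¬ res p P ≤ X.comap (π) := fun hle => hX (map_le_iff_le_comap.mpr (h.Y_le_of hle))
  obtain ⟨h1, h2⟩ := h.normal_props (X.comap (π)) hN
  have hmap := map_comap_eq_self_of_surjective (QuotientGroup.mk'_surjective (pCore p G)) X
  have h3 : ⁅X, (cr p L).map (π)⁆ = ⊥ := by
    rw [← hmap, ← map_commutator, Subgroup.map_eq_bot_iff, QuotientGroup.ker_mk']
    exact h2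
  refine ⟨by rw [← hmap]; exact map_mono h1, ?_, h3⟩
  have h4 : cr p L ≤ (centralizer (X : Set (G ⧸ pCore p G))).comap (π) :=
    map_le_iff_le_comap.mp (commutator_eq_bot_iff_le_centralizer.mp (by rw [commutator_comm]; exact h3))
  haveI : (centralizer (X : Set (G ⧸ pCore p G))).Normal := inferInstance
  have h5 : Y ≤ (centralizer (X : Set (G ⧸ pCore p G))).comap (π) :=
    (h.Y_le_of h.res_le_closure).trans (normalClosure_le_normal h4)
  rw [commutator_comm, commutator_eq_bot_iff_le_centralizer]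
  exact map_le_iff_le_comap.mpr h5

theorem Hyp.barQ_not_central (h : Hyp S P L Y) : ⁅Y.map (π), (cr p L).map (π)⁆ ≠ ⊥ := by
  intro hc
  have hL : L.map (π) ≤ normalizer (((cr p L).map (π) : Subgroup _) : Set (G ⧸ pCore p G)) :=
    (map_mono (cr_normalizer p L)).trans (le_normalizer_map _)
  have hY' : Y.map (π) ≤ normalizer (((cr p L).map (π) : Subgroup _) : Set (G ⧸ pCore p G)) :=
    (commutator_eq_bot_iff_le_centralizer.mp hc).trans (centralizer_le_normalizer _)
  have hn : ((cr p L).map (π)).Normal :=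
    normalizer_eq_top_iff.mp (top_le_iff.mp (h.bar_sup.ge.trans (sup_le hY' hL)))
  have h1 : (cr p L).map (π) ≤ pCore p (G ⧸ pCore p G) := le_pCore ((isPGroup_cr L).map _)
  rw [← Cfsg.Lib.PIrr.map_pCore_quotient (pCore p G) (isPGroup_pCore p), QuotientGroup.map_mk'_self,
    le_bot_iff, Subgroup.map_eq_bot_iff, QuotientGroup.ker_mk'] at h1
  exact h.hiso (h1.trans (le_crP (isPGroup_pCore p) (h.R_le_S.trans h.hSP)
    ((normalizer_eq_top_iff.mpr (pCore_normal' (G := G) p)).ge.trans' le_top)))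

theorem Hyp.bar_normal_Y (h : Hyp S P L Y) : (Y.map (π)).Normal :=
  h.Y_normal.map _ (QuotientGroup.mk'_surjective _)

theorem Hyp.comm_eq (h : Hyp S P L Y) (hcop : ¬ p ∣ Nat.card ↥(Y.map (π))) :
    ⁅Y.map (π), (cr p L).map (π)⁆ = Y.map (π) := by
  haveI := h.bar_normal_Y
  set qY := Y.map (π)
  set qQ := (cr p L).map (π)
  set D := ⁅qY, qQ⁆
  have hDn : D.Normal := by
    refine normalizer_eq_top_iff.mp (top_le_iff.mp (h.bar_sup.ge.trans
      (sup_le (Cfsg.Lib.Coprime.le_normalizer_commutator_left qQ qY) fun g hg => ?_)))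
    have hLQ : L.map (π) ≤ normalizer (qQ : Set (G ⧸ pCore p G)) :=
      (map_mono (cr_normalizer p L)).trans (le_normalizer_map _)
    rw [mem_normalizer_iff_map_conj_eq, map_commutator,
      mem_normalizer_iff_map_conj_eq.mp ((normalizer_eq_top_iff.mpr h.bar_normal_Y).ge (mem_top g)),
      mem_normalizer_iff_map_conj_eq.mp (hLQ hg)]
  have hDY : D ≤ qY := le_normalizer_iff_commutator_le_left.mp (normalizer_eq_top_iff.mpr h.bar_normal_Y ▸ le_top)
  by_contra hne
  obtain ⟨-, -, h3⟩ := h.bar_normal D (fun hle => hne (le_antisymm hDY hle))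
  refine h.barQ_not_central ?_
  have hQp : IsPGroup p qQ := (isPGroup_cr L).map _
  haveI := hQp.isNilpotent
  rw [← Cfsg.Lib.Coprime.commutator_commutator_eq (normalizer_eq_top_iff.mpr h.bar_normal_Y ▸ le_top) ?_
    (Or.inl inferInstance)]
  · exact h3
  · obtain ⟨n, hn⟩ := IsPGroup.iff_card.mp hQp
    rw [hn]
    exact ((Nat.Prime.coprime_iff_not_dvd Fact.out).mpr hcop).pow_left n

theorem Hyp.bar_ne_bot (h : Hyp S P L Y) : Y.map (π) ≠ ⊥ := fun hb =>
  h.bar_not_le (hb ▸ bot_le)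

theorem normal_map_char {H : Type*} [Group H] (N : Subgroup H) [N.Normal] (X : Subgroup N) [X.Characteristic] :
    (X.map N.subtype).Normal := ConjAct.normal_of_characteristic_of_normal

/-- the abelian-by-central case -/
theorem Hyp.nilpotent_case (h : Hyp S P L Y) (hlt : ⁅Y.map (π), Y.map (π)⁆ ≠ Y.map (π)) :
    res p P = Y ∧ ∃ t : ℕ, t.Prime ∧ t ≠ p ∧ IsPGroup t ↥(Y.map (π)) ∧
      ⁅⁅Y.map (π), Y.map (π)⁆, Y.map (π)⁆ = ⊥ := by
  haveI := h.bar_normal_Y
  set qY := Y.map (π) with hqY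
  set qQ := (cr p L).map (π)
  set qL := L.map (π)
  set qS := (S : Subgroup G).map (π)
  set W := (res p P).map (π)
  have hcle : ⁅qY, qY⁆ ≤ qY := commutator_le_self qY
  obtain ⟨hc1, hc2, -⟩ := h.bar_normal ⁅qY, qY⁆ (fun hle => hlt (le_antisymm hcle hle))
  haveI hnil : Group.IsNilpotent ↥qY := class_two_nilpotent hc2
  have hfit : (fittingSubgroup ↥qY).map qY.subtype = qY := by
    have : fittingSubgroup ↥qY = ⊤ :=
      top_le_iff.mp (le_fitting (Group.nilpotent_of_mulEquiv Subgroup.topEquiv.symm))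
    rw [this, ← MonoidHom.range_eq_map, range_subtype]
  have hcrn : ∀ s : ℕ, (cr s qY).Normal := fun s => normal_map_char qY (pCore s ↥qY)
  have hp : cr p qY = ⊥ := by
    haveI := hcrn p
    have h1 : cr p qY ≤ pCore p (G ⧸ pCore p G) := le_pCore (isPGroup_cr qY)
    rwa [← Cfsg.Lib.PIrr.map_pCore_quotient (pCore p G) (isPGroup_pCore p), QuotientGroup.map_mk'_self,
      le_bot_iff] at h1
  have hpdvd : ¬ p ∣ Nat.card ↥qY := by
    intro hd
    refine (dvd_fitting_iff (M := qY)).mp ?_ hp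
    rwa [show fittingSubgroup ↥qY = ⊤ from
      map_injective qY.subtype_injective (by rw [hfit, ← MonoidHom.range_eq_map, range_subtype]), card_top]
  have hWY : W ≤ qY := map_mono h.res_le_Y
  have hSn : qS ≤ normalizer (qY : Set (G ⧸ pCore p G)) := normalizer_eq_top_iff.mpr h.bar_normal_Y ▸ le_top
  obtain ⟨t, ht, htL⟩ : ∃ t : ℕ, t.Prime ∧ ¬ cr t qY ≤ qL := by
    by_contra hcon
    push Not at hcon
    exact h.bar_not_le (hfit.ge.trans (fitting_le_of_cr qY _ hcon))
  haveI := Fact.mk ht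
  have htp : t ≠ p := fun e => htL (by rw [e, hp]; exact bot_le)
  set T := cr t qY with hT
  haveI := hcrn t
  have hWT : W ≤ T := (h.bar_rule (normalizer_eq_top_iff.mpr (hcrn t) ▸ le_top)).resolve_right htL
  have hothers : ∀ s : ℕ, s.Prime → cr s qY ≤ T ⊔ centralizer (qQ : Set (G ⧸ pCore p G)) := by
    intro s hs
    haveI := Fact.mk hs
    by_cases hst : s = t
    · subst hst; exact le_sup_left
    refine le_sup_of_le_right ?_
    haveI := hcrn s
    have hsL : cr s qY ≤ qL := by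
      refine (h.bar_rule (normalizer_eq_top_iff.mpr (hcrn s) ▸ le_top)).resolve_left fun hWs => h.not_res_le ?_
      exact (le_inf hWs hWT).trans
        ((IsPGroup.disjoint_of_ne s t hst _ _ (isPGroup_cr qY) (isPGroup_cr qY)).le_bot.trans bot_le)
    exact commutator_eq_bot_iff_le_centralizer.mp
      (h.bar_normal _ (fun hle => h.bar_not_le (hle.trans hsL))).2.2
  have hYT : qY = T := by
    refine le_antisymm ?_ (cr_le t qY)
    refine (h.comm_eq hpdvd).ge.trans ?_
    rw [commutator_le]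
    intro y hy q hq
    obtain ⟨τ, hτ, c, hc, rfl⟩ := mem_sup_of_normal_left.mp
      ((hfit.ge.trans (fitting_le_of_cr qY _ hothers)) hy)
    have hcq : q * c = c * q := hc q hq
    have e : ⁅τ * c, q⁆ = τ * (q * τ⁻¹ * q⁻¹) := by
      rw [commutatorElement_def, mul_inv_rev]
      calc τ * c * q * (c⁻¹ * τ⁻¹) * q⁻¹ = τ * (c * q) * c⁻¹ * τ⁻¹ * q⁻¹ := by group
        _ = τ * (q * c) * c⁻¹ * τ⁻¹ * q⁻¹ := by rw [hcq]
        _ = _ := by group
    rw [e]
    exact mul_mem hτ ((hcrn t).conj_mem _ (inv_mem hτ) q)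
  have htY : IsPGroup t ↥qY := by rw [hYT]; exact isPGroup_cr qY
  set Z := qL ⊓ qY with hZdef
  have hLn : qL ≤ normalizer (Z : Set (G ⧸ pCore p G)) := fun g hg =>
    inf_normalizer_le_normalizer_inf ⟨le_normalizer hg, (normalizer_eq_top_iff.mpr h.bar_normal_Y).ge (mem_top g)⟩
  have hYn : qY ≤ normalizer (Z : Set (G ⧸ pCore p G)) := by
    refine le_normalizer_iff_commutator_le_left.mpr (le_inf ?_ ?_)
    · exact (commutator_mono inf_le_right le_rfl).trans hc1
    · exact (commutator_mono inf_le_right le_rfl).trans hcle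
  haveI hZn : Z.Normal := normalizer_eq_top_iff.mp (top_le_iff.mp (h.bar_sup.ge.trans (sup_le hYn hLn)))
  have hZp : ¬ qY ≤ Z := fun hle => h.bar_not_le (hle.trans inf_le_left)
  obtain ⟨-, -, hZQ⟩ := h.bar_normal Z hZp
  have hcomm : ⁅qY, qY⁆ ≤ Z := le_inf hc1 hcle
  have hpow : ∀ y ∈ qY, y ^ t ∈ Z := by
    intro y hy
    haveI : ((frattini ↥qY).map qY.subtype).Normal := normal_map_char qY _
    haveI : Nontrivial ↥qY := (Subgroup.nontrivial_iff_ne_bot _).mpr h.bar_ne_bot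
    have hF : ¬ qY ≤ (frattini ↥qY).map qY.subtype := by
      intro hle
      obtain ⟨M, hM, -⟩ := (eq_top_or_exists_le_coatom (⊥ : Subgroup ↥qY)).resolve_left bot_ne_top
      refine hM.1 (top_le_iff.mp (le_trans ?_ (frattini_le_coatom hM)))
      intro z _
      obtain ⟨z', hz', e⟩ := hle z.2
      rwa [show z = z' from Subtype.ext e.symm]
    have h1 := Cfsg.Lib.PGroups.pow_mem_frattini htY ⟨y, hy⟩
    exact le_inf (h.bar_normal _ hF).1 (map_subtype_le _) (mem_map_of_mem qY.subtype h1)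
  set π2 := QuotientGroup.mk' Z
  set V := qY.map π2 with hV
  haveI hVn : V.Normal := Normal.map inferInstance _ (QuotientGroup.mk'_surjective Z)
  have hVc : ∀ x y : V, x * y = y * x := by
    rintro ⟨_, a, ha, rfl⟩ ⟨_, b, hb, rfl⟩
    refine Subtype.ext ?_
    show π2 a * π2 b = π2 b * π2 a
    rw [← commutatorElement_eq_one_iff_mul_comm, ← map_commutatorElement]
    exact (QuotientGroup.eq_one_iff _).mpr (hcomm (commutator_mem_commutator ha hb))
  have hVe : ∀ x : V, x ^ t = 1 := by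
    rintro ⟨_, a, ha, rfl⟩
    refine Subtype.ext ?_
    show π2 a ^ t = 1
    rw [← map_pow]
    exact (QuotientGroup.eq_one_iff _).mpr (hpow a ha)
  have hWS : qS ≤ normalizer (W : Set (G ⧸ pCore p G)) := by
    refine (map_mono ?_).trans (le_normalizer_map _)
    refine h.hSP.trans fun g hg => ?_
    rw [mem_normalizer_iff]
    have key : ∀ g ∈ P, ∀ x ∈ res p P, g * x * g⁻¹ ∈ res p P := by
      rintro g hg _ ⟨y, hy, rfl⟩
      exact ⟨⟨g, hg⟩ * y * ⟨g, hg⟩⁻¹, (inferInstance : (Cfsg.pResidual p ↥P).Normal).conj_mem y hy _, rfl⟩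
    refine fun x => ⟨key g hg x, fun hx => ?_⟩
    have := key g⁻¹ (inv_mem hg) _ hx
    simpa [mul_assoc] using this
  let σ : ↥qS →* MulAut ↥V :=
    ((MulAut.conjNormal : ((G ⧸ pCore p G) ⧸ Z) →* MulAut ↥V).comp π2).comp qS.subtype
  have hWV : ∀ a, ∀ x ∈ (W.map π2).subgroupOf V, σ a x ∈ (W.map π2).subgroupOf V := by
    intro a x hx
    obtain ⟨w, hw, e⟩ := mem_subgroupOf.mp hx
    refine mem_subgroupOf.mpr ⟨(a : G ⧸ pCore p G) * w * (a : G ⧸ pCore p G)⁻¹,
      (mem_normalizer_iff.mp (hWS a.2) w).mp hw, ?_⟩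
    show π2 _ = π2 a * (x : (G ⧸ pCore p G) ⧸ Z) * (π2 a)⁻¹
    rw [map_mul, map_mul, map_inv, e]
  have hSp : ¬ t ∣ Nat.card ↥qS := by
    obtain ⟨n, hn⟩ := IsPGroup.iff_card.mp (S.2.map (π))
    rw [hn]
    exact fun hd => htp ((Nat.prime_dvd_prime_iff_eq ht Fact.out).mp (ht.dvd_of_dvd_pow hd))
  obtain ⟨C, hCdisj, hCtop, hCinv⟩ :=
    Cfsg.Lib.Coprime.MaximalInvariant.exists_invariant_complement hVc hVe hSp σ ((W.map π2).subgroupOf V) hWV
  set U := (C.map V.subtype).comap π2 ⊓ qY with hU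
  have hUS : qS ≤ normalizer (U : Set (G ⧸ pCore p G)) := by
    refine fun a ha => inf_normalizer_le_normalizer_inf ⟨?_, hSn ha⟩
    have key : ∀ a ∈ qS, ∀ x : G ⧸ pCore p G, π2 x ∈ C.map V.subtype → π2 (a * x * a⁻¹) ∈ C.map V.subtype := by
      rintro a ha x ⟨c, hc, e⟩
      refine ⟨σ ⟨a, ha⟩ c, hCinv ⟨a, ha⟩ c hc, ?_⟩
      show π2 a * (c : (G ⧸ pCore p G) ⧸ Z) * (π2 a)⁻¹ = _
      rw [map_mul, map_mul, map_inv, show (c : (G ⧸ pCore p G) ⧸ Z) = π2 x from e]
    show a ∈ normalizer (((C.map V.subtype).comap π2 : Subgroup _) : Set (G ⧸ pCore p G))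
    rw [mem_normalizer_iff]
    refine fun x => ⟨key a ha x, fun hx => ?_⟩
    have := key a⁻¹ (inv_mem ha) _ hx
    simpa [mul_assoc] using this
  have hUL : U ≤ qL := by
    refine (h.bar_rule hUS).resolve_left fun hWU => h.not_res_le fun w hw => ?_
    obtain ⟨c, hc, e⟩ := (hWU hw).1
    have hc1 : c = 1 := by
      rw [← mem_bot, ← hCdisj]
      exact ⟨mem_subgroupOf.mpr ⟨w, hw, e.symm⟩, hc⟩
    have hwZ : w ∈ Z := (QuotientGroup.eq_one_iff _).mp (e.symm.trans (by rw [hc1]; rfl))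
    exact hwZ.1
  have hYWZ : qY ≤ W ⊔ Z := by
    intro y hy
    haveI : IsMulCommutative ↥V := ⟨⟨hVc⟩⟩
    have hy' : (⟨π2 y, mem_map_of_mem _ hy⟩ : V) ∈ (W.map π2).subgroupOf V ⊔ C := hCtop ▸ mem_top _
    obtain ⟨m, hm, c, hc, e⟩ := mem_sup_of_normal_left.mp hy'
    obtain ⟨w, hw, hwm⟩ := mem_subgroupOf.mp hm
    have e' : π2 y = π2 w * (c : (G ⧸ pCore p G) ⧸ Z) := by
      rw [hwm]; exact (congrArg Subtype.val e).symm
    have hyU : w⁻¹ * y ∈ U := ⟨⟨c, hc, by rw [map_mul, map_inv, e', inv_mul_cancel_left]; rfl⟩,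
      qY.mul_mem (qY.inv_mem (hWY hw)) hy⟩
    rw [show y = w * (w⁻¹ * y) by group]
    exact mul_mem_sup hw ⟨hUL hyU, hyU.2⟩
  have hYW : qY ≤ W := by
    refine (h.comm_eq hpdvd).ge.trans ?_
    rw [commutator_le]
    intro y hy q hq
    obtain ⟨w, hw, z, hz, rfl⟩ := mem_sup_of_normal_right.mp (hYWZ hy)
    have hzq : z * q = q * z := commute_of_commutator_eq_bot hZQ hz hq
    have e : ⁅w * z, q⁆ = w * (q * w⁻¹ * q⁻¹) := by
      rw [commutatorElement_def, mul_inv_rev]
      calc w * z * q * (z⁻¹ * w⁻¹) * q⁻¹ = w * (z * q) * z⁻¹ * w⁻¹ * q⁻¹ := by group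
        _ = w * (q * z) * z⁻¹ * w⁻¹ * q⁻¹ := by rw [hzq]
        _ = _ := by group
    rw [e]
    exact mul_mem hw ((mem_normalizer_iff.mp (hWS (map_mono h.Q_le_S hq)) _).mp (inv_mem hw))
  have hYP : Y ≤ P := by
    refine (map_le_iff_le_comap.mp hYW).trans ?_
    rw [comap_map_eq, QuotientGroup.ker_mk']
    exact sup_le (map_subtype_le _) (h.R_le_S.trans h.hSP)
  refine ⟨le_antisymm h.res_le_Y ?_, t, ht, htp, htY, hc2⟩
  have hgen : ∀ g : G, res p P ≤ (res p P).comap (MulAut.conj g).toMonoidHom := by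
    intro g
    refine map_le_iff_le_comap.mpr ((closure_le _).2 fun x hx => ?_)
    have hm : g * (x : G) * g⁻¹ ∈ P :=
      hYP (h.Y_normal.conj_mem _ (h.res_le_Y (mem_map_of_mem _ (subset_closure hx))) g)
    refine ⟨⟨_, hm⟩, subset_closure ?_, rfl⟩
    show (orderOf (⟨g * (x : G) * g⁻¹, hm⟩ : P)).Coprime p
    rw [Subgroup.orderOf_mk, show g * (x : G) * g⁻¹ = (MulAut.conj g).toMonoidHom (x : G) from rfl,
      orderOf_injective (MulAut.conj g).toMonoidHom (MulAut.conj g).injective, Subgroup.orderOf_coe]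
    exact hx
  haveI : (res p P).Normal := ⟨fun x hx g => hgen g hx⟩
  exact h.Y_le_of le_rfl

/-- the perfect case -/
theorem Hyp.perfect_case (h : Hyp S P L Y) (hperf : ⁅Y.map (π), Y.map (π)⁆ = Y.map (π)) :
    p ∣ Nat.card ↥(Y.map (π)) ∧ layer ↥(Y.map (π)) = ⊤ ∧
      ∀ K₁ K₂ : Subgroup (G ⧸ pCore p G), IsComponent K₁ → IsComponent K₂ → K₁ ≤ Y.map (π) → K₂ ≤ Y.map (π) →
        ∃ s ∈ (S : Subgroup G), K₂ = K₁.map (MulAut.conj (π s)).toMonoidHom := by
  haveI := h.bar_normal_Y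
  set qY := Y.map (π) with hqY
  set qQ := (cr p L).map (π)
  set qL := L.map (π)
  set qS := (S : Subgroup G).map (π)
  set W := (res p P).map (π)
  have hne := h.bar_ne_bot
  have hnsol : ¬ Group.IsSolvable ↥qY := fun hs => by
    haveI : Nontrivial ↥qY := (Subgroup.nontrivial_iff_ne_bot _).mpr hne
    haveI : Group.IsPerfect ↥qY := Subgroup.isPerfect_iff.mpr hperf
    exact Group.IsPerfect.not_isSolvable ↥qY hs
  have hperf' : ⁅(⊤ : Subgroup ↥qY), (⊤ : Subgroup ↥qY)⁆ = ⊤ := by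
    apply map_injective qY.subtype_injective
    rw [map_commutator, ← MonoidHom.range_eq_map, range_subtype, hperf]
  have hcen : ∀ X : Subgroup ↥qY, X.Characteristic → X ≠ ⊤ → X ≤ center ↥qY := by
    intro X hX hXt
    haveI : (X.map qY.subtype).Normal := normal_map_char qY X
    have h1 := (h.bar_normal _ (fun hle => hXt (top_le_iff.mp fun y _ => by
      obtain ⟨z, hz, e⟩ := (hle y.2 : (y : G ⧸ pCore p G) ∈ X.map qY.subtype)
      rwa [show y = z from Subtype.ext e.symm]))).2.1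
    intro x hx
    rw [mem_center_iff]
    intro y
    exact Subtype.ext (commute_of_commutator_eq_bot h1 (mem_map_of_mem _ hx) y.2).symm
  have hlay : layer ↥qY = ⊤ := by
    by_contra hl
    have h1 := hcen _ inferInstance hl
    have hlb : layer ↥qY = ⊥ := by
      rw [← layer_perfect, eq_bot_iff, ← commutator_center_left (layer ↥qY)]
      exact commutator_mono h1 le_rfl
    have hfc : fittingSubgroup ↥qY ≤ center ↥qY := by
      refine hcen _ (characteristic_iff_map_eq.mpr fun e => fitting_map_equiv e) fun ht => hnsol ?_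
      haveI := isNilpotent_fitting (G := ↥qY)
      exact Group.isSolvable_of_surjective (f := (fittingSubgroup ↥qY).subtype)
        (fun y => ⟨⟨y, ht ▸ mem_top y⟩, rfl⟩)
    have h2 := centralizer_genFitting_le (G := ↥qY)
    rw [generalizedFittingSubgroup, hlb, bot_sup_eq, centralizer_eq_top_iff_subset.mpr hfc] at h2
    exact hnsol (Group.isSolvable_of_comm fun a b => mem_center_iff.mp (hfc (h2 (mem_top b))) a)
  have hSn : qS ≤ normalizer (qY : Set (G ⧸ pCore p G)) := normalizer_eq_top_iff.mpr h.bar_normal_Y ▸ le_top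
  have hLQ : qL ≤ normalizer (qQ : Set (G ⧸ pCore p G)) :=
    (map_mono (cr_normalizer p L)).trans (le_normalizer_map _)
  have hYn := normalizer_eq_top_iff.mpr h.bar_normal_Y
  refine ⟨?_, hlay, ?_⟩
  · by_contra hpd
    have hD := h.comm_eq hpd
    have hSp : IsPGroup p qS := S.2.map _
    have hcop : (Nat.card ↥qS).Coprime (Nat.card ↥qY) := by
      obtain ⟨n, hn⟩ := IsPGroup.iff_card.mp hSp
      rw [hn]
      exact ((Nat.Prime.coprime_iff_not_dvd Fact.out).mpr hpd).pow_left n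
    haveI := hSp.isNilpotent
    have hex : ∀ s : ℕ, s.Prime → ∃ T : Sylow s qY,
        qS ≤ normalizer (((T : Subgroup qY).map qY.subtype : Subgroup _) : Set (G ⧸ pCore p G)) := fun s hs => by
      haveI := Fact.mk hs
      exact Cfsg.Lib.Coprime.exists_invariant_sylow hSn hcop (Or.inl inferInstance) s
    choose T hT using hex
    obtain ⟨t, ht, htL⟩ : ∃ t, ∃ ht : Nat.Prime t, ¬ (T t ht : Subgroup qY).map qY.subtype ≤ qL := by
      by_contra hcon
      push Not at hcon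
      exact h.bar_not_le (Cfsg.Lib.Coprime.le_of_forall_sylow fun q hq => ⟨T q hq, hcon q hq⟩)
    haveI := Fact.mk ht
    set T0 := (T t ht : Subgroup qY).map qY.subtype
    have hWT : W ≤ T0 := (h.bar_rule (hT t ht)).resolve_right htL
    set C := centralizer (qQ : Set (G ⧸ pCore p G))
    have hC : ∀ s (hs : Nat.Prime s), s ≠ t → (T s hs : Subgroup qY).map qY.subtype ≤ C := by
      intro s hs hst
      haveI := Fact.mk hs
      have hsL : (T s hs : Subgroup qY).map qY.subtype ≤ qL := by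
        refine (h.bar_rule (hT s hs)).resolve_left fun hWs => h.not_res_le ?_
        exact (le_inf hWs hWT).trans ((IsPGroup.disjoint_of_ne s t hst _ _
          ((T s hs).2.map _) ((T t ht).2.map _)).le_bot.trans bot_le)
      rw [← commutator_eq_bot_iff_le_centralizer, eq_bot_iff]
      have hI : (qQ ⊓ qY : Subgroup _) = ⊥ := by
        refine eq_bot_of_card_eq _ ?_
        obtain ⟨n, hn⟩ := IsPGroup.iff_card.mp ((isPGroup_cr (p := p) L).map (π))
        refine Nat.eq_one_of_dvd_coprimes ?_ (card_dvd_of_le inf_le_left) (card_dvd_of_le inf_le_right)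
        rw [hn]
        exact ((Nat.Prime.coprime_iff_not_dvd Fact.out).mpr hpd).pow_left n
      rw [← hI]
      refine le_inf ?_ ?_
      · rw [commutator_comm]
        exact le_normalizer_iff_commutator_le_left.mp (hsL.trans hLQ)
      · exact (commutator_mono (map_subtype_le _) le_rfl).trans
          (le_normalizer_iff_commutator_le_left.mp (hYn ▸ le_top))
    have hidx : (T t ht : Subgroup qY).index.Coprime (C.subgroupOf qY).index := by
      refine Nat.coprime_of_dvd fun s hs hd1 hd2 => ?_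
      by_cases hst : s = t
      · subst hst; exact (T s ht).not_dvd_index hd1
      · haveI := Fact.mk hs
        exact (T s hs).not_dvd_index (hd2.trans (index_dvd_of_le fun x hx =>
          mem_subgroupOf.mpr (hC s hs hst (mem_map_of_mem qY.subtype hx))))
    have hDT : qY ≤ T0 := by
      refine hD.ge.trans ?_
      rw [commutator_le]
      intro y hy q hq
      obtain ⟨a, ha, b, hb, e⟩ := Cfsg.Lib.ClassSize.exists_mul_of_coprime hidx ⟨y, hy⟩
      have e' : y = (a : G ⧸ pCore p G) * b := congrArg Subtype.val e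
      have hbq : q * (b : G ⧸ pCore p G) = b * q := hb q hq
      have e2 : ⁅y, q⁆ = (a : G ⧸ pCore p G) * (q * (a : G ⧸ pCore p G)⁻¹ * q⁻¹) := by
        rw [e', commutatorElement_def, mul_inv_rev]
        calc (a : G ⧸ pCore p G) * b * q * ((b : G ⧸ pCore p G)⁻¹ * (a : G ⧸ pCore p G)⁻¹) * q⁻¹
            = (a : G ⧸ pCore p G) * (b * q) * (b : G ⧸ pCore p G)⁻¹ * (a : G ⧸ pCore p G)⁻¹ * q⁻¹ := by group
          _ = (a : G ⧸ pCore p G) * (q * b) * (b : G ⧸ pCore p G)⁻¹ * (a : G ⧸ pCore p G)⁻¹ * q⁻¹ := by rw [hbq]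
          _ = _ := by group
      rw [e2]
      have haT : (a : G ⧸ pCore p G) ∈ T0 := mem_map_of_mem qY.subtype ha
      exact mul_mem haT ((mem_normalizer_iff.mp (hT t ht (map_mono h.Q_le_S hq)) _).mp (inv_mem haT))
    apply hnsol
    haveI := (((T t ht).2.map qY.subtype).to_le hDT).isNilpotent
    infer_instance
  -- transitivity
  have hcomp_not_le : ∀ K : Subgroup (G ⧸ pCore p G), IsComponent K → K ≤ qY → ¬ K ≤ qL := by
    intro K hK hKY hKL
    set 𝒞 := {J : Subgroup (G ⧸ pCore p G) | IsComponent J ∧ J ≤ qY ∧ J ≤ centralizer (qQ : Set (G ⧸ pCore p G))}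
    have hKc : K ∈ 𝒞 := by
      refine ⟨hK, hKY, ?_⟩
      have hQY : IsPGroup p ↥(qQ ⊓ qY : Subgroup _) := ((isPGroup_cr L).map _).to_le inf_le_left
      haveI := hQY.isNilpotent
      have h1 : ⁅K, qQ ⊓ qY⁆ = ⊥ := comp_commute_of_solvable hK inferInstance fun g hg =>
        inf_normalizer_le_normalizer_inf ⟨hLQ (hKL hg), hYn ▸ mem_top g⟩
      have h2 : ⁅K, qQ⁆ ≤ qQ ⊓ qY := le_inf
        (by rw [commutator_comm]; exact le_normalizer_iff_commutator_le_left.mp (hKL.trans hLQ))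
        ((commutator_mono hKY le_rfl).trans (le_normalizer_iff_commutator_le_left.mp (hYn ▸ le_top)))
      refine commutator_eq_bot_iff_le_centralizer.mp (commutator_eq_bot_of_perfect (comp_perfect hK) ?_)
      rw [eq_bot_iff, ← h1, commutator_comm K (qQ ⊓ qY)]
      exact commutator_mono h2 le_rfl
    set E := sSup 𝒞
    have hEn : E.Normal := by
      refine normalizer_eq_top_iff.mp (top_le_iff.mp (h.bar_sup.ge.trans (sup_le ?_ fun g hg => ?_)))
      · intro g hg
        have hgl : g ∈ layer (G ⧸ pCore p G) := by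
          have h1 := layer_map_subtype_le (H := qY) (Normal.isSubnormal inferInstance)
          rw [hlay, ← MonoidHom.range_eq_map, range_subtype] at h1
          exact (h1 hg).1
        rw [mem_normalizer_iff_map_conj_eq]
        show (sSup 𝒞).map _ = sSup 𝒞
        rw [sSup_eq_iSup, Subgroup.map_iSup]
        refine iSup_congr fun J => ?_
        rw [Subgroup.map_iSup]
        exact iSup_congr fun hJ => mem_normalizer_iff_map_conj_eq.mp (comp_normal_in_layer hJ.1 hgl)
      · have key : ∀ g ∈ qL, ∀ J ∈ 𝒞, J.map (MulAut.conj g).toMonoidHom ∈ 𝒞 := fun g hg J hJ =>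
          ⟨comp_conj hJ.1 g, (map_mono hJ.2.1).trans (mem_normalizer_iff_map_conj_eq.mp (hYn ▸ mem_top g)).le, by
            have := map_mono (f := (MulAut.conj g).toMonoidHom) hJ.2.2
            exact this.trans (le_of_eq (mem_normalizer_iff_map_conj_eq.mp (normalizer_le_normalizer_cent _ (hLQ hg))))⟩
        have key2 : ∀ g ∈ qL, ∀ x ∈ E, g * x * g⁻¹ ∈ E := fun g hg => by
          have : E ≤ E.comap (MulAut.conj g).toMonoidHom := sSup_le fun J hJ =>
            map_le_iff_le_comap.mp (le_sSup (key g hg J hJ))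
          exact fun x hx => this hx
        rw [mem_normalizer_iff]
        refine fun x => ⟨key2 g hg x, fun hx => ?_⟩
        have := key2 g⁻¹ (inv_mem hg) _ hx
        simpa [mul_assoc] using this
    by_cases hle : qY ≤ E
    · exact h.barQ_not_central (commutator_eq_bot_iff_le_centralizer.mpr
        (hle.trans (sSup_le fun J hJ => hJ.2.2)))
    · have h1 := (h.bar_normal E hle).2.1
      have h2 : ⁅K, qY⁆ = ⊥ := le_bot_iff.mp (h1 ▸ commutator_mono (le_sSup hKc) le_rfl)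
      have h3 : ⁅K, K⁆ = ⊥ := le_bot_iff.mp (h2 ▸ commutator_mono le_rfl hKY)
      rw [comp_perfect hK] at h3
      exact comp_ne_bot hK h3
  intro K₁ K₂ hK₁ hK₂ h1Y h2Y
  by_contra hcon
  push Not at hcon
  set 𝒪 := {J : Subgroup (G ⧸ pCore p G) | ∃ s ∈ qS, J = K₁.map (MulAut.conj s).toMonoidHom}
  set 𝒪' := {J : Subgroup (G ⧸ pCore p G) | IsComponent J ∧ J ≤ qY ∧ J ∉ 𝒪}
  have hinv : ∀ 𝒮 : Set (Subgroup (G ⧸ pCore p G)), (∀ g ∈ qS, ∀ J ∈ 𝒮, J.map (MulAut.conj g).toMonoidHom ∈ 𝒮) →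
      qS ≤ normalizer ((sSup 𝒮 : Subgroup _) : Set (G ⧸ pCore p G)) := by
    intro 𝒮 key g hg
    have key2 : ∀ g ∈ qS, ∀ x ∈ sSup 𝒮, g * x * g⁻¹ ∈ sSup 𝒮 := fun g hg => by
      have : sSup 𝒮 ≤ (sSup 𝒮).comap (MulAut.conj g).toMonoidHom := sSup_le fun J hJ =>
        map_le_iff_le_comap.mp (le_sSup (key g hg J hJ))
      exact fun x hx => this hx
    rw [mem_normalizer_iff]
    refine fun x => ⟨key2 g hg x, fun hx => ?_⟩
    have := key2 g⁻¹ (inv_mem hg) _ hx
    simpa [mul_assoc] using this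
  have hmm : ∀ (J : Subgroup (G ⧸ pCore p G)) (a b : G ⧸ pCore p G),
      (J.map (MulAut.conj a).toMonoidHom).map (MulAut.conj b).toMonoidHom =
        J.map (MulAut.conj (b * a)).toMonoidHom := fun J a b => by
    rw [map_map]; congr 1; ext x; simp [mul_assoc]
  have h1 : qS ≤ normalizer ((sSup 𝒪 : Subgroup _) : Set (G ⧸ pCore p G)) := hinv 𝒪 fun g hg J ⟨s, hs, e⟩ =>
    ⟨g * s, mul_mem hg hs, by rw [e, hmm]⟩
  have h2 : qS ≤ normalizer ((sSup 𝒪' : Subgroup _) : Set (G ⧸ pCore p G)) := hinv 𝒪' fun g hg J ⟨hJ, hJY, hJn⟩ =>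
    ⟨comp_conj hJ g, (map_mono hJY).trans (mem_normalizer_iff_map_conj_eq.mp (hYn ▸ mem_top g)).le, fun ⟨s, hs, e⟩ =>
      hJn ⟨g⁻¹ * s, mul_mem (inv_mem hg) hs, by
        rw [← hmm, ← e, hmm, inv_mul_cancel, map_one]
        exact (map_id J).symm⟩⟩
  have hK1mem : K₁ ∈ 𝒪 := ⟨1, one_mem _, by rw [map_one]; exact (map_id K₁).symm⟩
  have hK2mem : K₂ ∈ 𝒪' := ⟨hK₂, h2Y, fun ⟨s, ⟨s', hs', e'⟩, e⟩ => hcon s' hs' (by rw [e, e'])⟩
  have hW1 : W ≤ sSup 𝒪 := (h.bar_rule h1).resolve_right fun hle =>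
    hcomp_not_le K₁ hK₁ h1Y ((le_sSup hK1mem).trans hle)
  have hW2 : W ≤ sSup 𝒪' := (h.bar_rule h2).resolve_right fun hle =>
    hcomp_not_le K₂ hK₂ h2Y ((le_sSup hK2mem).trans hle)
  have hJW : ∀ J : Subgroup (G ⧸ pCore p G), IsComponent J → J ≤ qY → W ≤ centralizer (J : Set (G ⧸ pCore p G)) := by
    intro J hJ hJY
    by_cases hJO : J ∈ 𝒪
    · refine hW2.trans (sSup_le fun J' hJ' => commutator_eq_bot_iff_le_centralizer.mp
        (comp_commute hJ'.1 hJ fun e => hJ'.2.2 (e ▸ hJO)))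
    · refine hW1.trans (sSup_le fun J' hJ' => commutator_eq_bot_iff_le_centralizer.mp ?_)
      obtain ⟨s, hs, e⟩ := hJ'
      refine comp_commute (by rw [e]; exact comp_conj hK₁ s) hJ fun e' => hJO ⟨s, hs, e'.symm.trans e⟩
  have hWY : qY ≤ centralizer (qY : Set (G ⧸ pCore p G)) := by
    have h3 : W ≤ centralizer (qY : Set (G ⧸ pCore p G)) := by
      rw [le_centralizer_iff]
      have h4 : ∀ J : Subgroup ↥qY, IsComponent J → J.map qY.subtype ≤ centralizer (W : Set (G ⧸ pCore p G)) :=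
        fun J hJ => le_centralizer_iff.mp
          (hJW _ ((comp_map_subtype_iff (Normal.isSubnormal inferInstance)).mpr hJ) (map_subtype_le J))
      calc qY = (layer ↥qY).map qY.subtype := by rw [hlay, ← MonoidHom.range_eq_map, range_subtype]
        _ ≤ _ := map_le_iff_le_comap.mpr (sSup_le fun J hJ => map_le_iff_le_comap.mp (h4 J hJ))
    haveI : (centralizer (qY : Set (G ⧸ pCore p G))).Normal := inferInstance
    exact map_le_iff_le_comap.mpr (h.Y_le_of (map_le_iff_le_comap.mp h3))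
  exact h.bar_ne_bot (hperf.symm.trans (commutator_eq_bot_iff_le_centralizer.mpr hWY))

/-! ### the isomorphism `Y / O_p(Y) ≅ Ȳ` -/

theorem Hyp.ker_eq (h : Hyp S P L Y) : ((π).comp Y.subtype).ker = pCore p ↥Y := by
  haveI := h.Y_normal
  rw [← MonoidHom.comap_ker, QuotientGroup.ker_mk']
  refine le_antisymm ?_ ?_
  · exact le_pCore ((isPGroup_pCore p).comap_of_injective _ Y.subtype_injective)
  · refine map_le_iff_le_comap.mp ?_
    haveI : ((pCore p ↥Y).map Y.subtype).Normal := normal_map_char Y _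
    exact le_pCore ((isPGroup_pCore p).map _)

theorem Hyp.exists_equiv (h : Hyp S P L Y) :
    ∃ e : (↥Y ⧸ pCore p ↥Y) ≃* ↥(Y.map (π)), ∀ y : ↥Y, ((e (y : ↥Y ⧸ pCore p ↥Y)) : G ⧸ pCore p G) = π (y : G) := by
  refine ⟨((QuotientGroup.quotientMulEquivOfEq h.ker_eq.symm).trans
    (QuotientGroup.quotientKerEquivRange ((π).comp Y.subtype))).trans
      (MulEquiv.subgroupCongr (by rw [MonoidHom.range_comp, range_subtype])), fun y => rfl⟩

theorem Hyp.dichotomy (h : Hyp S P L Y) :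
    (res p P = Y ∧ ∃ t : ℕ, t.Prime ∧ t ≠ p ∧ IsPGroup t (↥Y ⧸ pCore p ↥Y) ∧
      ∃ _ : Group.IsNilpotent (↥Y ⧸ pCore p ↥Y), Group.nilpotencyClass (↥Y ⧸ pCore p ↥Y) ≤ 2) ∨
    (¬ Group.IsSolvable ↥Y ∧ p ∣ Nat.card (↥Y ⧸ pCore p ↥Y) ∧ layer (↥Y ⧸ pCore p ↥Y) = ⊤ ∧
      ∀ K₁ K₂ : Subgroup (↥Y ⧸ pCore p ↥Y), IsComponent K₁ → IsComponent K₂ →
        ∃ s ∈ (S : Subgroup G), ((K₂.comap (QuotientGroup.mk' (pCore p ↥Y))).map Y.subtype) =
          (((K₁.comap (QuotientGroup.mk' (pCore p ↥Y))).map Y.subtype)).map (MulAut.conj s).toMonoidHom) := by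
  obtain ⟨e, he⟩ := h.exists_equiv
  haveI := h.Y_normal
  haveI := h.bar_normal_Y
  by_cases hperf : ⁅Y.map (π), Y.map (π)⁆ = Y.map (π)
  · right
    obtain ⟨h1, h2, h3⟩ := h.perfect_case hperf
    refine ⟨fun hs => ?_, (Nat.card_congr e.toEquiv) ▸ h1, ?_, fun K₁ K₂ hK₁ hK₂ => ?_⟩
    · haveI : Group.IsSolvable ↥(Y.map (π)) :=
        Group.isSolvable_of_surjective ((π).subgroupMap_surjective Y)
      haveI : Nontrivial ↥(Y.map (π)) := (Subgroup.nontrivial_iff_ne_bot _).mpr h.bar_ne_bot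
      haveI : Group.IsPerfect ↥(Y.map (π)) := Subgroup.isPerfect_iff.mpr hperf
      exact Group.IsPerfect.not_isSolvable ↥(Y.map (π)) inferInstance
    · rw [← layer_map_equiv e.symm, h2]
      exact map_top_of_surjective _ e.symm.surjective
    · have hc : ∀ K : Subgroup (↥Y ⧸ pCore p ↥Y), IsComponent K →
          IsComponent ((K.map e.toMonoidHom).map (Y.map (π)).subtype) := fun K hK =>
        (comp_map_subtype_iff (Normal.isSubnormal inferInstance)).mpr (comp_map_equiv hK e)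
      obtain ⟨s, hs, hK⟩ := h3 _ _ (hc K₁ hK₁) (hc K₂ hK₂) (map_subtype_le _) (map_subtype_le _)
      refine ⟨s, hs, ?_⟩
      have hmem : ∀ (K : Subgroup (↥Y ⧸ pCore p ↥Y)) (x : G),
          x ∈ (K.comap (QuotientGroup.mk' (pCore p ↥Y))).map Y.subtype ↔
            x ∈ Y ∧ π x ∈ (K.map e.toMonoidHom).map (Y.map (π)).subtype := by
        intro K x
        constructor
        · rintro ⟨y, hy, rfl⟩
          exact ⟨y.2, _, ⟨_, hy, rfl⟩, he y⟩
        · rintro ⟨hxY, _, ⟨k, hk, rfl⟩, hk'⟩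
          refine ⟨⟨x, hxY⟩, ?_, rfl⟩
          show (QuotientGroup.mk' (pCore p ↥Y)) ⟨x, hxY⟩ ∈ K
          have : k = ((⟨x, hxY⟩ : ↥Y) : ↥Y ⧸ pCore p ↥Y) :=
            e.injective (Subtype.ext (hk'.trans (he ⟨x, hxY⟩).symm))
          rwa [this] at hk
      ext x
      rw [hmem, mem_map_equiv, hmem, hK, mem_map_equiv, MulAut.conj_symm_apply, MulAut.conj_symm_apply,
        map_mul, map_mul, map_inv]
      exact and_congr_left fun _ => ⟨fun hx => by simpa [mul_assoc] using h.Y_normal.conj_mem x hx s⁻¹,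
        fun hx => by simpa [mul_assoc] using h.Y_normal.conj_mem _ hx s⟩
  · left
    obtain ⟨h1, t, ht, htp, htY, hcl⟩ := h.nilpotent_case hperf
    refine ⟨h1, t, ht, htp, htY.of_equiv e.symm, ?_⟩
    haveI : Group.IsNilpotent ↥(Y.map (π)) := class_two_nilpotent hcl
    refine ⟨Group.nilpotent_of_mulEquiv e.symm, ?_⟩
    refine le_trans (Group.nilpotencyClass_le_of_surjective e.symm.toMonoidHom e.symm.surjective) ?_
    rw [← Subgroup.lowerCentralSeries_eq_bot_iff_nilpotencyClass_le]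
    apply map_injective (Y.map (π)).subtype_injective
    rw [Subgroup.lowerCentralSeries_succ, Subgroup.lowerCentralSeries_succ, Subgroup.lowerCentralSeries_zero, map_commutator, map_commutator,
      ← MonoidHom.range_eq_map, range_subtype, Subgroup.map_bot]
    exact hcl

theorem Hyp.le_genFitting (h : Hyp S P L Y) [(pCore p G).Normal] :
    res p P ≤ (generalizedFittingSubgroup (G ⧸ pCore p G)).comap (π) := by
  haveI := h.bar_normal_Y
  refine h.res_le_Y.trans (map_le_iff_le_comap.mp ?_)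
  have hsn : (Y.map (π)).IsSubnormal := Normal.isSubnormal inferInstance
  by_cases hperf : ⁅Y.map (π), Y.map (π)⁆ = Y.map (π)
  · have h1 := (layer_map_subtype_le hsn).trans inf_le_left
    rw [(h.perfect_case hperf).2.1, ← MonoidHom.range_eq_map, range_subtype] at h1
    exact h1.trans layer_le_genFitting
  · obtain ⟨-, t, ht, -, htY, -⟩ := h.nilpotent_case hperf
    haveI := Fact.mk ht
    exact (le_fitting htY.isNilpotent).trans fitting_le_genFitting

theorem main44 {G : Type u} [Group G] [Finite G] {p : ℕ} [Fact p.Prime] {S : Sylow p G} {P L Y : Subgroup G}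
    (h : Hyp S P L Y) :
    Y ⊔ L = ⊤ ∧
    ¬ (Cfsg.pCore p ↥((normalizer ((S : Subgroup G) : Set G) ⊓ (Y ⊔ (S : Subgroup G))) ⊔
          ⨆ P' : {P' : Subgroup G // (S : Subgroup G) ≤ P' ∧ P' ≤ Y ⊔ (S : Subgroup G) ∧ Cfsg.IsPMinimal p ↥P' ∧ P' ≠ P}, (P' : Subgroup G))).map
        (Subgroup.subtype _) ≤ (Cfsg.pCore p ↥P).map P.subtype := by
  refine ⟨h.sup_eq_top, fun hle => h.hiso (le_trans ?_ hle)⟩
  set L' := (normalizer ((S : Subgroup G) : Set G) ⊓ (Y ⊔ (S : Subgroup G))) ⊔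
    ⨆ P' : {P' : Subgroup G // (S : Subgroup G) ≤ P' ∧ P' ≤ Y ⊔ (S : Subgroup G) ∧ Cfsg.IsPMinimal p ↥P' ∧ P' ≠ P}, (P' : Subgroup G)
  have hS : (S : Subgroup G) ≤ L' := le_trans (le_inf le_normalizer le_sup_right) le_sup_left
  have hL' : L' ≤ L := by
    refine sup_le (inf_le_left.trans h.NS_le_L) (iSup_le fun P' => ?_)
    rw [h.hL]
    exact le_sup_of_le_right (le_iSup_of_le ⟨P'.1, P'.2.1, P'.2.2.2.1, P'.2.2.2.2⟩ le_rfl)
  exact le_crP (isPGroup_cr L) (h.Q_le_S.trans hS) (hL'.trans (cr_normalizer p L))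

end Cfsg.Lib.Misc.IsolatedPMin
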