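import Cfsg.Agent.Components.Misc.MinimalIsolated
import Cfsg.Agent.SolvStruct.CyclicSylowCoreFree
import Cfsg.Agent.S1946
import Cfsg.Prelude.Def_CaseTheorems

/-!
A non-central isolated element of odd order `p` in `p`-rank two forces a simple `F*(G)`.
-/

set_option linter.style.haveILetI false
set_option linter.unusedSectionVars false

namespace Cfsg.Lib.Misc.IsolatedRankTwo

open Subgroup Cfsg.Lib.Components

universe u

variable {G : Type u} [Group G] [Finite G] {p : ℕ} [Fact p.Prime]

/-- a proper inclusion of `p`-groups gains a factor `p` -/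
theorem mul_card_le_of_lt {A B : Subgroup G} (hB : IsPGroup p B) (h : A < B) :
    p * Nat.card A ≤ Nat.card B := by
  have hA : IsPGroup p A := hB.to_le h.le
  obtain ⟨a, ha⟩ := IsPGroup.iff_card.1 hA
  obtain ⟨b, hb⟩ := IsPGroup.iff_card.1 hB
  have hlt : Nat.card A < Nat.card B := by
    refine lt_of_le_of_ne (Nat.le_of_dvd Nat.card_pos (card_dvd_of_le h.le)) fun e => h.ne ?_
    exact eq_of_le_of_card_ge h.le e.ge
  rw [ha, hb] at hlt ⊢
  rw [← pow_succ']
  exact Nat.pow_le_pow_right (Fact.out : p.Prime).pos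
    ((Nat.pow_lt_pow_iff_right (Fact.out : p.Prime).one_lt).1 hlt)

/-- no component is centralized by an element of order `p` of a Sylow group independent of `x` -/
theorem no_component (hp : p ≠ 2) (hO : Cfsg.pPrimeCore p G = ⊥) (hrank : Cfsg.PRankLE p 2 G)
    {x : G} (hx : orderOf x = p) (hiso : Cfsg.IsIsolated x) (P : Sylow p G)
    (hxP : x ∈ (P : Subgroup G)) {K : Subgroup G} (hK : IsComponent K) {z : G}
    (hzP : z ∈ (P : Subgroup G)) (hzp : z ^ p = 1) (hz1 : z ≠ 1) (hzK : ∀ k ∈ K, k * z = z * k)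
    (hxz : x ∉ zpowers z) : False := by
  have hxp : x ^ p = 1 := hx ▸ pow_orderOf_eq_one x
  have hxc := Cfsg.Lib.Isolated.commute_of_pgroup hiso P.2 hxP
  have hwc := Cfsg.Lib.Isolated.weaklyClosed hiso P hxP
  obtain ⟨T, hT⟩ := Cfsg.Lib.Kieler.exists_sylow_of_subnormal P hK.1
  set X : Subgroup G := closure {x, z} with hX
  have hsmall : ∀ y ∈ K, y ∈ (P : Subgroup G) → y ^ p = 1 → y ∈ X := by
    intro y hyK hyP hyp
    by_contra hy
    set A : Subgroup G := closure {x, z, y} with hA
    have hcm : ∀ a ∈ ({x, z, y} : Set G), ∀ b ∈ ({x, z, y} : Set G), a * b = b * a := by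
      intro a ha b hb
      rcases ha with rfl | rfl | rfl <;> rcases hb with rfl | rfl | rfl
      exacts [rfl, (hxc _ hzP).symm, (hxc _ hyP).symm, hxc _ hzP, rfl, (hzK _ hyK).symm, hxc _ hyP,
        hzK _ hyK, rfl]
    haveI : IsMulCommutative A := Subgroup.isMulCommutative_closure hcm
    have hexp : ∀ a ∈ A, a ^ p = 1 := by
      intro a ha
      induction ha using Subgroup.closure_induction with
      | mem a ha => rcases ha with rfl | rfl | rfl <;> assumption
      | one => exact one_pow p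
      | mul a b ha hb iha ihb =>
        have hab : Commute a b :=
          congrArg Subtype.val (mul_comm' (⟨a, ha⟩ : A) ⟨b, hb⟩)
        rw [hab.mul_pow, iha, ihb, one_mul]
      | inv a _ iha => rw [inv_pow, iha, inv_one]
    have hAp : IsPGroup p A := fun a => ⟨1, Subtype.ext (by
      rw [pow_one]; exact hexp a a.2)⟩
    have h1 : zpowers z < X := by
      refine lt_of_le_of_ne (zpowers_le.2 (subset_closure (by simp))) fun e => hxz ?_
      rw [e]
      exact subset_closure (by simp)
    have hXA : X < A := by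
      refine lt_of_le_of_ne (closure_mono (by intro a; simp; tauto)) fun e => hy ?_
      rw [e]
      exact subset_closure (by simp)
    have h2 := mul_card_le_of_lt hAp hXA
    have h3 := mul_card_le_of_lt (hAp.to_le hXA.le) h1
    rw [Nat.card_zpowers, orderOf_eq_prime hzp hz1] at h3
    have h4 := hrank A inferInstance hexp
    have h5 : p * (p * p) ≤ p ^ 2 := ((Nat.mul_le_mul_left p h3).trans h2).trans h4
    rw [pow_two] at h5
    have := Nat.le_of_mul_le_mul_right
      (show p * (p * p) ≤ 1 * (p * p) by rwa [one_mul]) (Nat.mul_pos (Fact.out : p.Prime).pos (Fact.out : p.Prime).pos)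
    exact absurd this (Fact.out : p.Prime).one_lt.not_ge
  have hfix : ∀ y ∈ X, ∀ k ∈ K, k * y * k⁻¹ ∈ (P : Subgroup G) → k * y * k⁻¹ = y := by
    intro y hy k hk hky
    rw [hX, Set.insert_eq, Subgroup.closure_union, ← zpowers_eq_closure, ← zpowers_eq_closure] at hy
    have hn : zpowers z ≤ normalizer ((zpowers x : Subgroup G) : Set G) := by
      refine zpowers_le.2 (centralizer_le_normalizer _ ?_)
      refine mem_centralizer_iff.2 ?_
      rintro a ⟨i, rfl⟩
      exact ((show Commute x z from (hxc z hzP).symm).zpow_left i).eq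
    obtain ⟨a, ⟨i, rfl⟩, b, ⟨j, rfl⟩, rfl⟩ := (Cfsg.Lib.Coprime.mem_sup_of_le_normalizer hn).1 hy
    have hkz : k * z ^ j * k⁻¹ = z ^ j := by
      rw [((show Commute k z from hzK k hk).zpow_right j).eq, mul_inv_cancel_right]
    have he : k * (x ^ i * z ^ j) * k⁻¹ = (k * x ^ i * k⁻¹) * z ^ j := by
      calc k * (x ^ i * z ^ j) * k⁻¹ = (k * x ^ i * k⁻¹) * (k * z ^ j * k⁻¹) := by group
        _ = _ := by rw [hkz]
    rw [he] at hky ⊢
    have hkx : k * x ^ i * k⁻¹ ∈ (P : Subgroup G) := by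
      simpa using mul_mem hky (inv_mem (zpow_mem hzP j))
    obtain ⟨n, hn⟩ : ∃ n : ℕ, x ^ i = x ^ n :=
      ⟨(i % p).toNat, by
        rw [← zpow_natCast, Int.toNat_of_nonneg (Int.emod_nonneg _ (by exact_mod_cast (Fact.out : p.Prime).ne_zero))]
        conv_lhs => rw [← zpow_mod_orderOf x i, hx]⟩
    rw [hn] at hkx ⊢
    rw [Cfsg.Lib.Isolated.pow_weaklyClosed P x hxP hwc n k hkx]
    show x ^ n * z ^ j = x ^ i * z ^ j
    rw [hn]
  have hNPC : Cfsg.HasNormalPComplement p K := by
    refine (Cfsg.Agent.S1946.result T).2 fun a ha hap g hg => ⟨1, one_mem _, ?_⟩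
    rw [hT, mem_subgroupOf] at ha hg
    have hap' : a ^ p = 1 := hap.resolve_right fun h => hp h.1
    have hapG : (a : G) ^ p = 1 := by rw [← Subgroup.coe_pow, hap', Subgroup.coe_one]
    rw [one_mul, inv_one, mul_one]
    exact Subtype.ext (hfix a (hsmall a a.2 ha hapG) g g.2 hg)
  exact Cfsg.Lib.SolvStruct.not_dvd_of_perfect (comp_perfect hK) hNPC (comp_dvd_card hO hK)

theorem exists_order_p_inf (hO : Cfsg.pPrimeCore p G = ⊥) (P : Sylow p G) {K : Subgroup G}
    (hK : IsComponent K) : ∃ y, y ∈ K ∧ y ∈ (P : Subgroup G) ∧ y ^ p = 1 ∧ y ≠ 1 := by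
  obtain ⟨T, hT⟩ := Cfsg.Lib.Kieler.exists_sylow_of_subnormal P hK.1
  obtain ⟨y, hy⟩ := exists_prime_orderOf_dvd_card' (G := (T : Subgroup K)) p
    (T.dvd_card_of_dvd_card (comp_dvd_card hO hK))
  have hyP : ((y : K) : G) ∈ (P : Subgroup G) := mem_subgroupOf.1 (hT.le y.2)
  have ho : orderOf ((y : K) : G) = p := by rw [Subgroup.orderOf_coe, Subgroup.orderOf_coe, hy]
  exact ⟨_, (y : K).2, hyP, (orderOf_dvd_iff_pow_eq_one.1 ho.dvd), fun h => by
    rw [h, orderOf_one] at ho; exact (Fact.out : p.Prime).ne_one ho.symm⟩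

theorem simple (hp : p ≠ 2) (hO : Cfsg.pPrimeCore p G = ⊥) (hrank : Cfsg.PRankLE p 2 G) (x : G)
    (hx : orderOf x = p) (hiso : Cfsg.IsIsolated x) (hnc : x ∉ Subgroup.center G) :
    IsSimpleGroup ↥(Cfsg.generalizedFittingSubgroup G) ∧
      ¬ IsMulCommutative ↥(Cfsg.generalizedFittingSubgroup G) := by
  have hxpg : IsPGroup p (zpowers x) := IsPGroup.of_card (n := 1) (by rw [Nat.card_zpowers, hx, pow_one])
  obtain ⟨P, hxP⟩ := hxpg.exists_le_sylow
  have hxP : x ∈ (P : Subgroup G) := hxP (mem_zpowers x)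
  have hxc := Cfsg.Lib.Isolated.commute_of_pgroup hiso P.2 hxP
  have hcoreP : Cfsg.pCore p G ≤ (P : Subgroup G) :=
    Cfsg.Lib.Coprime.pCore_le_sylow p P
  have hxO : x ∉ Cfsg.pCore p G := by
    intro h
    refine hnc (mem_center_iff.2 fun g => ?_)
    have h1 : g * x * g⁻¹ ∈ Cfsg.pCore p G := (inferInstance : (Cfsg.pCore p G).Normal).conj_mem x h g
    exact mul_inv_eq_iff_eq_mul.1 (hiso g (hxc _ (hcoreP h1)).symm)
  have hcen := centralizer_genFitting_le (G := G)
  have hl : ∃ K, IsComponent (G := G) K := by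
    by_contra hc
    push Not at hc
    have hl : Cfsg.layer G = ⊥ := sSup_eq_bot.2 fun L hL => absurd hL (hc L)
    have hgen : Cfsg.generalizedFittingSubgroup G = Cfsg.pCore p G := by
      rw [Cfsg.generalizedFittingSubgroup, hl, bot_sup_eq, fitting_eq_pCore hO]
    rw [hgen] at hcen
    exact hxO (hcen (mem_centralizer_iff.2 fun a ha => hxc a (hcoreP ha)))
  obtain ⟨K, hK⟩ := hl
  have hF : Cfsg.fittingSubgroup G = ⊥ := by
    rw [fitting_eq_pCore hO]
    by_contra hb
    obtain ⟨z, hz⟩ := exists_prime_orderOf_dvd_card' (G := Cfsg.pCore p G) p (by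
      obtain ⟨k, hk⟩ := IsPGroup.iff_card.1 (isPGroup_pCore (G := G) p)
      rcases Nat.eq_zero_or_pos k with rfl | hk0
      · exact absurd (card_eq_one.1 (by rw [hk, pow_zero])) hb
      · rw [hk]
        exact dvd_pow_self p hk0.ne')
    have ho : orderOf (z : G) = p := by rw [Subgroup.orderOf_coe, hz]
    refine no_component hp hO hrank hx hiso P hxP hK (hcoreP z.2) (orderOf_dvd_iff_pow_eq_one.1 ho.dvd)
      (fun h => (Fact.out : p.Prime).ne_one (by rw [← ho, h, orderOf_one])) (fun k hk => ?_)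
      (fun h => hxO (zpowers_le.2 z.2 h))
    refine commutatorElement_eq_one_iff_mul_comm.1 (mem_bot.1 ?_)
    rw [← layer_commute_fitting (G := G)]
    exact commutator_mem_commutator (comp_le_layer hK hk) (by rw [fitting_eq_pCore hO]; exact z.2)
  have hZ : ∀ L : Subgroup G, IsComponent L → ∀ z ∈ L, (∀ k ∈ L, k * z = z * k) → z = 1 := by
    intro L hL z hzL hz
    have h1 : L ⊓ centralizer (L : Set G) ≤ Cfsg.fittingSubgroup G := by
      have hmem : L ⊓ centralizer (L : Set G) ≤ Cfsg.layer G ⊓ centralizer (Cfsg.layer G : Set G) := by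
        rw [layer_inf_centralizer_eq]
        exact le_iSup_of_le ⟨L, hL⟩ le_rfl
      rw [fitting_eq_pCore hO]
      exact hmem.trans (le_pCore (center_layer_isPGroup hO))
    have h2 := h1 ⟨hzL, mem_centralizer_iff.2 hz⟩
    rwa [hF, mem_bot] at h2
  have hone : ∀ L : Subgroup G, IsComponent L → L = K := by
    intro L hL
    by_contra hne
    have hcomm : ∀ a ∈ L, ∀ b ∈ K, a * b = b * a := fun a ha b hb =>
      commutatorElement_eq_one_iff_mul_comm.1
        (mem_bot.1 ((comp_commute hL hK hne) ▸ commutator_mem_commutator ha hb))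
    obtain ⟨y, hyK, hyP, hyp, hy1⟩ := exists_order_p_inf hO P hK
    obtain ⟨w, hwL, hwP, hwp, hw1⟩ := exists_order_p_inf hO P hL
    by_cases hxw : x ∈ zpowers w
    · refine no_component hp hO hrank hx hiso P hxP hL hyP hyp hy1 (fun l hl => hcomm l hl y hyK) ?_
      intro hxy
      have hxK : x ∈ K := zpowers_le.2 hyK hxy
      have hxL : x ∈ L := zpowers_le.2 hwL hxw
      have h1 := hZ K hK x hxK fun k hk => (hcomm x hxL k hk).symm
      rw [h1, orderOf_one] at hx
      exact (Fact.out : p.Prime).ne_one hx.symm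
    · exact no_component hp hO hrank hx hiso P hxP hK hwP hwp hw1
        (fun k hk => (hcomm w hwL k hk).symm) hxw
  have hgen : Cfsg.generalizedFittingSubgroup G = K := by
    rw [Cfsg.generalizedFittingSubgroup, hF, sup_bot_eq]
    exact le_antisymm (sSup_le fun L hL => (hone L hL).le) (comp_le_layer hK)
  rw [hgen]
  refine ⟨?_, comp_not_isMulCommutative hK⟩
  have hzb : Subgroup.center K = ⊥ := (eq_bot_iff_forall _).2 fun z hz =>
    Subtype.ext (hZ K hK z z.2 fun k hk => congrArg Subtype.val (mem_center_iff.1 hz ⟨k, hk⟩))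
  haveI := hK.2.2
  haveI : Nontrivial K := qs_nontrivial hK.2
  let e := ((QuotientGroup.quotientMulEquivOfEq hzb).trans QuotientGroup.quotientBot)
  exact IsSimpleGroup.isSimpleGroup_of_surjective e.toMonoidHom e.surjective

end Cfsg.Lib.Misc.IsolatedRankTwo
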