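import Cfsg.Agent.Coprime.Fitting
import Cfsg.Agent.Components.Cores
import Cfsg.Prelude.Def_LocalStructure

/-!
The L-lemma for groups minimal over a Sylow subgroup.
-/

set_option linter.style.haveILetI false
set_option linter.unusedSectionVars false

namespace Cfsg.Lib.Misc.LLemma

open Subgroup Cfsg.Lib.Coprime Cfsg.Lib.Components

universe u

variable {H : Type u} [Group H] [Finite H] {p : ℕ} [hp : Fact p.Prime]

/-- generated by `O_p` and conjugates of `A` -/
def Gen (p : ℕ) (A Q : Subgroup H) : Prop :=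
  ∀ Z : Subgroup H, Cfsg.pCore p H ≤ Z → (∀ x : H, conjMap x A ≤ Q → conjMap x A ≤ Z) → Q ≤ Z

theorem gen_sup {A R : Subgroup H} (hR : Gen p A R) (x : H) : Gen p A (R ⊔ conjMap x A) :=
  fun Z hO h => sup_le (hR Z hO fun y hy => h y (hy.trans le_sup_left)) (h x le_sup_right)

theorem pCore_conj (s : H) : conjMap s (Cfsg.pCore p H) = Cfsg.pCore p H :=
  conjMap_eq_self (by rw [normalizer_eq_top]; trivial)

theorem grow {A R S : Subgroup H} (hS : IsPGroup p S) (hRS : R ≤ S) (hR : Gen p A R)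
    (hOR : Cfsg.pCore p H ≤ R) :
    (∃ x : H, conjMap x A ≤ S ⊓ normalizer (R : Set H) ∧ ¬ conjMap x A ≤ R) ∨
      S ≤ normalizer (R : Set H) := by
  refine or_iff_not_imp_left.mpr fun hno => ?_
  simp only [not_exists, not_and, not_not] at hno
  set N := S ⊓ normalizer (R : Set H) with hN
  by_contra hne
  haveI := hS.isNilpotent
  have hlt : N.subgroupOf S < ⊤ := lt_top_iff_ne_top.2 fun e => hne fun x hx =>
    (mem_inf.1 (mem_subgroupOf.1 (e ▸ mem_top (⟨x, hx⟩ : S)))).2
  obtain ⟨s, hs, hsN⟩ := SetLike.exists_of_lt (Group.normalizerCondition_of_isNilpotent (G := S) _ hlt)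
  refine hsN (mem_subgroupOf.mpr (mem_inf.2 ⟨s.2, ?_⟩))
  have hsn : (s : H) ∈ normalizer (N : Set H) := by
    refine mem_normalizer_iff.mpr fun h => ?_
    constructor
    · intro hh
      exact (mem_normalizer_iff.mp hs ⟨h, (mem_inf.1 hh).1⟩).mp hh
    · intro hh
      have hhS : h ∈ S := by
        have := mul_mem (mul_mem (inv_mem s.2) (mem_inf.1 hh).1) s.2
        simpa [mul_assoc] using this
      exact (mem_normalizer_iff.mp hs ⟨h, hhS⟩).mpr hh
  have hRN : R ≤ N := le_inf hRS le_normalizer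
  have hle : R ≤ conjMap (s : H)⁻¹ R := hR _
    (by rw [← pCore_conj (p := p) (H := H) (s : H)⁻¹]; exact conjMap_mono hOR) fun x hx => by
      have h1 : conjMap ((s : H) * x) A ≤ N := by
        rw [← conjMap_mul]
        exact (conjMap_mono (hx.trans hRN)).trans (conjMap_eq_self hsn).le
      have h2 := conjMap_mono (g := (s : H)⁻¹) (hno _ h1)
      rwa [conjMap_mul, inv_mul_cancel_left] at h2
  have := conjMap_eq_self_iff.mp
    (eq_of_le_of_card_ge hle (card_conjMap _ _).le).symm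
  exact inv_inv (s : H) ▸ inv_mem this

/-- the conditions on `R` that drive the descent -/
structure Start (p : ℕ) (A M R : Subgroup H) (g : H) : Prop where
  pgroup : IsPGroup p R
  core : Cfsg.pCore p H ≤ R
  norm : A ≤ normalizer (R : Set H)
  le : R ⊔ A ≤ conjMap g M
  notle : ¬ A ≤ R
  escape : ¬ normalizer (R : Set H) ≤ conjMap g M
  unique : ∀ h : H, R ⊔ A ≤ conjMap h M → conjMap h M = conjMap g M

theorem start_transport {A M R : Subgroup H} {g x : H} (h : Start p (conjMap x A) M R g) :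
    Start p A M (conjMap x⁻¹ R) (x⁻¹ * g) := by
  have key : ∀ Q : Subgroup H, conjMap x⁻¹ R ⊔ A ≤ Q → R ⊔ conjMap x A ≤ conjMap x Q := fun Q hQ => by
    have := conjMap_mono (g := x) hQ
    rwa [conjMap_sup, conjMap_conjMap_inv] at this
  refine ⟨?_, ?_, ?_, ?_, fun hle => h.notle ?_, fun hle => h.escape ?_, fun m hm => ?_⟩
  · exact h.pgroup.map _
  · rw [← pCore_conj (p := p) (H := H) x⁻¹]
    exact conjMap_mono h.core
  · rw [normalizer_conjMap]
    have := conjMap_mono (g := x⁻¹) h.norm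
    rwa [conjMap_inv_conjMap] at this
  · have := conjMap_mono (g := x⁻¹) h.le
    rwa [conjMap_sup, conjMap_inv_conjMap, conjMap_mul] at this
  · have := conjMap_mono (g := x) hle
    rwa [conjMap_conjMap_inv] at this
  · have := conjMap_mono (g := x) hle
    rwa [← normalizer_conjMap, conjMap_conjMap_inv, conjMap_mul, mul_inv_cancel_left] at this
  · have h1 := key _ hm
    rw [conjMap_mul] at h1
    have h2 := congrArg (conjMap x⁻¹) (h.unique _ h1)
    rwa [conjMap_mul, conjMap_mul, inv_mul_cancel_left] at h2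

theorem exists_start (T : Sylow p H) (hmin : Cfsg.IsMinimalOver (T : Subgroup H)) {M : Subgroup H}
    (hM : IsCoatom M ∧ (T : Subgroup H) ≤ M) {A : Subgroup H} (hAT : A ≤ (T : Subgroup H))
    (hA : ¬ A ≤ Cfsg.pCore p H) : ∃ (R : Subgroup H) (g : H), Start p A M R g := by
  obtain ⟨M', -, hu⟩ := hmin.2
  have huM : ∀ (g : H) (X : Subgroup H), X ≠ ⊤ → conjMap g (T : Subgroup H) ≤ X → X ≤ conjMap g M := by
    intro g X hX hgX
    have hX' : conjMap g⁻¹ X ≠ ⊤ := fun e => hX (by
      have := congrArg (conjMap g) e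
      rwa [conjMap_conjMap_inv, conjMap, map_top_of_surjective _ (MulAut.conj g).surjective] at this)
    obtain ⟨C, hC, hXC⟩ := (eq_top_or_exists_le_coatom (conjMap g⁻¹ X)).resolve_left hX'
    have hTC : (T : Subgroup H) ≤ C := by
      have := (conjMap_mono (g := g⁻¹) hgX).trans hXC
      rwa [conjMap_inv_conjMap] at this
    rw [hu C ⟨hC, hTC⟩, ← hu M hM] at hXC
    have := conjMap_mono (g := g) hXC
    rwa [conjMap_conjMap_inv] at this
  have hMt : ∀ g : H, conjMap g M ≠ ⊤ := fun g e => hM.1.1 (by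
    have := congrArg (conjMap g⁻¹) e
    rwa [conjMap_inv_conjMap, conjMap, map_top_of_surjective _ (MulAut.conj g⁻¹).surjective] at this)
  have hOT : Cfsg.pCore p H ≤ (T : Subgroup H) := Cfsg.Lib.Coprime.pCore_le_sylow p T
  by_cases hF : ∃ Q : Subgroup H, IsPGroup p Q ∧ Cfsg.pCore p H ≤ Q ∧ Gen p A Q ∧
      (∃ x, conjMap x A ≤ Q) ∧ ∃ a b : H, conjMap a M ≠ conjMap b M ∧ Q ≤ conjMap a M ∧ Q ≤ conjMap b M
  · obtain ⟨R, ⟨hRp, hOR, hRg, ⟨x0, hx0⟩, a, b, hab, hRa, hRb⟩, hmax⟩ := WellFounded.has_min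
      (wellFounded_gt (α := Subgroup H))
      {Q | IsPGroup p Q ∧ Cfsg.pCore p H ≤ Q ∧ Gen p A Q ∧ (∃ x, conjMap x A ≤ Q) ∧
        ∃ a b : H, conjMap a M ≠ conjMap b M ∧ Q ≤ conjMap a M ∧ Q ≤ conjMap b M} hF
    have hsyl : ∀ a : H, R ≤ conjMap a M →
        ∃ c : H, R ≤ conjMap c (T : Subgroup H) ∧ conjMap c M = conjMap a M := by
      intro a hRa
      have hR' : conjMap a⁻¹ R ≤ M := by
        have := conjMap_mono (g := a⁻¹) hRa
        rwa [conjMap_inv_conjMap] at this
      obtain ⟨Q, hQ⟩ := (IsPGroup.exists_le_sylow ((hRp.map _).of_equiv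
        (subgroupOfEquivOfLe hR').symm : IsPGroup p ((conjMap a⁻¹ R).subgroupOf M)))
      obtain ⟨m, hm⟩ := MulAction.exists_smul_eq M (T.subtype hM.2) Q
      refine ⟨a * m, ?_, ?_⟩
      · intro y hy
        have hy' : a⁻¹ * y * a ∈ conjMap a⁻¹ R := by
          rw [mem_conjMap]; simpa [mul_assoc] using hy
        have h1 : (⟨_, hR' hy'⟩ : M) ∈ (Q : Subgroup M) := hQ hy'
        rw [← hm, Sylow.smul_def, Sylow.pointwise_smul_def, Subgroup.mem_pointwise_smul_iff_inv_smul_mem] at h1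
        rw [mem_conjMap]
        simpa [Sylow.coe_subtype, mem_subgroupOf, mul_assoc] using h1
      · rw [← conjMap_mul, conjMap_eq_self (le_normalizer m.2)]
    obtain ⟨c, hRc, hca⟩ := hsyl a hRa
    obtain ⟨d, hRd, hdb⟩ := hsyl b hRb
    have hab' : conjMap c M ≠ conjMap d M := by rwa [hca, hdb]
    have hbig : ∀ (c : H) (x : H), R ≤ conjMap c (T : Subgroup H) →
        conjMap x A ≤ conjMap c (T : Subgroup H) → ¬ conjMap x A ≤ R → ∀ h : H,
        R ⊔ conjMap x A ≤ conjMap h M → conjMap h M = conjMap c M := by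
      intro c x hRc hxc hxR h hh
      by_contra hne
      refine hmax (R ⊔ conjMap x A) ⟨(T.2.map _).to_le (sup_le hRc hxc), hOR.trans le_sup_left,
        gen_sup hRg x, ⟨x, le_sup_right⟩, h, c, hne, hh,
        (sup_le hRc hxc).trans (conjMap_mono hM.2)⟩
        (left_lt_sup.mpr hxR)
    have hNt : normalizer (R : Set H) ≠ ⊤ := fun e => by
      haveI := normalizer_eq_top_iff.1 e
      have h1 := conjMap_mono (g := x0⁻¹) (hx0.trans (le_pCore hRp))
      rw [conjMap_inv_conjMap, pCore_conj] at h1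
      exact hA h1
    rcases grow (T.2.map _) hRc hRg hOR with ⟨x, hx, hxR⟩ | hc
    · have hxc := hx.trans inf_le_left
      have hesc : ¬ normalizer (R : Set H) ≤ conjMap c M := by
        intro hle
        rcases grow (T.2.map _) hRd hRg hOR with ⟨y, hy, hyR⟩ | hd
        · exact hab' (hbig d y hRd (hy.trans inf_le_left) hyR c
            (sup_le (hRc.trans (conjMap_mono hM.2)) ((hy.trans inf_le_right).trans hle)))
        · have h1 : conjMap c M ≤ conjMap d M := huM d _ (hMt c) (hd.trans hle)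
          exact hab' (eq_of_le_of_card_ge h1 (by rw [card_conjMap, card_conjMap]))
      exact ⟨_, _, start_transport (⟨hRp, hOR, hx.trans inf_le_right,
        (sup_le hRc hxc).trans (conjMap_mono hM.2), hxR, hesc, hbig c x hRc hxc hxR⟩ :
          Start p (conjMap x A) M R c)⟩
    · rcases grow (T.2.map _) hRd hRg hOR with ⟨y, hy, hyR⟩ | hd
      · have hyd := hy.trans inf_le_left
        have hesc : ¬ normalizer (R : Set H) ≤ conjMap d M := by
          intro hle
          have h1 : conjMap d M ≤ conjMap c M := huM c _ (hMt d) (hc.trans hle)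
          exact hab' (eq_of_le_of_card_ge h1 (by rw [card_conjMap, card_conjMap])).symm
        exact ⟨_, _, start_transport (⟨hRp, hOR, hy.trans inf_le_right,
          (sup_le hRd hyd).trans (conjMap_mono hM.2), hyR, hesc, hbig d y hRd hyd hyR⟩ :
            Start p (conjMap y A) M R d)⟩
      · exfalso
        obtain ⟨C, hC, hNC⟩ := (eq_top_or_exists_le_coatom (normalizer (R : Set H))).resolve_left hNt
        have h1 : C ≤ conjMap c M := huM c C hC.1 (hc.trans hNC)
        have h2 : C ≤ conjMap d M := huM d C hC.1 (hd.trans hNC)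
        have e1 : C = conjMap c M := hC.le_iff.mp h1 |>.resolve_left (hMt c) |>.symm
        have e2 : C = conjMap d M := hC.le_iff.mp h2 |>.resolve_left (hMt d) |>.symm
        exact hab' (e1.symm.trans e2)
  · have hOg : Gen p A (Cfsg.pCore p H) := fun Z hZ _ => hZ
    refine ⟨Cfsg.pCore p H, 1, isPGroup_pCore p, le_rfl, by rw [normalizer_eq_top]; exact le_top,
      by rw [conjMap_one]; exact (sup_le hOT hAT).trans hM.2, hA,
      by rw [normalizer_eq_top, conjMap_one, top_le_iff]; exact hM.1.1, fun h hh => ?_⟩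
    by_contra hne
    have := gen_sup hOg (1 : H)
    rw [conjMap_one] at this
    exact hF ⟨_, T.2.to_le (sup_le hOT hAT), le_sup_left, this,
      ⟨1, by rw [conjMap_one]; exact le_sup_right⟩, h, 1, hne, hh,
      by rw [conjMap_one]; exact (sup_le hOT hAT).trans hM.2⟩

theorem main (T : Sylow p H) (hmin : Cfsg.IsMinimalOver (T : Subgroup H)) (M : Subgroup H)
    (hM : IsCoatom M ∧ (T : Subgroup H) ≤ M) (A : Subgroup H) (hAT : A ≤ (T : Subgroup H))
    (hA : ¬ A ≤ Cfsg.pCore p H) :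
    ∃ L : Subgroup H, A ⊔ Cfsg.pCore p H ≤ L ∧ ∃ L₀ : Subgroup H, A ⊔ (Cfsg.pCoreOf p L) ≤ L₀ ∧
      L₀ < L ∧ (∀ X : Subgroup H, A ⊔ (Cfsg.pCoreOf p L) ≤ X → X < L → X ≤ L₀) ∧
      (∃ g : H, L₀ = L ⊓ ((M : Subgroup H).map (MulAut.conj (g : H)).toMonoidHom)) ∧
      ∀ x ∈ L, x ∉ L₀ →
        (A ⊔ ((A : Subgroup H).map (MulAut.conj (x : H)).toMonoidHom)) ⊔ (Cfsg.pCoreOf p L) = L := by
  obtain ⟨R, g, st⟩ := exists_start T hmin hM hAT hA
  set M1 := conjMap g M with hM1
  obtain ⟨L, ⟨hRL, hLN, hLM⟩, hLmin⟩ := WellFounded.has_min (wellFounded_lt (α := Subgroup H))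
    {L | R ⊔ A ≤ L ∧ L ≤ normalizer (R : Set H) ∧ ¬ L ≤ M1}
    ⟨_, sup_le le_normalizer st.norm, le_rfl, st.escape⟩
  have hproper : ∀ X : Subgroup H, R ⊔ A ≤ X → X < L → X ≤ M1 := fun X hX hXL =>
    not_not.mp fun h => hLmin X ⟨hX, hXL.le.trans hLN, h⟩ hXL
  have hfix : ∀ x : H, R ⊔ A ≤ conjMap x M1 → x ∈ M1 := by
    intro x hx
    have h2 : conjMap x M1 = M1 := by
      rw [hM1, conjMap_mul]
      exact st.unique _ (by rw [← conjMap_mul]; exact hx)
    have h3 := conjMap_eq_self_iff.mp h2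
    have hN : normalizer (M : Set H) = M := by
      rcases hM.1.le_iff.mp (le_normalizer (H := M)) with h | h
      · exfalso
        haveI := normalizer_eq_top_iff.1 h
        exact hM.1.1 (top_le_iff.1 (hmin.1.ge.trans (normalClosure_le_normal hM.2)))
      · exact h
    rwa [hM1, normalizer_conjMap, hN, ← hM1] at h3
  set OL := Cfsg.pCoreOf p L with hOL
  have hOLL : OL ≤ L := map_subtype_le _
  have hOLp : IsPGroup p OL := (isPGroup_pCore p).map _
  have hROL : R ≤ OL := by
    haveI : (R.subgroupOf L).Normal := normal_subgroupOf_of_le_normalizer hLN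
    have := Subgroup.map_mono (f := L.subtype) (le_pCore (p := p)
      (st.pgroup.of_equiv (subgroupOfEquivOfLe (le_sup_left.trans hRL)).symm :
        IsPGroup p (R.subgroupOf L)))
    rwa [map_subgroupOf_eq_of_le (le_sup_left.trans hRL)] at this
  have hLnO : L ≤ normalizer (OL : Set H) := by
    intro l hl
    refine mem_normalizer_iff.mpr fun h => ?_
    constructor
    · rintro ⟨y, hy, rfl⟩
      exact ⟨⟨l, hl⟩ * y * ⟨l, hl⟩⁻¹, (pCore_normal_and_isPGroup p).1.conj_mem y hy _, rfl⟩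
    · rintro ⟨y, hy, he⟩
      refine ⟨⟨l, hl⟩⁻¹ * y * ⟨l, hl⟩, ?_, ?_⟩
      · have := (pCore_normal_and_isPGroup (G := L) p).1.conj_mem y hy ⟨l, hl⟩⁻¹
        rwa [inv_inv] at this
      · show l⁻¹ * (y : H) * l = h
        rw [show ((y : H)) = l * h * l⁻¹ from he]
        group
  have hpM : ∀ Q : Subgroup H, IsPGroup p Q → R ⊔ A ≤ Q → Q ≤ M1 := by
    intro Q hQ hRQ
    obtain ⟨S, hS⟩ := hQ.exists_le_sylow
    obtain ⟨c, hc⟩ := MulAction.exists_smul_eq H T S
    have h1 : Q ≤ conjMap c M := by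
      refine hS.trans ?_
      rw [← hc]
      exact conjMap_mono hM.2
    rwa [st.unique c (hRQ.trans h1)] at h1
  have hAOL : ¬ A ≤ OL := by
    intro hle
    refine hLM fun l hl => hfix l ?_
    refine (sup_le hROL hle).trans ?_
    rw [← conjMap_eq_self (hLnO hl)]
    exact conjMap_mono (hpM OL hOLp (sup_le hROL hle))
  have hAL : A ≤ L := le_sup_right.trans hRL
  have hsup : A ⊔ OL ≤ M1 := hpM _ ((T.2.to_le hAT).to_sup_of_normal_right' hOLp (hAL.trans hLnO))
    (sup_le (hROL.trans le_sup_right) le_sup_left)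
  refine ⟨L, sup_le hAL (st.core.trans (le_sup_left.trans hRL)), L ⊓ M1, le_inf (sup_le hAL hOLL) hsup,
    inf_le_left.lt_of_ne fun e => hLM (e.ge.trans inf_le_right), fun X hX hXL =>
      le_inf hXL.le (hproper X (sup_le ((hROL.trans le_sup_right).trans hX) (le_sup_left.trans hX)) hXL),
    ⟨g, rfl⟩, fun x hx hx0 => ?_⟩
  by_contra hne
  have hxA : conjMap x A ≤ L := by
    have := conjMap_mono (g := x) hAL
    rwa [conjMap_eq_self (le_normalizer hx)] at this
  have hlt : (A ⊔ conjMap x A) ⊔ OL < L := lt_of_le_of_ne (sup_le (sup_le hAL hxA) hOLL) hne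
  have hY := hproper _ (sup_le (hROL.trans le_sup_right) (le_sup_left.trans le_sup_left)) hlt
  have hRx : conjMap x R = R := conjMap_eq_self (hLN hx)
  have h1 : R ⊔ A ≤ conjMap x⁻¹ M1 := by
    have h2 : R ⊔ conjMap x A ≤ M1 :=
      (sup_le (hROL.trans le_sup_right) (le_sup_right.trans le_sup_left)).trans hY
    have h3 := conjMap_mono (g := x⁻¹) h2
    rwa [conjMap_sup, conjMap_inv_conjMap, ← hRx, conjMap_inv_conjMap] at h3
  exact hx0 (mem_inf.2 ⟨hx, by simpa using inv_mem (hfix _ h1)⟩)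

end Cfsg.Lib.Misc.LLemma
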