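import Cfsg.Agent.Components.Misc.Zsigmondy
import Mathlib.NumberTheory.ArithmeticFunction.Moebius
import Mathlib.Tactic

/-!
The size of the primitive part of `q ^ e - 1`.
-/

set_option linter.style.haveILetI false
set_option linter.unusedSectionVars false

namespace Cfsg.Lib.PrimitivePart

open Polynomial ArithmeticFunction
open scoped ArithmeticFunction.Moebius

/-- A prime of `Φ_n(a)` is primitive or is the exceptional one. -/
theorem prime_cases {a n : ℕ} (ha : 1 < a) (hn : 1 < n) {r : ℕ} (hr : r.Prime)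
    (hrq : (r : ℤ) ∣ (cyclotomic n ℤ).eval (a : ℤ)) :
    ((∀ i, 0 < i → i < n → ¬ r ∣ a ^ i - 1) ∧ n ∣ r - 1) ∨
      ∃ k m : ℕ, n = r ^ (k + 1) * m ∧ ¬ r ∣ m ∧ m ∣ r - 1 ∧ IsPrimitiveRoot (a : ZMod r) m := by
  haveI := Fact.mk hr
  obtain ⟨k, m, hrm, hnm⟩ := Nat.exists_eq_pow_mul_and_not_dvd (by omega : n ≠ 0) r hr.ne_one
  haveI : NeZero (m : ZMod r) := ⟨fun h => hrm ((ZMod.natCast_eq_zero_iff _ _).1 h)⟩
  have hroot : (cyclotomic n (ZMod r)).IsRoot (a : ZMod r) := by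
    have h := cyclotomic.eval_apply (a : ℤ) n (Int.castRingHom (ZMod r))
    simp only [eq_intCast, Int.cast_natCast] at h
    rw [IsRoot.def, h, ZMod.intCast_zmod_eq_zero_iff_dvd]
    exact hrq
  rw [hnm, isRoot_cyclotomic_prime_pow_mul_iff_of_charP] at hroot
  have hmn : m ∣ n := hnm ▸ dvd_mul_left m _
  have hm0 : 0 < m := Nat.pos_of_dvd_of_pos hmn (by omega)
  have hne : (a : ZMod r) ≠ 0 := fun h => by
    rw [h] at hroot
    have := hroot.pow_eq_one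
    rw [zero_pow hm0.ne'] at this
    exact zero_ne_one this
  have hmr : m ∣ r - 1 := hroot.dvd_of_pow_eq_one _ (ZMod.pow_card_sub_one_eq_one hne)
  rcases k with _ | k
  · left
    rw [pow_zero, one_mul] at hnm
    subst hnm
    refine ⟨fun i hi0 hi hd => ?_, hmr⟩
    rw [← ZMod.natCast_eq_zero_iff, Nat.cast_sub (Nat.one_le_pow _ _ (by omega)), Nat.cast_pow,
      Nat.cast_one, sub_eq_zero] at hd
    exact hroot.pow_ne_one_of_pos_of_lt hi0.ne' hi hd
  · exact Or.inr ⟨k, m, hnm, hrm, hmr, hroot⟩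

theorem bad_unique {n r s k k' m m' : ℕ} (hr : r.Prime) (hs : s.Prime) (h : n = r ^ (k + 1) * m)
    (hmr : m ∣ r - 1) (h' : n = s ^ (k' + 1) * m') (hms : m' ∣ s - 1) : s = r := by
  by_contra hne
  have hrn : r ∣ n := h ▸ Dvd.dvd.mul_right (dvd_pow_self r k.succ_ne_zero) m
  have hsn : s ∣ n := h' ▸ Dvd.dvd.mul_right (dvd_pow_self s k'.succ_ne_zero) m'
  have h1 : s ∣ m := ((Nat.Coprime.pow_right (k + 1) ((Nat.coprime_primes hs hr).2 hne))).dvd_of_dvd_mul_left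
    (h ▸ hsn)
  have h2 : r ∣ m' := ((Nat.Coprime.pow_right (k' + 1) ((Nat.coprime_primes hr hs).2 (Ne.symm hne)))).dvd_of_dvd_mul_left
    (h' ▸ hrn)
  have h3 := Nat.le_of_dvd (by have := hr.two_le; omega) (h1.trans hmr)
  have h4 := Nat.le_of_dvd (by have := hs.two_le; omega) (h2.trans hms)
  have := hr.two_le
  omega

theorem bad_sq {a n : ℕ} (ha : 1 < a) (hn : 3 ≤ n) {r k m : ℕ} (hr : r.Prime) (hnm : n = r ^ (k + 1) * m)
    (hrm : ¬ r ∣ m) (hmr : m ∣ r - 1) (hroot : IsPrimitiveRoot (a : ZMod r) m) :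
    ¬ (r : ℤ) ^ 2 ∣ (cyclotomic n ℤ).eval (a : ℤ) := by
  haveI := Fact.mk hr
  intro hsq
  have h2case : r = 2 → 1 ≤ k := by
    intro h
    by_contra hk
    obtain rfl : k = 0 := by omega
    subst h
    rw [Nat.dvd_one.1 hmr] at hnm
    simp at hnm
    omega
  set b : ℤ := (a : ℤ) ^ (r ^ k * m) with hb
  have hd : r ^ k * m ∈ n.properDivisors := by
    refine Nat.mem_properDivisors.2 ⟨⟨r, by rw [hnm, pow_succ]; ring⟩, ?_⟩
    rw [hnm, pow_succ]
    have h1 : 0 < r ^ k * m := Nat.mul_pos (pow_pos hr.pos _) (Nat.pos_of_ne_zero fun h => hrm (h ▸ dvd_zero r))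
    nlinarith [hr.two_le]
  have hdiv := Polynomial.eval_dvd (x := (a : ℤ)) (X_pow_sub_one_mul_cyclotomic_dvd_X_pow_sub_one_of_dvd ℤ hd)
  simp only [eval_mul, eval_sub, eval_pow, eval_X, eval_one] at hdiv
  rw [show (a : ℤ) ^ n = b ^ r by rw [hb, ← pow_mul]; congr 1; rw [hnm, pow_succ]; ring, ← hb,
    ← mul_geom_sum b r] at hdiv
  have hb1 : b - 1 ≠ 0 := by
    have : 1 < b := one_lt_pow₀ (by exact_mod_cast ha)
      (Nat.mul_ne_zero (pow_ne_zero _ hr.pos.ne') fun h => hrm (h ▸ dvd_zero r))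
    omega
  have hS : (r : ℤ) ^ 2 ∣ ∑ i ∈ Finset.range r, b ^ i := hsq.trans ((mul_dvd_mul_iff_left hb1).1 hdiv)
  obtain ⟨t, ht⟩ : (r : ℤ) ∣ b - 1 := by
    rw [← ZMod.intCast_zmod_eq_zero_iff_dvd, hb]
    push_cast
    rw [mul_comm, pow_mul, hroot.pow_eq_one, one_pow, sub_self]
  by_cases hr2 : r = 2
  · subst hr2
    rw [Finset.sum_range_succ, Finset.sum_range_one, pow_zero, pow_one] at hS
    have hk := h2case rfl
    obtain ⟨k', rfl⟩ : ∃ k', k = k' + 1 := ⟨k - 1, by omega⟩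
    set c : ℤ := (a : ℤ) ^ (2 ^ k' * m)
    have hc : b = c * c := by rw [hb, ← pow_add]; congr 1; rw [pow_succ]; ring
    obtain ⟨j, hj⟩ : ∃ j, c = 2 * j + 1 := by
      rcases Int.even_or_odd c with ⟨j, hj⟩ | ⟨j, hj⟩
      · exfalso
        rw [hc, hj] at ht
        obtain ⟨u, hu⟩ : (2 : ℤ) ∣ (j + j) * (j + j) := ⟨j * (j + j), by ring⟩
        push_cast at ht
        omega
      · exact ⟨j, hj⟩
    obtain ⟨u, hu⟩ := hS
    rw [hc, hj] at hu
    push_cast at hu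
    have : (1 : ℤ) + (2 * j + 1) * (2 * j + 1) = 2 + 4 * (j * j + j) := by ring
    omega
  · have hodd : Odd r := hr.odd_of_ne_two hr2
    have h := odd_sq_dvd_geom_sum₂_sub (R := ℤ) (p := r) 1 t hodd
    simp only [one_pow, mul_one] at h
    rw [show (1 : ℤ) + r * t = b by rw [← ht]; ring] at h
    have h5 : (r : ℤ) ^ 2 ∣ (r : ℤ) := by
      have := dvd_sub hS h
      simpa using this
    have h6 := Int.le_of_dvd (by exact_mod_cast hr.pos) h5
    nlinarith [hr.two_le]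

theorem partial_prod (N : ℕ) (hN : 1 ≤ N) :
    (1 / 4 : ℚ) + (1 / 2) ^ (N + 1) ≤ ∏ d ∈ Finset.Icc 1 N, (1 - (1 / 2 : ℚ) ^ d) := by
  induction N, hN using Nat.le_induction with
  | base => norm_num [Finset.Icc_self]
  | succ N hN ih =>
    rw [Finset.prod_Icc_succ_top (by omega : 1 ≤ N + 1)]
    have hu : (1 / 2 : ℚ) ^ (N + 1) ≤ 1 / 4 := by
      calc (1 / 2 : ℚ) ^ (N + 1) ≤ (1 / 2) ^ 2 := pow_le_pow_of_le_one (by norm_num) (by norm_num) (by omega)
        _ = 1 / 4 := by norm_num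
    have hpos : (0 : ℚ) < (1 / 2) ^ (N + 1) := by positivity
    have h1 : 0 ≤ 1 - (1 / 2 : ℚ) ^ (N + 1) := by linarith
    refine le_trans ?_ (mul_le_mul_of_nonneg_right ih h1)
    rw [pow_succ _ (N + 1)]
    nlinarith [mul_le_mul_of_nonneg_left hu hpos.le]

theorem moebius_values (x : ℕ) : (μ x : ℤ) = 1 ∨ μ x = 0 ∨ μ x = -1 := by
  have h := abs_moebius_le_one (n := x)
  rw [abs_le] at h
  omega

/-- A quarter of `q ^ φ(n)` bounds `Φ_n(q)` below. -/
theorem eval_lower {q n : ℕ} (hq : 2 ≤ q) (hn : 0 < n) :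
    ((q ^ n.totient : ℕ) : ℤ) ≤ 4 * (cyclotomic n ℤ).eval (q : ℤ) := by
  have hq1 : (1 : ℚ) < q := by exact_mod_cast hq
  have hq0 : (q : ℚ) ≠ 0 := by linarith
  have hnz : ∀ d : ℕ, 0 < d → ((q : ℚ) ^ d - 1) ≠ 0 := fun d hd => by
    have := one_lt_pow₀ hq1 hd.ne'
    linarith
  have hev : ∀ d : ℕ, (((cyclotomic d ℤ).eval (q : ℤ) : ℤ) : ℚ) = (cyclotomic d ℚ).eval (q : ℚ) := fun d => by
    have := cyclotomic.eval_apply (q : ℤ) d (Int.castRingHom ℚ)
    simpa using this.symm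
  have h1 : ∀ d > 0, ∏ i ∈ Nat.divisors d, (cyclotomic i ℚ).eval (q : ℚ) = (q : ℚ) ^ d - 1 := fun d hd => by
    rw [← eval_prod, prod_cyclotomic_eq_X_pow_sub_one hd, eval_sub, eval_pow, eval_X, eval_one]
  have e1 := (prod_eq_iff_prod_pow_moebius_eq_of_nonzero
    (fun d hd => (cyclotomic_pos' d hq1).ne') (fun d hd => hnz d hd)).1 h1 n hn
  have h2 : ∀ d > 0, ∏ i ∈ Nat.divisors d, (q : ℚ) ^ Nat.totient i = (q : ℚ) ^ d := fun d _ => by
    rw [Finset.prod_pow_eq_pow_sum, Nat.sum_totient]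
  have e2 := (prod_eq_iff_prod_pow_moebius_eq_of_nonzero
    (fun d _ => pow_ne_zero _ hq0) (fun d _ => pow_ne_zero _ hq0)).1 h2 n hn
  set T := n.divisorsAntidiagonal with hT
  let u : ℕ × ℕ → ℚ := fun x => (1 - ((q : ℚ)⁻¹) ^ x.2) ^ μ x.1
  have e3 : (cyclotomic n ℚ).eval (q : ℚ) = (q : ℚ) ^ n.totient * ∏ x ∈ T, u x := by
    rw [← e1, ← e2, ← Finset.prod_mul_distrib]
    refine Finset.prod_congr rfl fun x _ => ?_
    show _ = _ * (1 - ((q : ℚ)⁻¹) ^ x.2) ^ μ x.1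
    rw [← mul_zpow, mul_sub, mul_one, ← mul_pow, mul_inv_cancel₀ hq0, one_pow]
  have hTpos : ∀ x ∈ T, 1 ≤ x.2 ∧ x.2 ≤ n := fun x hx => by
    obtain ⟨he, hn0⟩ := Nat.mem_divisorsAntidiagonal.1 hx
    refine ⟨Nat.pos_of_ne_zero fun h => hn0 (by rw [← he, h, mul_zero]), ?_⟩
    exact Nat.le_of_dvd (by omega) (he ▸ dvd_mul_left x.2 x.1)
  have hvq : ∀ d : ℕ, 1 ≤ d → 1 - (1 / 2 : ℚ) ^ d ≤ 1 - ((q : ℚ)⁻¹) ^ d ∧ 0 < 1 - ((q : ℚ)⁻¹) ^ d ∧
      1 - ((q : ℚ)⁻¹) ^ d ≤ 1 := by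
    intro d hd
    have h3 : (q : ℚ)⁻¹ ≤ 1 / 2 := by
      rw [one_div]
      exact inv_anti₀ (by norm_num) (by exact_mod_cast hq)
    have h4 : 0 ≤ (q : ℚ)⁻¹ := by positivity
    refine ⟨by linarith [pow_le_pow_left₀ h4 h3 d], ?_, by linarith [pow_nonneg h4 d]⟩
    have : ((q : ℚ)⁻¹) ^ d < 1 := pow_lt_one₀ h4 (by linarith) (by omega)
    linarith
  have h5 : (∏ x ∈ T.filter (fun x => μ x.1 = 1), (1 - ((q : ℚ)⁻¹) ^ x.2)) ≤ ∏ x ∈ T, u x := by
    rw [← Finset.prod_filter_mul_prod_filter_not T (fun x => μ x.1 = 1) u]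
    have e4 : ∏ x ∈ T.filter (fun x => μ x.1 = 1), u x = ∏ x ∈ T.filter (fun x => μ x.1 = 1), (1 - ((q : ℚ)⁻¹) ^ x.2) :=
      Finset.prod_congr rfl fun x hx => by simp only [u, (Finset.mem_filter.1 hx).2, zpow_one]
    rw [e4]
    refine le_mul_of_one_le_right (Finset.prod_nonneg fun x hx => ((hvq _ (hTpos x (Finset.mem_filter.1 hx).1).1).2.1).le) ?_
    refine Finset.one_le_prod fun x hx => ?_
    obtain ⟨hxT, hμ⟩ := Finset.mem_filter.1 hx
    obtain ⟨-, hp, hle⟩ := hvq _ (hTpos x hxT).1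
    rcases moebius_values x.1 with h | h | h
    · exact absurd h hμ
    · simp only [u, h, zpow_zero, le_refl]
    · simp only [u, h, zpow_neg, zpow_one]
      exact (one_le_inv₀ hp).2 hle
  have hinj : Set.InjOn Prod.snd (T.filter (fun x => μ x.1 = 1) : Set (ℕ × ℕ)) := by
    rintro ⟨a, b⟩ hx ⟨a', b'⟩ hy (rfl : b = b')
    simp only [Finset.coe_filter, Set.mem_setOf_eq, hT, Nat.mem_divisorsAntidiagonal] at hx hy
    have hb0 : b ≠ 0 := fun h => hx.1.2 (by rw [← hx.1.1, h, mul_zero])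
    rw [Nat.eq_of_mul_eq_mul_right (Nat.pos_of_ne_zero hb0) (hx.1.1.trans hy.1.1.symm)]
  have h6 : ∏ d ∈ Finset.Icc 1 n, (1 - (1 / 2 : ℚ) ^ d) ≤
      ∏ x ∈ T.filter (fun x => μ x.1 = 1), (1 - ((q : ℚ)⁻¹) ^ x.2) := by
    rw [← Finset.prod_image (f := fun d : ℕ => (1 - ((q : ℚ)⁻¹) ^ d)) hinj]
    set I := (T.filter (fun x => μ x.1 = 1)).image Prod.snd with hI
    have hsub : I ⊆ Finset.Icc 1 n := fun d hd => by
      obtain ⟨x, hx, rfl⟩ := Finset.mem_image.1 hd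
      exact Finset.mem_Icc.2 (hTpos x (Finset.mem_filter.1 hx).1)
    rw [← Finset.prod_sdiff hsub]
    have hhalf : ∀ d : ℕ, 0 ≤ 1 - (1 / 2 : ℚ) ^ d := fun d => by
      linarith [pow_le_one₀ (n := d) (by norm_num : (0 : ℚ) ≤ 1 / 2) (by norm_num)]
    refine le_trans (mul_le_of_le_one_left (Finset.prod_nonneg fun d _ => hhalf d) ?_) ?_
    · exact Finset.prod_le_one (fun d _ => hhalf d) fun d _ => by
        linarith [pow_nonneg (by norm_num : (0 : ℚ) ≤ 1 / 2) d]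
    · exact Finset.prod_le_prod (fun d _ => hhalf d) fun d hd => (hvq d (Finset.mem_Icc.1 (hsub hd)).1).1
  have h7 := (partial_prod n hn).trans (h6.trans h5)
  have h8 : (0 : ℚ) < (1 / 2) ^ (n + 1) := by positivity
  have h9 : ((q ^ n.totient : ℕ) : ℚ) ≤ 4 * (((cyclotomic n ℤ).eval (q : ℤ) : ℤ) : ℚ) := by
    rw [hev, e3, Nat.cast_pow]
    have hpos : (0 : ℚ) < (q : ℚ) ^ n.totient := by positivity
    nlinarith
  exact_mod_cast h9

theorem mod_one_of_primes {n : ℕ} : ∀ m : ℕ, m ≠ 0 → (∀ s, s.Prime → s ∣ m → n ∣ s - 1) → m ≡ 1 [MOD n] := by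
  intro m
  induction m using Nat.recOnMul with
  | zero => intro h; exact absurd rfl h
  | one => intros; rfl
  | prime p hp =>
    intro _ h
    exact ((Nat.modEq_iff_dvd' hp.one_le).2 (h p hp dvd_rfl)).symm
  | mul x y ihx ihy =>
    intro h0 h
    rw [mul_ne_zero_iff] at h0
    simpa using (ihx h0.1 fun s hs hd => h s hs (hd.mul_right y)).mul (ihy h0.2 fun s hs hd => h s hs (hd.mul_left x))

theorem large_of_bound {q e : ℕ} (hq : 2 ≤ q) (he : 3 ≤ e) (hb : 4 * (2 * e + 1) * e < q ^ e.totient) :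
    ∃ m : ℕ, m ∣ q ^ e - 1 ∧ (∀ i : ℕ, 1 ≤ i → i < e → Nat.Coprime m (q ^ i - 1)) ∧ 3 * e + 1 ≤ m := by
  have hpos := cyclotomic_pos' e (x := (q : ℤ)) (by exact_mod_cast (by omega : 1 < q))
  set Φ := ((cyclotomic e ℤ).eval (q : ℤ)).natAbs with hΦ
  have hΦe : (Φ : ℤ) = (cyclotomic e ℤ).eval (q : ℤ) := by rw [hΦ, Int.natAbs_of_nonneg hpos.le]
  have hlow : q ^ e.totient ≤ 4 * Φ := by
    have := eval_lower hq (by omega : 0 < e)
    rw [← hΦe] at this
    exact_mod_cast this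
  have hdvd : Φ ∣ q ^ e - 1 := by
    have h := Polynomial.eval_dvd (x := (q : ℤ)) (cyclotomic.dvd_X_pow_sub_one e ℤ)
    rw [eval_sub, eval_pow, eval_X, eval_one, ← hΦe] at h
    rw [← Int.natCast_dvd_natCast, Nat.cast_sub (Nat.one_le_pow _ _ (by omega)), Nat.cast_pow, Nat.cast_one]
    exact h
  -- split off the exceptional prime
  obtain ⟨m, hmΦ, hsize, hm⟩ : ∃ m, m ∣ Φ ∧ Φ ≤ e * m ∧
      ∀ s, s.Prime → s ∣ m → (∀ i, 0 < i → i < e → ¬ s ∣ q ^ i - 1) ∧ e ∣ s - 1 := by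
    by_cases hbad : ∃ r, r.Prime ∧ r ∣ Φ ∧ ∃ k m : ℕ, e = r ^ (k + 1) * m ∧ ¬ r ∣ m ∧ m ∣ r - 1 ∧
        IsPrimitiveRoot (q : ZMod r) m
    · obtain ⟨r, hr, hrΦ, k, m0, hem, hrm, hmr, hroot⟩ := hbad
      obtain ⟨m, hm⟩ := hrΦ
      have hre : r ≤ e := Nat.le_of_dvd (by omega) (hem ▸ Dvd.dvd.mul_right (dvd_pow_self r k.succ_ne_zero) m0)
      refine ⟨m, hm ▸ dvd_mul_left m r, hm ▸ Nat.mul_le_mul_right m hre, fun s hs hsm => ?_⟩
      have hsΦ : (s : ℤ) ∣ (cyclotomic e ℤ).eval (q : ℤ) := by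
        rw [← hΦe]; exact_mod_cast hm ▸ hsm.mul_left r
      rcases prime_cases (a := q) (n := e) (by omega) (by omega) hs hsΦ with h | ⟨k', m', hem', -, hms, -⟩
      · exact h
      · exfalso
        have hsr := bad_unique hr hs hem hmr hem' hms
        subst hsr
        refine bad_sq (by omega) he hr hem hrm hmr hroot ?_
        rw [← hΦe, pow_two]
        exact_mod_cast hm ▸ Nat.mul_dvd_mul_left s hsm
    · push Not at hbad
      refine ⟨Φ, dvd_rfl, Nat.le_mul_of_pos_left _ (by omega), fun s hs hsΦ => ?_⟩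
      rcases prime_cases (a := q) (n := e) (by omega) (by omega) hs (by rw [← hΦe]; exact_mod_cast hsΦ) with h | ⟨k, m, h1, h2, h3, h4⟩
      · exact h
      · exact absurd h4 (hbad s hs hsΦ k m h1 h2 h3)
  refine ⟨m, hmΦ.trans hdvd, fun i hi1 hie => Nat.coprime_of_dvd fun s hs h1 h2 => (hm s hs h1).1 i hi1 hie h2, ?_⟩
  have hbig : 2 * e + 1 < m := by
    by_contra hle
    have h1 : 4 * (e * m) ≤ 4 * (2 * e + 1) * e := by
      rw [mul_assoc 4, mul_comm (2 * e + 1) e]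
      exact Nat.mul_le_mul_left 4 (Nat.mul_le_mul_left e (by omega))
    omega
  have hmod := mod_one_of_primes (n := e) m (by omega) fun s hs hd => (hm s hs hd).2
  obtain ⟨c, hc⟩ := (Nat.modEq_iff_dvd' (by omega : 1 ≤ m)).1 hmod.symm
  have hc2 : 2 < c := by
    by_contra hh
    have : e * c ≤ e * 2 := Nat.mul_le_mul_left e (by omega)
    omega
  have : e * 3 ≤ e * c := Nat.mul_le_mul_left e (by omega)
  omega

theorem totient_sq {e : ℕ} (he : 0 < e) : e ≤ 2 * e.totient ^ 2 := by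
  classical
  have h := Nat.totient_mul_prod_primeFactors e
  set P := ∏ p ∈ e.primeFactors, p
  set Q := ∏ p ∈ e.primeFactors, (p - 1)
  have hPQ : P ≤ 2 * Q ^ 2 := by
    have h1 : ∀ p ∈ e.primeFactors, p ≤ (if p = 2 then 2 else 1) * (p - 1) ^ 2 := fun p hp => by
      have := (Nat.prime_of_mem_primeFactors hp).two_le
      split_ifs with h2
      · subst h2; norm_num
      · obtain ⟨t, rfl⟩ : ∃ t, p = t + 3 := ⟨p - 3, by omega⟩
        rw [show t + 3 - 1 = t + 2 from rfl]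
        nlinarith
    refine (Finset.prod_le_prod' h1).trans ?_
    rw [Finset.prod_mul_distrib, Finset.prod_pow]
    refine Nat.mul_le_mul_right _ ?_
    rw [Finset.prod_ite_eq' e.primeFactors 2 (fun _ => 2)]
    split_ifs <;> omega
  have hQd : Q ∣ e.totient := by
    have h2 : P ∣ e := Nat.prod_primeFactors_dvd e
    obtain ⟨t, ht⟩ := h2
    refine ⟨t, ?_⟩
    have hP : 0 < P := Finset.prod_pos fun p hp => (Nat.prime_of_mem_primeFactors hp).pos
    refine Nat.eq_of_mul_eq_mul_right hP ?_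
    rw [h]
    show e * Q = Q * t * P
    calc e * Q = P * t * Q := by rw [ht]
      _ = Q * t * P := by ring
  have hQpos : 0 < Q := Finset.prod_pos fun p hp => by have := (Nat.prime_of_mem_primeFactors hp).two_le; omega
  have hQle : Q ≤ e.totient := Nat.le_of_dvd (Nat.totient_pos.2 he) hQd
  refine Nat.le_of_mul_le_mul_right ?_ hQpos
  calc e * Q = e.totient * P := h.symm
    _ ≤ e.totient * (2 * Q ^ 2) := Nat.mul_le_mul_left _ hPQ
    _ ≤ e.totient * (2 * (e.totient * Q)) := by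
        rw [pow_two]; exact Nat.mul_le_mul_left _ (Nat.mul_le_mul_left _ (Nat.mul_le_mul_right _ hQle))
    _ = 2 * e.totient ^ 2 * Q := by ring

theorem small_totient {e : ℕ} (he : 0 < e) (h : e.totient < 24) : e < 93 := by
  classical
  have hh := Nat.totient_mul_prod_primeFactors e
  have hP : (∏ p ∈ e.primeFactors, p) ≤ 4 * ∏ p ∈ e.primeFactors, (p - 1) := by
    have hsub : e.primeFactors ⊆ ({2, 3, 5, 7, 11, 13, 17, 19, 23} : Finset ℕ) := by
      intro p hp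
      have hpp := Nat.prime_of_mem_primeFactors hp
      have hd : p - 1 ∣ e.totient := by
        rw [← Nat.totient_prime hpp]
        exact Nat.totient_dvd_of_dvd (Nat.dvd_of_mem_primeFactors hp)
      have := Nat.le_of_dvd (Nat.totient_pos.2 he) hd
      have h25 : p < 25 := by omega
      interval_cases p <;> simp_all (config := { decide := true })
    have hQ : (∏ p ∈ e.primeFactors, (p - 1)) < 24 := by
      refine lt_of_le_of_lt (Nat.le_of_dvd (Nat.totient_pos.2 he) ?_) h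
      have hP0 : 0 < ∏ p ∈ e.primeFactors, p := Finset.prod_pos fun p hp => (Nat.prime_of_mem_primeFactors hp).pos
      obtain ⟨t, ht⟩ := Nat.prod_primeFactors_dvd e
      refine ⟨t, Nat.eq_of_mul_eq_mul_right hP0 ?_⟩
      rw [hh]
      calc e * ∏ p ∈ e.primeFactors, (p - 1) = ((∏ p ∈ e.primeFactors, p) * t) * ∏ p ∈ e.primeFactors, (p - 1) := by
            rw [← ht]
        _ = _ := by ring
    have key : ∀ S ∈ ({2, 3, 5, 7, 11, 13, 17, 19, 23} : Finset ℕ).powerset,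
        (∏ p ∈ S, (p - 1)) < 24 → (∏ p ∈ S, p) ≤ 4 * ∏ p ∈ S, (p - 1) := by decide +kernel
    exact key _ (Finset.mem_powerset.2 hsub) hQ
  have hQpos : 0 < ∏ p ∈ e.primeFactors, (p - 1) :=
    Finset.prod_pos fun p hp => by have := (Nat.prime_of_mem_primeFactors hp).two_le; omega
  have h1 : e ≤ 4 * e.totient := by
    refine Nat.le_of_mul_le_mul_right ?_ hQpos
    calc e * _ = e.totient * _ := hh.symm
      _ ≤ e.totient * (4 * _) := Nat.mul_le_mul_left _ hP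
      _ = _ := by ring
  omega

theorem two_pow_big : ∀ k : ℕ, 24 ≤ k → 4 * (4 * k ^ 2 + 1) * (2 * k ^ 2) < 2 ^ k := by
  intro k hk
  induction k, hk using Nat.le_induction with
  | base => norm_num
  | succ k hk ih =>
    have h1 : (k + 1) ^ 4 ≤ 2 * k ^ 4 := by
      have a : 24 * k ≤ k * k := Nat.mul_le_mul_right k hk
      have b : 24 * (k * k) ≤ k * (k * k) := Nat.mul_le_mul_right (k * k) hk
      have c : 24 * (k * (k * k)) ≤ k * (k * (k * k)) := Nat.mul_le_mul_right (k * (k * k)) hk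
      have e1 : (k + 1) ^ 4 = k * (k * (k * k)) + 4 * (k * (k * k)) + 6 * (k * k) + 4 * k + 1 := by ring
      have e2 : k ^ 4 = k * (k * (k * k)) := by ring
      omega
    have h2 : (k + 1) ^ 2 ≤ 2 * k ^ 2 := by nlinarith
    rw [pow_succ 2 k]
    have e1 : 4 * (4 * (k + 1) ^ 2 + 1) * (2 * (k + 1) ^ 2) = 32 * (k + 1) ^ 4 + 8 * (k + 1) ^ 2 := by ring
    have e2 : 4 * (4 * k ^ 2 + 1) * (2 * k ^ 2) = 32 * k ^ 4 + 8 * k ^ 2 := by ring
    omega

def exceptions : List (ℕ × ℕ) :=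
  [(2, 6), (2, 4), (2, 10), (2, 12), (2, 18), (3, 4), (3, 6), (5, 6), (2, 3), (2, 8), (2, 20), (4, 3), (4, 6)]

def table : List (ℕ × ℕ × ℕ) :=
  [(3, 3, 13), (5, 3, 31), (6, 3, 43), (7, 3, 19), (8, 3, 73), (9, 3, 91), (4, 4, 17), (5, 4, 13), (6, 4, 37),
    (7, 4, 25), (8, 4, 65), (9, 4, 41), (10, 4, 101), (11, 4, 61), (12, 4, 145), (2, 5, 31), (3, 5, 121), (6, 6, 31),
    (7, 6, 43), (8, 6, 19), (9, 6, 73), (10, 6, 91), (11, 6, 37), (12, 6, 133), (13, 6, 157), (14, 6, 61),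
    (15, 6, 211), (16, 6, 241), (17, 6, 91), (2, 7, 127), (3, 8, 41), (4, 8, 257), (2, 9, 73), (3, 10, 61),
    (4, 10, 41), (5, 10, 521), (3, 12, 73), (4, 12, 241), (5, 12, 601), (2, 14, 43), (3, 14, 547), (2, 15, 151),
    (2, 16, 257), (3, 18, 703), (2, 22, 683), (2, 24, 241), (2, 26, 2731), (2, 28, 3277), (2, 30, 331),
    (3, 30, 8401), (2, 36, 4033), (2, 42, 5419)]

theorem table_ok : ∀ t ∈ table, t.2.2 ∣ t.1 ^ t.2.1 - 1 ∧ 3 * t.2.1 + 1 ≤ t.2.2 ∧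
    ∀ i ∈ Finset.range t.2.1, 1 ≤ i → Nat.gcd t.2.2 (t.1 ^ i - 1) = 1 := by
  decide +kernel

theorem table_complete : ∀ e ∈ Finset.Ico 3 93, 4 * (2 * e + 1) * e < 19 ^ e.totient ∧
    ∀ q ∈ Finset.Ico 2 19, q ^ e.totient ≤ 4 * (2 * e + 1) * e →
      (q, e) ∈ exceptions ∨ table.any (fun t => t.1 == q && t.2.1 == e) = true := by
  decide +kernel

theorem exceptions_ok : ∀ t ∈ exceptions, ∃ P ∈ Finset.range (2 * t.2 + 2), P ≠ 0 ∧
    t.1 ^ t.2 - 1 ∣ P * (∏ i ∈ Finset.Ico 1 t.2, (t.1 ^ i - 1)) ^ 6 := by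
  decide +kernel

theorem main (q e : ℕ) (hq : IsPrimePow q) (he : 3 ≤ e) :
    ((q, e) ∉ exceptions →
      ∃ m : ℕ, m ∣ q ^ e - 1 ∧ (∀ i : ℕ, 1 ≤ i → i < e → Nat.Coprime m (q ^ i - 1)) ∧ 3 * e + 1 ≤ m) ∧
    ((q, e) ∈ exceptions →
      ∀ m : ℕ, m ∣ q ^ e - 1 → (∀ i : ℕ, 1 ≤ i → i < e → Nat.Coprime m (q ^ i - 1)) → m ≤ 2 * e + 1) := by
  have hq2 : 2 ≤ q := hq.one_lt
  constructor
  · intro hne
    by_cases hb : 4 * (2 * e + 1) * e < q ^ e.totient
    · exact large_of_bound hq2 he hb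
    have h24 : e.totient < 24 := by
      by_contra hh
      refine hb ?_
      have h1 := totient_sq (by omega : 0 < e)
      calc 4 * (2 * e + 1) * e ≤ 4 * (4 * e.totient ^ 2 + 1) * (2 * e.totient ^ 2) :=
            Nat.mul_le_mul (by omega) h1
        _ < 2 ^ e.totient := two_pow_big _ (by omega)
        _ ≤ q ^ e.totient := Nat.pow_le_pow_left hq2 _
    obtain ⟨h19, hc⟩ := table_complete e (Finset.mem_Ico.2 ⟨he, small_totient (by omega) h24⟩)
    have hq19 : q < 19 := by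
      by_contra hh
      exact hb (lt_of_lt_of_le h19 (Nat.pow_le_pow_left (by omega) _))
    rcases hc q (Finset.mem_Ico.2 ⟨hq2, hq19⟩) (by omega) with h | h
    · exact absurd h hne
    · obtain ⟨t, ht, htq⟩ := List.any_eq_true.1 h
      simp only [Bool.and_eq_true, beq_iff_eq] at htq
      obtain ⟨rfl, rfl⟩ := htq
      obtain ⟨h1, h2, h3⟩ := table_ok t ht
      exact ⟨t.2.2, h1, fun i hi hie => h3 i (Finset.mem_range.2 hie) hi, h2⟩
  · intro hmem m hm hcop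
    obtain ⟨P, hP, hP0, hd⟩ := exceptions_ok (q, e) hmem
    simp only at hd hP
    have hc : Nat.Coprime m ((∏ i ∈ Finset.Ico 1 e, (q ^ i - 1)) ^ 6) :=
      (Nat.Coprime.prod_right fun i hi => hcop i (Finset.mem_Ico.1 hi).1 (Finset.mem_Ico.1 hi).2).pow_right 6
    have h1 := Nat.le_of_dvd (Nat.pos_of_ne_zero hP0) (hc.dvd_of_dvd_mul_right (hm.trans hd))
    rw [Finset.mem_range] at hP
    omega

end Cfsg.Lib.PrimitivePart
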