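import Mathlib
import Cfsg.Agent.Components.Misc.PrimitivePart

/-!
Large primitive prime divisors of `q ^ n - 1`.
-/

namespace Cfsg.Lib.LargePrimitive

open Cfsg.Lib.PrimitivePart

theorem exists_large_part (q e : ℕ) (hq : 2 ≤ q) (he : 3 ≤ e) (hne : (q, e) ∉ exceptions) :
    ∃ m : ℕ, m ∣ q ^ e - 1 ∧ (∀ i : ℕ, 1 ≤ i → i < e → Nat.Coprime m (q ^ i - 1)) ∧ 3 * e + 1 ≤ m := by
  by_cases hb : 4 * (2 * e + 1) * e < q ^ e.totient
  · exact large_of_bound hq he hb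
  have h24 : e.totient < 24 := by
    by_contra hh
    refine hb ?_
    have h1 := totient_sq (by omega : 0 < e)
    calc 4 * (2 * e + 1) * e ≤ 4 * (4 * e.totient ^ 2 + 1) * (2 * e.totient ^ 2) :=
          Nat.mul_le_mul (by omega) h1
      _ < 2 ^ e.totient := two_pow_big _ (by omega)
      _ ≤ q ^ e.totient := Nat.pow_le_pow_left hq _
  obtain ⟨h19, hc⟩ := table_complete e (Finset.mem_Ico.2 ⟨he, small_totient (by omega) h24⟩)
  have hq19 : q < 19 := by
    by_contra hh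
    exact hb (lt_of_lt_of_le h19 (Nat.pow_le_pow_left (by omega) _))
  rcases hc q (Finset.mem_Ico.2 ⟨hq, hq19⟩) (by omega) with h | h
  · exact absurd h hne
  · obtain ⟨t, ht, htq⟩ := List.any_eq_true.1 h
    simp only [Bool.and_eq_true, beq_iff_eq] at htq
    obtain ⟨rfl, rfl⟩ := htq
    obtain ⟨h1, h2, h3⟩ := table_ok t ht
    exact ⟨t.2.2, h1, fun i hi hie => h3 i (Finset.mem_range.2 hie) hi, h2⟩

theorem primitive_ge {q n p : ℕ} (hp : p.Prime) (hq : 2 ≤ q) (hn : 2 ≤ n) (hd : p ∣ q ^ n - 1)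
    (hprim : ∀ i : ℕ, 1 ≤ i → i < n → ¬ p ∣ q ^ i - 1) : n + 1 ≤ p := by
  haveI := Fact.mk hp
  by_contra hh
  have hq0 : (q : ZMod p) ≠ 0 := by
    intro h
    rw [ZMod.natCast_eq_zero_iff] at h
    obtain ⟨c, hc⟩ := h.trans (dvd_pow_self q (by omega : n ≠ 0))
    have h1 : p ∣ 1 := by
      have h1 := Nat.dvd_sub (hc ▸ dvd_mul_right p c : p ∣ q ^ n) hd
      rwa [show q ^ n - (q ^ n - 1) = 1 by have := Nat.one_le_pow n q (by omega); omega] at h1
    exact hp.ne_one (Nat.dvd_one.1 h1)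
  refine hprim (p - 1) (by have := hp.two_le; omega) (by omega) ?_
  rw [← ZMod.natCast_eq_zero_iff, Nat.cast_sub (Nat.one_le_pow _ _ (by omega)), Nat.cast_pow,
    ZMod.pow_card_sub_one_eq_one hq0, Nat.cast_one, sub_self]

theorem main (q n : ℕ) (hq : 2 ≤ q) (hn : 2 ≤ n)
    (h1 : ¬ (n = 2 ∧ ∃ s t : ℕ, t ≤ 1 ∧ q + 1 = 2 ^ s * 3 ^ t))
    (h2 : ¬ (q = 2 ∧ (n = 4 ∨ n = 6 ∨ n = 10 ∨ n = 12 ∨ n = 18)))
    (h3 : ¬ (q = 3 ∧ (n = 4 ∨ n = 6))) (h4 : ¬ (q = 5 ∧ n = 6)) :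
    ∃ p : ℕ, p.Prime ∧ p ∣ q ^ n - 1 ∧ (∀ i : ℕ, 1 ≤ i → i < n → ¬ p ∣ q ^ i - 1) ∧
      (n + 1 < p ∨ p ^ 2 ∣ q ^ n - 1) := by
  rcases Nat.lt_or_ge n 3 with hn3 | hn3
  · obtain rfl : n = 2 := by omega
    have hsq : q ^ 2 - 1 = (q + 1) * (q - 1) := by simpa using Nat.sq_sub_sq q 1
    -- an odd prime divisor of `q + 1` which is large or divides it twice
    obtain ⟨p, hp, hp2, hpd, hcase⟩ : ∃ p : ℕ, p.Prime ∧ p ≠ 2 ∧ p ∣ q + 1 ∧ (3 < p ∨ p ^ 2 ∣ q + 1) := by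
      by_contra hno
      push Not at hno
      refine h1 ⟨rfl, (q + 1).factorization 2, (q + 1).factorization 3, ?_, ?_⟩
      · by_contra ht
        have h3d : 3 ^ 2 ∣ q + 1 := (pow_dvd_pow 3 (by omega)).trans (Nat.ordProj_dvd (q + 1) 3)
        exact (hno 3 Nat.prime_three (by norm_num) ((dvd_pow_self 3 two_ne_zero).trans h3d)).2 h3d
      · refine Nat.eq_of_factorization_eq (by omega) (by positivity) fun s => ?_
        rw [Nat.factorization_mul (by positivity) (by positivity), Nat.prime_two.factorization_pow,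
          Nat.prime_three.factorization_pow, Finsupp.add_apply, Finsupp.single_apply, Finsupp.single_apply]
        by_cases hs2 : 2 = s
        · subst hs2; simp
        by_cases hs3 : 3 = s
        · subst hs3; simp
        rw [if_neg hs2, if_neg hs3, add_zero]
        by_cases hsp : s.Prime
        · refine Nat.factorization_eq_zero_of_not_dvd fun hd => ?_
          have := (hno s hsp (Ne.symm hs2) hd).1
          have := hsp.two_le
          omega
        · exact Nat.factorization_eq_zero_of_not_prime _ hsp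
    refine ⟨p, hp, hsq ▸ hpd.mul_right _, fun i hi1 hi2 hd => ?_, ?_⟩
    · obtain rfl : i = 1 := by omega
      rw [pow_one] at hd
      have h5 := Nat.dvd_sub hpd hd
      rw [show q + 1 - (q - 1) = 2 by omega] at h5
      exact hp2 ((Nat.prime_dvd_prime_iff_eq hp Nat.prime_two).1 h5)
    · rcases hcase with h | h
      · exact Or.inl (by omega)
      · exact Or.inr (hsq ▸ h.mul_right _)
  by_cases hex : (q, n) ∈ exceptions
  · simp only [exceptions, List.mem_cons, List.not_mem_nil, or_false, Prod.mk.injEq] at hex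
    rcases hex with ⟨rfl, rfl⟩ | ⟨rfl, rfl⟩ | ⟨rfl, rfl⟩ | ⟨rfl, rfl⟩ | ⟨rfl, rfl⟩ | ⟨rfl, rfl⟩ | ⟨rfl, rfl⟩ |
      ⟨rfl, rfl⟩ | ⟨rfl, rfl⟩ | ⟨rfl, rfl⟩ | ⟨rfl, rfl⟩ | ⟨rfl, rfl⟩ | ⟨rfl, rfl⟩
    · omega
    · omega
    · omega
    · omega
    · omega
    · omega
    · omega
    · omega
    · exact ⟨7, by norm_num, by norm_num, fun i hi1 hi2 => by interval_cases i <;> norm_num, by norm_num⟩
    · exact ⟨17, by norm_num, by norm_num, fun i hi1 hi2 => by interval_cases i <;> norm_num, by norm_num⟩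
    · exact ⟨41, by norm_num, by norm_num, fun i hi1 hi2 => by interval_cases i <;> norm_num, by norm_num⟩
    · exact ⟨7, by norm_num, by norm_num, fun i hi1 hi2 => by interval_cases i <;> norm_num, by norm_num⟩
    · exact ⟨13, by norm_num, by norm_num, fun i hi1 hi2 => by interval_cases i <;> norm_num, by norm_num⟩
  obtain ⟨m, hm, hcop, hbig⟩ := exists_large_part q n hq hn3 hex
  have hprim : ∀ p : ℕ, p.Prime → p ∣ m → ∀ i : ℕ, 1 ≤ i → i < n → ¬ p ∣ q ^ i - 1 := fun p hp hpm i hi hin hd =>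
    hp.ne_one (Nat.eq_one_of_dvd_coprimes (hcop i hi hin) hpm hd)
  by_contra hno
  push Not at hno
  have hall : ∀ p : ℕ, p.Prime → p ∣ m → p = n + 1 ∧ ¬ p ^ 2 ∣ m := fun p hp hpm => by
    obtain ⟨h5, h6⟩ := hno p hp (hpm.trans hm) (hprim p hp hpm)
    have := primitive_ge hp hq hn (hpm.trans hm) (hprim p hp hpm)
    exact ⟨by omega, fun h => h6 (h.trans hm)⟩
  have hm1 : m ≠ 1 := by omega
  obtain ⟨p, hp, hpm⟩ := Nat.exists_prime_and_dvd hm1
  obtain ⟨c, hc⟩ := hpm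
  obtain ⟨hpe, hp2⟩ := hall p hp (hc ▸ dvd_mul_right p c)
  have hc1 : c = 1 := by
    by_contra hc1
    obtain ⟨s, hs, hsc⟩ := Nat.exists_prime_and_dvd hc1
    have hse := (hall s hs (hc ▸ hsc.mul_left p)).1
    refine hp2 ?_
    rw [pow_two, hc]
    exact Nat.mul_dvd_mul_left p (by rw [hpe, ← hse]; exact hsc)
  rw [hc1, mul_one] at hc
  omega

end Cfsg.Lib.LargePrimitive
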