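import Cfsg.Agent.S1314
import Cfsg.Agent.Components.LBalanceTwo.Balance
import Cfsg.Agent.Components.PCompCentralizer
import Cfsg.Prelude.Def_Balance

/-!
A component of the centralizer of an involution, maximal in order and in the 2-rank of its
centralizer, stays a component in the centralizers of the involutions of a maximal elementary
abelian subgroup centralizing it.
-/

set_option autoImplicit false
set_option linter.unusedSectionVars false

namespace Cfsg.Lib.Misc.MaximalComponent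

open Subgroup Cfsg.Lib.Components
open scoped commutatorElement

universe u

variable {X : Type u} [Group X] [Finite X]

theorem centralizer_le_normalizer' (H : Subgroup X) :
    centralizer (H : Set X) ≤ normalizer (H : Set X) := fun g hg =>
  mem_normalizer_iff.mpr fun h => by
    constructor
    · intro hh
      rw [← hg h hh, mul_inv_cancel_right]; exact hh
    · intro hh
      have e := hg _ hh
      have : g * h * g⁻¹ = h := by
        have : g * h * g⁻¹ * g = g * (g * h * g⁻¹) := e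
        rw [inv_mul_cancel_right] at this
        exact (mul_left_cancel this).symm
      rwa [this] at hh

/-- a component of `C(a)` of even order lies in the layer when the 2-layer is the layer -/
theorem le_layer {a : X} (ha : orderOf a = 2) (hX : pLayer 2 X ≤ layer X) {K : Subgroup X}
    (hKC : K ≤ centralizer ({a} : Set X)) (hK : IsComponent (K.subgroupOf (centralizer ({a} : Set X))))
    (he : 2 ∣ Nat.card K) : K ≤ layer X := by
  haveI : Fact (Nat.Prime 2) := ⟨Nat.prime_two⟩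
  have hKa : K ≤ centralizer (zpowers a : Set X) := fun k hk x hx => by
    obtain ⟨n, rfl⟩ := mem_zpowers_iff.mp hx
    exact ((show Commute k a from mem_centralizer_singleton_iff.mp (hKC hk)).zpow_right n).eq.symm
  have hCeq : centralizer ({a} : Set X) = centralizer (zpowers a : Set X) := by
    rw [zpowers_eq_closure, centralizer_closure]
  rw [hCeq] at hK
  set C := centralizer (zpowers a : Set X) with hC
  have h1 : K.subgroupOf C ≤ pLayer 2 C := by
    refine le_sSup ⟨hK.1, ?_, fun H hH hle himg => ?_⟩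
    · refine (comp_map_surjective hK _ (QuotientGroup.mk'_surjective _)).resolve_left fun hbot => ?_
      rw [Subgroup.map_eq_bot_iff, QuotientGroup.ker_mk'] at hbot
      have hc := coprime_card_pPrimeCore (G := C) 2
      have hd : 2 ∣ Nat.card ↥(pPrimeCore 2 C) := by
        refine (he.trans (dvd_of_eq ?_)).trans (Subgroup.card_dvd_of_le hbot)
        exact (Nat.card_congr (subgroupOfEquivOfLe hKa).toEquiv).symm
      exact absurd (Nat.eq_one_of_dvd_coprimes hc hd dvd_rfl) (by norm_num)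
    · rcases qs_subnormal_eq_top_or_le_center hK.2 (hH.subgroupOf (K := K.subgroupOf C)) with h | h
      · exact le_antisymm hle (subgroupOf_eq_top.mp h)
      · exfalso
        set q := QuotientGroup.mk' (pPrimeCore 2 C)
        have hcomm : ⁅H, K.subgroupOf C⁆ = ⊥ := by
          refine commutator_map_subtype_eq_bot hle le_rfl ?_
          rw [← le_bot_iff, ← commutator_center_left ((K.subgroupOf C).subgroupOf (K.subgroupOf C))]
          exact commutator_mono h le_rfl
        have h2 := congrArg (Subgroup.map q) hcomm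
        rw [map_commutator, himg, ← map_commutator, comp_perfect hK, Subgroup.map_bot,
          Subgroup.map_eq_bot_iff, QuotientGroup.ker_mk'] at h2
        have hc := coprime_card_pPrimeCore (G := C) 2
        have hd : 2 ∣ Nat.card ↥(pPrimeCore 2 C) := by
          refine (he.trans (dvd_of_eq ?_)).trans (Subgroup.card_dvd_of_le h2)
          exact (Nat.card_congr (subgroupOfEquivOfLe hKa).toEquiv).symm
        exact absurd (Nat.eq_one_of_dvd_coprimes hc hd dvd_rfl) (by norm_num)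
  have h3 : IsPGroup 2 ↥(zpowers a) := IsPGroup.of_card (n := 1) (by rw [Nat.card_zpowers, ha, pow_one])
  have h4 := (Subgroup.map_mono (f := C.subtype) h1).trans (Cfsg.Lib.LBalTwo.pLayer_centralizer_le _ h3)
  rw [map_subgroupOf_eq_of_le hKa] at h4
  exact h4.trans hX

/-- the component of `X` through which a component of `C(a)` inside the layer passes -/
theorem cases {a : X} (ha : orderOf a = 2) {K : Subgroup X} (hKC : K ≤ centralizer ({a} : Set X))
    (hK : IsComponent (K.subgroupOf (centralizer ({a} : Set X)))) (hKE : K ≤ layer X) :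
    ∃ L : Subgroup X, IsComponent L ∧
      (K ≤ L ∨ (L.map (MulAut.conj a).toMonoidHom ≠ L ∧
        (∀ J : Subgroup X, IsComponent J → ⁅K, J⁆ ≠ ⊥ → J = L ∨ J = L.map (MulAut.conj a).toMonoidHom) ∧
        ⁅K, L⁆ ≠ ⊥ ∧
        ∃ π : ↥L →* X, (∀ l : ↥L, π l = (l : X) * (a * (l : X) * a⁻¹)) ∧ π.range = K)) := by
  set C := centralizer ({a} : Set X) with hC
  have haa : a * a = 1 := by rw [← pow_two, ← ha, pow_orderOf_eq_one]
  have hKperf : ⁅K, K⁆ = K := by
    have := congrArg (Subgroup.map C.subtype) (comp_perfect hK)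
    rwa [map_commutator, map_subgroupOf_eq_of_le hKC] at this
  have hKne : K ≠ ⊥ := fun h => comp_ne_bot hK (by rw [h, bot_subgroupOf])
  obtain ⟨L, hL, hKL⟩ : ∃ L, IsComponent L ∧ ⁅K, L⁆ ≠ ⊥ := by
    by_contra hcon
    push Not at hcon
    have h1 : layer X ≤ centralizer (K : Set X) := sSup_le fun J hJ => by
      rw [← commutator_eq_bot_iff_le_centralizer, commutator_comm]
      exact hcon J hJ
    exact hKne (hKperf.symm.trans (commutator_eq_bot_iff_le_centralizer.mpr (hKE.trans h1)))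
  refine ⟨L, hL, ?_⟩
  set c := (MulAut.conj a).toMonoidHom with hc
  have hcc : ∀ x, c (c x) = x := fun x => by
    simp only [hc, MulEquiv.coe_toMonoidHom, MulAut.conj_apply]
    calc a * (a * x * a⁻¹) * a⁻¹ = (a * a) * x * (a * a)⁻¹ := by group
      _ = x := by rw [haa]; group
  have hmm : ∀ J : Subgroup X, (J.map c).map c = J := fun J => by
    ext x
    refine ⟨?_, fun hx => ⟨c x, ⟨x, hx, rfl⟩, hcc x⟩⟩
    rintro ⟨_, ⟨y, hy, rfl⟩, rfl⟩
    rw [hcc]; exact hy
  set L' := L.map c with hL'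
  have hL'c : IsComponent L' := comp_conj hL a
  set R := sSup {J : Subgroup X | IsComponent J ∧ J ≠ L ∧ J ≠ L'} with hR
  set H := L ⊔ L' with hH
  have hRH : R ≤ centralizer (H : Set X) := by
    refine sSup_le fun J hJ => ?_
    rw [← commutator_eq_bot_iff_le_centralizer, commutator_comm,
      commutator_eq_bot_iff_le_centralizer]
    exact sup_le (commutator_eq_bot_iff_le_centralizer.mp (comp_commute hL hJ.1 hJ.2.1.symm))
      (commutator_eq_bot_iff_le_centralizer.mp (comp_commute hL'c hJ.1 hJ.2.2.symm))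
  have hlay : layer X ≤ H ⊔ R := sSup_le fun J hJ => by
    by_cases h1 : J = L
    · rw [h1]; exact le_sup_left.trans le_sup_left
    by_cases h2 : J = L'
    · rw [h2]; exact le_sup_right.trans le_sup_left
    exact (le_sSup (show J ∈ {J : Subgroup X | IsComponent J ∧ J ≠ L ∧ J ≠ L'} from ⟨hJ, h1, h2⟩)).trans le_sup_right
  have hdec : ∀ k ∈ K, ∃ h ∈ H, ∃ r ∈ R, h * r = k := fun k hk => by
    have h1 : k ∈ ((H ⊔ R : Subgroup X) : Set X) := hlay (hKE hk)
    rw [coe_mul_of_right_le_normalizer_left _ _ (hRH.trans (centralizer_le_normalizer' H))] at h1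
    exact h1
  have hcH : ∀ h ∈ H, c h ∈ H := by
    intro h hh
    have : H.map c = H := by rw [hH, Subgroup.map_sup, hmm]; exact sup_comm _ _
    rw [← this]; exact ⟨h, hh, rfl⟩
  have hcR : ∀ r ∈ R, c r ∈ R := by
    intro r hr
    have : R ≤ R.comap c := sSup_le fun J hJ => by
      rw [← Subgroup.map_le_iff_le_comap]
      refine le_sSup (show J.map c ∈ {J : Subgroup X | IsComponent J ∧ J ≠ L ∧ J ≠ L'} from
        ⟨comp_conj hJ.1 a, fun e => hJ.2.2 ?_, fun e => hJ.2.1 ?_⟩)
      · rw [← hmm J, e]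
      · rw [← hmm J, e, hmm]
    exact this hr
  let φ : ↥H × ↥R →* X := MonoidHom.noncommCoprod H.subtype R.subtype
    (fun h r => (hRH r.2 h.1 h.2 : h.1 * r.1 = r.1 * h.1))
  have hcom : ∀ h ∈ H, ∀ h' ∈ H, ∀ r ∈ R, ∀ r' ∈ R, ⁅h * r, h' * r'⁆ = ⁅h, h'⁆ * ⁅r, r'⁆ :=
    fun h hh h' hh' r hr r' hr' => by
      have := map_commutatorElement φ ((⟨h, hh⟩ : ↥H), (⟨r, hr⟩ : ↥R)) ((⟨h', hh'⟩ : ↥H), (⟨r', hr'⟩ : ↥R))
      exact this.symm
  have hfixK : ∀ k ∈ K, c k = k := fun k hk => by
    simp only [hc, MulEquiv.coe_toMonoidHom, MulAut.conj_apply]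
    rw [← mem_centralizer_singleton_iff.mp (hKC hk), mul_inv_cancel_right]
  set S : Set X := {h : X | h ∈ H ∧ ∃ r ∈ R, h * r ∈ K} with hS
  set W := H ⊓ C with hW
  have hSW : ∀ h ∈ S, ∀ h' ∈ S, ⁅h, h'⁆ ∈ W := by
    rintro h ⟨hh, r, hr, hk⟩ h' ⟨hh', r', hr', hk'⟩
    refine ⟨?_, mem_centralizer_singleton_iff.mpr ?_⟩
    · exact commutator_le_self H (commutator_mem_commutator hh hh')
    have hz : ∀ h r, h ∈ H → r ∈ R → h * r ∈ K → h⁻¹ * c h ∈ H ∧ h⁻¹ * c h ∈ R := fun h r hh hr hk => by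
      refine ⟨mul_mem (inv_mem hh) (hcH h hh), ?_⟩
      have e : c h * c r = h * r := by rw [← map_mul]; exact hfixK _ hk
      have : h⁻¹ * c h = r * (c r)⁻¹ := by
        rw [eq_mul_inv_iff_mul_eq, mul_assoc, e]; group
      rw [this]; exact mul_mem hr (inv_mem (hcR r hr))
    obtain ⟨z1, z2⟩ := hz h r hh hr hk
    obtain ⟨w1, w2⟩ := hz h' r' hh' hr' hk'
    have e : c ⁅h, h'⁆ = ⁅h, h'⁆ := by
      rw [map_commutatorElement, show c h = h * (h⁻¹ * c h) by group,
        show c h' = h' * (h'⁻¹ * c h') by group, hcom h hh h' hh' _ z2 _ w2,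
        commutatorElement_eq_one_iff_commute.mpr (hRH w2 _ z1), mul_one]
    simp only [hc, MulEquiv.coe_toMonoidHom, MulAut.conj_apply] at e
    exact (mul_inv_eq_iff_eq_mul.mp e).symm
  have hWsn : (W.subgroupOf C).IsSubnormal := by
    have hLn : layer X ≤ normalizer (H : Set X) := fun g hg =>
      mem_normalizer_iff_map_conj_eq.mpr (by
        rw [hH, Subgroup.map_sup, mem_normalizer_iff_map_conj_eq.mp (comp_normal_in_layer hL hg),
          mem_normalizer_iff_map_conj_eq.mp (comp_normal_in_layer hL'c hg)])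
    haveI : ((layer X).subgroupOf C).Normal := Subgroup.Normal.subgroupOf inferInstance C
    refine isSubnormal_of_normal_in (Subgroup.Normal.isSubnormal (H := (layer X).subgroupOf C) inferInstance)
      (fun x hx => sup_le (comp_le_layer hL) (comp_le_layer hL'c) hx.1) ?_
    intro g hg
    rw [mem_normalizer_iff]
    intro x
    constructor
    · intro hx
      exact ⟨(mem_normalizer_iff.mp (hLn hg) _).mp hx.1, C.mul_mem (C.mul_mem g.2 hx.2) (C.inv_mem g.2)⟩
    · intro hx
      exact ⟨(mem_normalizer_iff.mp (hLn hg) _).mpr hx.1, x.2⟩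
  have hKW : K ≤ W := by
    rcases comp_le_or_commute hK hWsn with h | h
    · intro k hk
      exact h (show (⟨k, hKC hk⟩ : C) ∈ K.subgroupOf C from hk)
    exfalso
    have hKWc : ⁅K, W⁆ = ⊥ := commutator_map_subtype_eq_bot hKC inf_le_right h
    have hstep : ∀ s ∈ S, ∀ h ∈ S, ∀ h' ∈ S, s * ⁅h, h'⁆ = ⁅h, h'⁆ * s := by
      rintro s ⟨hs, r, hr, hk⟩ h hh h' hh'
      have hw := hSW h hh h' hh'
      have h1 : Commute (s * r) ⁅h, h'⁆ := commute_of_commutator_eq_bot hKWc hk hw
      have h2 : Commute r ⁅h, h'⁆ := ((hRH hr) _ hw.1).symm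
      have := h1.mul_left h2.inv_left
      rwa [mul_inv_cancel_right] at this
    set Z := centralizer S ⊓ H with hZ
    have hZR : R ≤ normalizer (Z : Set X) :=
      (hRH.trans (centralizer_le (fun x hx => (mem_inf.mp hx).2))).trans (centralizer_le_normalizer' Z)
    have hKQ : K ≤ Z ⊔ R := by
      rw [← hKperf, commutator_le]
      intro k hk k' hk'
      obtain ⟨h, hh, r, hr, rfl⟩ := hdec k hk
      obtain ⟨h', hh', r', hr', rfl⟩ := hdec k' hk'
      rw [hcom h hh h' hh' r hr r' hr']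
      refine mul_mem_sup ⟨fun s hs => hstep s hs h ⟨hh, r, hr, hk⟩ h' ⟨hh', r', hr', hk'⟩,
        (hSW h ⟨hh, r, hr, hk⟩ h' ⟨hh', r', hr', hk'⟩).1⟩ ?_
      exact commutator_le_self R (commutator_mem_commutator hr hr')
    have hSS : ∀ h ∈ S, ∀ s ∈ S, s * h = h * s := by
      rintro h ⟨hh, r, hr, hk⟩ s hs
      have h1 : h * r ∈ ((Z ⊔ R : Subgroup X) : Set X) := hKQ hk
      rw [coe_mul_of_right_le_normalizer_left _ _ hZR] at h1
      obtain ⟨q, hq, r', hr', e⟩ := h1
      have e' : h = q * (r' * r⁻¹) := by rw [← mul_assoc, show q * r' = h * r from e]; group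
      rw [e']
      exact ((show Commute s q from hq.1 s hs).mul_right
        (show Commute s (r' * r⁻¹) from hRH (mul_mem hr' (inv_mem hr)) s hs.1)).eq
    have hKR : K ≤ R := by
      rw [← hKperf, commutator_le]
      intro k hk k' hk'
      obtain ⟨h, hh, r, hr, rfl⟩ := hdec k hk
      obtain ⟨h', hh', r', hr', rfl⟩ := hdec k' hk'
      rw [hcom h hh h' hh' r hr r' hr', commutatorElement_eq_one_iff_commute.mpr
        (show Commute h h' from hSS h' ⟨hh', r', hr', hk'⟩ h ⟨hh, r, hr, hk⟩), one_mul]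
      exact commutator_le_self R (commutator_mem_commutator hr hr')
    exact hKL (commutator_eq_bot_iff_le_centralizer.mpr
      (hKR.trans (hRH.trans (centralizer_le (SetLike.coe_subset_coe.mpr le_sup_left)))))
  by_cases hLL : L' = L
  · left
    exact hKW.trans (inf_le_left.trans (sup_le le_rfl hLL.le))
  right
  have hJ : ∀ J : Subgroup X, IsComponent J → ⁅K, J⁆ ≠ ⊥ → J = L ∨ J = L' := by
    intro J hJ hne
    by_contra hcon
    push Not at hcon
    apply hne
    rw [commutator_comm, commutator_eq_bot_iff_le_centralizer]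
    exact ((le_sSup (show J ∈ {J : Subgroup X | IsComponent J ∧ J ≠ L ∧ J ≠ L'} from ⟨hJ, hcon.1, hcon.2⟩)).trans
      hRH).trans (centralizer_le (fun x hx => (hKW hx).1))
  obtain ⟨π, hπ, -, hπC, hπM⟩ := Cfsg.Agent.S1314.result a ha L (comp_perfect hL)
    (comp_commute hL hL'c (Ne.symm hLL))
  refine ⟨hLL, hJ, hKL, π, hπ, ?_⟩
  have hKr : K ≤ π.range := by
    rw [← hπM, ← hKperf]
    exact commutator_mono hKW hKW
  haveI : Nontrivial ↥π.range :=
    (Subgroup.nontrivial_iff_ne_bot _).mpr fun hb => hKne (le_bot_iff.mp (hb ▸ hKr))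
  have hq := qs_of_surjective hL.2 π.rangeRestrict π.rangeRestrict_surjective
  have hsn : (K.subgroupOf π.range).IsSubnormal := by
    have h1 := (hK.1.subgroupOf (K := π.range.subgroupOf C))
    have h2 := isSubnormal_conj h1 (subgroupOfEquivOfLe hπC)
    have e : ((K.subgroupOf C).subgroupOf (π.range.subgroupOf C)).map
        (subgroupOfEquivOfLe hπC).toMonoidHom = K.subgroupOf π.range := by
      ext x
      constructor
      · rintro ⟨y, hy, rfl⟩; exact hy
      · intro hx; exact ⟨⟨⟨x.1, hπC x.2⟩, x.2⟩, hx, rfl⟩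
    rwa [e] at h2
  rcases qs_subnormal_eq_top_or_le_center hq hsn with h | h
  · exact le_antisymm (subgroupOf_eq_top.mp h) hKr
  · exfalso
    refine hKne (hKperf.symm.trans (commutator_map_subtype_eq_bot hKr hKr ?_))
    rw [← le_bot_iff, ← commutator_center_left (K.subgroupOf π.range)]
    exact commutator_mono h le_rfl

/-- the rank contradiction for a diagonal component -/
theorem exists_large {a : X} (ha : orderOf a = 2) {K L : Subgroup X} (hL : IsComponent L)
    (hne : L.map (MulAut.conj a).toMonoidHom ≠ L)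
    (hJ : ∀ J : Subgroup X, IsComponent J → ⁅K, J⁆ ≠ ⊥ → J = L ∨ J = L.map (MulAut.conj a).toMonoidHom)
    (hKL : ⁅K, L⁆ ≠ ⊥) (π : ↥L →* X) (hπ : ∀ l : ↥L, π l = (l : X) * (a * (l : X) * a⁻¹))
    (hπi : Function.Injective π) (hπr : π.range = K) (B : Subgroup X) (hBe : IsElementaryAbelian 2 B)
    (hBa : B ≤ centralizer ({a} : Set X)) (hBK : B ≤ centralizer (K : Set X))
    (A : Subgroup X) (hAK : A ≤ K) (hAe : IsElementaryAbelian 2 A) (hA : 2 < Nat.card A) :
    ∃ B' : Subgroup X, IsElementaryAbelian 2 B' ∧ B' ≤ centralizer (L : Set X) ∧ Nat.card B < Nat.card B' := by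
  classical
  set c := (MulAut.conj a).toMonoidHom with hc
  set L' := L.map c with hL'
  have haa : a * a = 1 := by rw [← pow_two, ← ha, pow_orderOf_eq_one]
  have hac : ∀ β ∈ B, β * a = a * β := fun β hβ => mem_centralizer_singleton_iff.mp (hBa hβ)
  have hKfix : ∀ β ∈ B, K.map (MulAut.conj β).toMonoidHom = K := fun β hβ =>
    mem_normalizer_iff_map_conj_eq.mp (centralizer_le_normalizer' K (hBK hβ))
  have hperm : ∀ β ∈ B, L.map (MulAut.conj β).toMonoidHom = L ∨ L.map (MulAut.conj β).toMonoidHom = L' := by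
    intro β hβ
    refine hJ _ (comp_conj hL β) fun h => hKL ?_
    rw [← hKfix β hβ, ← map_commutator, Subgroup.map_eq_bot_iff,
      MonoidHom.ker_eq_bot _ (MulAut.conj β).injective] at h
    exact le_bot_iff.mp h
  set B₁ := B ⊓ normalizer (L : Set X) with hB₁
  have hidx : Nat.card B ≤ 2 * Nat.card B₁ := by
    by_cases hall : B ≤ normalizer (L : Set X)
    · rw [hB₁, inf_eq_left.mpr hall]; omega
    obtain ⟨β₀, hβ₀, hβ₀n⟩ := SetLike.not_le_iff_exists.mp hall
    have hsub : (B : Set X) ⊆ (B₁ : Set X) ∪ (fun x => β₀ * x) '' (B₁ : Set X) := by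
      intro β hβ
      by_cases hn : β ∈ normalizer (L : Set X)
      · exact Or.inl ⟨hβ, hn⟩
      · refine Or.inr ⟨β₀⁻¹ * β, ⟨B.mul_mem (B.inv_mem hβ₀) hβ, ?_⟩, by simp⟩
        rw [mem_normalizer_iff_map_conj_eq] at hn hβ₀n
        have e1 := (hperm β hβ).resolve_left hn
        have e2 := (hperm β₀ hβ₀).resolve_left hβ₀n
        refine mem_normalizer_iff_map_conj_eq.mpr ?_
        have e3 : L.map (MulAut.conj (β₀⁻¹ * β)).toMonoidHom =
            (L.map (MulAut.conj β).toMonoidHom).map (MulAut.conj β₀⁻¹).toMonoidHom := by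
          rw [map_map]; congr 1; ext x; simp [mul_assoc]
        refine e3.trans ?_
        rw [e1, ← e2, map_map]
        conv_rhs => rw [← map_id L]
        congr 1; ext x; simp [mul_assoc]
    have h1 := Set.ncard_le_ncard hsub
    have h2 := Set.ncard_union_le (B₁ : Set X) ((fun x => β₀ * x) '' (B₁ : Set X))
    have h3 := Set.ncard_image_le (s := (B₁ : Set X)) (f := fun x => β₀ * x)
    have h4 : ∀ S : Subgroup X, (S : Set X).ncard = Nat.card S := fun S => (Nat.card_coe_set_eq _).symm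
    rw [h4] at h1 h2 h3
    omega
  have hBL : ∀ β ∈ B₁, ∀ x ∈ L, β * x = x * β := by
    intro β hβ x hx
    have hx' : β * x * β⁻¹ ∈ L := (mem_normalizer_iff.mp hβ.2 x).mp hx
    have hk : π ⟨x, hx⟩ ∈ K := hπr ▸ ⟨_, rfl⟩
    have hfix : β * π ⟨x, hx⟩ * β⁻¹ = π ⟨x, hx⟩ := by rw [← hBK hβ.1 _ hk]; group
    have e : π ⟨β * x * β⁻¹, hx'⟩ = π ⟨x, hx⟩ := by
      rw [← hfix, hπ, hπ]
      show β * x * β⁻¹ * (a * (β * x * β⁻¹) * a⁻¹) = β * (x * (a * x * a⁻¹)) * β⁻¹
      rw [show a * (β * x * β⁻¹) * a⁻¹ = (a * β) * x * (a * β)⁻¹ by group, ← hac β hβ.1]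
      group
    exact mul_inv_eq_iff_eq_mul.mp (congrArg Subtype.val (hπi e))
  have hBL' : ∀ β ∈ B₁, ∀ y ∈ L', β * y = y * β := by
    rintro β hβ _ ⟨x, hx, rfl⟩
    show β * (a * x * a⁻¹) = a * x * a⁻¹ * β
    have h1 : Commute β x := hBL β hβ x hx
    have h2 : Commute β a := hac β hβ.1
    exact ((h2.mul_right h1).mul_right h2.inv_right).eq
  set A₀ := A.comap π with hA₀
  set E := A₀.map (c.comp L.subtype) with hE
  have hinj : Function.Injective (c.comp L.subtype) :=
    (MulAut.conj a).injective.comp L.subtype_injective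
  have hEA : Nat.card E = Nat.card A := by
    rw [hE, ← Nat.card_congr (A₀.equivMapOfInjective _ hinj).toEquiv,
      Nat.card_congr (A₀.equivMapOfInjective _ hπi).toEquiv, hA₀, map_comap_eq,
      inf_eq_right.mpr (hπr ▸ hAK)]
  have hEL' : E ≤ L' := by
    rintro _ ⟨x, -, rfl⟩; exact ⟨x, x.2, rfl⟩
  have hEc : ∀ e ∈ E, ∀ f ∈ E, e * f = f * e := by
    rintro _ ⟨x, hx, rfl⟩ _ ⟨y, hy, rfl⟩
    rw [← map_mul, ← map_mul]
    congr 1
    apply hπi
    rw [map_mul, map_mul]
    exact congrArg Subtype.val (hAe.1.is_comm.comm (⟨_, hx⟩ : A) ⟨_, hy⟩)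
  have hE2 : ∀ e ∈ E, e ^ 2 = 1 := by
    rintro _ ⟨x, hx, rfl⟩
    rw [← map_pow, show x ^ 2 = 1 from hπi (by rw [map_pow, map_one]; exact hAe.2 _ hx), map_one]
  let φ : ↥B₁ × ↥E →* X := MonoidHom.noncommCoprod B₁.subtype E.subtype
    (fun b e => hBL' b.1 b.2 e.1 (hEL' e.2))
  have hφ : Function.Injective φ := by
    rw [injective_iff_map_eq_one]
    rintro ⟨b, e⟩ h
    have he : (b : X) * (e : X) = 1 := h
    have hb : (b : X) ∈ L' := by
      rw [eq_inv_of_mul_eq_one_left he]; exact inv_mem (hEL' e.2)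
    obtain ⟨x, hx, hxb⟩ := hb
    have hbL : (b : X) ∈ L := by
      have e1 : x = a * b * a⁻¹ := by
        rw [← hxb]
        show x = a * (a * x * a⁻¹) * a⁻¹
        calc x = (a * a) * x * (a * a)⁻¹ := by rw [haa]; group
          _ = _ := by group
      have e2 : a * b * a⁻¹ = (b : X) := by rw [← hac b b.2.1]; group
      rw [e2] at e1
      rw [← e1]; exact hx
    have hb1 : (b : X) = 1 := by
      have := hπ ⟨b, hbL⟩
      have e2 : a * (b : X) * a⁻¹ = b := by rw [← hac b b.2.1]; group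
      have e3 : π ⟨b, hbL⟩ = π 1 := by
        rw [this, map_one]
        show (b : X) * (a * (b : X) * a⁻¹) = 1
        rw [e2, ← pow_two]
        exact hBe.2 _ b.2.1
      exact congrArg Subtype.val (hπi e3)
    rw [hb1, one_mul] at he
    exact Prod.ext (Subtype.ext hb1) (Subtype.ext he)
  refine ⟨φ.range, ⟨⟨⟨?_⟩⟩, ?_⟩, ?_, ?_⟩
  · rintro ⟨_, ⟨b, e⟩, rfl⟩ ⟨_, ⟨b', e'⟩, rfl⟩
    refine Subtype.ext ?_
    show φ (b, e) * φ (b', e') = φ (b', e') * φ (b, e)
    rw [← map_mul, ← map_mul]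
    congr 1
    exact Prod.ext (Subtype.ext (congrArg Subtype.val (hBe.1.is_comm.comm (⟨b, b.2.1⟩ : B) ⟨b', b'.2.1⟩) :
      (b : X) * b' = b' * b)) (Subtype.ext (hEc e e.2 e' e'.2))
  · rintro _ ⟨⟨b, e⟩, rfl⟩
    rw [← map_pow, show ((b, e) : ↥B₁ × ↥E) ^ 2 = 1 from
      Prod.ext (Subtype.ext (hBe.2 _ b.2.1)) (Subtype.ext (hE2 e e.2)), map_one]
  · rintro _ ⟨⟨b, e⟩, rfl⟩ x hx
    show x * ((b : X) * e) = (b : X) * e * x
    have h1 : Commute x (b : X) := (hBL b b.2 x hx).symm
    have h2 : Commute x (e : X) :=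
      commute_of_commutator_eq_bot (comp_commute hL (comp_conj hL a) (Ne.symm hne)) hx (hEL' e.2)
    exact (h1.mul_right h2).eq
  · rw [Nat.card_congr (MonoidHom.ofInjective hφ).toEquiv.symm, Nat.card_prod, hEA]
    have : 0 < Nat.card B₁ := Nat.card_pos
    calc Nat.card B ≤ 2 * Nat.card B₁ := hidx
      _ < Nat.card A * Nat.card B₁ := Nat.mul_lt_mul_of_pos_right hA this
      _ = Nat.card B₁ * Nat.card A := mul_comm _ _

theorem main {G : Type u} [Group G] [Finite G] (hO : Cfsg.oddCore G = ⊥) (hB : Cfsg.HasBProperty G)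
    (a : G) (ha : orderOf a = 2) (K : Subgroup G) (hKa : K ≤ centralizer ({a} : Set G))
    (hK : IsComponent (K.subgroupOf (centralizer ({a} : Set G))))
    (hmax : ∀ y : G, orderOf y = 2 → ∀ K' : Subgroup G, K' ≤ centralizer ({y} : Set G) →
      IsComponent (K'.subgroupOf (centralizer ({y} : Set G))) →
      Nat.card ↥K' ≤ Nat.card ↥K ∧ (Nat.card ↥K' = Nat.card ↥K → ∀ k : ℕ,
        Cfsg.PRankLE 2 k ↥(centralizer ({a} : Set G) ⊓ centralizer (K : Set G)) →
        Cfsg.PRankLE 2 k ↥(centralizer ({y} : Set G) ⊓ centralizer (K' : Set G))))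
    (hrk : ¬ Cfsg.PRankLE 2 1 ↥K) (B : Subgroup G)
    (hBle : B ≤ centralizer ({a} : Set G) ⊓ centralizer (K : Set G)) (hBel : Cfsg.IsElementaryAbelian 2 B)
    (hBmax : ∀ B' : Subgroup G, B' ≤ centralizer ({a} : Set G) ⊓ centralizer (K : Set G) →
      Cfsg.IsElementaryAbelian 2 B' → Nat.card ↥B' ≤ Nat.card ↥B) (b : G) (hb : b ∈ B) (hb1 : b ≠ 1) :
    K ≤ centralizer ({b} : Set G) ∧ IsComponent (K.subgroupOf (centralizer ({b} : Set G))) := by
  haveI : Fact (Nat.Prime 2) := ⟨Nat.prime_two⟩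
  have hbo : orderOf b = 2 := orderOf_eq_prime (hBel.2 b hb) hb1
  have hKb : K ≤ centralizer ({b} : Set G) := fun k hk =>
    mem_centralizer_singleton_iff.mpr ((hBle hb).2 k hk)
  refine ⟨hKb, ?_⟩
  set Y := centralizer ({b} : Set G) with hY
  set Ca := centralizer ({a} : Set G) with hCa
  have haY : a ∈ Y := mem_centralizer_singleton_iff.mpr (mem_centralizer_singleton_iff.mp (hBle hb).1).symm
  set a' : ↥Y := ⟨a, haY⟩ with ha'
  have ha'2 : orderOf a' = 2 := by rw [← Subgroup.orderOf_coe]; exact ha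
  set K' := K.subgroupOf Y with hK'
  have hK'C : K' ≤ centralizer ({a'} : Set ↥Y) := fun k hk => mem_centralizer_singleton_iff.mpr
    (Subtype.ext (mem_centralizer_singleton_iff.mp (hKa hk) : (k : G) * a = a * k))
  have hK'c : IsComponent (K'.subgroupOf (centralizer ({a'} : Set ↥Y))) := by
    have h1 := comp_subgroupOf hK (H := Y.subgroupOf Ca) (fun k hk => hKb hk)
    let e : ↥(Y.subgroupOf Ca) ≃* ↥(centralizer ({a'} : Set ↥Y)) :=
    { toFun := fun x => ⟨⟨x.1.1, x.2⟩, mem_centralizer_singleton_iff.mpr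
        (Subtype.ext (mem_centralizer_singleton_iff.mp x.1.2 : (x.1.1 : G) * a = a * x.1.1))⟩
      invFun := fun x => ⟨⟨x.1.1, mem_centralizer_singleton_iff.mpr
        (congrArg Subtype.val (mem_centralizer_singleton_iff.mp x.2))⟩, x.1.2⟩
      left_inv := fun _ => rfl
      right_inv := fun _ => rfl
      map_mul' := fun _ _ => rfl }
    have h2 := comp_map_equiv h1 e
    have h3 : ((K.subgroupOf Ca).subgroupOf (Y.subgroupOf Ca)).map e.toMonoidHom =
        K'.subgroupOf (centralizer ({a'} : Set ↥Y)) := by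
      ext x
      constructor
      · rintro ⟨y, hy, rfl⟩; exact hy
      · intro hx; exact ⟨e.symm x, hx, e.apply_symm_apply x⟩
    rwa [h3] at h2
  have hrk' : ∃ A : Subgroup G, A ≤ K ∧ IsElementaryAbelian 2 A ∧ 2 < Nat.card A := by
    simp only [Cfsg.PRankLE] at hrk
    push Not at hrk
    obtain ⟨A, h1, h2, h3⟩ := hrk
    refine ⟨A.map K.subtype, map_subtype_le A, ⟨⟨⟨?_⟩⟩, ?_⟩, ?_⟩
    · rintro ⟨_, x, hx, rfl⟩ ⟨_, y, hy, rfl⟩
      exact Subtype.ext (congrArg (fun z : A => ((z : ↥K) : G)) (h1.is_comm.comm ⟨x, hx⟩ ⟨y, hy⟩))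
    · rintro _ ⟨x, hx, rfl⟩
      rw [← map_pow, h2 x hx, map_one]
    · rw [← Nat.card_congr (A.equivMapOfInjective _ K.subtype_injective).toEquiv]; simpa using h3
  obtain ⟨A, hAK, hAe, hA⟩ := hrk'
  have heven : 2 ∣ Nat.card K' := by
    rw [Nat.card_congr (subgroupOfEquivOfLe hKb).toEquiv]
    obtain ⟨x, hx, hx1⟩ : ∃ x ∈ A, x ≠ 1 := A.bot_or_exists_ne_one.resolve_left fun h => by
      rw [h, Subgroup.card_bot] at hA; omega
    rw [← orderOf_eq_prime (hAe.2 x hx) hx1]
    exact Subgroup.orderOf_dvd_natCard _ (hAK hx)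
  have hlay : pLayer 2 ↥Y ≤ layer ↥Y := by
    refine sSup_le fun J hJ => comp_le_layer ((pcomp_isComponent_iff hJ).mpr ?_)
    have h1 := hB b hbo
    rw [hO, le_bot_iff, Subgroup.map_eq_bot_iff, MonoidHom.ker_eq_bot _ Y.subtype_injective, le_bot_iff] at h1
    exact le_bot_iff.mp (h1 ▸ commutator_mono (le_sSup hJ) le_rfl)
  have hKlay := le_layer ha'2 hlay hK'C hK'c heven
  obtain ⟨L, hL, hcase⟩ := cases ha'2 hK'C hK'c hKlay
  have hLmap : IsComponent ((L.map Y.subtype).subgroupOf Y) := by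
    rwa [subgroupOf, comap_map_eq_self_of_injective Y.subtype_injective]
  have hm := hmax b hbo (L.map Y.subtype) (map_subtype_le L) hLmap
  have hcL : Nat.card ↥(L.map Y.subtype) = Nat.card ↥L :=
    (Nat.card_congr (L.equivMapOfInjective _ Y.subtype_injective).toEquiv).symm
  have hcK : Nat.card ↥K' = Nat.card ↥K := Nat.card_congr (subgroupOfEquivOfLe hKb).toEquiv
  rcases hcase with h | ⟨hne, hJ, hKL, π, hπ, hπr⟩
  · have : K' = L := Subgroup.eq_of_le_of_card_ge h (by rw [← hcL, hcK]; exact hm.1)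
    rw [this]; exact hL
  exfalso
  have hle : Nat.card ↥K' ≤ Nat.card ↥L := by
    rw [← hπr]; exact Nat.card_le_card_of_surjective _ π.rangeRestrict_surjective
  have heq : Nat.card ↥(L.map Y.subtype) = Nat.card ↥K := by
    have := hm.1
    omega
  have hπi : Function.Injective π := by
    have hb : Function.Bijective π.rangeRestrict := by
      rw [Nat.bijective_iff_surjective_and_card]
      exact ⟨π.rangeRestrict_surjective, by rw [hπr]; omega⟩
    intro x y h
    exact hb.1 (Subtype.ext h)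
  have hBY : B ≤ Y := fun x hx => mem_centralizer_singleton_iff.mpr
    (congrArg Subtype.val (hBel.1.is_comm.comm (⟨x, hx⟩ : B) ⟨b, hb⟩))
  have hsub : ∀ (S : Subgroup G), IsElementaryAbelian 2 S → IsElementaryAbelian 2 (S.subgroupOf Y) :=
    fun S hS => ⟨⟨⟨fun x y => Subtype.ext (Subtype.ext
      (congrArg Subtype.val (hS.1.is_comm.comm (⟨x.1.1, x.2⟩ : S) ⟨y.1.1, y.2⟩) :
        (x.1.1 : G) * y.1.1 = y.1.1 * x.1.1))⟩⟩, fun x hx => Subtype.ext (hS.2 x.1 hx)⟩
  obtain ⟨B', hB'e, hB'L, hB'⟩ := exists_large ha'2 hL hne hJ hKL π hπ hπi hπr (B.subgroupOf Y)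
    (hsub B hBel)
    (fun x hx => mem_centralizer_singleton_iff.mpr
      (Subtype.ext (mem_centralizer_singleton_iff.mp (hBle hx).1 : (x : G) * a = a * x)))
    (fun x hx k hk => Subtype.ext ((hBle hx).2 k.1 hk))
    (A.subgroupOf Y) (fun x hx => hAK hx) (hsub A hAe)
    (by rw [Nat.card_congr (subgroupOfEquivOfLe (hAK.trans hKb)).toEquiv]; exact hA)
  rw [Nat.card_congr (subgroupOfEquivOfLe hBY).toEquiv] at hB'
  have hBpg : IsPGroup 2 ↥B := fun x => ⟨1, Subtype.ext (by rw [pow_one]; exact hBel.2 x.1 x.2)⟩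
  obtain ⟨k, hk⟩ := IsPGroup.iff_card.mp hBpg
  have hrankK : Cfsg.PRankLE 2 k ↥(centralizer ({a} : Set G) ⊓ centralizer (K : Set G)) := by
    intro S hS1 hS2
    rw [← hk, Nat.card_congr (S.equivMapOfInjective _ (Subgroup.subtype_injective _)).toEquiv]
    refine hBmax _ (map_subtype_le S) ⟨⟨⟨?_⟩⟩, ?_⟩
    · rintro ⟨_, x, hx, rfl⟩ ⟨_, y, hy, rfl⟩
      exact Subtype.ext (congrArg (fun z : S => ((z : ↥(centralizer ({a} : Set G) ⊓ centralizer (K : Set G))) : G))
        (hS1.is_comm.comm ⟨x, hx⟩ ⟨y, hy⟩))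
    · rintro _ ⟨x, hx, rfl⟩
      rw [← map_pow, hS2 x hx, map_one]
  have hr := hm.2 heq k hrankK
  set T := centralizer ({b} : Set G) ⊓ centralizer ((L.map Y.subtype : Subgroup G) : Set G) with hT
  have hB'T : B'.map Y.subtype ≤ T := by
    rintro _ ⟨x, hx, rfl⟩
    refine ⟨x.2, ?_⟩
    rintro _ ⟨y, hy, rfl⟩
    exact congrArg Subtype.val (hB'L hx y hy)
  have h5 := hr ((B'.map Y.subtype).subgroupOf T) ⟨⟨fun x y => by
      obtain ⟨x', hx', ex⟩ := x.2
      obtain ⟨y', hy', ey⟩ := y.2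
      refine Subtype.ext (Subtype.ext ?_)
      show (x.1 : G) * (y.1 : G) = (y.1 : G) * (x.1 : G)
      rw [show (x.1 : G) = x'.1 from ex.symm, show (y.1 : G) = y'.1 from ey.symm]
      exact congrArg (fun z : B' => ((z : ↥Y) : G)) (hB'e.1.is_comm.comm ⟨x', hx'⟩ ⟨y', hy'⟩)⟩⟩
    (fun x hx => by
      obtain ⟨x', hx', ex⟩ := hx
      refine Subtype.ext ?_
      show (x : G) ^ 2 = 1
      rw [show (x : G) = x'.1 from ex.symm]
      exact congrArg Subtype.val (hB'e.2 x' hx'))
  rw [Nat.card_congr (subgroupOfEquivOfLe hB'T).toEquiv,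
    ← Nat.card_congr (B'.equivMapOfInjective _ Y.subtype_injective).toEquiv, ← hk] at h5
  omega

end Cfsg.Lib.Misc.MaximalComponent
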