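import Cfsg.Agent.Frobenius.UniqueSubgroup

/-! A subgroup contained in every nontrivial subgroup it normalises. -/

set_option autoImplicit false
set_option linter.style.haveILetI false

open Subgroup

namespace Cfsg.Lib.MinimalInvariant

variable {F : Type*} [Group F] [Finite F]

theorem main (H : Subgroup F) (hH : H ≠ ⊥)
    (hmin : ∀ R : Subgroup F, R ≠ ⊥ → H ≤ Subgroup.normalizer (R : Set F) → H ≤ R) :
    ∃ N : Subgroup F, N.Normal ∧ N ≠ ⊥ ∧ (∀ M : Subgroup F, M.Normal → M ≠ ⊥ → N ≤ M) ∧ IsSimpleGroup ↥N ∧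
      (Subgroup.centralizer (N : Set F) = ⊥ ∨
       (H = N ∧ (Nat.card N).Prime ∧ IsCyclic ↥(Subgroup.centralizer (N : Set F)) ∧
          (∃ k : ℕ, 1 ≤ k ∧ Nat.card ↥(Subgroup.centralizer (N : Set F)) = Nat.card N ^ k) ∧
          (∃ g : F, Subgroup.centralizer (N : Set F) ⊔ Subgroup.zpowers g = ⊤) ∧
          (Subgroup.centralizer (N : Set F)).index ∣ Nat.card N - 1) ∨
       (H = N ∧ Nat.card N = 2 ∧ Subgroup.centralizer (N : Set F) = ⊤ ∧
          ∃ k : ℕ, 1 ≤ k ∧ Nonempty (F ≃* QuaternionGroup (2 ^ k)))) := by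
  classical
  set N := Subgroup.normalClosure (H : Set F) with hN
  have hHN : H ≤ N := Subgroup.le_normalClosure
  have hNne : N ≠ ⊥ := fun h => hH (le_bot_iff.1 (h ▸ hHN))
  have hmin' : ∀ M : Subgroup F, M.Normal → M ≠ ⊥ → N ≤ M := fun M hM hne =>
    Subgroup.normalClosure_le_normal (hmin M hne (by rw [Subgroup.normalizer_eq_top]; exact le_top))
  haveI : Nontrivial N := (Subgroup.nontrivial_iff_ne_bot N).2 hNne
  have hsimple : IsSimpleGroup N := by
    refine { exists_pair_ne := exists_pair_ne _, eq_bot_or_eq_top_of_normal := fun R hR => ?_ }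
    by_contra hc
    push Not at hc
    apply hc.2
    rw [eq_top_iff]
    rintro ⟨x, hx⟩ -
    suffices hle : N ≤ R.map N.subtype by
      obtain ⟨y, hy, hyx⟩ := hle hx
      rwa [show (⟨x, hx⟩ : N) = y from Subtype.ext hyx.symm]
    refine (Subgroup.closure_le _).2 fun y hy => ?_
    obtain ⟨a, ha, hay⟩ := Group.mem_conjugatesOfSet_iff.1 hy
    obtain ⟨g, rfl⟩ := isConj_iff.1 hay
    -- conjugate `R` back
    set S := (R.map N.subtype).map (MulAut.conj g⁻¹).toMonoidHom with hS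
    have hSne : S ≠ ⊥ := by
      rw [hS, ne_eq, Subgroup.map_eq_bot_iff_of_injective _ (MulAut.conj g⁻¹).injective,
        Subgroup.map_eq_bot_iff_of_injective _ N.subtype_injective]
      exact hc.1
    have hSN : N ≤ Subgroup.normalizer (S : Set F) := by
      have step : ∀ n ∈ N, ∀ z ∈ S, n * z * n⁻¹ ∈ S := by
        rintro n hn _ ⟨_, ⟨r, hr, rfl⟩, rfl⟩
        have hn' : g * n * g⁻¹ ∈ N := Subgroup.normalClosure_normal.conj_mem n hn g
        refine ⟨_, ⟨⟨_, hn'⟩ * r * ⟨_, hn'⟩⁻¹, hR.conj_mem r hr _, rfl⟩, ?_⟩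
        show g⁻¹ * (g * n * g⁻¹ * (r : F) * (g * n * g⁻¹)⁻¹) * g⁻¹⁻¹ = n * (g⁻¹ * (r : F) * g⁻¹⁻¹) * n⁻¹
        group
      intro n hn
      rw [Subgroup.mem_normalizer_iff]
      exact fun z => ⟨step n hn z, fun hz => by simpa [mul_assoc] using step n⁻¹ (inv_mem hn) _ hz⟩
    obtain ⟨_, ⟨r, hr, rfl⟩, hra⟩ := hmin S hSne (hHN.trans hSN) ha
    refine ⟨r, hr, ?_⟩
    have hra' : g⁻¹ * (r : F) * g⁻¹⁻¹ = a := hra
    show (r : F) = g * a * g⁻¹
    rw [← hra']
    group
  refine ⟨N, Subgroup.normalClosure_normal, hNne, hmin', hsimple, ?_⟩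
  set C := Subgroup.centralizer (N : Set F) with hC
  by_cases hCb : C = ⊥
  · exact Or.inl hCb
  right
  haveI : N.Normal := Subgroup.normalClosure_normal
  have hNC : N ≤ C := hmin' C inferInstance hCb
  haveI hsI : IsSimpleGroup N := hsimple
  haveI : IsMulCommutative N := ⟨⟨fun a b => Subtype.ext (Subgroup.mem_centralizer_iff.1 (hNC b.2) a a.2)⟩⟩
  letI : CommGroup N := { (inferInstance : Group N) with mul_comm := fun a b => Std.Commutative.comm a b }
  have hp : (Nat.card N).Prime := IsSimpleGroup.prime_card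
  have hHN' : H = N := by
    refine le_antisymm hHN (le_of_eq (Subgroup.eq_of_le_of_card_ge hHN ?_).symm)
    rcases hp.eq_one_or_self_of_dvd _ (Subgroup.card_dvd_of_le hHN) with h | h
    · exact absurd (Subgroup.card_eq_one.1 h) hH
    · exact h.ge
  set p := Nat.card N with hpdef
  haveI : Fact p.Prime := ⟨hp⟩
  have hkey : ∀ R : Subgroup F, R ≤ C → R ≠ ⊥ → N ≤ R := by
    intro R hRC hR
    rw [← hHN']
    refine hmin R hR (le_trans ?_ (Subgroup.centralizer_le_normalizer _))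
    intro x hx
    rw [Subgroup.mem_centralizer_iff]
    intro y hy
    exact (Subgroup.mem_centralizer_iff.1 (hRC hy) x (hHN hx)).symm
  have hord : ∀ c ∈ C, ∀ q : ℕ, q.Prime → orderOf c = q → Subgroup.zpowers c = N := by
    intro c hc q hq hcq
    have h1 : N ≤ Subgroup.zpowers c := hkey _ (Subgroup.zpowers_le.2 hc) (by
      rw [ne_eq, Subgroup.zpowers_eq_bot]; intro h; rw [h, orderOf_one] at hcq; exact hq.ne_one hcq.symm)
    refine (Subgroup.eq_of_le_of_card_ge h1 ?_).symm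
    rw [Nat.card_zpowers, hcq]
    have := Subgroup.card_dvd_of_le h1
    rw [Nat.card_zpowers, hcq] at this
    rcases hq.eq_one_or_self_of_dvd _ this with h | h
    · exact absurd h hp.ne_one
    · exact h.ge
  have hCp : IsPGroup p C := by
    refine IsPGroup.of_card (n := (Nat.card C).primeFactorsList.length)
      (Nat.eq_prime_pow_of_unique_prime_dvd Nat.card_pos.ne' fun {q} hq hqd => ?_)
    haveI : Fact q.Prime := ⟨hq⟩
    obtain ⟨c, hc⟩ := exists_prime_orderOf_dvd_card' q hqd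
    have := hord (c : F) c.2 q hq (by rw [Subgroup.orderOf_coe, hc])
    rw [hpdef, ← this, Nat.card_zpowers, Subgroup.orderOf_coe, hc]
  have huniq : ∀ x y : C, orderOf x = p → orderOf y = p → y ∈ Subgroup.zpowers x := by
    intro x y hx hy
    have hxN := hord (x : F) x.2 p hp (by rw [Subgroup.orderOf_coe, hx])
    have hyN := hord (y : F) y.2 p hp (by rw [Subgroup.orderOf_coe, hy])
    obtain ⟨i, hi⟩ := (hxN.trans hyN.symm).symm ▸ Subgroup.mem_zpowers (y : F)
    exact ⟨i, Subtype.ext (by simpa using hi)⟩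
  -- the quotient by the centraliser
  set φ : F →* MulAut N := MulAut.conjNormal
  have hker : φ.ker = C := by
    ext x
    rw [MonoidHom.mem_ker, hC, Subgroup.mem_centralizer_iff]
    constructor
    · intro h y hy
      have h1 : (φ x ⟨y, hy⟩ : F) = y := by rw [h]; rfl
      rw [MulAut.conjNormal_apply] at h1
      exact (mul_inv_eq_iff_eq_mul.1 h1).symm
    · intro h
      ext y
      rw [MulAut.conjNormal_apply, MulAut.one_apply, mul_inv_eq_iff_eq_mul]
      exact (h y y.2).symm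
  haveI : IsCyclic N := isCyclic_of_prime_card rfl
  let ε : MulAut N ≃* (ZMod p)ˣ := IsCyclic.mulAutMulEquiv (G := N)
  haveI : IsCyclic (MulAut N) := ε.symm.isCyclic.1 inferInstance
  have hidx : C.index ∣ p - 1 := by
    rw [← hker, Subgroup.index_ker]
    refine (Subgroup.card_subgroup_dvd_card _).trans ?_
    rw [Nat.card_congr ε.toEquiv, Nat.card_eq_fintype_card, ZMod.card_units p]
  rcases Cfsg.Lib.UniqueSub.isCyclic_or_quaternion hCp huniq with hcyc | ⟨hp2, n, ⟨e⟩⟩
  · refine Or.inl ⟨hHN', hp, hcyc, ?_, ?_, hidx⟩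
    · obtain ⟨k, hk⟩ := hCp.exists_card_eq
      refine ⟨k, Nat.one_le_iff_ne_zero.2 fun h => hCb ?_, hk⟩
      rw [h, pow_zero, Subgroup.card_eq_one] at hk
      exact hk
    · obtain ⟨⟨_, g, rfl⟩, hg⟩ := (inferInstance : IsCyclic φ.range).exists_generator
      refine ⟨g, eq_top_iff.2 fun x _ => ?_⟩
      obtain ⟨i, hi⟩ := hg ⟨φ x, x, rfl⟩
      have hi' : φ g ^ i = φ x := congrArg Subtype.val hi
      rw [show x = (x * (g ^ i)⁻¹) * g ^ i by group]
      refine mul_mem (Subgroup.mem_sup_left ?_) (Subgroup.mem_sup_right ⟨i, rfl⟩)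
      rw [← hker, MonoidHom.mem_ker, map_mul, map_inv, map_zpow, hi', mul_inv_cancel]
  · have hCtop : C = ⊤ := by
      rw [← Subgroup.index_eq_one]
      rw [hp2] at hidx
      exact Nat.dvd_one.1 hidx
    by_cases hn : n = 0
    · subst hn
      haveI : IsCyclic C := e.symm.isCyclic.1 (by
        rw [pow_zero]; exact QuaternionGroup.quaternionGroup_one_isCyclic)
      refine Or.inl ⟨hHN', hp, inferInstance, ?_, ⟨1, by rw [hCtop, top_sup_eq]⟩, hidx⟩
      obtain ⟨k, hk⟩ := hCp.exists_card_eq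
      refine ⟨k, Nat.one_le_iff_ne_zero.2 fun h => hCb ?_, hk⟩
      rw [h, pow_zero, Subgroup.card_eq_one] at hk
      exact hk
    · exact Or.inr ⟨hHN', hp2, hCtop, n, Nat.one_le_iff_ne_zero.2 hn,
        ⟨(Subgroup.topEquiv.symm.trans (MulEquiv.subgroupCongr hCtop.symm)).trans e⟩⟩

end Cfsg.Lib.MinimalInvariant
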