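import Cfsg.Agent.Components.Misc.Isolated
import Cfsg.Agent.Components.Misc.Kieler
import Cfsg.Agent.Components.PComponents
import Cfsg.Agent.Components.Local
import Cfsg.Prelude.Def_IsolatedElements

/-!
A minimal counterexample to the Z*-theorem is almost simple.
-/

set_option linter.style.haveILetI false
set_option linter.unusedSectionVars false

namespace Cfsg.Lib.Misc.MinimalIsolated

open Subgroup Cfsg.Lib.Components
open scoped commutatorElement

universe u

variable {G : Type u} [Group G] [Finite G] {p : ℕ} [Fact p.Prime]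

theorem minimal (x : G) (hx : orderOf x = p) (hiso : Cfsg.IsIsolated x) (hnz : ¬ Cfsg.InZStar p x)
    (hmin : ∀ (H : Subgroup G) (hxH : x ∈ H), H ≠ ⊤ → Cfsg.InZStar p (⟨x, hxH⟩ : ↥H))
    (hquot : ∀ (N : Subgroup G) [N.Normal], N ≠ ⊥ → Cfsg.InZStar p (QuotientGroup.mk x : G ⧸ N)) :
    IsSimpleGroup ↥(commutator G) ∧ ¬ IsMulCommutative ↥(commutator G) ∧
      commutator G ⊔ Subgroup.zpowers x = ⊤ := by
  have hO : Cfsg.pPrimeCore p G = ⊥ := by
    by_contra hb
    set N := Cfsg.pPrimeCore p G
    refine hnz fun g => ?_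
    have h := hquot N hb (QuotientGroup.mk g)
    rw [pPrimeCore_quotient_eq_bot, mem_bot] at h
    exact (QuotientGroup.eq_one_iff _).1 h
  have hnc : ∃ g : G, g * x ≠ x * g := by
    by_contra hc
    push Not at hc
    exact hnz fun g => by rw [hc g, mul_inv_cancel_right, mul_inv_cancel]; exact one_mem _
  have hnot : ∀ g : G, g * x * g⁻¹ * x = x * (g * x * g⁻¹) → g * x = x * g := fun g hg =>
    mul_inv_eq_iff_eq_mul.1 (hiso g (hg.symm : Commute x (g * x * g⁻¹)))
  -- every nontrivial normal subgroup supplements `x`
  have hsup : ∀ N : Subgroup G, N.Normal → N ≠ ⊥ → N ⊔ zpowers x = ⊤ := by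
    intro N hN hN1
    haveI := hN
    by_contra hne
    have hcent : N ≤ centralizer ({x} : Set G) := by
      intro n hn
      have hxW : x ∈ N ⊔ zpowers x := mem_sup_right (mem_zpowers x)
      have h := hmin _ hxW hne (⟨n, mem_sup_left hn⟩ : ↥(N ⊔ zpowers x))
      set W := N ⊔ zpowers x
      have hm : n * x * n⁻¹ * x⁻¹ ∈ (Cfsg.pPrimeCore p W).map W.subtype := mem_map_of_mem W.subtype h
      have hmN : n * x * n⁻¹ * x⁻¹ ∈ N := by
        rw [mul_assoc, mul_assoc n]
        refine mul_mem hn ?_
        rw [← mul_assoc]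
        exact hN.conj_mem _ (inv_mem hn) x
      set D := (Cfsg.pPrimeCore p W).map W.subtype ⊓ N
      haveI hNW : (N.subgroupOf W).Normal := hN.subgroupOf W
      have hD : (Cfsg.pPrimeCore p W ⊓ N.subgroupOf W).map W.subtype ≤ Cfsg.pPrimeCore p G := by
        refine le_pPrimeCore_of_subnormal ?_ ?_
        · set E := (Cfsg.pPrimeCore p W ⊓ N.subgroupOf W).map W.subtype
          have hEN : E ≤ N := by
            rintro _ ⟨w, hw, rfl⟩
            exact hw.2
          refine isSubnormal_of_normal_in hN.isSubnormal hEN ?_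
          intro m hm
          rw [mem_normalizer_iff]
          intro y
          constructor
          · rintro ⟨w, hw, rfl⟩
            exact ⟨⟨m, mem_sup_left hm⟩ * w * ⟨m, mem_sup_left hm⟩⁻¹,
              Normal.conj_mem inferInstance w hw _, rfl⟩
          · rintro ⟨w, hw, hwe⟩
            refine ⟨⟨m, mem_sup_left hm⟩⁻¹ * w * ⟨m, mem_sup_left hm⟩⁻¹⁻¹,
              Normal.conj_mem inferInstance w hw _, ?_⟩
            show m⁻¹ * (w : G) * m⁻¹⁻¹ = y
            rw [show (w : G) = m * y * m⁻¹ from hwe]
            group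
        · rw [card_map_of_injective W.subtype_injective]
          exact (coprime_card_pPrimeCore p).coprime_dvd_left (card_dvd_of_le inf_le_left)
      obtain ⟨w, hw, hwe⟩ := hm
      have h1 : n * x * n⁻¹ * x⁻¹ = 1 := by
        have := hD ⟨w, ⟨hw, mem_subgroupOf.2 (by rw [show (w : G) = n * x * n⁻¹ * x⁻¹ from hwe]; exact hmN)⟩, hwe⟩
        rwa [hO, mem_bot] at this
      rw [mem_centralizer_singleton_iff]
      calc n * x = n * x * n⁻¹ * x⁻¹ * (x * n) := by group
        _ = x * n := by rw [h1, one_mul]
    set C := centralizer (N : Set G)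
    haveI : C.Normal := inferInstance
    have hxC : x ∈ C := mem_centralizer_iff.2 fun n hn => mem_centralizer_singleton_iff.1 (hcent hn)
    by_cases hC : C = ⊤
    · -- `N` is central
      obtain ⟨g, hg⟩ := hnc
      refine hg (hnot g ?_)
      have hcomm : ∀ n ∈ N, ∀ y : G, n * y = y * n := fun n hn y =>
        mem_centralizer_iff.1 (hC.ge (mem_top y)) n hn
      set M := (Cfsg.pPrimeCore p (G ⧸ N)).comap (QuotientGroup.mk' N)
      have hgM : g * x * g⁻¹ * x⁻¹ ∈ M := hquot N hN1 (QuotientGroup.mk g)
      set m := g * x * g⁻¹ * x⁻¹ with hm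
      -- modulo `N` the element `x` commutes with its conjugate
      set R := zpowers x ⊔ M with hR
      by_contra hne'
      apply hne'
      haveI : M.Normal := inferInstance
      -- the conjugate lies in a group whose Sylow subgroups make `x` central
      have hMN : M ≤ N := by
        haveI : M.Normal := inferInstance
        have hNM : N ≤ M := fun n hn => by
          show QuotientGroup.mk' N n ∈ Cfsg.pPrimeCore p (G ⧸ N)
          rw [(QuotientGroup.eq_one_iff n).2 hn |> fun h => (show QuotientGroup.mk' N n = 1 from h)]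
          exact one_mem _
        have hNp : IsPGroup p N := by
          haveI : IsMulCommutative N := ⟨⟨fun a b => Subtype.ext (hcomm a a.2 b)⟩⟩
          have hle : N ≤ Cfsg.fittingSubgroup G :=
            le_fitting (class_two_nilpotent (by
              rw [show ⁅N, N⁆ = ⊥ from commutator_eq_bot_iff_le_centralizer.2 fun a ha =>
                mem_centralizer_iff.2 fun b hb => hcomm b hb a, commutator_bot_left]))
          rw [fitting_eq_pCore hO] at hle
          exact (isPGroup_pCore p).to_le hle
        obtain ⟨P⟩ : Nonempty (Sylow p M) := inferInstance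
        intro y hy
        -- the `p'`-part of `M` is characteristic
        haveI hNc : (N.subgroupOf M).Normal := inferInstance
        have hcop : (Nat.card (N.subgroupOf M)).Coprime (N.subgroupOf M).index := by
          obtain ⟨k, hk⟩ := IsPGroup.iff_card.1 hNp
          rw [card_subgroupOf_of_le hNM, hk, show (N.subgroupOf M).index = N.relIndex M from rfl]
          refine Nat.Coprime.pow_left k (Nat.Coprime.coprime_dvd_right ?_ (coprime_card_pPrimeCore (G := G ⧸ N) p).symm)
          rw [show N.relIndex M = Nat.card (M.map (QuotientGroup.mk' N)) from ?_,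
            map_comap_eq_self_of_surjective (QuotientGroup.mk'_surjective N)]
          have e1 := QuotientGroup.ker_mk' N
          rw [← relIndex_ker M (QuotientGroup.mk' N), e1]
        obtain ⟨K, hK⟩ := Subgroup.exists_right_complement'_of_coprime hcop
        have hKcard : (Nat.card K).Coprime p := by
          have := hK.symm.index_eq_card
          obtain ⟨k, hk⟩ := IsPGroup.iff_card.1 hNp
          rw [card_subgroupOf_of_le hNM, hk] at hcop
          rcases Nat.eq_zero_or_pos k with rfl | hk0
          · exact absurd (card_eq_one.1 (by rw [hk, pow_zero])) hN1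
          · rw [← this]
            exact ((Nat.coprime_pow_left_iff hk0 _ _).1 hcop).symm
        haveI hKn : K.Normal := ⟨fun k hk v => by
          obtain ⟨⟨a, b⟩, hab⟩ := hK.2 v
          simp only at hab
          rw [← hab]
          have hb : (b : M) * k * (b : M)⁻¹ ∈ K := mul_mem (mul_mem b.2 hk) (inv_mem b.2)
          have hc := Subtype.ext_iff.1 (show ((a : M) * ((b : M) * k * (b : M)⁻¹)) = ((b : M) * k * (b : M)⁻¹) * (a : M) from
            Subtype.ext (hcomm ((a : M) : G) (mem_subgroupOf.1 a.2) _))
          have : (a : M) * b * k * ((a : M) * b)⁻¹ = (b : M) * k * (b : M)⁻¹ := by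
            calc (a : M) * b * k * ((a : M) * b)⁻¹ = ((a : M) * ((b : M) * k * (b : M)⁻¹)) * (a : M)⁻¹ := by group
              _ = (((b : M) * k * (b : M)⁻¹) * (a : M)) * (a : M)⁻¹ := by rw [Subtype.ext hc]
              _ = _ := by group
          exact this ▸ hb⟩
        have hKbot : K = ⊥ := by
          have h1 : K.map M.subtype ≤ Cfsg.pPrimeCore p G := le_pPrimeCore_of_subnormal
            (isSubnormal_map_subtype (inferInstance : M.Normal).isSubnormal hKn.isSubnormal)
            (by rw [card_map_of_injective M.subtype_injective]; exact hKcard)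
          rw [hO, le_bot_iff] at h1
          exact (map_eq_bot_iff_of_injective K M.subtype_injective).1 h1
        rw [hKbot, isComplement'_bot_right] at hK
        exact mem_subgroupOf.1 (hK.ge (mem_top (⟨y, hy⟩ : M)))
      have hmc := hcomm m (hMN hgM) x
      rw [show g * x * g⁻¹ = m * x by rw [hm]; group]
      calc m * x * x = x * m * x := by rw [hmc]
        _ = x * (m * x) := by group
    · -- `x` is central in `C`
      obtain ⟨g, hg⟩ := hnc
      refine hg (hnot g ?_)
      have hxc : ∀ c ∈ C, c * x = x * c := by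
        intro c hc
        have h := hmin C hxC hC (⟨c, hc⟩ : ↥C)
        have hz : Cfsg.pPrimeCore p C = ⊥ := by
          apply map_injective C.subtype_injective
          rw [pPrimeCore_map_subtype_eq (inferInstance : C.Normal).isSubnormal, hO, bot_inf_eq, Subgroup.map_bot]
        rw [hz, mem_bot] at h
        have h' : c * x * c⁻¹ * x⁻¹ = 1 := congrArg Subtype.val h
        calc c * x = c * x * c⁻¹ * x⁻¹ * (x * c) := by group
          _ = x * c := by rw [h', one_mul]
      exact hxc _ ((inferInstance : C.Normal).conj_mem x hxC g)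
  have hxp : IsPGroup p (zpowers x) := IsPGroup.of_card (n := 1) (by rw [Nat.card_zpowers, hx, pow_one])
  have hF : Cfsg.fittingSubgroup G = ⊥ := by
    by_contra hb
    have hs := hsup _ inferInstance hb
    rw [fitting_eq_pCore hO] at hs
    have hG : IsPGroup p (⊤ : Subgroup G) := hs ▸ IsPGroup.to_sup_of_normal_left (isPGroup_pCore p) hxp
    obtain ⟨g, hg⟩ := hnc
    exact hg (Cfsg.Lib.Isolated.commute_of_pgroup hiso hG (mem_top x) g (mem_top g))
  have hgen : Cfsg.generalizedFittingSubgroup G = Cfsg.layer G := by
    rw [Cfsg.generalizedFittingSubgroup, hF, sup_bot_eq]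
  have hl : Cfsg.layer G ≠ ⊥ := by
    intro hl
    obtain ⟨g, hg⟩ := hnc
    have hc := centralizer_genFitting_le (G := G)
    rw [hgen, hl] at hc
    have h1 := hc (show g ∈ centralizer ((⊥ : Subgroup G) : Set G) from mem_centralizer_iff.2 (by simp))
    rw [mem_bot] at h1
    exact hg (by rw [h1, one_mul, mul_one])
  obtain ⟨K, hK⟩ : ∃ K, IsComponent (G := G) K := by
    by_contra hc
    push Not at hc
    exact hl (sSup_eq_bot.2 fun L hL => absurd hL (hc L))
  obtain ⟨P, hxP⟩ := hxp.exists_le_sylow
  have hxc := Cfsg.Lib.Isolated.commute_of_pgroup hiso P.2 (hxP (mem_zpowers x))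
  have hZK : ∀ z ∈ K, (∀ k ∈ K, k * z = z * k) → z = 1 := by
    intro z hzK hz
    have h1 : K ⊓ centralizer (K : Set G) ≤ Cfsg.fittingSubgroup G := by
      have hmem : K ⊓ centralizer (K : Set G) ≤ Cfsg.layer G ⊓ centralizer (Cfsg.layer G : Set G) := by
        rw [layer_inf_centralizer_eq]
        exact le_iSup_of_le ⟨K, hK⟩ le_rfl
      rw [fitting_eq_pCore hO]
      exact hmem.trans (le_pCore (center_layer_isPGroup hO))
    have h2 := h1 ⟨hzK, mem_centralizer_iff.2 hz⟩
    rwa [hF, mem_bot] at h2
  have hxK : x ∈ normalizer (K : Set G) := by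
    obtain ⟨TK, hTK⟩ := Cfsg.Lib.Kieler.exists_sylow_of_subnormal P hK.1
    obtain ⟨t, htP, htK, ht1⟩ : ∃ t, t ∈ (P : Subgroup G) ∧ t ∈ K ∧ t ≠ 1 := by
      by_contra hc
      push Not at hc
      have h1 : p ∣ Nat.card (TK : Subgroup K) := TK.dvd_card_of_dvd_card (comp_dvd_card hO hK)
      rw [hTK, show (P : Subgroup G).subgroupOf K = ⊥ from (eq_bot_iff_forall _).2 fun s hs =>
        Subtype.ext (hc s hs s.2), Subgroup.card_bot] at h1
      exact (Fact.out : p.Prime).ne_one (Nat.dvd_one.1 h1)
    set K' := K.map (MulAut.conj x).toMonoidHom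
    have htK' : t ∈ K' := ⟨t, htK, by
      show x * t * x⁻¹ = t
      rw [← hxc t htP, mul_inv_cancel_right]⟩
    by_contra hxn
    have hne : K ≠ K' := fun e => hxn (mem_normalizer_iff_map_conj_eq.2 e.symm)
    refine ht1 (hZK t htK fun k hk => ?_)
    have h := commutator_mem_commutator hk htK'
    rw [comp_commute hK (comp_conj hK x) hne, mem_bot] at h
    exact commutatorElement_eq_one_iff_mul_comm.1 h
  haveI hKn : K.Normal := by
    refine normalizer_eq_top_iff.1 (top_le_iff.1 ?_)
    rw [← hsup (Cfsg.layer G) inferInstance hl]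
    exact sup_le (comp_normal_in_layer hK) (zpowers_le.2 hxK)
  have hKx := hsup K hKn (comp_ne_bot hK)
  have hcK : commutator G = K := by
    refine le_antisymm ?_ ?_
    · exact hKn.commutator_le_of_self_sup_commutative_eq_top hKx inferInstance
    · rw [← comp_perfect hK, _root_.commutator_def]
      exact commutator_mono le_top le_top
  rw [hcK]
  refine ⟨?_, comp_not_isMulCommutative hK, hKx⟩
  have hZ : Subgroup.center K = ⊥ := (eq_bot_iff_forall _).2 fun z hz =>
    Subtype.ext (hZK z z.2 fun k hk => congrArg Subtype.val (mem_center_iff.1 hz ⟨k, hk⟩))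
  have hs := hK.2.2
  haveI := hs
  haveI : Nontrivial K := qs_nontrivial hK.2
  let e := ((QuotientGroup.quotientMulEquivOfEq hZ).trans QuotientGroup.quotientBot)
  exact IsSimpleGroup.isSimpleGroup_of_surjective e.toMonoidHom e.surjective

end Cfsg.Lib.Misc.MinimalIsolated
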