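import Cfsg.Agent.Components.Misc.Isolated
import Cfsg.Agent.Components.PComponents
import Cfsg.Agent.InvolCalc.ZStarApps
import Cfsg.Agent.InvolCalc.Isolated
import Cfsg.Agent.Transfer.Frobenius
import Cfsg.Prelude.Def_IsolatedElements

/-!
Invariant Sylow subgroups in a minimal counterexample to the Z*-theorem.
-/

set_option linter.style.haveILetI false
set_option linter.unusedSectionVars false

namespace Cfsg.Lib.Misc.MinimalIsolatedSylow

open Subgroup Cfsg.Lib.Components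

universe u

variable {G : Type u} [Group G] [Finite G] {p : ℕ} [Fact p.Prime]

/-- an element of order `p` in `Z*` normalizes a Sylow `q`-subgroup for `q ≠ p` -/
theorem exists_invariant_sylow {x : G} (hx : orderOf x = p) (hz : Cfsg.InZStar p x) {q : ℕ}
    [Fact q.Prime] (hqp : q ≠ p) : ∃ S : Sylow q G, x ∈ normalizer ((S : Subgroup G) : Set G) := by
  obtain ⟨S₀⟩ := (inferInstance : Nonempty (Sylow q G))
  set O := Cfsg.pPrimeCore p G
  set M := O ⊔ (S₀ : Subgroup G) with hM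
  have hxM : x ∈ normalizer (M : Set G) := by
    refine Cfsg.Lib.ZStarApps.mem_normalizer_of_maps fun a ha => ?_
    rw [show x * a * x⁻¹ = (a * x * a⁻¹ * x⁻¹)⁻¹ * a by group]
    exact M.mul_mem (inv_mem (mem_sup_left (hz a))) ha
  obtain ⟨k, hk⟩ := IsPGroup.iff_card.mp S₀.isPGroup'
  have hcp : (Nat.card M).Coprime p := by
    refine Nat.Coprime.coprime_dvd_left (Cfsg.Lib.Components.card_sup_dvd_mul O (S₀ : Subgroup G))
      ((Cfsg.Lib.Components.coprime_card_pPrimeCore p).mul_left ?_)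
    rw [hk]
    exact ((Nat.coprime_primes Fact.out Fact.out).mpr hqp).pow_left k
  obtain ⟨Q, hQ⟩ := Cfsg.Lib.Coprime.exists_invariant_sylow (A := zpowers x) (K := M)
    (zpowers_le.mpr hxM) (by rw [Nat.card_zpowers, hx]; exact hcp.symm) (Or.inl inferInstance) q
  have hcard : Nat.card ((Q : Subgroup M).map M.subtype : Subgroup G) =
      q ^ (Nat.card G).factorization q := by
    rw [Subgroup.card_map_of_injective M.subtype_injective, Q.card_eq_multiplicity]
    congr 1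
    refine le_antisymm ?_ ?_
    · exact (Nat.factorization_le_iff_dvd Nat.card_pos.ne' Nat.card_pos.ne').mpr
        (card_subgroup_dvd_card M) q
    · have h1 : q ^ (Nat.card G).factorization q ∣ Nat.card M := by
        rw [← S₀.card_eq_multiplicity]
        exact card_dvd_of_le le_sup_right
      exact ((Fact.out : q.Prime).pow_dvd_iff_le_factorization Nat.card_pos.ne').mp h1
  refine ⟨Sylow.ofCard _ hcard, ?_⟩
  rw [Sylow.coe_ofCard]
  exact hQ (mem_zpowers x)

theorem mem_of_invariant {x : G} (hx : orderOf x = p) (S : Sylow p G)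
    (h : x ∈ normalizer ((S : Subgroup G) : Set G)) : x ∈ (S : Subgroup G) := by
  have hxp : IsPGroup p (zpowers x) := IsPGroup.of_card (n := 1) (by rw [Nat.card_zpowers, hx, pow_one])
  have := S.is_maximal' (S.2.to_sup_of_normal_left' hxp (zpowers_le.2 h)) le_sup_left
  exact this ▸ mem_sup_right (mem_zpowers x)

theorem transitive {x : G} (hx : orderOf x = p) (hiso : Cfsg.IsIsolated x) {q : ℕ} [Fact q.Prime]
    (S₁ S₂ : Sylow q G) (h1 : x ∈ normalizer ((S₁ : Subgroup G) : Set G))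
    (h2 : x ∈ normalizer ((S₂ : Subgroup G) : Set G)) :
    ∃ c ∈ centralizer ({x} : Set G), (S₁ : Subgroup G).map (MulAut.conj c).toMonoidHom = (S₂ : Subgroup G) := by
  obtain ⟨g, hg⟩ := MulAction.exists_smul_eq G S₁ S₂
  have hg' : (S₁ : Subgroup G).map (MulAut.conj g).toMonoidHom = (S₂ : Subgroup G) := by
    rw [← hg]
    exact (Cfsg.Lib.Transfer.sylow_smul_coe g S₁).symm
  set M := normalizer ((S₂ : Subgroup G) : Set G) with hM
  have hy : g * x * g⁻¹ ∈ M := by
    rw [hM, ← hg', ← map_equiv_normalizer_eq]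
    exact ⟨x, h1, rfl⟩
  have hxp : IsPGroup p (zpowers (⟨x, h2⟩ : M)) := IsPGroup.of_card (n := 1)
    (by rw [Nat.card_zpowers, Subgroup.orderOf_mk, hx, pow_one])
  have hyp : IsPGroup p (zpowers (⟨g * x * g⁻¹, hy⟩ : M)) := IsPGroup.of_card (n := 1)
    (by rw [Nat.card_zpowers, Subgroup.orderOf_mk, Cfsg.Lib.Isolated.orderOf_conj', hx, pow_one])
  obtain ⟨P, hP⟩ := hxp.exists_le_sylow
  obtain ⟨m, hm⟩ := Cfsg.Lib.Isolated.conj_mem_sylow P _ hyp
  have hm1 := hm _ (mem_zpowers _)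
  have hR : IsPGroup p ((P : Subgroup M).map M.subtype) := P.2.map _
  have hxR : x ∈ (P : Subgroup M).map M.subtype := ⟨⟨x, h2⟩, hP (mem_zpowers _), rfl⟩
  have hmR : (m : G) * (g * x * g⁻¹) * (m : G)⁻¹ ∈ (P : Subgroup M).map M.subtype := ⟨_, hm1, rfl⟩
  have hc := Cfsg.Lib.Isolated.commute_of_pgroup hiso hR hxR _ hmR
  have he : (m : G) * g * x * ((m : G) * g)⁻¹ = (m : G) * (g * x * g⁻¹) * (m : G)⁻¹ := by group
  have hfix := hiso ((m : G) * g) (show Commute x ((m : G) * g * x * ((m : G) * g)⁻¹) by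
    rw [he]; exact hc.symm)
  refine ⟨(m : G) * g, mem_centralizer_singleton_iff.2 (mul_inv_eq_iff_eq_mul.1 hfix), ?_⟩
  rw [show (MulAut.conj ((m : G) * g)).toMonoidHom =
      (MulAut.conj (m : G)).toMonoidHom.comp (MulAut.conj g).toMonoidHom from by ext; simp [mul_assoc],
    ← Subgroup.map_map, hg']
  exact mem_normalizer_iff_map_conj_eq.1 m.2

theorem sylow_of_maximal (x : G) (hx : orderOf x = p) (hnz : ¬ Cfsg.InZStar p x)
    (hmin : ∀ (H : Subgroup G) (hxH : x ∈ H), H ≠ ⊤ → Cfsg.InZStar p (⟨x, hxH⟩ : ↥H))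
    (hquot : ∀ (N : Subgroup G) [N.Normal], N ≠ ⊥ → Cfsg.InZStar p (QuotientGroup.mk x : G ⧸ N))
    {q : ℕ} [Fact q.Prime] (Q : Subgroup G) (hQ : IsPGroup q Q)
    (hxQ : x ∈ normalizer (Q : Set G))
    (hmax : ∀ R : Subgroup G, IsPGroup q R → x ∈ normalizer (R : Set G) → Q ≤ R → R = Q) :
    Q = ⊥ ∨ ∃ S : Sylow q G, (S : Subgroup G) = Q := by
  by_cases hqp : q = p
  · subst hqp
    have hx2 : IsPGroup q (zpowers x) := IsPGroup.of_card (n := 1) (by rw [Nat.card_zpowers, hx, pow_one])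
    have hxq : x ∈ Q := by
      have h := hmax (Q ⊔ zpowers x) (hQ.to_sup_of_normal_left' hx2 (zpowers_le.mpr hxQ))
        (le_normalizer (mem_sup_right (mem_zpowers x))) le_sup_left
      exact h ▸ mem_sup_right (mem_zpowers x)
    obtain ⟨P, hP⟩ := hQ.exists_le_sylow
    exact Or.inr ⟨P, hmax _ P.isPGroup' (le_normalizer (hP hxq)) hP⟩
  by_cases hQ1 : Q = ⊥
  · exact Or.inl hQ1
  refine Or.inr ?_
  set N := normalizer (Q : Set G)
  have hO : Cfsg.pPrimeCore p G = ⊥ := by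
    by_contra hb
    refine hnz fun g => ?_
    have h := hquot _ hb (QuotientGroup.mk g)
    rw [pPrimeCore_quotient_eq_bot, mem_bot] at h
    exact (QuotientGroup.eq_one_iff _).1 h
  have hNtop : N ≠ ⊤ := by
    intro hN
    haveI : Q.Normal := normalizer_eq_top_iff.1 hN
    obtain ⟨k, hk⟩ := IsPGroup.iff_card.1 hQ
    have hco : (Nat.card Q).Coprime p := by
      rw [hk]
      exact ((Nat.coprime_primes Fact.out Fact.out).mpr hqp).pow_left k
    exact hQ1 (le_bot_iff.1 (hO ▸ le_pPrimeCore_of_subnormal (inferInstance : Q.Normal).isSubnormal hco))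
  obtain ⟨R, hR⟩ := exists_invariant_sylow (G := N) (by rw [Subgroup.orderOf_mk, hx])
    (hmin N hxQ hNtop) hqp
  obtain ⟨P, hP⟩ := hQ.exists_le_sylow
  refine ⟨P, le_antisymm ?_ hP⟩
  by_contra hne
  have hlt : Q < (P : Subgroup G) := lt_of_le_of_ne hP (fun h => hne h.ge)
  haveI : (Q.subgroupOf N).Normal := normal_in_normalizer
  have hQN : Q ≤ N := le_normalizer
  have hQp : IsPGroup q (Q.subgroupOf N) :=
    hQ.of_injective (subgroupOfEquivOfLe hQN).toMonoidHom (subgroupOfEquivOfLe hQN).injective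
  have hQR : Q.subgroupOf N ≤ (R : Subgroup N) := by
    obtain ⟨R', hR'⟩ := hQp.exists_le_sylow
    obtain ⟨n, rfl⟩ := MulAction.exists_smul_eq N R' R
    intro a ha
    refine ⟨n⁻¹ * a * n, hR' ?_, by simp [mul_assoc]⟩
    simpa using (‹(Q.subgroupOf N).Normal›).conj_mem a ha n⁻¹
  have hRQ : (R : Subgroup N).map N.subtype = Q := by
    refine hmax _ (R.isPGroup'.map _) (Cfsg.Lib.ZStarApps.mem_normalizer_of_maps ?_) fun a ha =>
      ⟨⟨a, hQN ha⟩, hQR ha, rfl⟩
    rintro _ ⟨r, hr, rfl⟩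
    exact ⟨⟨x, hxQ⟩ * r * ⟨x, hxQ⟩⁻¹, (mem_normalizer_iff.mp hR r).mp hr, rfl⟩
  obtain ⟨y, hy, hyQ⟩ := SetLike.exists_of_lt (Cfsg.Lib.Transfer.lt_inf_normalizer_of_lt P hlt)
  have hQy : IsPGroup q (Q ⊔ zpowers y : Subgroup G) :=
    P.2.to_le (sup_le hP (zpowers_le.2 hy.1))
  have hle : Q ⊔ zpowers y ≤ N := sup_le hQN (zpowers_le.2 hy.2)
  have hup : IsPGroup q ((Q ⊔ zpowers y).subgroupOf N) :=
    hQy.of_injective (subgroupOfEquivOfLe hle).toMonoidHom (subgroupOfEquivOfLe hle).injective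
  have heq := R.is_maximal' hup (fun r hr => mem_sup_left (hRQ ▸ ⟨r, hr, rfl⟩))
  have hyR : (⟨y, hy.2⟩ : N) ∈ (R : Subgroup N) := heq ▸ mem_sup_right (mem_zpowers y)
  exact hyQ (hRQ ▸ ⟨⟨y, hy.2⟩, hyR, rfl⟩)

end Cfsg.Lib.Misc.MinimalIsolatedSylow
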