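import Cfsg.Prelude.Def_LocalEven
import Cfsg.Agent.Classical.SL

/-!
The natural `SL₂`-module realised inside a group.
-/

set_option linter.style.haveILetI false
set_option linter.unusedSectionVars false

namespace Cfsg.Lib.Misc.NaturalSL2

open Subgroup Matrix
open scoped commutatorElement

variable {F : Type*} [Field F]

local notation "SL2" => Matrix.SpecialLinearGroup (Fin 2) F

/-- upper unitriangular -/
def IsU (M : SL2) : Prop :=
  (M : Matrix (Fin 2) (Fin 2) F) 1 0 = 0 ∧ (M : Matrix (Fin 2) (Fin 2) F) 0 0 = 1 ∧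
    (M : Matrix (Fin 2) (Fin 2) F) 1 1 = 1

def up (x : F) : SL2 := ⟨!![1, x; 0, 1], by simp [det_fin_two]⟩

theorem coe_up (x : F) : ((up x : SL2) : Matrix (Fin 2) (Fin 2) F) = !![1, x; 0, 1] := rfl

def diag (a : F) (h : a ≠ 0) : SL2 := ⟨!![a, 0; 0, a⁻¹], by simp [det_fin_two, h]⟩

theorem up_add (x y : F) : up (x + y) = up x * up y := Subtype.ext (by
  rw [Matrix.SpecialLinearGroup.coe_mul]
  ext i j; fin_cases i <;> fin_cases j <;> simp [coe_up, Matrix.mul_apply, Fin.sum_univ_two, add_comm])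

def upHom : Multiplicative F →* SL2 :=
  MonoidHom.mk' (fun x => up x.toAdd) fun _ _ => up_add _ _

theorem upHom_apply (x : Multiplicative F) : (upHom x : SL2) = up x.toAdd := rfl

theorem isU_iff (M : SL2) : IsU M ↔ M ∈ (upHom : Multiplicative F →* SL2).range := by
  constructor
  · rintro ⟨h10, h00, h11⟩
    refine ⟨Multiplicative.ofAdd ((M : Matrix (Fin 2) (Fin 2) F) 0 1), Subtype.ext ?_⟩
    ext i j
    fin_cases i <;> fin_cases j <;> simp [upHom_apply, coe_up, h10, h00, h11]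
  · rintro ⟨x, rfl⟩
    simp [IsU, upHom_apply, coe_up]

theorem exists_conj_upper [Fintype F] {p : ℕ} [Fact p.Prime] {n : ℕ} (hn : 1 ≤ n) (hF : Fintype.card F = p ^ n)
    (P : Sylow p SL2) : ∃ M : SL2, ∀ x : SL2, x ∈ P ↔ IsU (M * x * M⁻¹) := by
  have hU : Nat.card (upHom : Multiplicative F →* SL2).range = p ^ n := by
    have hinj : Function.Injective (upHom : Multiplicative F →* SL2) := fun x y h => by
      have := congrArg (fun M : SL2 => (M : Matrix (Fin 2) (Fin 2) F) 0 1) h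
      simpa [upHom_apply, coe_up] using this
    rw [← Nat.card_congr (MonoidHom.ofInjective hinj).toEquiv, Nat.card_congr Multiplicative.toAdd,
      Nat.card_eq_fintype_card, hF]
  have hp : p.Prime := Fact.out
  have hindex : ¬ p ∣ (upHom : Multiplicative F →* SL2).range.index := by
    have h := Cfsg.Lib.Classical.card_SL_mul_eq_prod (F := F) (n := 2) (by norm_num)
    have h2 := (upHom : Multiplicative F →* SL2).range.card_mul_index
    rw [hU] at h2
    rw [Fin.prod_univ_two, ← h2, hF] at h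
    simp only [Fin.val_zero, pow_zero, Fin.val_one, pow_one] at h
    set q := p ^ n with hq
    have hq2 : 2 ≤ q := le_trans hp.two_le (Nat.le_self_pow (by omega) p)
    set i := (upHom : Multiplicative F →* SL2).range.index
    have e : q ^ 2 - q = q * (q - 1) := by rw [Nat.mul_sub, mul_one, sq]
    have h3 : (q - 1) * q * i = (q - 1) * q * (q ^ 2 - 1) := by rw [mul_assoc, h, e]; ring
    have hi : i = q ^ 2 - 1 := Nat.eq_of_mul_eq_mul_left (Nat.mul_pos (by omega) (by omega)) h3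
    intro hd
    rw [hi] at hd
    have h5 : p ∣ q ^ 2 := dvd_pow (dvd_pow_self p (by omega)) two_ne_zero
    have h6 := Nat.dvd_sub h5 hd
    rw [Nat.sub_sub_self (Nat.one_le_pow _ _ (by omega)), Nat.dvd_one] at h6
    exact hp.ne_one h6
  obtain ⟨M, hM⟩ := MulAction.exists_smul_eq SL2 P ((IsPGroup.of_card hU).toSylow hindex)
  refine ⟨M, fun x => ?_⟩
  have hcoe : ((M • P : Sylow p SL2) : Subgroup SL2) = (P : Subgroup SL2).map (MulAut.conj M).toMonoidHom := rfl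
  rw [isU_iff]
  have hM' : ((M • P : Sylow p SL2) : Subgroup SL2) = (upHom : Multiplicative F →* SL2).range := by
    rw [hM]; rfl
  rw [← hM', hcoe]
  constructor
  · exact fun hx => ⟨x, hx, rfl⟩
  · rintro ⟨y, hy, hyx⟩
    have : y = x := (MulAut.conj M).injective hyx
    exact this ▸ hy

variable {G : Type*} [Group G]

/-- coordinates in which `T` is upper unitriangular -/
structure Coord (F : Type*) [Field F] (V L T : Subgroup G) where
  ρ : L →* Matrix.SpecialLinearGroup (Fin 2) F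
  hρ : Function.Bijective ρ
  w : V → (Fin 2 → F)
  hw : Function.Bijective w
  hadd : ∀ a b, w (a * b) = w a + w b
  hnorm : L ≤ normalizer (V : Set G)
  hact : ∀ (l : L) (v : V), ∀ u : V, (u : G) = (l : G) * v * (l : G)⁻¹ →
    w u = ((ρ l : Matrix.SpecialLinearGroup (Fin 2) F) : Matrix (Fin 2) (Fin 2) F).mulVec (w v)
  hTL : T ≤ L
  hT : ∀ l : L, (l : G) ∈ T ↔ IsU (ρ l)

theorem exists_coord [Finite G] [Fintype F] {p : ℕ} [Fact p.Prime] (n : ℕ) (hF : Fintype.card F = p ^ n)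
    (V L : Subgroup G) (hnat : Cfsg.IsNaturalSL2Module F V L) (hf : L ⊓ centralizer (V : Set G) = ⊥)
    (S : Sylow p ↥L) (T : Subgroup G) (hT : T = ((S : Subgroup ↥L).map L.subtype)) :
    Nonempty (Coord F V L T) := by
  obtain ⟨hn, ρ₀, ψ, hsurj, hker, hcomp⟩ := hnat
  have hinj : Function.Injective ρ₀ := by
    rw [← MonoidHom.ker_eq_bot_iff, hker, subgroupOf_eq_bot, disjoint_comm, disjoint_iff]
    exact hf
  have hn1 : 1 ≤ n := by
    by_contra h
    have := Fintype.one_lt_card (α := F)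
    rw [hF, show n = 0 by omega, pow_zero] at this
    omega
  obtain ⟨M, hM⟩ := exists_conj_upper hn1 hF (S.mapSurjective hsurj)
  refine ⟨{ ρ := (MulAut.conj M).toMonoidHom.comp ρ₀
            hρ := (MulAut.conj M).bijective.comp ⟨hinj, hsurj⟩
            w := fun v => (M : Matrix (Fin 2) (Fin 2) F).mulVec (ψ (Additive.ofMul v))
            hw := ?_
            hadd := fun a b => by rw [ofMul_mul, map_add, mulVec_add]
            hnorm := hn
            hact := ?_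
            hTL := hT.le.trans (map_subtype_le _)
            hT := ?_ }⟩
  · constructor
    · intro a b h
      have := congrArg (fun z => ((M⁻¹ : Matrix.SpecialLinearGroup (Fin 2) F) : Matrix (Fin 2) (Fin 2) F).mulVec z) h
      simp only [mulVec_mulVec, ← Matrix.SpecialLinearGroup.coe_mul, inv_mul_cancel,
        Matrix.SpecialLinearGroup.coe_one, one_mulVec] at this
      exact Additive.ofMul.injective (ψ.injective this)
    · intro z
      refine ⟨Additive.toMul (ψ.symm (((M⁻¹ : Matrix.SpecialLinearGroup (Fin 2) F) : Matrix (Fin 2) (Fin 2) F).mulVec z)), ?_⟩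
      simp only [ofMul_toMul, AddEquiv.apply_symm_apply, mulVec_mulVec, ← Matrix.SpecialLinearGroup.coe_mul,
        mul_inv_cancel, Matrix.SpecialLinearGroup.coe_one, one_mulVec]
  · intro l v u hu
    obtain ⟨u', hu', hψ⟩ := hcomp l v
    obtain rfl : u = u' := Subtype.ext (hu.trans hu'.symm)
    show (M : Matrix (Fin 2) (Fin 2) F).mulVec (ψ (Additive.ofMul u)) =
      ((M * ρ₀ l * M⁻¹ : Matrix.SpecialLinearGroup (Fin 2) F) : Matrix (Fin 2) (Fin 2) F).mulVec _
    rw [hψ, mulVec_mulVec, mulVec_mulVec, ← Matrix.SpecialLinearGroup.coe_mul, ← Matrix.SpecialLinearGroup.coe_mul,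
      inv_mul_cancel_right]
  · intro l
    show _ ↔ IsU (M * ρ₀ l * M⁻¹)
    rw [← hM, hT]
    constructor
    · rintro ⟨l', hl', hll'⟩
      obtain rfl : l' = l := Subtype.ext hll'
      exact ⟨l', hl', rfl⟩
    · rintro ⟨l', hl', hll'⟩
      exact ⟨l', hl', congrArg Subtype.val (hinj hll')⟩

theorem mulVec_fin2 (A : Matrix (Fin 2) (Fin 2) F) (z : Fin 2 → F) :
    A.mulVec z = ![A 0 0 * z 0 + A 0 1 * z 1, A 1 0 * z 0 + A 1 1 * z 1] := by
  funext i
  fin_cases i <;> simp [mulVec, dotProduct, Fin.sum_univ_two]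

theorem isU_conj {A x : Matrix.SpecialLinearGroup (Fin 2) F} (hA : (A : Matrix (Fin 2) (Fin 2) F) 1 0 = 0)
    (hx : IsU x) : IsU (A * x * A⁻¹) := by
  obtain ⟨h10, h00, h11⟩ := hx
  have hd := A.2
  rw [det_fin_two, hA, mul_zero, sub_zero] at hd
  simp only [IsU, Matrix.SpecialLinearGroup.coe_mul, Matrix.SpecialLinearGroup.coe_inv, adjugate_fin_two,
    Matrix.mul_apply, Fin.sum_univ_two]
  simp [hA, h10, h00, h11]
  exact ⟨by linear_combination hd, by linear_combination hd⟩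

namespace Coord

variable {V L T : Subgroup G} (c : Coord F V L T)
include c

theorem w_one : c.w 1 = 0 := by
  have h := c.hadd 1 1
  rw [mul_one] at h
  exact left_eq_add.mp h

theorem comm : ∀ a ∈ V, ∀ b ∈ V, a * b = b * a := fun a ha b hb =>
  congrArg Subtype.val (c.hw.1 ((c.hadd ⟨a, ha⟩ ⟨b, hb⟩).trans ((add_comm _ _).trans (c.hadd ⟨b, hb⟩ ⟨a, ha⟩).symm)))

theorem w_inv (a : V) : c.w a⁻¹ = - c.w a := by
  have h := c.hadd a a⁻¹
  rw [mul_inv_cancel, c.w_one] at h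
  exact eq_neg_of_add_eq_zero_right h.symm

def act (l : L) (v : V) : V :=
  ⟨(l : G) * v * (l : G)⁻¹, (mem_normalizer_iff.mp (c.hnorm l.2) v).mp v.2⟩

theorem w_act (l : L) (v : V) :
    c.w (c.act l v) = ((c.ρ l : Matrix.SpecialLinearGroup (Fin 2) F) : Matrix (Fin 2) (Fin 2) F).mulVec (c.w v) :=
  c.hact l v _ rfl

theorem fixed_iff (l : L) (v : V) :
    (l : G) * v = v * l ↔ ((c.ρ l : Matrix.SpecialLinearGroup (Fin 2) F) : Matrix (Fin 2) (Fin 2) F).mulVec (c.w v) = c.w v := by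
  rw [← c.w_act]
  constructor
  · intro h
    congr 1
    exact Subtype.ext (mul_inv_eq_iff_eq_mul.mpr h)
  · intro h
    exact mul_inv_eq_iff_eq_mul.mp (congrArg Subtype.val (c.hw.1 h))

theorem exists_u (x : F) : ∃ t : L, (t : G) ∈ T ∧ c.ρ t = up x := by
  obtain ⟨t, ht⟩ := c.hρ.2 (up x)
  exact ⟨t, (c.hT t).mpr (ht ▸ by simp [IsU, coe_up]), ht⟩

theorem mem_cent_iff {a : G} :
    a ∈ V ⊓ centralizer (T : Set G) ↔ ∃ h : a ∈ V, c.w ⟨a, h⟩ 1 = 0 := by
  constructor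
  · rintro ⟨ha, hc⟩
    refine ⟨ha, ?_⟩
    obtain ⟨t, ht, hρt⟩ := c.exists_u 1
    have h := (c.fixed_iff t ⟨a, ha⟩).mp (mem_centralizer_iff.mp hc t ht)
    have h0 := congrFun h 0
    rw [mulVec_fin2, hρt] at h0
    simp [coe_up] at h0
    exact h0
  · rintro ⟨ha, h1⟩
    refine ⟨ha, mem_centralizer_iff.mpr fun t ht => ?_⟩
    obtain ⟨h10, h00, h11⟩ := (c.hT ⟨t, c.hTL ht⟩).mp ht
    refine (c.fixed_iff ⟨t, c.hTL ht⟩ ⟨a, ha⟩).mpr ?_
    rw [mulVec_fin2]
    funext i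
    fin_cases i <;> simp [h10, h00, h11, h1]

theorem cent_single {s : G} (hs : s ∈ T) (hs1 : s ≠ 1) :
    V ⊓ centralizer ({s} : Set G) = V ⊓ centralizer (T : Set G) := by
  refine le_antisymm ?_ (inf_le_inf_left _ (centralizer_le (Set.singleton_subset_iff.mpr hs)))
  rintro a ⟨ha, hc⟩
  refine c.mem_cent_iff.mpr ⟨ha, ?_⟩
  set t : L := ⟨s, c.hTL hs⟩
  obtain ⟨h10, h00, h11⟩ := (c.hT t).mp hs
  have h := (c.fixed_iff t ⟨a, ha⟩).mp (mem_centralizer_singleton_iff.mp hc).symm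
  have h0 := congrFun h 0
  rw [mulVec_fin2] at h0
  simp [h00] at h0
  refine h0.resolve_left fun h01 => hs1 ?_
  have : c.ρ t = c.ρ 1 := by
    rw [map_one]
    refine Subtype.ext ?_
    ext i j
    fin_cases i <;> fin_cases j <;> simp [h10, h00, h11, h01]
  exact congrArg Subtype.val (c.hρ.1 this)

theorem card_V [Fintype F] : Nat.card V = Fintype.card F ^ 2 := by
  rw [Nat.card_congr (Equiv.ofBijective c.w c.hw), Nat.card_eq_fintype_card, Fintype.card_fun, Fintype.card_fin]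

theorem card_cent [Fintype F] : Nat.card ↥(V ⊓ centralizer (T : Set G)) = Fintype.card F := by
  let f : ↥(V ⊓ centralizer (T : Set G)) → F := fun a => c.w ⟨a, (c.mem_cent_iff.mp a.2).1⟩ 0
  have hf : Function.Bijective f := by
    constructor
    · intro a b h
      obtain ⟨ha, ha1⟩ := c.mem_cent_iff.mp a.2
      obtain ⟨hb, hb1⟩ := c.mem_cent_iff.mp b.2
      have : c.w ⟨a, ha⟩ = c.w ⟨b, hb⟩ := funext fun i => by
        fin_cases i
        · exact h
        · exact ha1.trans hb1.symm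
      exact Subtype.ext (congrArg (fun z : V => (z : G)) (c.hw.1 this))
    · intro x
      obtain ⟨v, hv⟩ := c.hw.2 ![x, 0]
      refine ⟨⟨v, c.mem_cent_iff.mpr ⟨v.2, by rw [Subtype.coe_eta, hv]; rfl⟩⟩, ?_⟩
      show c.w ⟨v, _⟩ 0 = x
      rw [Subtype.coe_eta, hv]; rfl
  rw [Nat.card_congr (Equiv.ofBijective f hf), Nat.card_eq_fintype_card]

theorem commutator_mem {v t : G} (hv : v ∈ V) (ht : t ∈ T) :
    v * t * v⁻¹ * t⁻¹ ∈ V ⊓ centralizer (T : Set G) := by
  set l : L := ⟨t, c.hTL ht⟩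
  obtain ⟨h10, h00, h11⟩ := (c.hT l).mp ht
  set v' : V := ⟨v, hv⟩
  have e : v * t * v⁻¹ * t⁻¹ = ((v' * c.act l v'⁻¹ : V) : G) := by
    simp [act, v', l, mul_assoc]
  rw [e]
  refine c.mem_cent_iff.mpr ⟨(v' * c.act l v'⁻¹).2, ?_⟩
  rw [Subtype.coe_eta, c.hadd, c.w_act, c.w_inv, mulVec_fin2]
  simp [h10, h11]

theorem closure_eq {v : G} (hv : v ∈ V) (hvn : v ∉ centralizer (T : Set G)) :
    closure {x : G | ∃ t ∈ T, x = v * t * v⁻¹ * t⁻¹} = V ⊓ centralizer (T : Set G) := by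
  refine le_antisymm ((closure_le _).mpr ?_) ?_
  · rintro _ ⟨t, ht, rfl⟩
    exact c.commutator_mem hv ht
  · intro a ha
    obtain ⟨haV, ha1⟩ := c.mem_cent_iff.mp ha
    set v' : V := ⟨v, hv⟩
    have hv1 : c.w v' 1 ≠ 0 := fun h => hvn (c.mem_cent_iff.mpr ⟨hv, h⟩).2
    obtain ⟨t, ht, hρ⟩ := c.exists_u (-(c.w ⟨a, haV⟩ 0) / c.w v' 1)
    refine subset_closure ⟨t, ht, ?_⟩
    have e : v * (t : G) * v⁻¹ * (t : G)⁻¹ = ((v' * c.act t v'⁻¹ : V) : G) := by
      simp [act, v', mul_assoc]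
    rw [e]
    refine congrArg Subtype.val (c.hw.1 (a₁ := ⟨a, haV⟩) (funext fun i => ?_))
    rw [c.hadd, c.w_act, c.w_inv, mulVec_fin2, hρ]
    fin_cases i
    · simp [coe_up]
      field_simp
      try ring
    · simp [coe_up, ha1]

theorem commutator_eq : ⁅V, T⁆ = V ⊓ centralizer (T : Set G) := by
  refine le_antisymm (commutator_le.mpr fun v hv t ht => ?_) ?_
  · rw [commutatorElement_def]; exact c.commutator_mem hv ht
  · obtain ⟨v, hv⟩ := c.hw.2 ![0, 1]
    have hvn : (v : G) ∉ centralizer (T : Set G) := fun h => by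
      obtain ⟨h', h1⟩ := c.mem_cent_iff.mp (mem_inf.mpr ⟨v.2, h⟩)
      rw [Subtype.coe_eta, hv] at h1
      simp at h1
    rw [← c.closure_eq v.2 hvn, closure_le]
    rintro _ ⟨t, ht, rfl⟩
    rw [SetLike.mem_coe, ← commutatorElement_def]
    exact commutator_mem_commutator v.2 ht

theorem commutator_zpowers {s : G} (hs : s ∈ T) (hs1 : s ≠ 1) :
    ⁅V, zpowers s⁆ = V ⊓ centralizer (T : Set G) := by
  refine le_antisymm ((commutator_mono le_rfl (zpowers_le.mpr hs)).trans c.commutator_eq.le) fun a ha => ?_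
  obtain ⟨haV, ha1⟩ := c.mem_cent_iff.mp ha
  set l : L := ⟨s, c.hTL hs⟩
  obtain ⟨h10, h00, h11⟩ := (c.hT l).mp hs
  have h01 : (c.ρ l : Matrix (Fin 2) (Fin 2) F) 0 1 ≠ 0 := fun h => hs1 (by
    have : c.ρ l = c.ρ 1 := by
      rw [map_one]
      refine Subtype.ext ?_
      ext i j
      fin_cases i <;> fin_cases j <;> simp [h10, h00, h11, h]
    exact congrArg Subtype.val (c.hρ.1 this))
  obtain ⟨v, hv⟩ := c.hw.2 ![0, -(c.w ⟨a, haV⟩ 0) / (c.ρ l : Matrix (Fin 2) (Fin 2) F) 0 1]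
  have e : a = (v : G) * s * (v : G)⁻¹ * s⁻¹ := by
    have e1 : (v : G) * s * (v : G)⁻¹ * s⁻¹ = ((v * c.act l v⁻¹ : V) : G) := by
      simp [act, l, mul_assoc]
    rw [e1]
    refine congrArg Subtype.val (c.hw.1 (a₁ := ⟨a, haV⟩) (funext fun i => ?_))
    rw [c.hadd, c.w_act, c.w_inv, mulVec_fin2, hv]
    fin_cases i
    · simp [h00]
      field_simp
    · simp [h10, h11, ha1]
  rw [e, ← commutatorElement_def]
  exact commutator_mem_commutator v.2 (mem_zpowers s)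

theorem mem_normalizer_T [Finite G] {g : L} (hg : (c.ρ g : Matrix (Fin 2) (Fin 2) F) 1 0 = 0) :
    (g : G) ∈ normalizer (T : Set G) := by
  refine (mem_normalizer_iff_map_conj_eq).mpr
    (eq_of_le_of_card_ge ?_ (card_map_of_injective (MulAut.conj (g : G)).injective).ge)
  rintro _ ⟨t, ht, rfl⟩
  exact (c.hT (g * ⟨t, c.hTL ht⟩ * g⁻¹)).mpr (by
    rw [map_mul, map_mul, map_inv]
    exact isU_conj hg ((c.hT ⟨t, c.hTL ht⟩).mp ht))

theorem internal_product [Finite G] {g : G} (hg : g ∈ L) (hgn : g ∉ normalizer (T : Set G)) :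
    Cfsg.IsInternalDirectProduct (V ⊓ centralizer (T : Set G))
      (V ⊓ centralizer ((T.map (MulAut.conj g).toMonoidHom : Subgroup G) : Set G)) V := by
  set l : L := ⟨g, hg⟩
  have h10 : (c.ρ l : Matrix (Fin 2) (Fin 2) F) 1 0 ≠ 0 := fun h => hgn (c.mem_normalizer_T h)
  have hmem : ∀ a ∈ V ⊓ centralizer (T : Set G),
      g * a * g⁻¹ ∈ V ⊓ centralizer ((T.map (MulAut.conj g).toMonoidHom : Subgroup G) : Set G) := by
    intro a ha
    refine mem_inf.mpr ⟨(mem_normalizer_iff.mp (c.hnorm hg) a).mp ha.1, mem_centralizer_iff.mpr ?_⟩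
    rintro _ ⟨t, ht, rfl⟩
    show g * t * g⁻¹ * (g * a * g⁻¹) = g * a * g⁻¹ * (g * t * g⁻¹)
    rw [show g * t * g⁻¹ * (g * a * g⁻¹) = g * (t * a) * g⁻¹ by group, mem_centralizer_iff.mp ha.2 t ht]
    group
  have hmem' : ∀ b ∈ V ⊓ centralizer ((T.map (MulAut.conj g).toMonoidHom : Subgroup G) : Set G),
      ∃ a : V, (a : G) ∈ V ⊓ centralizer (T : Set G) ∧ b = g * a * g⁻¹ := by
    intro b hb
    have hbV : g⁻¹ * b * g ∈ V := (mem_normalizer_iff''.mp (c.hnorm hg) b).mp hb.1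
    refine ⟨⟨_, hbV⟩, mem_inf.mpr ⟨hbV, mem_centralizer_iff.mpr fun t ht => ?_⟩, by group⟩
    have h := mem_centralizer_iff.mp hb.2 (g * t * g⁻¹) ⟨t, ht, rfl⟩
    calc t * (g⁻¹ * b * g) = g⁻¹ * (g * t * g⁻¹ * b) * g := by group
      _ = g⁻¹ * (b * (g * t * g⁻¹)) * g := by rw [h]
      _ = g⁻¹ * b * g * t := by group
  refine ⟨inf_le_left, inf_le_left, fun a ha b hb => c.comm a ha.1 b hb.1, ?_, ?_⟩
  · rw [eq_bot_iff]
    rintro b ⟨hb1, hb2⟩
    obtain ⟨a, ha, rfl⟩ := hmem' b hb2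
    obtain ⟨_, ha1⟩ := c.mem_cent_iff.mp ha
    obtain ⟨_, hb1'⟩ := c.mem_cent_iff.mp hb1
    rw [Subtype.coe_eta] at ha1
    change c.w (c.act l a) 1 = 0 at hb1'
    rw [c.w_act, mulVec_fin2] at hb1'
    simp [ha1, h10] at hb1'
    have : a = 1 := c.hw.1 ((funext fun i => by fin_cases i <;> simp [ha1, hb1']).trans c.w_one.symm)
    simp [this]
  · refine le_antisymm (sup_le inf_le_left inf_le_left) fun x hx => ?_
    set z := c.w ⟨x, hx⟩
    obtain ⟨a, ha⟩ := c.hw.2 ![z 1 / (c.ρ l : Matrix (Fin 2) (Fin 2) F) 1 0, 0]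
    have haC : (a : G) ∈ V ⊓ centralizer (T : Set G) :=
      c.mem_cent_iff.mpr ⟨a.2, by rw [Subtype.coe_eta, ha]; rfl⟩
    set b : V := c.act l a
    set d : V := ⟨x, hx⟩ * b⁻¹
    have hd : (d : G) ∈ V ⊓ centralizer (T : Set G) := by
      refine c.mem_cent_iff.mpr ⟨d.2, ?_⟩
      rw [Subtype.coe_eta, c.hadd, c.w_inv, c.w_act, mulVec_fin2, ha]
      simp
      field_simp
      ring
    have e : x = (d : G) * (b : G) := by simp [d]
    rw [e]
    exact mul_mem_sup hd (hmem a haC)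

theorem fpf [Fintype F] {p : ℕ} [Fact p.Prime] [CharP F p] {x : G} (hx : x ∈ L) (hx1 : x ≠ 1)
    (hcop : (orderOf x).Coprime p) : V ⊓ centralizer ({x} : Set G) = ⊥ := by
  rw [eq_bot_iff]
  rintro a ⟨ha, hc⟩
  rw [mem_bot]
  by_contra ha1
  set l : L := ⟨x, hx⟩
  have h := (c.fixed_iff l ⟨a, ha⟩).mp (mem_centralizer_singleton_iff.mp hc).symm
  set M := ((c.ρ l : Matrix.SpecialLinearGroup (Fin 2) F) : Matrix (Fin 2) (Fin 2) F) with hMdef
  have hz : c.w ⟨a, ha⟩ ≠ 0 := fun h0 => ha1 (congrArg Subtype.val (c.hw.1 (h0.trans c.w_one.symm)))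
  have hdet : (M - 1).det = 0 := exists_mulVec_eq_zero_iff.mp ⟨_, hz, by rw [sub_mulVec, h, one_mulVec, sub_self]⟩
  have hd : M.det = 1 := (c.ρ l).2
  rw [det_fin_two] at hdet hd
  simp at hdet
  set N := M - 1 with hN
  have hN2 : N * N = 0 := by
    ext i j
    fin_cases i <;> fin_cases j <;> simp [hN, Matrix.mul_apply, Fin.sum_univ_two]
    · linear_combination -(M 0 0) * hdet + (M 0 0 - 1) * hd
    · linear_combination -(M 0 1) * hdet + (M 0 1) * hd
    · linear_combination -(M 1 0) * hdet + (M 1 0) * hd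
    · linear_combination -(M 1 1) * hdet + (M 1 1 - 1) * hd
  have hpow : M ^ p = 1 := by
    have hp : p.Prime := Fact.out
    have hNp : N ^ p = 0 := by
      rw [show p = 2 + (p - 2) by have := hp.two_le; omega, pow_add, pow_two, hN2, zero_mul]
    have h1 := add_pow_char_of_commute (R := Matrix (Fin 2) (Fin 2) F) (p := p) (Commute.one_left N)
    rw [one_pow, hNp, add_zero, hN, add_sub_cancel] at h1
    exact h1
  have hlp : l ^ p = 1 := c.hρ.1 (by
    rw [map_pow, map_one]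
    exact Subtype.ext (by rw [Matrix.SpecialLinearGroup.coe_pow, Matrix.SpecialLinearGroup.coe_one]; exact hpow))
  exact hx1 (orderOf_eq_one_iff.mp (Nat.eq_one_of_dvd_coprimes hcop dvd_rfl
    (orderOf_dvd_of_pow_eq_one (congrArg Subtype.val hlp))))

theorem exists_diag [Finite G] {a : F} (ha : a ≠ 0) :
    ∃ g : L, c.ρ g = diag a ha ∧ (g : G) ∈ L ⊓ normalizer (T : Set G) := by
  obtain ⟨g, hg⟩ := c.hρ.2 (diag a ha)
  exact ⟨g, hg, mem_inf.mpr ⟨g.2, c.mem_normalizer_T (by rw [hg]; rfl)⟩⟩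

theorem irred_sub [Finite G] (U : Subgroup G) (hU : U ≤ V ⊓ centralizer (T : Set G))
    (hn : L ⊓ normalizer (T : Set G) ≤ normalizer (U : Set G)) :
    U = ⊥ ∨ U = V ⊓ centralizer (T : Set G) := by
  rcases U.bot_or_exists_ne_one with h | ⟨u, hu, hu1⟩
  · exact Or.inl h
  refine Or.inr (le_antisymm hU fun b hb => ?_)
  obtain ⟨huV, hu'⟩ := c.mem_cent_iff.mp (hU hu)
  obtain ⟨hbV, hb'⟩ := c.mem_cent_iff.mp hb
  by_cases hb1 : b = 1
  · rw [hb1]; exact one_mem U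
  have hne : ∀ (v : G) (hv : v ∈ V), v ≠ 1 → c.w ⟨v, hv⟩ 1 = 0 → c.w ⟨v, hv⟩ 0 ≠ 0 := fun v hv hv1 h1 h0 =>
    hv1 (congrArg Subtype.val (c.hw.1 (a₁ := ⟨v, hv⟩) (a₂ := 1) ((funext fun i => by fin_cases i <;> simp [h0, h1]).trans c.w_one.symm)))
  obtain ⟨g, hg, hgn⟩ := c.exists_diag (div_ne_zero (hne b hbV hb1 hb') (hne u huV hu1 hu'))
  have e : b = (c.act g ⟨u, huV⟩ : G) := by
    refine congrArg Subtype.val (c.hw.1 (a₁ := ⟨b, hbV⟩) (funext fun i => ?_))
    rw [c.w_act, mulVec_fin2, hg]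
    fin_cases i
    · simp [diag, hu', hne u huV hu1 hu']
    · simp [diag, hu', hb']
  rw [e]
  exact (mem_normalizer_iff.mp (hn hgn) u).mp hu

theorem irred_quot [Finite G] (U : Subgroup G) (hCU : V ⊓ centralizer (T : Set G) ≤ U) (hUV : U ≤ V)
    (hn : L ⊓ normalizer (T : Set G) ≤ normalizer (U : Set G)) :
    U = V ⊓ centralizer (T : Set G) ∨ U = V := by
  by_cases hle : U ≤ V ⊓ centralizer (T : Set G)
  · exact Or.inl (le_antisymm hle hCU)
  obtain ⟨u, hu, hun⟩ := SetLike.not_le_iff_exists.mp hle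
  refine Or.inr (le_antisymm hUV fun b hb => ?_)
  by_cases hb1 : c.w ⟨b, hb⟩ 1 = 0
  · exact hCU (c.mem_cent_iff.mpr ⟨hb, hb1⟩)
  have hu1 : c.w ⟨u, hUV hu⟩ 1 ≠ 0 := fun h => hun (c.mem_cent_iff.mpr ⟨hUV hu, h⟩)
  obtain ⟨g, hg, hgn⟩ := c.exists_diag (div_ne_zero hu1 hb1)
  set v := c.act g ⟨u, hUV hu⟩
  have hvU : (v : G) ∈ U := (mem_normalizer_iff.mp (hn hgn) u).mp hu
  have hd : ((⟨b, hb⟩ * v⁻¹ : V) : G) ∈ U := by
    refine hCU (c.mem_cent_iff.mpr ⟨(⟨b, hb⟩ * v⁻¹ : V).2, ?_⟩)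
    rw [Subtype.coe_eta, c.hadd, c.w_inv, c.w_act, mulVec_fin2, hg]
    simp [diag]
    field_simp
    ring
  have h := mul_mem hd hvU
  simpa using h

end Coord

end Cfsg.Lib.Misc.NaturalSL2
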