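import Cfsg.Agent.Quadratic.Thompson
import Cfsg.Agent.Classical.PSLTwoDihedral
import Cfsg.Agent.Chev.Ree.Simple
import Cfsg.Agent.Blocks.BrauerSuzukiQ8
import Cfsg.Agent.Fusion.PSpTwo.SLTwoFacts
import Cfsg.Agent.Components.Cores

/-!
No `SL₂(p)` section in `PSL₂(q)`, `q` odd, nor an `SL₂(3)` section in a Ree group; no quadratic
action of these groups in the characteristic.
-/

set_option autoImplicit false
set_option linter.unusedSectionVars false

namespace Cfsg.Lib.NoQuadPR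

open Cfsg.Lie
open scoped commutatorElement

variable {p : ℕ} [Fact p.Prime]

local notation "SL₂" => Matrix.SpecialLinearGroup (Fin 2) (ZMod p)

theorem sl_not_comm (hp : p ≠ 2) (R : Sylow 2 SL₂) : ¬ IsMulCommutative (R : Subgroup SL₂) :=
  Cfsg.Lib.QuadPair.not_isMulCommutative_sylow_two hp (K := ⊤)
    (f := Subgroup.topEquiv.toMonoidHom) (fun y => ⟨⟨y, Subgroup.mem_top y⟩, rfl⟩) R

theorem sl_central_of_sq (hp : p ≠ 2) {y : SL₂} (h : y * y = 1) (z : SL₂) : y * z = z * y := by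
  have h2 : (2 : ZMod p) ≠ 0 := Cfsg.Lib.SLTwoSub.two_ne_zero' (F := ZMod p) hp
  rcases Cfsg.Lib.Fusion.PSpTwo.sq_eq_one h2 h with e | e <;> subst e <;> simp

theorem no_section_psl {F : Type*} [Field F] [Fintype F] (hodd : Fintype.card F % 2 = 1) (hp : p ≠ 2)
    {K : Subgroup (Matrix.ProjectiveSpecialLinearGroup (Fin 2) F)} {f : ↥K →* SL₂}
    (hf : Function.Surjective f) : False := by
  classical
  haveI : Fact (Nat.Prime 2) := ⟨Nat.prime_two⟩
  obtain ⟨S₀⟩ : Nonempty (Sylow 2 ↥K) := inferInstance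
  obtain ⟨T, hT⟩ := (S₀.2.map K.subtype).exists_le_sylow
  by_cases h16 : 16 ∣ Fintype.card F ^ 2 - 1
  · obtain ⟨c, t, n, hg⟩ := Cfsg.Lib.PSLTwoDihedral.exists_isGen hodd h16 T
    have hcases : ∀ u ∈ (S₀ : Subgroup ↥K), (u : Matrix.ProjectiveSpecialLinearGroup (Fin 2) F) ∈ Subgroup.zpowers c ∨ u * u = 1 := by
      intro u hu
      have hmem := hT ⟨u, hu, rfl⟩
      rcases hg.mem_iff.mp hmem with h | ⟨i, hi⟩
      · exact Or.inl h
      · refine Or.inr (Subtype.ext ?_)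
        have h1 := hg.refl_sq i
        rw [← hi] at h1
        exact h1
    refine sl_not_comm hp (S₀.mapSurjective hf) ⟨⟨fun a b => ?_⟩⟩
    obtain ⟨u, hu, ea⟩ := a.2
    obtain ⟨v, hv, eb⟩ := b.2
    apply Subtype.ext
    show (a : SL₂) * b = b * a
    rw [← ea, ← eb]
    rcases hcases u hu with hcu | hsu
    · rcases hcases v hv with hcv | hsv
      · have huv : u * v = v * u := by
          obtain ⟨i, hi⟩ := hcu
          obtain ⟨j, hj⟩ := hcv
          apply Subtype.ext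
          show (u : Matrix.ProjectiveSpecialLinearGroup (Fin 2) F) * v = v * u
          rw [← hi, ← hj]
          exact ((Commute.refl c).zpow_zpow i j).eq
        rw [← map_mul, huv, map_mul]
      · exact (sl_central_of_sq hp (by rw [← map_mul, hsv, map_one]) (f u)).symm
    · exact sl_central_of_sq hp (by rw [← map_mul, hsu, map_one]) (f v)
  · obtain ⟨k, hk⟩ := IsPGroup.iff_card.mp T.2
    have hk2 : k ≤ 2 := by
      by_contra hlt
      have h8 : 2 ^ 3 ∣ Nat.card (Matrix.ProjectiveSpecialLinearGroup (Fin 2) F) :=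
        (Nat.pow_dvd_pow 2 (by omega)).trans (hk ▸ Subgroup.card_subgroup_dvd_card _)
      have h := Nat.mul_dvd_mul_left 2 h8
      rw [Cfsg.Lib.PSLTwoDihedral.card_P hodd, show 2 * 2 ^ 3 = 2 ^ 4 by norm_num] at h
      have hc : Nat.Coprime (2 ^ 4) (Fintype.card F) :=
        Nat.Coprime.pow_left _ (Nat.coprime_two_left.mpr (Nat.odd_iff.mpr hodd))
      exact h16 (hc.dvd_of_dvd_mul_left h)
    have hcomm : IsMulCommutative (T : Subgroup (Matrix.ProjectiveSpecialLinearGroup (Fin 2) F)) := by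
      interval_cases k
      · haveI : Subsingleton (T : Subgroup (Matrix.ProjectiveSpecialLinearGroup (Fin 2) F)) :=
          (Nat.card_eq_one_iff_unique.mp (by rw [hk, pow_zero])).1
        exact ⟨⟨fun a b => Subsingleton.elim _ _⟩⟩
      · haveI := isCyclic_of_prime_card (α := (T : Subgroup (Matrix.ProjectiveSpecialLinearGroup (Fin 2) F))) (p := 2) (by rw [hk, pow_one])
        exact IsCyclic.commutative
      · exact ⟨⟨IsPGroup.commutative_of_card_eq_prime_sq hk⟩⟩
    exact Cfsg.Lib.QuadPair.not_isMulCommutative_sylow_two hp hf T hcomm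

theorem no_section_ree {F : Type} [Field F] [Fintype F] (X : Cfsg.Lib.Chev.Ree.Ree F) (hm : 1 ≤ X.m)
    {K : Subgroup ↥X.G1} {f : ↥K →* Matrix.SpecialLinearGroup (Fin 2) (ZMod 3)}
    (hf : Function.Surjective f) : False := by
  classical
  haveI : Fact (Nat.Prime 2) := ⟨Nat.prime_two⟩
  haveI : Fact (Nat.Prime 3) := ⟨Nat.prime_three⟩
  haveI : Finite ↥X.G1 := Finite.of_injective _ X.G1.subtype_injective
  obtain ⟨hsimp, hnc⟩ := X.simple hm
  haveI := hsimp
  have hq : Fintype.card F % 16 = 3 ∨ Fintype.card F % 16 = 11 := by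
    have h9 : ∀ j : ℕ, 9 ^ j % 16 = 1 ∨ 9 ^ j % 16 = 9 := by
      intro j
      induction j with
      | zero => left; rfl
      | succ j ih => rw [pow_succ]; omega
    rw [X.hK, pow_succ, pow_mul]
    norm_num
    rcases h9 X.m with h | h <;> omega
  have hmod : Nat.card ↥X.G1 % 16 = 8 := by
    rw [X.card_G1]
    obtain ⟨j, hj⟩ : ∃ j, Fintype.card F = 16 * j + Fintype.card F % 16 :=
      ⟨_, (Nat.div_add_mod _ _).symm⟩
    have hsub : (Fintype.card F - 1) % 16 = Fintype.card F % 16 - 1 := by omega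
    rw [Nat.mul_mod, Nat.mul_mod _ (_ - 1), hsub, Nat.add_mod, Nat.pow_mod]
    rcases hq with h | h <;> rw [h]
  obtain ⟨S₀⟩ : Nonempty (Sylow 2 ↥K) := inferInstance
  obtain ⟨T, hT⟩ := (S₀.2.map K.subtype).exists_le_sylow
  obtain ⟨k, hk⟩ := IsPGroup.iff_card.mp T.2
  have hk3 : k ≤ 3 := by
    by_contra hlt
    have : 2 ^ 4 ∣ Nat.card ↥X.G1 :=
      (Nat.pow_dvd_pow 2 (by omega)).trans (hk ▸ Subgroup.card_subgroup_dvd_card _)
    omega
  have h8 : Nat.card (T : Subgroup ↥X.G1) ≤ 8 := hk ▸ Nat.pow_le_pow_right two_pos hk3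
  obtain ⟨R, hR⟩ : ∃ R, R = S₀.mapSurjective hf := ⟨_, rfl⟩
  obtain ⟨l, hl, ⟨eR⟩⟩ := Cfsg.Lib.Classical.SLTwoTori.sylow_two_quaternion 3 (by norm_num) R
  have hRc : Nat.card (R : Subgroup (Matrix.SpecialLinearGroup (Fin 2) (ZMod 3))) = 4 * 2 ^ l := by
    haveI : NeZero (2 ^ l) := ⟨pow_ne_zero _ two_ne_zero⟩
    rw [Nat.card_congr eR.toEquiv, Nat.card_eq_fintype_card, QuaternionGroup.card]
  obtain ⟨g, hg⟩ : ∃ g : (S₀ : Subgroup ↥K) →* (R : Subgroup (Matrix.SpecialLinearGroup (Fin 2) (ZMod 3))),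
      Function.Surjective g := by
    have hmem : ∀ u : (S₀ : Subgroup ↥K), f u ∈ (R : Subgroup (Matrix.SpecialLinearGroup (Fin 2) (ZMod 3))) := by
      intro u; rw [hR]; exact ⟨u, u.2, rfl⟩
    refine ⟨(f.comp (S₀ : Subgroup ↥K).subtype).codRestrict _ hmem, fun z => ?_⟩
    have hz := z.2
    simp only [hR] at hz
    obtain ⟨u, hu, e⟩ := hz
    exact ⟨⟨u, hu⟩, Subtype.ext e⟩
  have hSc : Nat.card ((S₀ : Subgroup ↥K).map K.subtype) = Nat.card (S₀ : Subgroup ↥K) :=
    Subgroup.card_map_of_injective K.subtype_injective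
  have hle1 := Nat.card_le_card_of_surjective _ hg
  have hle2 := Subgroup.card_le_of_le hT
  have hl2 : 2 ≤ 2 ^ l := Nat.le_self_pow (by omega) 2
  have hl1 : l = 1 := Nat.pow_right_injective le_rfl (show 2 ^ l = 2 ^ 1 by omega)
  have hgb : Function.Bijective g :=
    (Nat.bijective_iff_surjective_and_card g).mpr ⟨hg, by omega⟩
  have hTeq : (S₀ : Subgroup ↥K).map K.subtype = (T : Subgroup ↥X.G1) :=
    Subgroup.eq_of_le_of_card_ge hT (by omega)
  subst hl1
  have eT : (T : Subgroup ↥X.G1) ≃* QuaternionGroup 2 :=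
    (MulEquiv.subgroupCongr hTeq).symm.trans
      (((Subgroup.equivMapOfInjective _ K.subtype K.subtype_injective).symm.trans
        (MulEquiv.ofBijective g hgb)).trans eR)
  have hOdd : ∀ N : Subgroup ↥X.G1, N.Normal → Odd (Nat.card N) → N = ⊥ := by
    intro N hN hodd
    rcases hN.eq_bot_or_eq_top with h | h
    · exact h
    · exfalso
      rw [h, Subgroup.card_top, Nat.odd_iff] at hodd
      omega
  have hc := Cfsg.Lib.Blocks.brauer_suzuki_q8 _ rfl eT hOdd
  rcases (inferInstance : (Subgroup.center ↥X.G1).Normal).eq_bot_or_eq_top with h | h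
  · rw [h, Subgroup.card_bot] at hc
    omega
  · exact hnc ⟨⟨fun a b => (Subgroup.mem_center_iff.mp (h ▸ Subgroup.mem_top a) b).symm⟩⟩

/-- An irreducible acting group has no nontrivial normal `p`-subgroup modulo the kernel; so a
quadratic element acting nontrivially gives a section `SL₂(p)`. -/
theorem exists_section {G : Type*} [Group G] [Finite G] (hp : p ≠ 2) (V H : Subgroup G)
    (hV : Cfsg.IsElementaryAbelian p V) (hHV : H ≤ Subgroup.normalizer (V : Set G))
    (hirr : ∀ U : Subgroup G, U ≤ V → H ≤ Subgroup.normalizer (U : Set G) → U = ⊥ ∨ U = V)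
    [hn : ((Subgroup.centralizer (V : Set G)).subgroupOf H).Normal]
    {A : Subgroup G} (hA : A ≤ H) (hquad : ⁅⁅V, A⁆, A⁆ = ⊥) (hne : ⁅V, A⁆ ≠ ⊥) :
    ∃ (K : Subgroup (↥H ⧸ (Subgroup.centralizer (V : Set G)).subgroupOf H)) (f : ↥K →* SL₂),
      Function.Surjective f := by
  classical
  haveI := hV.1
  obtain ⟨φ, hφval⟩ : ∃ φ : ↥H →* MulAut ↥V, ∀ (h : ↥H) (v : ↥V), ((φ h v : ↥V) : G) = h * v * (h : G)⁻¹ :=
    ⟨V.normalizerMonoidHom.comp (Subgroup.inclusion hHV), fun h v => rfl⟩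
  have hker : φ.ker = (Subgroup.centralizer (V : Set G)).subgroupOf H := by
    ext h
    rw [MonoidHom.mem_ker, Subgroup.mem_subgroupOf, Subgroup.mem_centralizer_iff]
    constructor
    · intro e v hv
      have h1 := hφval h ⟨v, hv⟩
      rw [e] at h1
      simp only [MulAut.one_apply] at h1
      calc v * (h : G) = h * v * (h : G)⁻¹ * h := by rw [← h1]
        _ = h * v := by group
    · intro hc
      ext v
      rw [hφval, MulAut.one_apply, ← hc v v.2]
      group
  -- no normal `p`-subgroup in the image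
  have hcore : ∀ N : Subgroup φ.range, N.Normal → IsPGroup p N → N = ⊥ := by
    intro N hN hNp
    rcases eq_or_ne V ⊥ with hV0 | hV0
    · refine (Subgroup.eq_bot_iff_forall _).mpr fun r _ => Subtype.ext ?_
      ext v
      have := v.2
      rw [Subgroup.coe_one, MulAut.one_apply]
      simp only [hV0, Subgroup.mem_bot] at this
      have hv : v = 1 := Subtype.ext this
      rw [hv, map_one]
    let U : Subgroup G :=
      { carrier := {g | ∃ hg : g ∈ V, ∀ r ∈ N, (r : MulAut ↥V) ⟨g, hg⟩ = ⟨g, hg⟩}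
        one_mem' := ⟨V.one_mem, fun r _ => map_one (r : MulAut ↥V)⟩
        mul_mem' := by
          rintro a b ⟨ha, ha'⟩ ⟨hb, hb'⟩
          refine ⟨V.mul_mem ha hb, fun r hr => ?_⟩
          have e : (⟨a * b, V.mul_mem ha hb⟩ : ↥V) = ⟨a, ha⟩ * ⟨b, hb⟩ := rfl
          rw [e, map_mul, ha' r hr, hb' r hr]
        inv_mem' := by
          rintro a ⟨ha, ha'⟩
          refine ⟨V.inv_mem ha, fun r hr => ?_⟩
          have e : (⟨a⁻¹, V.inv_mem ha⟩ : ↥V) = ⟨a, ha⟩⁻¹ := rfl
          rw [e, map_inv, ha' r hr] }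
    have hUV : U ≤ V := fun g hg => hg.1
    have hHU : H ≤ Subgroup.normalizer (U : Set G) := by
      intro h hh
      refine Subgroup.mem_normalizer_fintype ?_
      rintro g ⟨hg, hfix⟩
      refine ⟨Cfsg.Lib.QuadPair.conj_mem_normalizer (hHV hh) hg, fun r hr => ?_⟩
      obtain ⟨a, ha⟩ : ∃ a : φ.range, a = ⟨φ ⟨h, hh⟩, ⟨_, rfl⟩⟩ := ⟨_, rfl⟩
      have hconj := hfix _ (hN.conj_mem r hr a⁻¹)
      have e : (⟨h * g * h⁻¹, Cfsg.Lib.QuadPair.conj_mem_normalizer (hHV hh) hg⟩ : ↥V) = (a : MulAut ↥V) ⟨g, hg⟩ := by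
        apply Subtype.ext
        rw [ha]
        exact (hφval ⟨h, hh⟩ ⟨g, hg⟩).symm
      rw [e]
      have h2 := congrArg (a : MulAut ↥V) hconj
      simpa [MulAut.mul_apply, mul_assoc] using h2
    have hUne : U ≠ ⊥ := by
      have hdvd : p ∣ Nat.card ↥V := by
        obtain ⟨i, hi⟩ := IsPGroup.iff_card.mp (show IsPGroup p ↥V from fun v => ⟨1, by
          rw [pow_one]; exact Subtype.ext (hV.2 v v.2)⟩)
        have hi0 : i ≠ 0 := fun e => hV0 (Subgroup.card_eq_one.mp (by rw [hi, e, pow_zero]))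
        exact hi ▸ dvd_pow_self p hi0
      have h1 : (1 : ↥V) ∈ MulAction.fixedPoints ↥N ↥V := fun r => map_one ((r : φ.range) : MulAut ↥V)
      obtain ⟨v, hv, hv1⟩ := hNp.exists_fixed_point_of_prime_dvd_card_of_fixed_point ↥V hdvd h1
      intro hU
      have : (v : G) ∈ U := ⟨v.2, fun r hr => hv ⟨r, hr⟩⟩
      rw [hU, Subgroup.mem_bot] at this
      exact hv1 (Subtype.ext this).symm
    rcases hirr U hUV hHU with h | h
    · exact absurd h hUne
    refine (Subgroup.eq_bot_iff_forall _).mpr fun r hr => Subtype.ext ?_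
    ext v
    obtain ⟨hv, hfix⟩ := h.ge v.2
    rw [Subgroup.coe_one, MulAut.one_apply]
    exact congrArg Subtype.val (hfix r hr)
  -- the semidirect product
  let inl : ↥V →* ↥V ⋊[φ.range.subtype] ↥φ.range := SemidirectProduct.inl
  let inr : ↥φ.range →* ↥V ⋊[φ.range.subtype] ↥φ.range := SemidirectProduct.inr
  haveI : Finite (↥V ⋊[φ.range.subtype] ↥φ.range) :=
    Finite.of_equiv _ SemidirectProduct.equivProd.symm
  have hinr : Function.Injective inr := SemidirectProduct.inr_injective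
  have hinl : Function.Injective inl := SemidirectProduct.inl_injective
  have hconj : ∀ (r : φ.range) (v : ↥V), inr r * inl v * (inr r)⁻¹ = inl ((r : MulAut ↥V) v) :=
    fun r v => by
      show _ * _ * _ = SemidirectProduct.inl (φ.range.subtype r v)
      rw [SemidirectProduct.inl_aut, map_inv]
  have hV' : Cfsg.IsElementaryAbelian p inl.range := by
    refine ⟨⟨⟨?_⟩⟩, ?_⟩
    · rintro ⟨_, a, rfl⟩ ⟨_, b, rfl⟩
      apply Subtype.ext
      show inl a * inl b = inl b * inl a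
      rw [← map_mul, ← map_mul, mul_comm' a b]
    · rintro _ ⟨a, rfl⟩
      rw [← map_pow, show a ^ p = 1 from Subtype.ext (hV.2 _ a.2), map_one]
  have hHV' : inr.range ≤ Subgroup.normalizer (inl.range : Set (↥V ⋊[φ.range.subtype] ↥φ.range)) := by
    intro z hz
    obtain ⟨r, rfl⟩ := hz
    refine Subgroup.mem_normalizer_fintype ?_
    rintro _ ⟨v, rfl⟩
    exact ⟨_, (hconj r v).symm⟩
  have hf' : inr.range ⊓ Subgroup.centralizer (inl.range : Set (↥V ⋊[φ.range.subtype] ↥φ.range)) = ⊥ := by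
    refine (Subgroup.eq_bot_iff_forall _).mpr ?_
    rintro _ ⟨⟨r, rfl⟩, hc⟩
    have : r = 1 := by
      apply Subtype.ext
      ext v
      have h1 := Subgroup.mem_centralizer_iff.mp hc _ ⟨v, rfl⟩
      have h2 := hconj r v
      rw [← h1, mul_inv_cancel_right] at h2
      rw [Subgroup.coe_one, MulAut.one_apply, ← hinl h2]
    rw [this, map_one]
  obtain ⟨a, ha, hav⟩ : ∃ a ∈ A, a ∉ Subgroup.centralizer (V : Set G) := by
    by_contra hall
    push Not at hall
    refine hne ?_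
    rw [Subgroup.commutator_eq_bot_iff_le_centralizer]
    intro v hv
    exact Subgroup.mem_centralizer_iff.mpr fun a ha => (Subgroup.mem_centralizer_iff.mp (hall a ha) v hv).symm
  obtain ⟨r₀, hr₀⟩ : ∃ r : φ.range, (r : MulAut ↥V) = φ ⟨a, hA ha⟩ := ⟨⟨_, ⟨_, rfl⟩⟩, rfl⟩
  have hcomm : ∀ (v : ↥V) (z : ↥V ⋊[φ.range.subtype] ↥φ.range), z ∈ Subgroup.zpowers (inr r₀) →
      ∃ b ∈ A, ∃ hb : ⁅(v : G), b⁆ ∈ V, ⁅inl v, z⁆ = inl ⟨⁅(v : G), b⁆, hb⟩ := by
    intro v z hz
    obtain ⟨i, rfl⟩ := hz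
    refine ⟨a ^ i, A.zpow_mem ha i, ?_⟩
    have hb : (⟨a, hA ha⟩ : ↥H) ^ i = ⟨a ^ i, H.zpow_mem (hA ha) i⟩ := Subtype.ext (by simp)
    have hval : ((r₀ ^ i : φ.range) : MulAut ↥V) = φ ⟨a ^ i, H.zpow_mem (hA ha) i⟩ := by
      rw [← hb, map_zpow, ← hr₀, Subgroup.coe_zpow]
    have h1 := hφval ⟨a ^ i, H.zpow_mem (hA ha) i⟩ v⁻¹
    simp only [Subgroup.coe_inv] at h1
    have hmem : ⁅(v : G), a ^ i⁆ ∈ V := by
      have := V.mul_mem v.2 (φ ⟨a ^ i, H.zpow_mem (hA ha) i⟩ v⁻¹).2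
      rw [h1] at this
      simpa [commutatorElement_def, mul_assoc] using this
    refine ⟨hmem, ?_⟩
    show ⁅inl v, (inr r₀) ^ i⁆ = _
    rw [← map_zpow, commutatorElement_def, mul_assoc (inl v), mul_assoc (inl v), ← map_inv inl,
      hconj, ← map_mul]
    congr 1
    apply Subtype.ext
    show (v : G) * ((((r₀ ^ i : φ.range) : MulAut ↥V) v⁻¹ : ↥V) : G) = ⁅(v : G), a ^ i⁆
    rw [hval, h1, commutatorElement_def]
    group
  have hq : ⁅⁅inl.range, Subgroup.zpowers (inr r₀)⁆, Subgroup.zpowers (inr r₀)⁆ = ⊥ := by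
    have h1 : ⁅inl.range, Subgroup.zpowers (inr r₀)⁆ ≤ ((⁅V, A⁆).subgroupOf V).map inl := by
      rw [Subgroup.commutator_le]
      rintro _ ⟨v, rfl⟩ z hz
      obtain ⟨b, hb, hmem, e⟩ := hcomm v z hz
      rw [e]
      exact ⟨_, Subgroup.mem_subgroupOf.mpr (Subgroup.commutator_mem_commutator v.2 hb), rfl⟩
    refine le_bot_iff.mp ((Subgroup.commutator_mono h1 le_rfl).trans ?_)
    rw [Subgroup.commutator_le]
    rintro _ ⟨w, hw, rfl⟩ z hz
    obtain ⟨b, hb, hmem, e⟩ := hcomm w z hz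
    have h2 : ⁅(w : G), b⁆ = 1 := by
      have := Subgroup.commutator_mem_commutator (Subgroup.mem_subgroupOf.mp hw) hb
      rwa [hquad, Subgroup.mem_bot] at this
    rw [Subgroup.mem_bot, e, show (⟨⁅(w : G), b⁆, hmem⟩ : ↥V) = 1 from Subtype.ext h2, map_one]
  have hx : inr r₀ ∉ (Cfsg.pCore p ↥inr.range).map inr.range.subtype := by
    intro hx
    let e : φ.range ≃* ↥inr.range := MonoidHom.ofInjective hinr
    haveI : (Cfsg.pCore p ↥inr.range).Normal := inferInstance
    have hN := hcore ((Cfsg.pCore p ↥inr.range).comap e.toMonoidHom) (Subgroup.Normal.comap inferInstance _)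
      ((Cfsg.Lib.Components.isPGroup_pCore p).comap_of_injective e.toMonoidHom e.injective)
    obtain ⟨y, hy, ey⟩ := hx
    have : r₀ ∈ (Cfsg.pCore p ↥inr.range).comap e.toMonoidHom := by
      rw [Subgroup.mem_comap, MulEquiv.coe_toMonoidHom]
      rwa [show e r₀ = y from Subtype.ext ey.symm]
    rw [hN, Subgroup.mem_bot] at this
    apply hav
    have hm : (⟨a, hA ha⟩ : ↥H) ∈ φ.ker := by
      rw [MonoidHom.mem_ker, ← hr₀, this, Subgroup.coe_one]
    rw [hker] at hm
    exact Subgroup.mem_subgroupOf.mp hm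
  obtain ⟨K, f, hK, hf⟩ := Cfsg.Lib.QuadPair.exists_section_of_notMem_pCore hp hV' hHV' hf'
    (x := inr r₀) ⟨r₀, rfl⟩ hq hx
  let ψ : ↥inr.range ≃* ↥H ⧸ (Subgroup.centralizer (V : Set G)).subgroupOf H :=
    (MonoidHom.ofInjective hinr).symm.trans ((QuotientGroup.quotientKerEquivRange φ).symm.trans
      (QuotientGroup.quotientMulEquivOfEq hker))
  let ι : ↥K →* ↥H ⧸ (Subgroup.centralizer (V : Set G)).subgroupOf H :=
    ψ.toMonoidHom.comp (Subgroup.inclusion hK)
  have hι : Function.Injective ι := ψ.injective.comp (Subgroup.inclusion_injective hK)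
  exact ⟨ι.range, f.comp (MonoidHom.ofInjective hι).symm.toMonoidHom,
    hf.comp (MonoidHom.ofInjective hι).symm.surjective⟩

theorem section_map {Q P Y : Type*} [Group Q] [Group P] [Group Y] (e : Q ≃* P) {K : Subgroup Q}
    {f : ↥K →* Y} (hf : Function.Surjective f) :
    ∃ (K' : Subgroup P) (f' : ↥K' →* Y), Function.Surjective f' :=
  ⟨K.map e.toMonoidHom, f.comp (K.equivMapOfInjective _ e.injective).symm.toMonoidHom,
    hf.comp (MulEquiv.surjective _)⟩

theorem trivial_of_quadratic {G : Type*} [Group G] [Finite G] (V H : Subgroup G)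
    (hV : Cfsg.IsElementaryAbelian p V) (hHV : H ≤ Subgroup.normalizer (V : Set G))
    (hirr : ∀ U : Subgroup G, U ≤ V → H ≤ Subgroup.normalizer (U : Set G) → U = ⊥ ∨ U = V)
    [hn : ((Subgroup.centralizer (V : Set G)).subgroupOf H).Normal]
    (hq : (∃ (F : Type) (_ : Field F) (_ : Fintype F) (n : ℕ), Fintype.card F = p ^ n ∧ Odd (Fintype.card F) ∧
        Nonempty (↥H ⧸ (Subgroup.centralizer (V : Set G)).subgroupOf H ≃* Matrix.ProjectiveSpecialLinearGroup (Fin 2) F)) ∨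
      (p = 3 ∧ Cfsg.Lie.IsoRee (↥H ⧸ (Subgroup.centralizer (V : Set G)).subgroupOf H)))
    (A : Subgroup G) (hA : A ≤ H) (hquad : ⁅⁅V, A⁆, A⁆ = ⊥) : ⁅V, A⁆ = ⊥ := by
  by_contra hne
  rcases hq with ⟨F, _, _, n, hcard, hodd, ⟨e⟩⟩ | ⟨rfl, hree⟩
  · have hp : p ≠ 2 := by
      intro h
      have h1 : 1 < Fintype.card F := Fintype.one_lt_card
      rw [hcard] at hodd h1
      have hn0 : n ≠ 0 := fun e => by rw [e, pow_zero] at h1; omega
      rw [h] at hodd
      exact Nat.not_even_iff_odd.mpr hodd ((Nat.even_pow).mpr ⟨even_two, hn0⟩)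
    obtain ⟨K, f, hf⟩ := exists_section hp V H hV hHV hirr hA hquad hne
    obtain ⟨K', f', hf'⟩ := section_map e hf
    exact no_section_psl (Nat.odd_iff.mp hodd) hp hf'
  · obtain ⟨K, f, hf⟩ := exists_section (by norm_num) V H hV hHV hirr hA hquad hne
    obtain ⟨F, _, _, m, hm, hcard, ⟨e⟩⟩ := hree
    obtain ⟨X, hX⟩ := Cfsg.Lib.Chev.Ree.exists_ree hcard
    have he : twistedG2 F (3 ^ m) = X.G1 := by rw [← hX]; rfl
    obtain ⟨K', f', hf'⟩ := section_map (e.trans (MulEquiv.subgroupCongr he)) hf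
    exact no_section_ree X (by omega) hf'

end Cfsg.Lib.NoQuadPR
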