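import Cfsg.Agent.OddLocal.InvariantCore
import Cfsg.Agent.OddLocal.SmallAction

/-!
An abelian `p`-subgroup containing all elements of order `p` of its centraliser: invariant `p'`-subgroups
lie in the `p'`-core.
-/

set_option linter.style.haveILetI false

namespace Cfsg.Lib.Misc.OmegaCore

open Subgroup Cfsg.Lib.OddLocal Cfsg.Lib.OddP

universe u

theorem le_pPrimeCore {G : Type u} [Group G] [Finite G] {p : ℕ} [hp : Fact p.Prime] (hp2 : p ≠ 2)
    (hX : Cfsg.IsPConstrained p G) {A Y : Subgroup G} (hA : IsPGroup p A)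
    (hΩ : ∀ x ∈ centralizer (A : Set G), orderOf x = p → x ∈ A)
    (hY : (Nat.card Y).Coprime p) (hAY : A ≤ normalizer (Y : Set G)) :
    Y ≤ Cfsg.pPrimeCore p G := by
  have hc := InvariantCore.quotientConstrained_of_isPConstrained hX
  set N := Cfsg.pPrimeCore p G with hN
  set π := QuotientGroup.mk' N with hπ
  have hπs : Function.Surjective π := QuotientGroup.mk'_surjective N
  set U := Cfsg.pCore p (G ⧸ N) with hU
  set A' := A.map π
  set Y' := Y.map π
  have hUp : IsPGroup p U := Cfsg.Lib.Components.isPGroup_pCore p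
  have hA'p : IsPGroup p A' := hA.map π
  have hY'c : (Nat.card Y').Coprime p := hY.coprime_dvd_left (card_map_dvd _ _)
  have hA'Y' : A' ≤ normalizer (Y' : Set (G ⧸ N)) := (map_mono hAY).trans (le_normalizer_map _)
  have hcopN : (Nat.card N).Coprime p := Cfsg.Lib.Components.coprime_card_pPrimeCore p
  obtain ⟨k, hk⟩ := IsPGroup.iff_card.mp hUp
  obtain ⟨D, hDc, hDexp, hDfaith⟩ := exists_exponent_critical hp2 hUp
  haveI := hDc
  haveI hDn : (D.map U.subtype : Subgroup (G ⧸ N)).Normal := ConjAct.normal_of_characteristic_of_normal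
  -- order `p` fixed points lie in the image of `A`
  have hfix : D.map U.subtype ⊓ centralizer (A' : Set (G ⧸ N)) ≤ centralizer (Y' : Set (G ⧸ N)) := by
    intro z hz
    obtain ⟨hzD, hzA⟩ := mem_inf.mp hz
    have hzU : z ∈ U := map_subtype_le D hzD
    have hzp : z ^ p = 1 := by
      obtain ⟨d, hd, rfl⟩ := hzD
      show (d : G ⧸ N) ^ p = 1
      rw [← SubmonoidClass.coe_pow, hDexp d hd]; rfl
    have hzA' : z ∈ A' := by
      rcases eq_or_ne z 1 with rfl | hz1
      · exact one_mem _
      obtain ⟨g, rfl⟩ := hπs z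
      obtain ⟨i, hi⟩ := IsPGroup.iff_card.mp hA
      obtain ⟨n, hn, hgn⟩ := Cfsg.Lib.Coprime.exists_fixed_of_commutator_mem
        (A := A) (N := N) le_normalizer_of_normal (by rw [hi]; exact (hcopN.pow_right i).symm)
        (Or.inl (have := hA.isNilpotent; inferInstance))
        (k := g) (le_normalizer_of_normal (K := ⊤) (mem_top g)) fun a ha => by
          rw [← QuotientGroup.eq_one_iff]
          show π (a * g * a⁻¹ * g⁻¹) = 1
          have h1 := mem_centralizer_iff.mp hzA (π a) (mem_map_of_mem π ha)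
          simp only [map_mul, map_inv]
          rw [h1, mul_inv_cancel_right, mul_inv_cancel]
      set x := g * n
      have hπx : π x = π g := by
        rw [map_mul, show π n = 1 from (QuotientGroup.eq_one_iff n).mpr hn, mul_one]
      obtain ⟨l, m, hm, hcard⟩ := Nat.exists_eq_pow_mul_and_not_dvd (n := orderOf x)
        (orderOf_pos x).ne' p hp.out.ne_one
      have hcop : m.Coprime p := (hp.out.coprime_iff_not_dvd.mpr hm).symm
      obtain ⟨j, hj⟩ := exists_pow_eq_self_of_coprime (x := π g) (n := m)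
        (hcop.coprime_dvd_right (orderOf_dvd_of_pow_eq_one hzp))
      set y := (x ^ m) ^ j with hy
      have hπy : π y = π g := by rw [hy, map_pow, map_pow, hπx, hj]
      have hyp : y ^ p = 1 := by
        have h1 : y ^ p ∈ N := (QuotientGroup.eq_one_iff _).mp (show π (y ^ p) = 1 by
          rw [map_pow, hπy, hzp])
        have h2 : (y ^ p) ^ p ^ l = 1 := by
          rw [hy, ← pow_mul, ← pow_mul, ← pow_mul, show m * (j * (p * p ^ l)) = p ^ l * m * (j * p) by ring,
            ← hcard, pow_mul, pow_orderOf_eq_one, one_pow]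
        rw [← orderOf_eq_one_iff]
        refine Nat.eq_one_of_dvd_coprimes (hcopN.pow_right l) ?_ (orderOf_dvd_of_pow_eq_one h2)
        rw [← orderOf_mk (y ^ p) h1]
        exact orderOf_dvd_natCard _
      have hyA : y ∈ A := hΩ _ (pow_mem (pow_mem hgn m) j) (orderOf_eq_prime hyp fun h => hz1 (by
        rw [← hπy, h, map_one]))
      exact ⟨y, hyA, hπy⟩
    refine mem_centralizer_iff.mpr fun y hy => ?_
    have h1 : y * z * y⁻¹ * z⁻¹ ∈ U :=
      mul_mem ((inferInstance : U.Normal).conj_mem z hzU y) (inv_mem hzU)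
    have h2' : y * z * y⁻¹ * z⁻¹ ∈ Y' := by
      rw [mul_assoc, mul_assoc]
      refine mul_mem hy ?_
      rw [← mul_assoc]
      exact (mem_normalizer_iff.mp (hA'Y' hzA') _).mp (inv_mem hy)
    have h3 := Cfsg.Lib.Coprime.eq_one_of_coprime (N := Y') (H := U)
      (by rw [hk]; exact hY'c.pow_right k) h2' h1
    exact mul_inv_eq_iff_eq_mul.mp (mul_inv_eq_one.mp h3)
  have hYD : Y' ≤ centralizer ((D.map U.subtype : Subgroup (G ⧸ N)) : Set (G ⧸ N)) :=
    CoprimeFixed.le_centralizer_of_fix hp2 hA'p hY'c hA'Y' _ _ rfl ((hUp.to_subgroup D).map _)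
      le_normalizer_of_normal le_normalizer_of_normal hfix
  have hYU : Y' ≤ centralizer (U : Set (G ⧸ N)) := hDfaith Y' le_normalizer_of_normal hY'c hYD
  intro y hy
  rw [← QuotientGroup.eq_one_iff]
  exact Cfsg.Lib.Coprime.eq_one_of_coprime (N := Y') (H := U) (by rw [hk]; exact hY'c.pow_right k)
    (mem_map_of_mem π hy) (hc (hYU (mem_map_of_mem π hy)))

end Cfsg.Lib.Misc.OmegaCore
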