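import Cfsg.Agent.Components.PxQ
import Cfsg.Agent.Components.LocalBalance
import Cfsg.Agent.Coprime.Action
import Cfsg.Agent.PGroups.Basic

/-! `[P, B] ≤ [P, A]` for commuting `A` and `B` of coprime orders forces `[P, B] = 1`. -/

set_option linter.style.haveILetI false
set_option linter.unusedSectionVars false

namespace Cfsg.Lib.Components

open Subgroup
open scoped commutatorElement

universe u

variable {p : ℕ} [Fact p.Prime]

theorem mem_normalizer_center_inf {G : Type u} [Group G] {P A : Subgroup G} {g : G}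
    (hg : g ∈ P ∨ g ∈ A) :
    g ∈ normalizer ((P ⊓ centralizer (P : Set G) ⊓ centralizer (A : Set G) : Subgroup G) : Set G) := by
  have key : ∀ z ∈ P ⊓ centralizer (P : Set G) ⊓ centralizer (A : Set G), g * z = z * g := by
    intro z hz
    rcases hg with hg | hg
    · exact mem_centralizer_iff.1 hz.1.2 g hg
    · exact mem_centralizer_iff.1 hz.2 g hg
  refine mem_normalizer_iff.2 fun z => ⟨fun hz => ?_, fun hz => ?_⟩
  · rw [key z hz, mul_inv_cancel_right]; exact hz
  · have h2 : g * z * g⁻¹ = z := by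
      refine mul_left_cancel (a := g) ?_
      rw [key _ hz]; simp
    rwa [h2] at hz

theorem pab_key : ∀ n : ℕ, ∀ (G : Type u) [Group G] [Finite G] (P A B : Subgroup G), Nat.card G = n →
    P.Normal → P ⊔ A ⊔ B = ⊤ → IsPGroup p P → IsPGroup p A → (Nat.card B).Coprime p →
    ⁅A, B⁆ = ⊥ → ⁅P, B⁆ ≤ ⁅P, A⁆ → ⁅P, B⁆ = ⊥ := by
  intro n
  induction n using Nat.strong_induction_on with
  | _ n ih =>
  intro G _ _ P A B hn hPn hgen hP hA hB hAB hcomm
  haveI := hPn
  by_cases hPb : P = ⊥
  · rw [hPb, commutator_bot_left]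
  have hnA : A ≤ normalizer (P : Set G) := by rw [normalizer_eq_top]; exact le_top
  have hnB : B ≤ normalizer (P : Set G) := by rw [normalizer_eq_top]; exact le_top
  set S := P ⊔ A with hS
  have hSp : IsPGroup p S := hP.to_sup_of_normal_left' hA hnA
  have hBA : B ≤ centralizer (A : Set G) :=
    commutator_eq_bot_iff_le_centralizer.1 (by rw [commutator_comm]; exact hAB)
  set Z := P ⊓ centralizer (P : Set G) ⊓ centralizer (A : Set G) with hZ
  have hZn : Z.Normal := by
    refine normalizer_eq_top_iff.1 (top_le_iff.1 ?_)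
    rw [← hgen]
    refine sup_le (sup_le ?_ ?_) ?_
    · exact fun g hg => mem_normalizer_center_inf (Or.inl hg)
    · exact fun g hg => mem_normalizer_center_inf (Or.inr hg)
    · intro g hg
      refine mem_normalizer_iff.2 fun z => ?_
      have hPc := normalizer_le_normalizer_centralizer' P (hnB hg)
      have hgA : g ∈ normalizer (centralizer (A : Set G) : Set G) :=
        normalizer_le_normalizer_centralizer' A ((centralizer_le_normalizer _) (hBA hg))
      rw [hZ, mem_inf, mem_inf, mem_inf, mem_inf, mem_normalizer_iff.1 (hnB hg) z,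
        mem_normalizer_iff.1 hPc z, mem_normalizer_iff.1 hgA z]
  have hZne : Z ≠ ⊥ := by
    haveI : Group.IsNilpotent S := hSp.isNilpotent
    haveI : (P.subgroupOf S).Normal := normal_subgroupOf
    obtain ⟨z, hz, hzc, hzo⟩ := Cfsg.Lib.PGroups.exists_mem_center_of_normal_ne_bot hSp
      (N := P.subgroupOf S) (by
        rw [ne_eq, subgroupOf_eq_bot, disjoint_iff, inf_eq_left.2 le_sup_left]; exact hPb)
    intro hb
    have hzZ : (z : G) ∈ Z := by
      refine mem_inf.2 ⟨mem_inf.2 ⟨hz, ?_⟩, ?_⟩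
      · exact mem_centralizer_iff.2 fun y hy =>
          congrArg Subtype.val (mem_center_iff.1 hzc ⟨y, mem_sup_left hy⟩)
      · exact mem_centralizer_iff.2 fun y hy =>
          congrArg Subtype.val (mem_center_iff.1 hzc ⟨y, mem_sup_right hy⟩)
    rw [hb, mem_bot] at hzZ
    rw [show z = 1 from Subtype.ext hzZ, orderOf_one] at hzo
    exact (Fact.out : p.Prime).ne_one hzo.symm
  haveI := hZn
  set q := QuotientGroup.mk' Z
  have hlt : Nat.card (G ⧸ Z) < n := by
    have h := card_eq_card_quotient_mul_card_subgroup Z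
    rw [hn] at h
    rw [h]
    refine lt_mul_of_one_lt_right Nat.card_pos ?_
    haveI := (Subgroup.nontrivial_iff_ne_bot Z).2 hZne
    exact Finite.one_lt_card
  have h1 := ih _ hlt (G ⧸ Z) (P.map q) (A.map q) (B.map q) rfl
    (hPn.map q (QuotientGroup.mk'_surjective Z))
    (by rw [← Subgroup.map_sup, ← Subgroup.map_sup, hgen,
      Subgroup.map_top_of_surjective q (QuotientGroup.mk'_surjective Z)])
    (hP.map q) (hA.map q) (hB.coprime_dvd_left (card_map_dvd _ _))
    (by rw [← map_commutator, hAB, Subgroup.map_bot])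
    (by rw [← map_commutator, ← map_commutator]; exact Subgroup.map_mono hcomm)
  rw [← map_commutator, Subgroup.map_eq_bot_iff, QuotientGroup.ker_mk'] at h1
  -- `[P, B] ≤ Z`, so `B` centralizes `[P, A]`
  have a1 : ⁅⁅B, P⁆, A⁆ = ⊥ := by
    rw [commutator_eq_bot_iff_le_centralizer, commutator_comm]
    exact h1.trans inf_le_right
  have a2 : ⁅⁅A, B⁆, P⁆ = ⊥ := by rw [hAB, commutator_bot_left]
  have a3 : ⁅⁅P, A⁆, B⁆ = ⊥ := commutator_commutator_eq_bot_of_rotate a2 a1
  have a4 : ⁅⁅P, B⁆, B⁆ = ⊥ := by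
    rw [eq_bot_iff, ← a3]
    exact commutator_mono hcomm le_rfl
  have hc : (Nat.card B).Coprime (Nat.card P) := by
    obtain ⟨k, hk⟩ := IsPGroup.iff_card.1 hP
    rw [hk]
    exact hB.pow_right k
  haveI := hP.isNilpotent
  rw [← Cfsg.Lib.Coprime.commutator_commutator_eq hnB hc (Or.inr inferInstance), a4]

theorem commutator_eq_bot_of_le {G : Type u} [Group G] [Finite G] (P A B : Subgroup G)
    (hP : IsPGroup p P) (hA : IsPGroup p A) (hB : (Nat.card B).Coprime p)
    (hnA : A ≤ normalizer (P : Set G)) (hnB : B ≤ normalizer (P : Set G)) (hAB : ⁅A, B⁆ = ⊥)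
    (hcomm : ⁅P, B⁆ ≤ ⁅P, A⁆) : ⁅P, B⁆ = ⊥ := by
  set M := P ⊔ A ⊔ B with hM
  have hPM : P ≤ M := le_sup_left.trans le_sup_left
  have hAM : A ≤ M := le_sup_right.trans le_sup_left
  have hBM : B ≤ M := le_sup_right
  have hn : (P.subgroupOf M).Normal :=
    normal_subgroupOf_of_le_normalizer (sup_le (sup_le le_normalizer hnA) hnB)
  have hgen : P.subgroupOf M ⊔ A.subgroupOf M ⊔ B.subgroupOf M = ⊤ := by
    apply Subgroup.map_injective M.subtype_injective
    rw [Subgroup.map_sup, Subgroup.map_sup, map_subgroupOf_eq_of_le hPM, map_subgroupOf_eq_of_le hAM,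
      map_subgroupOf_eq_of_le hBM, ← MonoidHom.range_eq_map, range_subtype]
  have hmap : ∀ X Y : Subgroup G, X ≤ M → Y ≤ M →
      ⁅X.subgroupOf M, Y.subgroupOf M⁆.map M.subtype = ⁅X, Y⁆ := fun X Y hX hY => by
    rw [map_commutator, map_subgroupOf_eq_of_le hX, map_subgroupOf_eq_of_le hY]
  have h := pab_key _ M (P.subgroupOf M) (A.subgroupOf M) (B.subgroupOf M) rfl hn hgen
    hP.comap_subtype hA.comap_subtype (by rwa [card_subgroupOf_of_le hBM])
    (by
      apply Subgroup.map_injective M.subtype_injective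
      rw [hmap A B hAM hBM, hAB, Subgroup.map_bot])
    (by
      rw [← Subgroup.map_le_map_iff_of_injective M.subtype_injective, hmap P B hPM hBM,
        hmap P A hPM hAM]
      exact hcomm)
  rw [← hmap P B hPM hBM, h, Subgroup.map_bot]

end Cfsg.Lib.Components
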