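import Cfsg.Agent.Components.Misc.YMin
import Cfsg.Agent.SolvStruct.Zipper
import Cfsg.Agent.Coprime.Sylow
import Cfsg.Agent.Coprime.Generation
import Cfsg.Prelude.Def_LocalEven

/-!
Basic structure of `p`-minimal groups.
-/

set_option linter.style.haveILetI false
set_option linter.unusedSectionVars false

namespace Cfsg.Lib.PMinimal

open Subgroup
open scoped Pointwise

universe u

variable {G : Type u} [Group G] [Finite G] {p : ℕ} [hp : Fact p.Prime]

theorem isMinimalOver (hG : Cfsg.IsPMinimal p G) (S : Sylow p G) :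
    Cfsg.IsMinimalOver (S : Subgroup G) := by
  obtain ⟨hSn, hu⟩ := hG S
  refine ⟨?_, hu⟩
  by_contra hne
  obtain ⟨M, hM, huniq⟩ := hu
  set K := normalClosure ((S : Subgroup G) : Set G)
  have hSK : (S : Subgroup G) ≤ K := fun x hx => subset_normalClosure hx
  obtain ⟨M1, hM1, h1⟩ := (eq_top_or_exists_le_coatom K).resolve_left hne
  obtain ⟨A, hA⟩ := Cfsg.Lib.Transfer.exists_sylow_subgroupOf S K
  have hFr := Sylow.normalizer_sup_eq_top A
  rw [hA, map_subgroupOf_eq_of_le hSK] at hFr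
  obtain ⟨M2, hM2, h2⟩ := (eq_top_or_exists_le_coatom (normalizer ((S : Subgroup G) : Set G))).resolve_left
    fun h => hSn (normalizer_eq_top_iff.1 h)
  refine hM.1.1 (top_le_iff.1 (hFr.ge.trans (sup_le ?_ ?_)))
  · rw [← huniq M2 ⟨hM2, le_normalizer.trans h2⟩]; exact h2
  · rw [← huniq M1 ⟨hM1, hSK.trans h1⟩]; exact h1

theorem le_normalCore (hG : Cfsg.IsPMinimal p G) (S : Sylow p G) (M : Subgroup G) (hM : IsCoatom M)
    (hSM : (S : Subgroup G) ≤ M) (N : Subgroup G) (hN : N.IsSubnormal) (hNM : N ≤ M) :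
    N ≤ M.normalCore := by
  have hmin := isMinimalOver hG S
  -- the join of the `S`-conjugates of `N`
  set s : Set (Subgroup G) := Set.range fun t : (S : Subgroup G) => MulAut.conj (t : G) • N
  have hsM : sSup s ≤ M := by
    refine sSup_le ?_
    rintro _ ⟨t, rfl⟩ _ ⟨x, hx, rfl⟩
    exact mul_mem (mul_mem (hSM t.2) (hNM hx)) (inv_mem (hSM t.2))
  have hsn : (sSup s).IsSubnormal := Cfsg.Lib.SolvStruct.isSubnormal_sSup s (by
    rintro _ ⟨t, rfl⟩; exact hN.smul _)
  have hsS : (S : Subgroup G) ≤ normalizer ((sSup s : Subgroup G) : Set G) := fun t ht => by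
    refine Cfsg.Lib.SolvStruct.mem_normalizer_of_conj_smul_le ?_
    rw [Cfsg.Lib.SolvStruct.conj_smul_eq_map, map_le_iff_le_comap]
    refine sSup_le ?_
    rintro _ ⟨t', rfl⟩
    rw [← map_le_iff_le_comap]
    refine le_trans (le_of_eq ?_) (le_sSup ⟨(⟨t, ht⟩ : (S : Subgroup G)) * t', rfl⟩)
    rw [← Cfsg.Lib.SolvStruct.conj_smul_eq_map, smul_smul, ← map_mul]
    rfl
  have hNs : N ≤ sSup s := le_sSup ⟨1, by simp⟩
  obtain ⟨X, ⟨hXM, hXn, hXS, hNX⟩, hmax⟩ := WellFounded.has_min (wellFounded_gt (α := Subgroup G))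
    {X | X ≤ M ∧ X.IsSubnormal ∧ (S : Subgroup G) ≤ normalizer (X : Set G) ∧ N ≤ X}
    ⟨_, hsM, hsn, hsS, hNs⟩
  by_cases hXnor : normalizer (X : Set G) = ⊤
  · haveI := normalizer_eq_top_iff.1 hXnor
    exact hNX.trans (normal_le_normalCore.2 hXM)
  exfalso
  set W := normalizer (X : Set G)
  have hWM : W ≤ M := Cfsg.Lib.YMin.le_of_mem hM hSM hmin hXnor hXS
  obtain ⟨g, hg, hgX⟩ := Cfsg.Lib.SolvStruct.exists_conj_le_normalizer hXn X le_rfl le_normalizer hXnor
  set t : Set (Subgroup G) := {U | (∃ a : G, U = MulAut.conj a • X) ∧ U ≤ W}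
  have ht : (sSup t).IsSubnormal := Cfsg.Lib.SolvStruct.isSubnormal_sSup t (by
    rintro _ ⟨⟨a, rfl⟩, -⟩; exact hXn.smul _)
  have htS : (S : Subgroup G) ≤ normalizer ((sSup t : Subgroup G) : Set G) := fun c hc => by
    refine Cfsg.Lib.SolvStruct.mem_normalizer_of_conj_smul_le ?_
    rw [Cfsg.Lib.SolvStruct.conj_smul_eq_map, map_le_iff_le_comap]
    refine sSup_le ?_
    rintro _ ⟨⟨a, rfl⟩, hle⟩
    rw [← map_le_iff_le_comap, ← Cfsg.Lib.SolvStruct.conj_smul_eq_map]
    refine le_sSup ⟨⟨c * a, by rw [smul_smul, ← map_mul]⟩, ?_⟩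
    rintro _ ⟨x, hx, rfl⟩
    exact mul_mem (mul_mem (hXS hc) (hle hx)) (inv_mem (hXS hc))
  have hXt : X ≤ sSup t := le_sSup ⟨⟨1, by simp⟩, le_normalizer⟩
  refine hmax (sSup t) ⟨(sSup_le fun U hU => hU.2).trans hWM, ht, htS, hNX.trans hXt⟩ ?_
  refine lt_of_le_of_ne hXt fun e => hg ?_
  refine Cfsg.Lib.SolvStruct.mem_normalizer_of_conj_smul_le ?_
  exact (le_sSup (show MulAut.conj g • X ∈ t from ⟨⟨g, rfl⟩, hgX⟩)).trans e.ge

theorem not_le_normal (hG : Cfsg.IsPMinimal p G) (S : Sylow p G) (M : Subgroup G) (hM : IsCoatom M)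
    (hSM : (S : Subgroup G) ≤ M) (N : Subgroup G) [hN : N.Normal] :
    Cfsg.pResidual p G ≤ N ∨ N ≤ M.normalCore := by
  by_cases h : N ≤ M
  · exact Or.inr (normal_le_normalCore.2 h)
  left
  have htop : N ⊔ (S : Subgroup G) = ⊤ := by
    by_contra hne
    exact h (le_sup_left.trans (Cfsg.Lib.YMin.le_of_mem hM hSM (isMinimalOver hG S) hne le_sup_right))
  exact Cfsg.Lib.PIrr.pResidual_le_of_le_sup S.2 (htop.ge.trans' le_top)

theorem residual_not_le (S : Sylow p G) {M : Subgroup G} (hM : IsCoatom M) (hSM : (S : Subgroup G) ≤ M) :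
    ¬ Cfsg.pResidual p G ≤ M := fun h =>
  hM.1 (top_le_iff.1 ((Cfsg.Lib.Transfer.pResidual_sup_sylow S).ge.trans (sup_le h hSM)))

theorem primeFactors_le_two (hG : Cfsg.IsPMinimal p G) (S : Sylow p G) (M : Subgroup G) (hM : IsCoatom M)
    (hSM : (S : Subgroup G) ≤ M)
    (hR : ∀ T : Sylow p ↥(Cfsg.pResidual p G), (T : Subgroup ↥(Cfsg.pResidual p G)).Normal) :
    (Nat.card G).primeFactors.card ≤ 2 := by
  set R := Cfsg.pResidual p G
  obtain ⟨T₀⟩ := (inferInstance : Nonempty (Sylow p R))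
  haveI := Sylow.characteristic_of_normal T₀ (hR T₀)
  set T := (T₀ : Subgroup R).map R.subtype with hT
  haveI : T.Normal := ConjAct.normal_of_characteristic_of_normal
  have hTp : IsPGroup p T := T₀.2.map _
  have hTR : ∀ V : Subgroup G, IsPGroup p V → V ⊓ R ≤ T := by
    intro V hV x hx
    obtain ⟨Q, hQ⟩ := (hV.comap_subtype (K := R)).exists_le_sylow
    have : Q = T₀ := by
      obtain ⟨r, rfl⟩ := MulAction.exists_smul_eq R T₀ Q
      exact Sylow.smul_eq_of_normal
    subst this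
    exact ⟨⟨x, (mem_inf.1 hx).2⟩, hQ (mem_inf.1 hx).1, rfl⟩
  by_cases hall : ∀ q : ℕ, q.Prime → q ≠ p → ∀ Q : Sylow q R,
      (T ⊔ (Q : Subgroup R).map R.subtype) ⊔ (S : Subgroup G) ≠ ⊤ ∨ ¬ (S : Subgroup G) ≤
        normalizer ((T ⊔ (Q : Subgroup R).map R.subtype : Subgroup G) : Set G)
  · exfalso
    refine residual_not_le S hM hSM (Cfsg.Lib.Coprime.le_of_forall_sylow fun q hq => ?_)
    haveI := Fact.mk hq
    by_cases hqp : q = p
    · subst hqp
      refine ⟨T₀, ?_⟩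
      rw [← hT]
      exact (Cfsg.Lib.Components.le_pCore hTp).trans ((Cfsg.Lib.Coprime.pCore_le_sylow q S).trans hSM)
    -- a Sylow `q`-subgroup of `R` whose product with `T` is normalised by `S`
    obtain ⟨Q₁⟩ := (inferInstance : Nonempty (Sylow q R))
    set L := normalizer (((Q₁ : Subgroup R).map R.subtype : Subgroup G) : Set G)
    obtain ⟨P₁⟩ := (inferInstance : Nonempty (Sylow p L))
    set P₁' := (P₁ : Subgroup L).map L.subtype
    have hgen : R ⊔ P₁' = ⊤ := by
      have h1 : ∃ k, (R.subgroupOf L).index = p ^ k := by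
        obtain ⟨k, hk⟩ := Cfsg.Lib.Transfer.exists_index_pResidual (G := G) (p := p)
        have h : R.relIndex L ∣ p ^ k := hk ▸ relIndex_dvd_index_of_normal R L
        obtain ⟨j, -, hj⟩ := (Nat.dvd_prime_pow hp.out).1 h
        exact ⟨j, hj⟩
      obtain ⟨k, hk⟩ := h1
      have h2 := Cfsg.Lib.Transfer.sup_sylow_eq_top hk P₁
      refine top_le_iff.1 ((Sylow.normalizer_sup_eq_top Q₁).ge.trans (sup_le ?_ le_sup_left))
      intro x hx
      have h3 := mem_map_of_mem L.subtype (h2.ge (mem_top (⟨x, hx⟩ : L)))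
      rw [Subgroup.map_sup, subgroupOf_map_subtype] at h3
      exact (sup_le_sup inf_le_left le_rfl : (R ⊓ L) ⊔ P₁' ≤ R ⊔ P₁') h3
    obtain ⟨S₁, hS₁⟩ := (hTp.to_sup_of_normal_left (P₁.2.map L.subtype)).exists_le_sylow
    have hS₁eq : (S₁ : Subgroup G) ≤ T ⊔ P₁' := by
      intro x hx
      obtain ⟨r, hr, y, hy, rfl⟩ := mem_sup_of_normal_left.1 (hgen.ge (mem_top x))
      refine mul_mem (mem_sup_left (hTR _ S₁.2 (mem_inf.mpr ⟨?_, hr⟩))) (mem_sup_right hy)
      simpa using mul_mem hx (inv_mem (hS₁ (mem_sup_right hy)))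
    obtain ⟨g, hg⟩ := MulAction.exists_smul_eq G S₁ S
    set φ : MulAut R :=
      { toFun := fun t => ⟨g * t * g⁻¹, (inferInstance : R.Normal).conj_mem _ t.2 g⟩
        invFun := fun t => ⟨g⁻¹ * t * g, by simpa using (inferInstance : R.Normal).conj_mem _ t.2 g⁻¹⟩
        left_inv := fun t => Subtype.ext (by simp [mul_assoc])
        right_inv := fun t => Subtype.ext (by simp [mul_assoc])
        map_mul' := fun a b => Subtype.ext (by simp [mul_assoc]) }
    refine ⟨Q₁.mapSurjective (f := φ.toMonoidHom) φ.surjective, ?_⟩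
    set Q : Sylow q R := Q₁.mapSurjective (f := φ.toMonoidHom) φ.surjective
    have hQe : (Q : Subgroup R).map R.subtype = ((Q₁ : Subgroup R).map R.subtype).map (MulAut.conj g).toMonoidHom := by
      rw [show (Q : Subgroup R) = (Q₁ : Subgroup R).map φ.toMonoidHom from rfl, Subgroup.map_map, Subgroup.map_map]
      rfl
    have hnorm : (S : Subgroup G) ≤ normalizer ((T ⊔ (Q : Subgroup R).map R.subtype : Subgroup G) : Set G) := by
      have h1 : (S₁ : Subgroup G) ≤ normalizer ((T ⊔ (Q₁ : Subgroup R).map R.subtype : Subgroup G) : Set G) := by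
        refine hS₁eq.trans (sup_le (le_sup_left.trans le_normalizer) ?_)
        refine Cfsg.Lib.Coprime.le_normalizer_sup ((le_top : P₁' ≤ ⊤).trans (normalizer_eq_top_iff.2 inferInstance).ge) ?_
        exact map_subtype_le _
      intro x hx
      rw [← hg, Cfsg.Lib.Transfer.sylow_smul_coe] at hx
      obtain ⟨y, hy, rfl⟩ := hx
      rw [hQe, show T = T.map (MulAut.conj g).toMonoidHom from
        (mem_normalizer_iff_map_conj_eq.1 ((normalizer_eq_top_iff.2 inferInstance).ge (mem_top g))).symm,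
        ← Subgroup.map_sup]
      exact le_normalizer_map _ ⟨y, h1 hy, rfl⟩
    have hne := (hall q hq hqp Q).resolve_right (not_not.2 hnorm)
    exact (le_sup_right.trans le_sup_left).trans
      (Cfsg.Lib.YMin.le_of_mem hM hSM (isMinimalOver hG S) hne le_sup_right)
  push Not at hall
  obtain ⟨q, hq, -, Q, hX, hnorm⟩ := hall
  haveI := Fact.mk hq
  obtain ⟨a, ha⟩ := IsPGroup.iff_card.1 hTp
  obtain ⟨b, hb⟩ := IsPGroup.iff_card.1 (Q.2.map R.subtype)
  obtain ⟨c, hc⟩ := IsPGroup.iff_card.1 S.2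
  have h1 : Nat.card ↥(T ⊔ (Q : Subgroup R).map R.subtype) ∣ p ^ a * q ^ b := by
    have := Cfsg.Lib.Coprime.card_sup_mul_card_inf (N := T) (H := (Q : Subgroup R).map R.subtype)
      ((le_top).trans (normalizer_eq_top_iff.2 inferInstance).ge)
    rw [ha, hb] at this
    exact Dvd.intro _ this
  have h2 : Nat.card G ∣ p ^ a * q ^ b * p ^ c := by
    have := Cfsg.Lib.Coprime.card_sup_mul_card_inf hnorm
    rw [hX, Subgroup.card_top, hc] at this
    exact (Dvd.intro _ this).trans (Nat.mul_dvd_mul_right h1 _)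
  refine le_trans (Finset.card_le_card (t := {p, q}) fun s hs => ?_) Finset.card_le_two
  obtain ⟨hsp, hsd, -⟩ := Nat.mem_primeFactors.1 hs
  rw [Finset.mem_insert, Finset.mem_singleton]
  rcases (hsp.dvd_mul.1 (hsd.trans h2)) with h | h
  · rcases hsp.dvd_mul.1 h with h | h
    · exact Or.inl ((Nat.prime_dvd_prime_iff_eq hsp hp.out).1 (hsp.dvd_of_dvd_pow h))
    · exact Or.inr ((Nat.prime_dvd_prime_iff_eq hsp hq).1 (hsp.dvd_of_dvd_pow h))
  · exact Or.inl ((Nat.prime_dvd_prime_iff_eq hsp hp.out).1 (hsp.dvd_of_dvd_pow h))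

theorem pminimal_props (hG : Cfsg.IsPMinimal p G) (S : Sylow p G) (M : Subgroup G) (hM : IsCoatom M)
    (hSM : (S : Subgroup G) ≤ M) :
    (∀ N : Subgroup G, N.IsSubnormal → N ≤ M → N ⊓ (S : Subgroup G) ≤ Cfsg.pCore p G) ∧
      ((∀ T : Sylow p ↥(Cfsg.pResidual p G), (T : Subgroup ↥(Cfsg.pResidual p G)).Normal) →
        (Nat.card G).primeFactors.card ≤ 2) ∧
      (∀ N : Subgroup G, N.Normal → Cfsg.pResidual p G ≤ N ∨ N ≤ M.normalCore) ∧
      (∀ N : Subgroup G, N.Normal → M.normalCore ≤ N → N ≤ Cfsg.pResidual p G ⊔ M.normalCore →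
        N = M.normalCore ∨ N = Cfsg.pResidual p G ⊔ M.normalCore) ∧
      M.normalCore < Cfsg.pResidual p G ⊔ M.normalCore := by
  refine ⟨fun N hN hNM => ?_, primeFactors_le_two hG S M hM hSM, fun N hN => ?_, fun N hN h1 h2 => ?_, ?_⟩
  · haveI : M.normalCore.Normal := normalCore_normal M
    refine le_trans ?_ (Cfsg.Lib.YMin.sylow_inf_le_pCore hM S hSM le_rfl (isMinimalOver hG S)
      M.normalCore (normalCore_le M))
    rw [inf_comm]
    exact inf_le_inf_left _ (le_normalCore hG S M hM hSM N hN hNM)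
  · haveI := hN
    exact not_le_normal hG S M hM hSM N
  · haveI := hN
    rcases not_le_normal hG S M hM hSM N with h | h
    · exact Or.inr (le_antisymm h2 (sup_le h h1))
    · exact Or.inl (le_antisymm h h1)
  · exact lt_of_le_of_ne le_sup_right fun e =>
      residual_not_le S hM hSM ((le_sup_left.trans e.ge).trans (normalCore_le M))

end Cfsg.Lib.PMinimal
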