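import Cfsg.Agent.Components.Misc.SUThreeTable
import Cfsg.Agent.Classical.SL
import Cfsg.Prelude.Def_Classical

/-! `PSL₂(7)` inside `PSU₃(3)`. -/

set_option autoImplicit false

namespace Cfsg.Lib.SUThree168

open Matrix

/-- a matrix over the Gaussian integers from its code -/
def uMat (c : ℕ) : Matrix (Fin 3) (Fin 3) GaussianInt := fun i j =>
  ⟨((c / 9 ^ (3 * (i : ℕ) + (j : ℕ)) % 9 % 3 : ℕ) : ℤ), ((c / 9 ^ (3 * (i : ℕ) + (j : ℕ)) % 9 / 3 : ℕ) : ℤ)⟩

/-- a matrix modulo seven from its code -/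
def pMat (c : ℕ) : Matrix (Fin 2) (Fin 2) (ZMod 7) := fun i j =>
  ((c / 7 ^ (2 * (i : ℕ) + (j : ℕ)) % 7 : ℕ) : ZMod 7)

/-- congruence modulo three -/
def cg (x y : GaussianInt) : Bool := (x.re - y.re) % 3 == 0 && (x.im - y.im) % 3 == 0

/-- congruence of matrices modulo three -/
def cgM (A B : Matrix (Fin 3) (Fin 3) GaussianInt) : Bool := decide (∀ i j, cg (A i j) (B i j) = true)

def uU (k : ℕ) : Matrix (Fin 3) (Fin 3) GaussianInt := uMat (uTab.getD k 0)

def uP (k : ℕ) : Matrix (Fin 2) (Fin 2) (ZMod 7) := pMat (pTab.getD k 0)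

set_option maxRecDepth 100000 in
theorem step_a : ∀ k : Fin 168, cgM (uU k * uMat aCode) (uU (aNext.getD k 0)) = true ∧
    aNext.getD k 0 < 168 ∧
    (uP k * pMat sCode = uP (aNext.getD k 0) ∨ uP k * pMat sCode = -uP (aNext.getD k 0)) := by decide +kernel

set_option maxRecDepth 100000 in
theorem step_b : ∀ k : Fin 168, cgM (uU k * uMat bCode) (uU (bNext.getD k 0)) = true ∧
    bNext.getD k 0 < 168 ∧
    (uP k * pMat tCode = uP (bNext.getD k 0) ∨ uP k * pMat tCode = -uP (bNext.getD k 0)) := by decide +kernel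

set_option maxRecDepth 100000 in
theorem parent : ∀ k : Fin 168, (k : ℕ) ≠ 0 → parIdx.getD k 0 < k ∧
    ((parGen.getD k 0 = 0 ∧ aNext.getD (parIdx.getD k 0) 0 = k) ∨
      (parGen.getD k 0 ≠ 0 ∧ bNext.getD (parIdx.getD k 0) 0 = k)) := by decide +kernel

set_option maxRecDepth 100000 in
theorem noncentral : ∀ k : Fin 168, (k : ℕ) ≠ 0 →
    cgM (uU k * uMat aCode) (uMat aCode * uU k) = false ∨ cgM (uU k * uMat bCode) (uMat bCode * uU k) = false := by
  decide +kernel

set_option maxRecDepth 100000 in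
theorem p_one : ∀ k : Fin 168, (uP k = 1 ∨ uP k = -1) → (k : ℕ) = 0 := by decide +kernel

set_option maxRecDepth 100000 in
theorem zero_one : cgM (uU 0) 1 = true ∧ uP 0 = 1 := by decide +kernel

set_option maxRecDepth 100000 in
theorem transvections : ∀ c : ZMod 7, (∃ k : Fin 168, uP k = !![1, c; 0, 1] ∨ uP k = -!![1, c; 0, 1]) ∧
    (∃ k : Fin 168, uP k = !![1, 0; c, 1] ∨ uP k = -!![1, 0; c, 1]) := by decide +kernel

/-- the determinant -/
def det3 (M : Matrix (Fin 3) (Fin 3) GaussianInt) : GaussianInt :=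
  M 0 0 * M 1 1 * M 2 2 - M 0 0 * M 1 2 * M 2 1 - M 0 1 * M 1 0 * M 2 2 + M 0 1 * M 1 2 * M 2 0 +
    M 0 2 * M 1 0 * M 2 1 - M 0 2 * M 1 1 * M 2 0

set_option maxRecDepth 100000 in
theorem gen_facts : cg (det3 (uMat aCode)) 1 = true ∧ cg (det3 (uMat bCode)) 1 = true ∧
    cgM ((uMat aCode)ᵀ * (uMat aCode).map star) 1 = true ∧ cgM ((uMat bCode)ᵀ * (uMat bCode).map star) 1 = true ∧
    (pMat sCode).det = 1 ∧ (pMat tCode).det = 1 := by decide +kernel

local notation "P₇" => Matrix.ProjectiveSpecialLinearGroup (Fin 2) (ZMod 7)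
local notation "S₇" => Matrix.SpecialLinearGroup (Fin 2) (ZMod 7)

theorem center_seven {s : S₇} : QuotientGroup.mk' (Subgroup.center S₇) s = 1 ↔ s.1 = 1 ∨ s.1 = -1 := by
  rw [QuotientGroup.mk'_apply, QuotientGroup.eq_one_iff, Matrix.SpecialLinearGroup.mem_center_iff]
  constructor
  · rintro ⟨r, hr, e⟩
    have h : r = 1 ∨ r = -1 := by
      haveI : Fact (Nat.Prime 7) := ⟨by norm_num⟩
      exact sq_eq_one_iff.mp (by simpa using hr)
    rcases h with rfl | rfl
    · left; rw [← e]; simp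
    · right; rw [← e]; ext i j; fin_cases i <;> fin_cases j <;> simp
  · rintro (e | e)
    · exact ⟨1, by simp, by rw [e]; simp⟩
    · exact ⟨-1, by simp, by rw [e]; ext i j; fin_cases i <;> fin_cases j <;> simp⟩

theorem exists_sub {F : Type*} [Field F] [Fintype F] (hF : Fintype.card F = 9) :
    ∃ H : Subgroup (Cfsg.PSU 3 F 3), Nonempty (H ≃* P₇) := by
  classical
  haveI : Fact (Nat.Prime 3) := ⟨Nat.prime_three⟩
  haveI : Fact (Nat.Prime 7) := ⟨by norm_num⟩
  haveI hchar : CharP F 3 := by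
    obtain ⟨p, hp⟩ := CharP.exists F
    obtain ⟨n, hp', hn⟩ := FiniteField.card F p
    have : p = 3 := by
      have h : p ∣ 3 ^ 2 := by rw [show (3 : ℕ) ^ 2 = 9 by norm_num, ← hF, hn]; exact dvd_pow_self p n.pos.ne'
      exact (Nat.prime_dvd_prime_iff_eq hp' Nat.prime_three).1 (hp'.dvd_of_dvd_pow h)
    exact this ▸ hp
  obtain ⟨r, hr⟩ : IsSquare (-1 : F) := FiniteField.isSquare_neg_one_iff.mpr (by rw [hF]; norm_num)
  obtain ⟨φ, hφ⟩ : ∃ φ : GaussianInt →+* F, ∀ z : GaussianInt, φ z = (z.re : F) + (z.im : F) * r :=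
    ⟨Zsqrtd.lift ⟨r, by rw [← hr]; simp⟩, fun z => rfl⟩
  have hcg : ∀ x y, cg x y = true → φ x = φ y := by
    intro x y h
    simp only [cg, Bool.and_eq_true, beq_iff_eq] at h
    have hz : ∀ a b : ℤ, (a - b) % 3 = 0 → (a : F) = (b : F) := fun a b hab => by
      rw [← sub_eq_zero, ← Int.cast_sub, CharP.intCast_eq_zero_iff F 3]
      exact Int.dvd_of_emod_eq_zero hab
    rw [hφ, hφ, hz _ _ h.1, hz _ _ h.2]
  have hcgM : ∀ A B, cgM A B = true → φ.mapMatrix A = φ.mapMatrix B := by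
    intro A B h
    ext i j
    exact hcg _ _ (of_decide_eq_true h i j)
  have hcg' : ∀ A B, cgM A B = false → φ.mapMatrix A ≠ φ.mapMatrix B := by
    intro A B h e
    have : cgM A B = true := decide_eq_true fun i j => by
      have h1 : φ (A i j) = φ (B i j) := congrFun (congrFun e i) j
      rw [hφ, hφ] at h1
      have h2 : ((A i j).re - (B i j).re : F) + ((A i j).im - (B i j).im : F) * r = 0 := by linear_combination h1
      have hd : ∀ a b : ℤ, ((a : F) - b = 0) → (a - b) % 3 = 0 := fun a b hab => by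
        rw [← Int.cast_sub, CharP.intCast_eq_zero_iff F 3] at hab
        exact Int.emod_eq_zero_of_dvd hab
      have him : ((A i j).im : F) - (B i j).im = 0 := by
        by_contra hne
        have hr' : r = -((((A i j).re - (B i j).re : ℤ) : F) / (((A i j).im - (B i j).im : ℤ) : F)) := by
          push_cast
          field_simp
          linear_combination h2
        have hp3 : ∀ a : ℤ, (a : F) ^ 3 = (a : F) := fun a => by
          have := congrArg (ZMod.castHom (dvd_refl 3) F) (ZMod.pow_card (a : ZMod 3))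
          rwa [map_pow, map_intCast] at this
        have hr3 : r ^ 3 = r := by
          rw [hr', neg_pow, div_pow, hp3, hp3]; ring
        have h2' : (2 : F) = 0 := by
          have hr0 : r ≠ 0 := by rintro rfl; exact one_ne_zero (neg_eq_zero.mp (by rw [hr, mul_zero]))
          have : r * (r * r - 1) = 0 := by linear_combination hr3
          rw [← hr] at this
          rcases mul_eq_zero.mp this with h | h
          · exact absurd h hr0
          · linear_combination -h
        have := (CharP.cast_eq_zero_iff F 3 2).mp (by exact_mod_cast h2')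
        omega
      simp only [cg, Bool.and_eq_true, beq_iff_eq]
      refine ⟨hd _ _ ?_, hd _ _ him⟩
      rw [him, zero_mul, add_zero] at h2
      exact h2
    simp [this] at h
  have hp3 : ∀ a : ℤ, (a : F) ^ 3 = (a : F) := fun a => by
    have := congrArg (ZMod.castHom (dvd_refl 3) F) (ZMod.pow_card (a : ZMod 3))
    rwa [map_pow, map_intCast] at this
  have hstar : ∀ z, φ (star z) = φ z ^ 3 := by
    intro z
    rw [hφ, hφ, add_pow_char, mul_pow, hp3, hp3, Zsqrtd.re_star, Zsqrtd.im_star,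
      show r ^ 3 = r * r * r by ring, ← hr]
    push_cast
    ring
  -- the two generators
  have hgen : ∀ c : ℕ, cg (det3 (uMat c)) 1 = true → cgM ((uMat c)ᵀ * (uMat c).map star) 1 = true →
      ∃ u : ↥(Cfsg.SU 3 F 3), ((u : Matrix.SpecialLinearGroup (Fin 3) F) : Matrix (Fin 3) (Fin 3) F) = φ.mapMatrix (uMat c) := by
    intro c hd hu
    have hdet : (φ.mapMatrix (uMat c)).det = 1 := by
      rw [← RingHom.map_det, Matrix.det_fin_three]
      exact (hcg _ _ hd).trans (map_one φ)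
    refine ⟨⟨⟨_, hdet⟩, ?_⟩, rfl⟩
    intro x y
    have e := hcgM _ _ hu
    rw [map_mul, map_one] at e
    have hM : ∀ i j : Fin 3, ∑ k, φ (uMat c k i) * φ (uMat c k j) ^ 3 = (1 : Matrix (Fin 3) (Fin 3) F) i j := by
      intro i j
      rw [← e, Matrix.mul_apply]
      refine Finset.sum_congr rfl fun k _ => ?_
      rw [← hstar]
      rfl
    show Cfsg.hermForm 3 F 3 (φ.mapMatrix (uMat c) *ᵥ x) (φ.mapMatrix (uMat c) *ᵥ y) = Cfsg.hermForm 3 F 3 x y
    simp only [Cfsg.hermForm, Matrix.mulVec, dotProduct, Fin.sum_univ_three, RingHom.mapMatrix_apply,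
      Matrix.map_apply, add_pow_char, mul_pow]
    have h00 := hM 0 0; have h01 := hM 0 1; have h02 := hM 0 2
    have h10 := hM 1 0; have h11 := hM 1 1; have h12 := hM 1 2
    have h20 := hM 2 0; have h21 := hM 2 1; have h22 := hM 2 2
    simp [Fin.sum_univ_three] at h00 h01 h02 h10 h11 h12 h20 h21 h22
    linear_combination (x 0 * y 0 ^ 3) * h00 + (x 0 * y 1 ^ 3) * h01 + (x 0 * y 2 ^ 3) * h02 +
      (x 1 * y 0 ^ 3) * h10 + (x 1 * y 1 ^ 3) * h11 + (x 1 * y 2 ^ 3) * h12 +
      (x 2 * y 0 ^ 3) * h20 + (x 2 * y 1 ^ 3) * h21 + (x 2 * y 2 ^ 3) * h22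
  obtain ⟨gd, gd', gu, gu', gp, gp'⟩ := gen_facts
  obtain ⟨a, ha⟩ := hgen aCode gd gu
  obtain ⟨b, hb⟩ := hgen bCode gd' gu'
  let sA : S₇ := ⟨pMat sCode, gp⟩
  let sB : S₇ := ⟨pMat tCode, gp'⟩
  let π : S₇ →* P₇ := QuotientGroup.mk' (Subgroup.center S₇)
  let T : ↥(Cfsg.SU 3 F 3) × P₇ → ℕ → Prop := fun x k =>
    k < 168 ∧ ((x.1 : Matrix.SpecialLinearGroup (Fin 3) F) : Matrix (Fin 3) (Fin 3) F) = φ.mapMatrix (uU k) ∧
      ∃ s : S₇, π s = x.2 ∧ (s.1 = uP k ∨ s.1 = -uP k)
  have hTone : T 1 0 := by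
    obtain ⟨h1, h2⟩ := zero_one
    refine ⟨by norm_num, ?_, 1, map_one π, Or.inl ?_⟩
    · rw [hcgM _ _ h1, map_one]; rfl
    · rw [h2]; rfl
  have hstep : ∀ (x : ↥(Cfsg.SU 3 F 3) × P₇) (k : ℕ), T x k →
      T (x * (a, π sA)) (aNext.getD k 0) ∧ T (x * (b, π sB)) (bNext.getD k 0) := by
    rintro x k ⟨hk, hx, s, hs, hsk⟩
    obtain ⟨a1, a2, a3⟩ := step_a ⟨k, hk⟩
    obtain ⟨b1, b2, b3⟩ := step_b ⟨k, hk⟩
    constructor
    · refine ⟨a2, ?_, s * sA, by rw [map_mul, hs]; rfl, ?_⟩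
      · show ((x.1 * a : ↥(Cfsg.SU 3 F 3)) : Matrix.SpecialLinearGroup (Fin 3) F).1 = _
        rw [Subgroup.coe_mul, Matrix.SpecialLinearGroup.coe_mul, hx, ha, ← map_mul]
        exact hcgM _ _ a1
      · show s.1 * pMat sCode = _ ∨ s.1 * pMat sCode = _
        rcases hsk with e | e <;> rcases a3 with e' | e' <;> rw [e] <;> (try simp only [neg_mul]) <;> rw [e'] <;> simp
    · refine ⟨b2, ?_, s * sB, by rw [map_mul, hs]; rfl, ?_⟩
      · show ((x.1 * b : ↥(Cfsg.SU 3 F 3)) : Matrix.SpecialLinearGroup (Fin 3) F).1 = _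
        rw [Subgroup.coe_mul, Matrix.SpecialLinearGroup.coe_mul, hx, hb, ← map_mul]
        exact hcgM _ _ b1
      · show s.1 * pMat tCode = _ ∨ s.1 * pMat tCode = _
        rcases hsk with e | e <;> rcases b3 with e' | e' <;> rw [e] <;> (try simp only [neg_mul]) <;> rw [e'] <;> simp
  let D : Subgroup (↥(Cfsg.SU 3 F 3) × P₇) := Subgroup.closure {(a, π sA), (b, π sB)}
  have hT : ∀ x ∈ D, ∃ k, T x k := by
    intro x hx
    rw [← Subgroup.mem_toSubmonoid, Subgroup.closure_toSubmonoid_of_finite] at hx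
    induction hx using Submonoid.closure_induction_right with
    | one => exact ⟨0, hTone⟩
    | mul_right x _ g hg ih =>
      obtain ⟨k, hk⟩ := ih
      rcases hg with rfl | rfl
      · exact ⟨_, (hstep x k hk).1⟩
      · exact ⟨_, (hstep x k hk).2⟩
  have hD : ∀ k, k < 168 → ∃ x ∈ D, T x k := by
    intro k
    induction k using Nat.strong_induction_on with
    | _ k ih =>
    intro hk
    rcases eq_or_ne k 0 with rfl | hk0
    · exact ⟨1, one_mem _, hTone⟩
    obtain ⟨hlt, h⟩ := parent ⟨k, hk⟩ hk0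
    obtain ⟨x, hx, hxT⟩ := ih _ hlt (lt_trans hlt hk)
    rcases h with ⟨-, h⟩ | ⟨-, h⟩
    · refine ⟨_, mul_mem hx (Subgroup.subset_closure (Or.inl rfl)), ?_⟩
      have h1 := (hstep x _ hxT).1
      simp only at h h1
      rwa [h] at h1
    · refine ⟨_, mul_mem hx (Subgroup.subset_closure (Or.inr rfl)), ?_⟩
      have h1 := (hstep x _ hxT).2
      simp only at h h1
      rwa [h] at h1
  have hneg : ∀ (s t : S₇) (M : Matrix (Fin 2) (Fin 2) (ZMod 7)), (s.1 = M ∨ s.1 = -M) → (t.1 = M ∨ t.1 = -M) → π s = π t := by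
    intro s t M h1 h2
    have h : s.1 = t.1 ∨ s.1 = -t.1 := by
      rcases h1 with e | e <;> rcases h2 with e' | e' <;> rw [e, e'] <;> simp
    apply inv_mul_eq_one.mp
    rw [← map_inv, ← map_mul, center_seven]
    have e : s⁻¹.1 * s.1 = 1 := by rw [← Matrix.SpecialLinearGroup.coe_mul, inv_mul_cancel]; rfl
    rw [Matrix.SpecialLinearGroup.coe_mul]
    rcases h with h | h
    · left; rw [← h]; exact e
    · right; rw [show t.1 = -s.1 by rw [h, neg_neg], mul_neg, e]
  have hχsurj : D.map (MonoidHom.snd _ _) = ⊤ := by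
    have h : (D.map (MonoidHom.snd _ _)).comap π = ⊤ := by
      refine Cfsg.Lib.Classical.eq_top_of_transvection_mem _ fun i j hij c => ?_
      obtain ⟨⟨k, hk⟩, ⟨l, hl⟩⟩ := transvections c
      have main : ∀ (k : Fin 168) (t : S₇), (uP k = t.1 ∨ uP k = -t.1) → π t ∈ D.map (MonoidHom.snd _ _) := by
        intro k t ht
        obtain ⟨x, hx, -, -, s, hs, hsk⟩ := hD k k.2
        refine ⟨x, hx, ?_⟩
        show x.2 = π t
        rw [← hs]
        refine hneg s t (uP k) hsk ?_
        rcases ht with e | e <;> rw [e] <;> simp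
      rw [Subgroup.mem_comap]
      fin_cases i <;> fin_cases j
      · exact absurd rfl hij
      · refine main k _ ?_
        convert hk using 3 <;>
        · ext u v; fin_cases u <;> fin_cases v <;> simp [Matrix.SpecialLinearGroup.transvection, Matrix.transvection]
      · refine main l _ ?_
        convert hl using 3 <;>
        · ext u v; fin_cases u <;> fin_cases v <;> simp [Matrix.SpecialLinearGroup.transvection, Matrix.transvection]
      · exact absurd rfl hij
    rw [eq_top_iff]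
    intro y _
    obtain ⟨s, rfl⟩ := QuotientGroup.mk'_surjective (Subgroup.center S₇) y
    exact h.ge (Subgroup.mem_top s)
  let χ : ↥D →* P₇ := (MonoidHom.snd _ _).comp D.subtype
  let ψ : ↥D →* Cfsg.PSU 3 F 3 :=
    (QuotientGroup.mk' (Subgroup.center ↥(Cfsg.SU 3 F 3))).comp ((MonoidHom.fst _ _).comp D.subtype)
  have hkill : ∀ (x : ↥D) (k : ℕ), T x k → k = 0 → x = 1 := by
    rintro ⟨x, hx⟩ k ⟨-, h1, s, h2, h3⟩ rfl
    apply Subtype.ext
    obtain ⟨z1, z2⟩ := zero_one
    refine Prod.ext (Subtype.ext (Subtype.ext ?_)) ?_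
    · rw [h1, hcgM _ _ z1, map_one]; rfl
    · show x.2 = 1
      rw [← h2, center_seven]
      rw [z2] at h3
      exact h3
  have hχ : Function.Bijective χ := by
    refine ⟨(injective_iff_map_eq_one χ).mpr fun x hx => ?_, fun y => ?_⟩
    · obtain ⟨k, hk⟩ := hT x x.2
      refine hkill x k hk ?_
      obtain ⟨hk', -, s, hs, hsk⟩ := hk
      refine p_one ⟨k, hk'⟩ ?_
      have h1 := center_seven.mp (hs.trans hx)
      show uP k = 1 ∨ uP k = -1
      rcases hsk with e | e <;> rw [e] at h1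
      · exact h1
      · rcases h1 with h | h
        · right; rw [← h, neg_neg]
        · left; exact neg_injective h
    · obtain ⟨x, hx, e⟩ := hχsurj.ge (Subgroup.mem_top y)
      exact ⟨⟨x, hx⟩, e⟩
  have hψ : Function.Injective ψ := by
    refine (injective_iff_map_eq_one ψ).mpr fun x hx => ?_
    obtain ⟨k, hk⟩ := hT x x.2
    refine hkill x k hk ?_
    obtain ⟨hk', hm, -⟩ := hk
    by_contra hne
    have hc : (x : ↥(Cfsg.SU 3 F 3) × P₇).1 ∈ Subgroup.center ↥(Cfsg.SU 3 F 3) :=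
      (QuotientGroup.eq_one_iff _).mp hx
    have hca : ∀ (g : ↥(Cfsg.SU 3 F 3)) (c : ℕ),
        ((g : Matrix.SpecialLinearGroup (Fin 3) F) : Matrix (Fin 3) (Fin 3) F) = φ.mapMatrix (uMat c) →
        φ.mapMatrix (uU k * uMat c) = φ.mapMatrix (uMat c * uU k) := by
      intro g c hg
      have h := congrArg (fun v : ↥(Cfsg.SU 3 F 3) => ((v : Matrix.SpecialLinearGroup (Fin 3) F) : Matrix (Fin 3) (Fin 3) F))
        (Subgroup.mem_center_iff.mp hc g)
      simp only [Subgroup.coe_mul, Matrix.SpecialLinearGroup.coe_mul] at h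
      rw [hm, hg] at h
      rw [map_mul, map_mul, h]
    rcases noncentral ⟨k, hk'⟩ hne with h | h
    · exact hcg' _ _ h (hca a aCode ha)
    · exact hcg' _ _ h (hca b bCode hb)
  exact ⟨ψ.range, ⟨(MonoidHom.ofInjective hψ).symm.trans (MulEquiv.ofBijective χ hχ)⟩⟩

theorem main {F : Type*} [Field F] [Fintype F] (hF : Fintype.card F = 9)
    {K : Type*} [Field K] [Fintype K] (hK : Fintype.card K = 7) :
    ∃ H : Subgroup (Cfsg.PSU 3 F 3), Nonempty (H ≃* Matrix.ProjectiveSpecialLinearGroup (Fin 2) K) := by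
  haveI : Fact (Nat.Prime 7) := ⟨by norm_num⟩
  obtain ⟨H, ⟨e⟩⟩ := exists_sub hF
  let r : K ≃+* ZMod 7 := (ZMod.ringEquivOfPrime K (by norm_num) (by rw [hK])).symm
  let E : S₇ ≃* Matrix.SpecialLinearGroup (Fin 2) K :=
    MonoidHom.toMulEquiv (Matrix.SpecialLinearGroup.map r.symm.toRingHom) (Matrix.SpecialLinearGroup.map r.toRingHom)
      (by ext x i j; simp) (by ext x i j; simp)
  exact ⟨H, ⟨e.trans (QuotientGroup.congr _ _ E (by
    ext x
    constructor
    · rintro ⟨y, hy, rfl⟩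
      exact Subgroup.mem_center_iff.mpr fun z => E.symm.injective (by
        simpa using Subgroup.mem_center_iff.mp hy (E.symm z))
    · intro hx
      exact ⟨E.symm x, Subgroup.mem_center_iff.mpr fun z => E.injective (by
        simpa using Subgroup.mem_center_iff.mp hx (E z)), by simp⟩))⟩⟩

end Cfsg.Lib.SUThree168
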