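import Cfsg.Agent.Components.Embedded.Apps
import Cfsg.Agent.Components.Embedded.Connect
import Cfsg.Agent.Components.PComponents
import Cfsg.Agent.Coprime.Generation
import Cfsg.Agent.Blocks.FongFullDefect
import Cfsg.Agent.GaschutzYen.Basic
import Cfsg.Agent.Frobenius.UniqueSubgroup
import Cfsg.Agent.Thompson.PComplement
import Cfsg.Agent.S0542

/-! Strongly `p`-embedded subgroups of `p`-solvable groups (Sylow subgroups of `p`-rank one). -/

set_option autoImplicit false
set_option linter.style.haveILetI false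
set_option linter.unusedSectionVars false

open Subgroup

namespace Cfsg.Lib.PSolvEmb

variable {G : Type*} [Group G] [Finite G] {p : ℕ} [Fact p.Prime]

theorem connected_of_pCore (h : Cfsg.pCore p G ≠ ⊥) : Cfsg.IsSylowChainConnected p G := by
  rw [Cfsg.Lib.Embedded.connected_iff]
  intro S T
  refine Relation.ReflTransGen.single fun hbot => h (eq_bot_iff.2 ?_)
  rw [← hbot]
  exact le_inf (Cfsg.Lib.Thompson.le_sylow_of_normal (Cfsg.Lib.Components.isPGroup_pCore p) S)
    (Cfsg.Lib.Thompson.le_sylow_of_normal (Cfsg.Lib.Components.isPGroup_pCore p) T)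

/-- A `p`-group which is not cyclic and not quaternion has an elementary abelian subgroup of order `p²`
as a commutative non-cyclic subgroup. -/
theorem exists_noncyclic {P : Subgroup G} (hP : IsPGroup p P)
    (h : ¬ (IsCyclic P ∨ (p = 2 ∧ ∃ n : ℕ, Nonempty (P ≃* QuaternionGroup (2 ^ n))))) :
    ∃ A : Subgroup G, A ≤ P ∧ IsMulCommutative A ∧ ¬ IsCyclic A := by
  have hnu : ¬ ∀ x y : P, orderOf x = p → orderOf y = p → y ∈ zpowers x :=
    fun hu => h (Cfsg.Lib.UniqueSub.isCyclic_or_quaternion hP hu)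
  push Not at hnu
  obtain ⟨x, y, hx, hy, hxy⟩ := hnu
  haveI : Nontrivial P := ⟨⟨x, 1, fun h1 => (Fact.out : p.Prime).ne_one (by rw [← hx, h1, orderOf_one])⟩⟩
  haveI := hP.center_nontrivial
  obtain ⟨z, hz⟩ := exists_prime_orderOf_dvd_card' (G := Subgroup.center P) p
    (Cfsg.Lib.Embedded.dvd_of_ne_bot (G := P) (hP.to_subgroup _)
      ((Subgroup.nontrivial_iff_ne_bot _).1 inferInstance))
  have hzo : orderOf (z : P) = p := by rw [Subgroup.orderOf_coe, hz]
  obtain ⟨w, hw, hwz⟩ : ∃ w : P, orderOf w = p ∧ w ∉ zpowers (z : P) := by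
    by_contra hc
    push Not at hc
    have h1 := hc x hx
    have h2 := hc y hy
    have h3 : zpowers x = zpowers (z : P) := eq_of_le_of_card_ge (zpowers_le.2 h1)
      (by rw [Nat.card_zpowers, Nat.card_zpowers, hx, hzo])
    exact hxy (h3 ▸ h2)
  have hcomm : Commute ((z : P) : G) (w : G) :=
    congrArg Subtype.val (Subgroup.mem_center_iff.1 z.2 w).symm
  refine ⟨Subgroup.closure {((z : P) : G), (w : G)}, ?_, ?_, ?_⟩
  · rw [Subgroup.closure_le]
    rintro a (rfl | rfl)
    · exact (z : P).2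
    · exact w.2
  · apply Subgroup.isMulCommutative_closure
    rintro a (rfl | rfl) b (rfl | rfl)
    · rfl
    · exact hcomm
    · exact hcomm.symm
    · rfl
  · intro hcyc
    set A := Subgroup.closure {((z : P) : G), (w : G)}
    have hzA : ((z : P) : G) ∈ A := Subgroup.subset_closure (Or.inl rfl)
    have hwA : (w : G) ∈ A := Subgroup.subset_closure (Or.inr rfl)
    classical
    haveI : Fintype A := Fintype.ofFinite A
    apply hwz
    have key : ∀ a : A, a ^ p = 1 → a ∈ zpowers (⟨_, hzA⟩ : A) := by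
      intro a ha
      by_contra hne
      have hsub : insert a (Finset.univ.filter fun b : A => b ∈ zpowers (⟨_, hzA⟩ : A)) ⊆
          Finset.univ.filter fun b : A => b ^ p = 1 := by
        intro b hb
        rw [Finset.mem_filter]
        refine ⟨Finset.mem_univ _, ?_⟩
        rcases Finset.mem_insert.1 hb with rfl | hb
        · exact ha
        · obtain ⟨-, k, rfl⟩ := Finset.mem_filter.1 hb
          apply Subtype.ext
          have : (((z : P) : G)) ^ p = 1 := by
            rw [← hzo, ← Subgroup.orderOf_coe]; exact pow_orderOf_eq_one _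
          show ((((z : P) : G)) ^ k) ^ p = 1
          rw [← zpow_natCast, ← zpow_mul, mul_comm, zpow_mul, zpow_natCast, this, one_zpow]
      have h1 := (Finset.card_le_card hsub).trans (IsCyclic.card_pow_eq_one_le (Fact.out : p.Prime).pos)
      rw [Finset.card_insert_of_notMem (by simpa using hne)] at h1
      have h2 : (Finset.univ.filter fun b : A => b ∈ zpowers (⟨_, hzA⟩ : A)).card = p := by
        rw [← Fintype.card_subtype, ← Nat.card_eq_fintype_card]
        refine (Nat.card_zpowers _).trans ?_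
        rw [← Subgroup.orderOf_coe]
        show orderOf ((z : P) : G) = p
        rw [Subgroup.orderOf_coe]
        exact hzo
      omega
    obtain ⟨k, hk⟩ := key ⟨_, hwA⟩ (Subtype.ext (by
      show ((w : P) : G) ^ p = 1
      rw [← hw, ← Subgroup.orderOf_coe]; exact pow_orderOf_eq_one _))
    exact ⟨k, Subtype.ext (congrArg (Subtype.val : A → G) hk)⟩

theorem rank_one_of_embedded (hsol : Cfsg.IsPSolvable p G) {H : Subgroup G} (hH : H ≠ ⊤)
    (hpH : p ∣ Nat.card H) (hc : Cfsg.Lib.Embedded.ConjCond p H) :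
    ∃ P : Sylow p G, IsCyclic (P : Subgroup G) ∨
      (p = 2 ∧ ∃ n : ℕ, Nonempty ((P : Subgroup G) ≃* QuaternionGroup (2 ^ n))) := by
  have hnc := Cfsg.Lib.Embedded.norm_of_conj hc
  obtain ⟨S⟩ : Nonempty (Sylow p H) := inferInstance
  obtain ⟨P, hP⟩ := Cfsg.Lib.Embedded.exists_sylow hpH hnc S
  have hPH : (P : Subgroup G) ≤ H := hP ▸ Subgroup.map_subtype_le _
  refine ⟨P, ?_⟩
  by_contra hcon
  obtain ⟨A, hAP, hAc, hAn⟩ := exists_noncyclic P.isPGroup' hcon
  haveI := hAc
  set N := Cfsg.pPrimeCore p G with hN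
  have hcop : (Nat.card A).Coprime (Nat.card N) := by
    obtain ⟨k, hk⟩ := IsPGroup.iff_card.1 (P.isPGroup'.to_le hAP)
    rw [hk]
    exact ((Cfsg.Lib.Components.coprime_card_pPrimeCore p).symm).pow_left k
  have hNH : N ≤ H := by
    rw [← Cfsg.Lib.Coprime.centralizerJoin_eq hAn (by
      rw [Subgroup.normalizer_eq_top]; exact le_top) hcop]
    refine iSup₂_le fun a ha => ?_
    refine inf_le_right.trans ?_
    rw [← Cfsg.Lib.Coprime.centralizer_zpowers]
    exact (Subgroup.centralizer_le_normalizer _).trans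
      (hnc (zpowers a) ((zpowers_le.2 (hAP ha.1)).trans hPH) (P.isPGroup'.to_le (zpowers_le.2 (hAP ha.1)))
        (by rw [ne_eq, zpowers_eq_bot]; exact ha.2))
  set q := QuotientGroup.mk' N with hq
  have hqs : Function.Surjective q := QuotientGroup.mk'_surjective N
  set K := (Cfsg.pCore p (G ⧸ N)).comap q with hK
  haveI : K.Normal := Subgroup.Normal.comap inferInstance q
  have hNK : N ≤ K := fun x hx => by
    rw [hK, Subgroup.mem_comap, hq, QuotientGroup.mk'_apply, (QuotientGroup.eq_one_iff x).2 hx]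
    exact one_mem _
  have hpd : p ∣ Nat.card G := hpH.trans (Subgroup.card_subgroup_dvd_card H)
  have hcore : Cfsg.pCore p (G ⧸ N) ≠ ⊥ := by
    intro h0
    have := Cfsg.Lib.Blocks.centralizer_pCore_le_of_isPSolvable p
      (Cfsg.Lib.GaschutzYen.isPSolvable_quotient N hsol) Cfsg.Lib.Components.pPrimeCore_quotient_eq_bot
    rw [h0] at this
    have htriv : ∀ y : G ⧸ N, y = 1 := fun y => Subgroup.mem_bot.1 (this (by simp [Subgroup.mem_centralizer_iff]))
    have : N = ⊤ := eq_top_iff.2 fun x _ => (QuotientGroup.eq_one_iff x).1 (htriv _)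
    have h1 := Cfsg.Lib.Components.coprime_card_pPrimeCore (G := G) p
    rw [← hN, this, Subgroup.card_top] at h1
    exact (Fact.out : p.Prime).ne_one (Nat.eq_one_of_dvd_coprimes h1 hpd dvd_rfl)
  obtain ⟨Q, hQ⟩ := Cfsg.Agent.S0542.result p K (‹K.Normal›.isSubnormal) P
  have hKQ : K ≤ N ⊔ (Q : Subgroup K).map K.subtype := by
    intro x hx
    have hxq : q x ∈ ((Q.mapSurjective (f := (q.subgroupMap K)) (q.subgroupMap_surjective K)) :
        Subgroup (K.map q)).map (K.map q).subtype := by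
      have htop : ((Q.mapSurjective (f := (q.subgroupMap K)) (q.subgroupMap_surjective K)) :
          Subgroup (K.map q)) = ⊤ := by
        have hp' : IsPGroup p (K.map q) := by
          rw [hK, Subgroup.map_comap_eq_self_of_surjective hqs]
          exact Cfsg.Lib.Components.isPGroup_pCore p
        exact ((Q.mapSurjective (f := (q.subgroupMap K)) (q.subgroupMap_surjective K)).3
          (hp'.to_subgroup ⊤) le_top).symm
      rw [htop, ← MonoidHom.range_eq_map, Subgroup.range_subtype]
      exact Subgroup.mem_map_of_mem q hx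
    obtain ⟨⟨_, _⟩, ⟨u, hu, hu'⟩, hy⟩ := hxq
    have hux : q (u : G) = q x := by
      rw [← hy]
      exact congrArg Subtype.val hu'
    rw [← inv_mul_cancel_right x (u : G)]
    refine mul_mem (Subgroup.mem_sup_left ?_) (Subgroup.mem_sup_right ⟨u, hu, rfl⟩)
    rw [← QuotientGroup.eq_one_iff (N := N)]
    show q (x * (u : G)⁻¹) = 1
    rw [map_mul, map_inv, hux, mul_inv_cancel]
  set R := (Q : Subgroup K).map K.subtype with hR
  have hRP : R ≤ (P : Subgroup G) := by
    rintro _ ⟨u, hu, rfl⟩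
    exact (hQ ▸ hu : u ∈ (P : Subgroup G).subgroupOf K)
  have hRne : R ≠ ⊥ := by
    intro h0
    rw [h0, sup_bot_eq] at hKQ
    apply hcore
    rw [eq_bot_iff]
    intro y hy
    obtain ⟨x, rfl⟩ := hqs y
    rw [Subgroup.mem_bot]
    exact (QuotientGroup.eq_one_iff x).2 (hKQ hy)
  have hnR := hnc R (hRP.trans hPH) (P.isPGroup'.to_le hRP) hRne
  apply hH
  rw [eq_top_iff, ← Sylow.normalizer_sup_eq_top Q]
  exact sup_le hnR (hKQ.trans (sup_le hNH (hRP.trans hPH)))

theorem main (hdiv : p ∣ Nat.card G) (hsol : Cfsg.IsPSolvable p G) (P : Sylow p G) :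
    ¬ Cfsg.IsSylowChainConnected p G ↔
      Cfsg.pCore p G = ⊥ ∧ (IsCyclic ↥P ∨ (p = 2 ∧ ∃ n : ℕ, Nonempty (↥P ≃* QuaternionGroup (2 ^ n)))) := by
  constructor
  · intro h
    refine ⟨by by_contra hO; exact h (connected_of_pCore hO), ?_⟩
    obtain ⟨H, hH, hpH, hc⟩ := Cfsg.Lib.Embedded.exists_conjCond_of_not_connected h
    obtain ⟨P', hP'⟩ := rank_one_of_embedded hsol hH hpH hc
    have e : (P' : Subgroup G) ≃* (P : Subgroup G) := P'.equiv P
    rcases hP' with h1 | ⟨hp2, n, ⟨f⟩⟩
    · exact Or.inl (e.isCyclic.1 h1)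
    · exact Or.inr ⟨hp2, n, ⟨e.symm.trans f⟩⟩
  · rintro ⟨hO, hP⟩
    have hP1 : (P : Subgroup G) ≠ ⊥ := Cfsg.Lib.Embedded.ne_bot_of_dvd (P.dvd_card_of_dvd_card hdiv)
    rw [Cfsg.Lib.Embedded.not_connected_iff]
    refine ⟨_, (Cfsg.Lib.Embedded.sPE_iff_conj.1 (Cfsg.Lib.Embedded.sPE_of_unique hO P hP1 ?_))⟩
    rcases hP with h1 | ⟨-, n, ⟨f⟩⟩
    · haveI : IsCyclic (P : Subgroup G) := h1
      exact fun a b => Cfsg.Lib.Embedded.unique_of_cyclic P a b
    · exact fun a b => Cfsg.Lib.Embedded.unique_of_quaternion P hP1 f a b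

end Cfsg.Lib.PSolvEmb
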