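import Cfsg.Agent.Components.WeaklyClosed.Perfect
import Cfsg.Agent.Components.Misc.Kieler
import Cfsg.Agent.Components.Supplement

/-!
Groups generated by a transitive family of p-minimal or strongly p-irreducible subgroups.
-/

set_option linter.style.haveILetI false
set_option linter.unusedSectionVars false

namespace Cfsg.Lib.PTransitive

open Subgroup Cfsg.Lib.WFactor
open scoped commutatorElement

variable {G : Type*} [Group G] [Finite G] {p : ℕ} [hp : Fact p.Prime]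

theorem map_conj_cancel (H : Subgroup G) (t : G) :
    (H.map (MulAut.conj t⁻¹).toMonoidHom).map (MulAut.conj t).toMonoidHom = H := by
  rw [Cfsg.Lib.Transfer.map_conj_map_conj, mul_inv_cancel, Cfsg.Lib.Transfer.map_conj_one]

/-- a Sylow subgroup meets a factor of a subnormal product with `O_p` in a Sylow subgroup -/
theorem exists_sylow_factor (T : Sylow p G) (E : Subgroup G) (hsn : (E ⊔ Cfsg.pCore p G).IsSubnormal) :
    ∃ P : Sylow p E, (P : Subgroup E) = (T : Subgroup G).subgroupOf E := by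
  set O := Cfsg.pCore p G
  haveI : O.Normal := Cfsg.Lib.Components.pCore_normal' p
  obtain ⟨S, hS⟩ := Cfsg.Lib.Kieler.exists_sylow_of_subnormal T hsn
  obtain ⟨P, hP⟩ := (T.2.comap_subtype (K := E)).exists_le_sylow
  refine ⟨P, le_antisymm (fun x hx => ?_) hP⟩
  set P' := (P : Subgroup E).map E.subtype ⊔ O
  have hP'p : IsPGroup p P' :=
    (P.isPGroup'.map E.subtype).to_sup_of_normal_right (Cfsg.Lib.Components.isPGroup_pCore p)
  have hle : (S : Subgroup ↥(E ⊔ O)) ≤ P'.subgroupOf (E ⊔ O) := by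
    rw [hS]
    rintro ⟨y, hy⟩ hyT
    obtain ⟨e, he, o, ho, rfl⟩ := mem_sup_of_normal_right.mp hy
    show e * o ∈ P'
    refine mul_mem (mem_sup_left ⟨⟨e, he⟩, hP ?_, rfl⟩) (mem_sup_right ho)
    show e ∈ (T : Subgroup G)
    simpa using mul_mem (show e * o ∈ (T : Subgroup G) from hyT)
      (inv_mem (Cfsg.Lib.Coprime.pCore_le_sylow p T ho))
  have h := S.3 hP'p.comap_subtype hle
  have hx' : (⟨x, mem_sup_left x.2⟩ : ↥(E ⊔ O)) ∈ P'.subgroupOf (E ⊔ O) :=
    show (x : G) ∈ P' from mem_sup_left ⟨x, hx, rfl⟩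
  exact hS.le (h.le hx')

/-- the largest proper subgroup over a Sylow subgroup, with `O_p` adjoined -/
theorem exists_largest (T : Sylow p G) (E : Subgroup G) (hsn : (E ⊔ Cfsg.pCore p G).IsSubnormal)
    (hmin : ∀ P : Sylow p E, Cfsg.IsMinimalOver (P : Subgroup E)) :
    ∃ M : Subgroup G, (T : Subgroup G) ⊓ (E ⊔ Cfsg.pCore p G) ≤ M ∧ M ≤ E ⊔ Cfsg.pCore p G ∧ ¬ E ≤ M ∧
      ∀ Y : Subgroup G, (T : Subgroup G) ⊓ (E ⊔ Cfsg.pCore p G) ≤ Y → Y ≤ E ⊔ Cfsg.pCore p G → ¬ E ≤ Y →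
        Y ≤ M := by
  set O := Cfsg.pCore p G
  haveI : O.Normal := Cfsg.Lib.Components.pCore_normal' p
  have hOT : O ≤ (T : Subgroup G) := Cfsg.Lib.Coprime.pCore_le_sylow p T
  obtain ⟨P, hP⟩ := exists_sylow_factor T E hsn
  obtain ⟨-, M₀, ⟨hM₀, hPM⟩, -⟩ := id (hmin P)
  refine ⟨M₀.map E.subtype ⊔ O, ?_, sup_le_sup_right (map_subtype_le _) O, fun h => hM₀.1 (top_le_iff.mp ?_), ?_⟩
  · intro y hy
    obtain ⟨hyT, hyE⟩ := mem_inf.mp hy
    obtain ⟨e, he, o, ho, rfl⟩ := mem_sup_of_normal_right.mp hyE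
    refine mul_mem (mem_sup_left ⟨⟨e, he⟩, hPM ?_, rfl⟩) (mem_sup_right ho)
    rw [hP]
    show e ∈ (T : Subgroup G)
    simpa using mul_mem hyT (inv_mem (hOT ho))
  · intro x _
    obtain ⟨m, hm, o, ho, e⟩ := mem_sup_of_normal_right.mp (h x.2)
    obtain ⟨m', hm', rfl⟩ := hm
    have hx : x = m' * (m'⁻¹ * x) := by group
    rw [hx]
    refine mul_mem hm' (hPM ?_)
    rw [hP]
    show (m' : G)⁻¹ * (x : G) ∈ (T : Subgroup G)
    rw [← e, Subgroup.subtype_apply, inv_mul_cancel_left]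
    exact hOT ho
  · intro Y hY hYE hEY y hy
    obtain ⟨e, he, o, ho, rfl⟩ := mem_sup_of_normal_right.mp (hYE hy)
    refine mul_mem (mem_sup_left ⟨⟨e, he⟩, ?_, rfl⟩) (mem_sup_right ho)
    have hne : Y.subgroupOf E ≠ ⊤ := fun h => hEY (subgroupOf_eq_top.mp h)
    refine Cfsg.Lib.YMin.le_of_mem hM₀ hPM (hmin P) hne ?_ ?_
    · rw [hP]
      exact fun z hz => hY (mem_inf.mpr ⟨hz, mem_sup_left z.2⟩)
    · show e ∈ Y
      simpa using mul_mem hy (inv_mem (hY (mem_inf.mpr ⟨hOT ho, mem_sup_right ho⟩)))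

variable {𝒦 : Set (Subgroup G)}

theorem normal_sSup (hinv : ∀ h : G, ∀ E ∈ 𝒦, E.map (MulAut.conj h).toMonoidHom ∈ 𝒦) : (sSup 𝒦).Normal := by
  refine ⟨fun x hx g => ?_⟩
  have h : (sSup 𝒦).map (MulAut.conj g).toMonoidHom ≤ sSup 𝒦 := by
    rw [map_le_iff_le_comap]
    exact sSup_le fun E hE => map_le_iff_le_comap.mp (le_sSup (hinv g E hE))
  exact h ⟨x, hx, rfl⟩

theorem subnormal_factor (hinv : ∀ h : G, ∀ E ∈ 𝒦, E.map (MulAut.conj h).toMonoidHom ∈ 𝒦)
    (hnorm : ∀ E ∈ 𝒦, sSup 𝒦 ⊔ Cfsg.pCore p G ≤ normalizer ((E ⊔ Cfsg.pCore p G : Subgroup G) : Set G))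
    {E : Subgroup G} (hE : E ∈ 𝒦) : (E ⊔ Cfsg.pCore p G).IsSubnormal := by
  haveI := normal_sSup hinv
  haveI : (Cfsg.pCore p G).Normal := Cfsg.Lib.Components.pCore_normal' p
  exact Cfsg.Lib.Components.isSubnormal_of_normal_in
    (IsSubnormal.step _ ⊤ le_top IsSubnormal.top normal_subgroupOf)
    (sup_le_sup_right (le_sSup hE) _) (hnorm E hE)

theorem sup_sylow (hinv : ∀ h : G, ∀ E ∈ 𝒦, E.map (MulAut.conj h).toMonoidHom ∈ 𝒦)
    (hres : Cfsg.pResidual p G ≤ sSup 𝒦) (T : Sylow p G) : sSup 𝒦 ⊔ (T : Subgroup G) = ⊤ :=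
  top_le_iff.mp ((Cfsg.Lib.Transfer.pResidual_sup_sylow T).ge.trans (sup_le_sup_right hres _))

theorem minimal (hne : 𝒦.Nonempty) (hinv : ∀ h : G, ∀ E ∈ 𝒦, E.map (MulAut.conj h).toMonoidHom ∈ 𝒦)
    (htr : ∀ E ∈ 𝒦, ∀ K ∈ 𝒦, ∃ h : G, K = E.map (MulAut.conj h).toMonoidHom)
    (hres : Cfsg.pResidual p G ≤ sSup 𝒦)
    (hnorm : ∀ E ∈ 𝒦, sSup 𝒦 ⊔ Cfsg.pCore p G ≤ normalizer ((E ⊔ Cfsg.pCore p G : Subgroup G) : Set G))
    (hmin : ∀ E ∈ 𝒦, ∀ P : Sylow p E, Cfsg.IsMinimalOver (P : Subgroup E)) (T : Sylow p G) :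
    Cfsg.IsMinimalOver (T : Subgroup G) := by
  haveI hRN := normal_sSup hinv
  set O := Cfsg.pCore p G
  haveI : O.Normal := Cfsg.Lib.Components.pCore_normal' p
  set R := sSup 𝒦
  have hRT : R ⊔ (T : Subgroup G) = ⊤ := sup_sylow hinv hres T
  have hOT : O ≤ (T : Subgroup G) := Cfsg.Lib.Coprime.pCore_le_sylow p T
  have hsn := fun E hE => subnormal_factor (p := p) hinv hnorm (E := E) hE
  have hncl : normalClosure ((T : Subgroup G) : Set G) = ⊤ := by
    set N := normalClosure ((T : Subgroup G) : Set G)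
    have hTN : (T : Subgroup G) ≤ N := subset_normalClosure
    refine top_le_iff.mp (hRT.ge.trans (sup_le (sSup_le fun E hE => ?_) hTN))
    obtain ⟨P, hP⟩ := exists_sylow_factor T E (hsn E hE)
    have h : (P : Subgroup E) ≤ N.subgroupOf E := hP ▸ fun x hx => hTN hx
    have h2 : normalClosure ((P : Subgroup E) : Set E) ≤ N.subgroupOf E := normalClosure_le_normal h
    rw [(hmin E hE P).1, top_le_iff] at h2
    exact subgroupOf_eq_top.mp h2
  refine ⟨hncl, ?_⟩
  choose! M' hM1 hM2 hM3 hM4 using fun E hE => exists_largest T E (hsn E hE) (hmin E hE)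
  have hmap : ∀ t ∈ (T : Subgroup G), ∀ E ∈ 𝒦,
      (M' E).map (MulAut.conj t).toMonoidHom ≤ M' (E.map (MulAut.conj t).toMonoidHom) := by
    intro t ht E hE
    have hTt : (T : Subgroup G).map (MulAut.conj t).toMonoidHom = T :=
      mem_normalizer_iff_map_conj_eq.1 (le_normalizer ht)
    have hOt : O.map (MulAut.conj t).toMonoidHom = O :=
      mem_normalizer_iff_map_conj_eq.1 ((normalizer_eq_top_iff.2 inferInstance).ge (mem_top t))
    refine hM4 _ (hinv t E hE) _ ?_ ?_ ?_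
    · have h := map_mono (f := (MulAut.conj t).toMonoidHom) (hM1 E hE)
      rwa [map_inf _ _ _ (MulAut.conj t).injective, Subgroup.map_sup, hTt, hOt] at h
    · have h := map_mono (f := (MulAut.conj t).toMonoidHom) (hM2 E hE)
      rwa [Subgroup.map_sup, hOt] at h
    · exact fun h => hM3 E hE ((map_le_map_iff_of_injective (MulAut.conj t).injective).1 h)
  have heq : ∀ t ∈ (T : Subgroup G), ∀ E ∈ 𝒦,
      (M' (E.map (MulAut.conj t⁻¹).toMonoidHom)).map (MulAut.conj t).toMonoidHom = M' E := by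
    intro t ht E hE
    refine le_antisymm ?_ ?_
    · conv_rhs => rw [← map_conj_cancel E t]
      exact hmap t ht _ (hinv _ E hE)
    · conv_lhs => rw [← map_conj_cancel (M' E) t]
      exact map_mono (hmap t⁻¹ (inv_mem ht) E hE)
  have hfix : ∀ E ∈ 𝒦, ∀ Y : Subgroup G, (T : Subgroup G) ⊓ (E ⊔ O) ≤ Y → Y ≤ M' E →
      ∀ x ∈ normalizer ((E ⊔ O : Subgroup G) : Set G), x ∈ normalizer (Y : Set G) →
        x ∈ normalizer (M' E : Set G) := by
    intro E hE Y hY hYM x hxE hxY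
    rw [mem_normalizer_iff_map_conj_eq]
    refine Subgroup.eq_of_le_of_card_ge ?_ (Cfsg.Lib.Transfer.card_map_conj _ x).ge
    have hEO : (E ⊔ O).map (MulAut.conj x).toMonoidHom = E ⊔ O := mem_normalizer_iff_map_conj_eq.1 hxE
    refine hM4 E hE _ ?_ ((map_mono (hM2 E hE)).trans hEO.le) fun h => ?_
    · exact (hY.trans (mem_normalizer_iff_map_conj_eq.1 hxY).ge).trans (map_mono hYM)
    · have hO : O ≤ (M' E).map (MulAut.conj x).toMonoidHom := by
        rw [← (mem_normalizer_iff_map_conj_eq.1 ((normalizer_eq_top_iff.2 (inferInstance : O.Normal)).ge (mem_top x)))]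
        exact map_mono ((le_inf hOT le_sup_right).trans (hM1 E hE))
      exact hM3 E hE (le_sup_left.trans ((map_le_map_iff_of_injective (MulAut.conj x).injective).1
        (hEO.le.trans (sup_le h hO))))
  set W := (R ⊔ O) ⊓ ⨅ E ∈ 𝒦, normalizer (M' E : Set G)
  have hmemW : ∀ x ∈ R ⊔ O, (∀ E ∈ 𝒦, x ∈ normalizer (M' E : Set G)) → x ∈ W := fun x h1 h2 =>
    mem_inf.mpr ⟨h1, mem_iInf.mpr fun E => mem_iInf.mpr (h2 E)⟩
  have hWget : ∀ x ∈ W, ∀ E ∈ 𝒦, x ∈ normalizer (M' E : Set G) := fun x hx E hE =>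
    mem_iInf.mp (mem_iInf.mp (mem_inf.mp hx).2 E) hE
  have hTW : (T : Subgroup G) ≤ normalizer (W : Set G) := by
    intro t ht
    rw [mem_normalizer_iff_map_conj_eq]
    refine Subgroup.eq_of_le_of_card_ge ?_ (Cfsg.Lib.Transfer.card_map_conj _ t).ge
    rintro _ ⟨x, hx, rfl⟩
    refine hmemW _ ((inferInstance : (R ⊔ O).Normal).conj_mem x (mem_inf.mp hx).1 t) fun E hE => ?_
    rw [← heq t ht E hE]
    exact le_normalizer_map _ ⟨x, hWget x hx _ (hinv _ E hE), rfl⟩
  have hTRW : (T : Subgroup G) ⊓ (R ⊔ O) ≤ W := by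
    intro t ht
    refine hmemW t (mem_inf.mp ht).2 fun E hE => hfix E hE _ le_rfl (hM1 E hE) t (hnorm E hE (mem_inf.mp ht).2) ?_
    exact Cfsg.Lib.Coprime.le_normalizer_inf (inf_le_left.trans le_normalizer) (inf_le_right.trans (hnorm E hE))
      (show t ∈ (T : Subgroup G) ⊓ (R ⊔ O) from ht)
  have hcoatom : ∀ M : Subgroup G, IsCoatom M → (T : Subgroup G) ≤ M → M ≤ W ⊔ (T : Subgroup G) := by
    intro M hM hTM
    have hnoE : ∀ E ∈ 𝒦, ¬ E ≤ M := by
      intro E hE hEM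
      refine hM.1 (top_le_iff.mp (hRT.ge.trans (sup_le (sSup_le fun K hK => ?_) hTM)))
      obtain ⟨h, rfl⟩ := htr E hE K hK
      have hh : h ∈ (T : Subgroup G) ⊔ R := by rw [sup_comm, hRT]; exact mem_top h
      obtain ⟨t, ht, r, hr, rfl⟩ := mem_sup_of_normal_right.mp hh
      rw [← Cfsg.Lib.Transfer.map_conj_map_conj]
      have hr' : (E ⊔ O).map (MulAut.conj r).toMonoidHom = E ⊔ O :=
        mem_normalizer_iff_map_conj_eq.1 (hnorm E hE (mem_sup_left hr))
      calc _ ≤ ((E ⊔ O).map (MulAut.conj r).toMonoidHom).map (MulAut.conj t).toMonoidHom :=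
            map_mono (map_mono le_sup_left)
        _ ≤ M.map (MulAut.conj t).toMonoidHom := by rw [hr']; exact map_mono (sup_le hEM (hOT.trans hTM))
        _ = M := mem_normalizer_iff_map_conj_eq.1 (le_normalizer (hTM ht))
    intro m hm
    have hm' : m ∈ (R ⊔ O) ⊔ (T : Subgroup G) := by
      rw [sup_right_comm, hRT, top_sup_eq]; exact mem_top m
    obtain ⟨x, hx, t, ht, rfl⟩ := mem_sup_of_normal_left.mp hm'
    refine mul_mem (mem_sup_left (hmemW x hx fun E hE => ?_)) (mem_sup_right ht)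
    have hxM : x ∈ M := by simpa using mul_mem hm (inv_mem (hTM ht))
    refine hfix E hE (M ⊓ (E ⊔ O)) (inf_le_inf_right _ hTM) ?_ x (hnorm E hE hx) ?_
    · exact hM4 E hE _ (inf_le_inf_right _ hTM) inf_le_right fun h => hnoE E hE (h.trans inf_le_left)
    · exact Cfsg.Lib.Coprime.le_normalizer_inf (inf_le_left.trans le_normalizer) (inf_le_right.trans (hnorm E hE))
        (show x ∈ M ⊓ (R ⊔ O) from mem_inf.mpr ⟨hxM, hx⟩)
  have hWT : W ⊔ (T : Subgroup G) ≠ ⊤ := by
    intro h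
    obtain ⟨E, hE⟩ := hne
    obtain ⟨P, hP⟩ := exists_sylow_factor T E (hsn E hE)
    have hEn : E ≤ normalizer (M' E : Set G) := by
      intro e he
      have he' : e ∈ W ⊔ (T : Subgroup G) := h ▸ mem_top e
      obtain ⟨w, hw, t, ht, rfl⟩ := (Cfsg.Lib.Coprime.mem_sup_of_le_normalizer hTW).1 he'
      refine hWget _ (mul_mem hw (hTRW (mem_inf.mpr ⟨ht, ?_⟩))) E hE
      simpa using mul_mem (inv_mem (mem_inf.mp hw).1) (mem_sup_left (T := O) (le_sSup hE he))
    haveI : ((M' E).subgroupOf E).Normal := normal_subgroupOf_iff_le_normalizer_inf.mpr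
      ((le_inf hEn le_normalizer).trans (inf_normalizer_le_normalizer_inf (H := M' E) (K := E)))
    have h1 : (P : Subgroup E) ≤ (M' E).subgroupOf E :=
      hP ▸ fun x hx => hM1 E hE (mem_inf.mpr ⟨hx, mem_sup_left x.2⟩)
    have h2 : normalClosure ((P : Subgroup E) : Set E) ≤ (M' E).subgroupOf E := normalClosure_le_normal h1
    rw [(hmin E hE P).1, top_le_iff] at h2
    exact hM3 E hE (subgroupOf_eq_top.mp h2)
  obtain ⟨M, hM, hle⟩ := (eq_top_or_exists_le_coatom (W ⊔ (T : Subgroup G))).resolve_left hWT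
  refine ⟨M, ⟨hM, le_sup_right.trans hle⟩, fun M1 hM1' => ?_⟩
  have h1 := hcoatom M1 hM1'.1 hM1'.2
  exact ((hM1'.1.le_iff.mp (h1.trans hle)).resolve_left hM.1).symm

theorem ro_map {H : Type*} [Group H] [Finite H] (f : G →* H) (E : Subgroup G) :
    RO p (E.map f) ≤ (RO p E).map f := by
  refine ro_le_of _ _ fun x hx hc => ?_
  obtain ⟨e, he, rfl⟩ := hx
  obtain ⟨a, b, ha, hb, hab, ⟨k, hk⟩, hbc⟩ := Cfsg.Lib.Transfer.exists_pPart p e
  have hbE : b ∈ E := (zpowers_le.mpr he) hb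
  have hcomm : Commute (f e) (f b)⁻¹ := by
    obtain ⟨n, rfl⟩ := mem_zpowers_iff.mp hb
    rw [map_zpow]
    exact ((Commute.refl (f e)).zpow_right n).inv_right
  have hfa : f a = f e * (f b)⁻¹ := by rw [← hab, map_mul, mul_inv_cancel_right]
  have hco : (orderOf (f a)).Coprime p := by
    rw [hfa]
    refine Nat.Coprime.coprime_dvd_left hcomm.orderOf_mul_dvd_mul_orderOf ?_
    rw [orderOf_inv]
    exact hc.mul_left (Nat.Coprime.coprime_dvd_left (orderOf_map_dvd f b) hbc)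
  have h1 : f a = 1 := orderOf_eq_one_iff.mp (Nat.eq_one_of_dvd_coprimes
    (hco.pow_right k) dvd_rfl (hk ▸ orderOf_map_dvd f a))
  rw [← hab, map_mul, h1, one_mul]
  exact mem_map_of_mem f (mem_ro hbE hbc)

theorem isPGroup_zpowers {Γ : Type*} [Group Γ] {z : Γ} {k : ℕ} (h : z ^ p ^ k = 1) : IsPGroup p (zpowers z) := by
  rintro ⟨y, hy⟩
  obtain ⟨n, rfl⟩ := mem_zpowers_iff.mp hy
  refine ⟨k, Subtype.ext ?_⟩
  show (z ^ n) ^ p ^ k = 1
  rw [← zpow_natCast (z ^ n), ← zpow_mul, mul_comm, zpow_mul, zpow_natCast, h, one_zpow]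

/-- a commutator which commutes with a `p`-element is a `p`-element -/
theorem trick {Γ : Type*} [Group Γ] {a b : Γ} {k : ℕ} (ha : a ^ p ^ k = 1) (hc : Commute ⁅b, a⁆ a)
    (hone : IsPGroup p (zpowers ⁅b, a⁆) → ⁅b, a⁆ = 1) : Commute b a := by
  refine commutatorElement_eq_one_iff_mul_comm.mp (hone (isPGroup_zpowers (k := k) ?_))
  have h1 : ⁅b, a⁆ * a = b * a * b⁻¹ := by group
  have h2 : (b * a * b⁻¹) ^ p ^ k = 1 := by rw [conj_pow, ha, mul_one, mul_inv_cancel]
  rw [← h1, hc.mul_pow, ha, mul_one] at h2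
  exact h2

theorem irreducible (hne : 𝒦.Nonempty) (hinv : ∀ h : G, ∀ E ∈ 𝒦, E.map (MulAut.conj h).toMonoidHom ∈ 𝒦)
    (htr : ∀ E ∈ 𝒦, ∀ K ∈ 𝒦, ∃ h : G, K = E.map (MulAut.conj h).toMonoidHom)
    (hres : Cfsg.pResidual p G ≤ sSup 𝒦)
    (hnorm : ∀ E ∈ 𝒦, sSup 𝒦 ⊔ Cfsg.pCore p G ≤ normalizer ((E ⊔ Cfsg.pCore p G : Subgroup G) : Set G))
    (hstr : ∀ E ∈ 𝒦, Cfsg.IsStronglyPIrreducible p ↥E) :
    Cfsg.IsPIrreducible p G ∧ ∀ E ∈ 𝒦, ∀ K ∈ 𝒦,
      RO p (E ⊔ Cfsg.pCore p G) = RO p (K ⊔ Cfsg.pCore p G) ∨ ⁅E, K⁆ ≤ Cfsg.pCore p G := by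
  haveI hRN := normal_sSup hinv
  set O := Cfsg.pCore p G with hO
  haveI : O.Normal := Cfsg.Lib.Components.pCore_normal' p
  set R := sSup 𝒦 with hR
  set π := QuotientGroup.mk' O with hπdef
  have hπs : Function.Surjective π := QuotientGroup.mk'_surjective O
  have hπ1 : ∀ x, π x = 1 ↔ x ∈ O := fun x => QuotientGroup.eq_one_iff x
  have hker : ∀ X : Subgroup G, (X.map π).comap π = X ⊔ O := fun X => by
    rw [comap_map_eq, hπdef, QuotientGroup.ker_mk']
  have hOp := Cfsg.Lib.Components.isPGroup_pCore (G := G) p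
  have hcore : Cfsg.pCore p (G ⧸ O) = ⊥ := by
    rw [← Cfsg.Lib.PIrr.map_pCore_quotient O hOp, Subgroup.map_eq_bot_iff, QuotientGroup.ker_mk']
  haveI hXN : (R.map π).Normal := Normal.map inferInstance π hπs
  have hq : ∀ g : G ⧸ O, (orderOf g).Coprime p → g ∈ R.map π := fun g hg =>
    map_mono hres ((Cfsg.Lib.PIrr.map_pResidual_quotient (p := p) O).ge
      (Cfsg.Lib.Transfer.mem_pResidual_of_coprime hg))
  have hEX : ∀ E ∈ 𝒦, E.map π ≤ R.map π := fun E hE => map_mono (le_sSup hE)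
  have hnE : ∀ E ∈ 𝒦, R.map π ≤ normalizer (E.map π : Set (G ⧸ O)) := by
    intro E hE
    have h : (E ⊔ O).map π = E.map π := by
      rw [Subgroup.map_sup, (Subgroup.map_eq_bot_iff _).mpr (QuotientGroup.ker_mk' O).ge, sup_bot_eq]
    rw [← h]
    exact (map_mono (le_sup_left.trans (hnorm E hE))).trans (le_normalizer_map π)
  have hc : ∀ E ∈ 𝒦, ∀ Y : Subgroup (G ⧸ O), IsPGroup p Y → Y ≤ E.map π →
      E.map π ≤ normalizer (Y : Set (G ⧸ O)) → Y = ⊥ := by
    intro E hE Y hY hYE hn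
    have h1 : (E.map π).IsSubnormal := Cfsg.Lib.Components.isSubnormal_of_normal_in
      (IsSubnormal.step _ ⊤ le_top IsSubnormal.top normal_subgroupOf) (hEX E hE) (hnE E hE)
    exact le_bot_iff.mp ((Cfsg.Lib.Components.le_pCore_of_subnormal
      (Cfsg.Lib.Components.isSubnormal_of_normal_in h1 hYE hn) hY).trans hcore.le)
  have ha : ∀ E ∈ 𝒦, ∀ M : Subgroup (G ⧸ O), M ≤ E.map π → E.map π ≤ normalizer (M : Set (G ⧸ O)) →
      ⁅M, E.map π⁆ = ⊥ ∨ RO p (E.map π) ≤ M := by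
    intro E hE M hM hn
    set N := (M.comap π).subgroupOf E
    have hNn : N.Normal := by
      refine ⟨fun x hx e => ?_⟩
      show π ((e * x * e⁻¹ : E) : G) ∈ M
      rw [coe_mul, coe_mul, coe_inv, map_mul, map_mul, map_inv]
      exact (mem_normalizer_iff.mp (hn (mem_map_of_mem π e.2)) _).mp hx
    by_cases hb : ⁅N, (⊤ : Subgroup E)⁆ ≤ Cfsg.pCore p E
    · left
      have hM' : M = (N.map E.subtype).map π := by
        refine le_antisymm (fun y hy => ?_) ?_
        · obtain ⟨e, he, rfl⟩ := hM hy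
          exact ⟨e, ⟨⟨e, he⟩, hy, rfl⟩, rfl⟩
        · rintro _ ⟨_, ⟨e, he, rfl⟩, rfl⟩
          exact he
      set C := ((Cfsg.pCore p E).map E.subtype).map π
      have hC : C = ⊥ := by
        refine hc E hE C (((Cfsg.Lib.Components.isPGroup_pCore p).map _).map _) (map_mono (map_subtype_le _)) ?_
        exact (map_mono (le_normalizer.trans
          (Cfsg.Lib.GenFittingAction.le_normalizer_map_char E _))).trans (le_normalizer_map π)
      have h2 := map_mono (f := π) (map_mono (f := E.subtype) hb)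
      rw [map_commutator, map_commutator, ← hM', ← MonoidHom.range_eq_map, range_subtype] at h2
      exact le_bot_iff.mp (h2.trans hC.le)
    · right
      refine (ro_map π E).trans ?_
      have h := (hstr E hE).2 N hNn hb
      rintro _ ⟨_, ⟨e, he, rfl⟩, rfl⟩
      exact h he
  have hEbot : ∀ E ∈ 𝒦, E.map π ≠ ⊥ := by
    intro E hE h
    rw [Subgroup.map_eq_bot_iff, hπdef, QuotientGroup.ker_mk'] at h
    refine (hstr E hE).1 fun P => ?_
    have hPt : (P : Subgroup E) = ⊤ := (P.3 ((hOp.to_le h).comap_subtype.to_le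
      (fun x _ => (x.2 : (x : G) ∈ E))) le_top).symm
    rw [hPt]
    infer_instance
  have hgen : ∀ E ∈ 𝒦, E.map π ≤ closure {a | a ∈ E.map π ∧ ∃ k, a ^ p ^ k = 1} := by
    intro E hE
    set Ē := E.map π
    set W := closure {a | a ∈ Ē ∧ ∃ k, a ^ p ^ k = 1}
    have hW : W ≤ Ē := (closure_le Ē).mpr fun a h => h.1
    have hWn : Ē ≤ normalizer (W : Set (G ⧸ O)) := by
      intro e he
      rw [mem_normalizer_iff_map_conj_eq]
      refine Subgroup.eq_of_le_of_card_ge ?_ (Cfsg.Lib.Transfer.card_map_conj W e).ge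
      rw [MonoidHom.map_closure, closure_le]
      rintro _ ⟨a, ⟨haE, k, hk⟩, rfl⟩
      refine subset_closure ⟨mul_mem (mul_mem he haE) (inv_mem he), k, ?_⟩
      show (e * a * e⁻¹) ^ p ^ k = 1
      rw [conj_pow, hk, mul_one, mul_inv_cancel]
    obtain ⟨S⟩ : Nonempty (Sylow p Ē) := inferInstance
    have hSW : (S : Subgroup Ē).map Ē.subtype ≤ W := by
      rintro _ ⟨a, ha', rfl⟩
      obtain ⟨k, hk⟩ := S.2 ⟨a, ha'⟩
      refine subset_closure ⟨a.2, k, ?_⟩
      have h := congrArg (fun z : (S : Subgroup Ē) => ((z : Ē) : G ⧸ O)) hk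
      simpa using h
    have hROS : Ē = RO p Ē ⊔ (S : Subgroup Ē).map Ē.subtype := by
      have := congrArg (Subgroup.map Ē.subtype) (Cfsg.Lib.Transfer.pResidual_sup_sylow S)
      rw [Subgroup.map_sup, ← MonoidHom.range_eq_map, range_subtype] at this
      exact this.symm
    rcases ha E hE W hW hWn with h | h
    · exfalso
      obtain ⟨P⟩ : Nonempty (Sylow p E) := inferInstance
      refine (hstr E hE).1 ((Cfsg.Lib.PIrr.isPClosed_top_iff P).2 fun x hx => ?_)
      have h3 : ((P : Subgroup E).map E.subtype).map π ≤ W := by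
        rintro _ ⟨_, ⟨a, ha', rfl⟩, rfl⟩
        obtain ⟨k, hk⟩ := P.2 ⟨a, ha'⟩
        refine subset_closure ⟨mem_map_of_mem π a.2, k, ?_⟩
        have h' : (a : G) ^ p ^ k = 1 := by simpa using congrArg (fun z : (P : Subgroup E) => ((z : E) : G)) hk
        rw [← map_pow, Subgroup.subtype_apply, h', map_one]
      have h4 : ((P : Subgroup E).map E.subtype).map π = ⊥ :=
        hc E hE _ ((P.2.map _).map _) (h3.trans hW) (((commutator_eq_bot_iff_le_centralizer.mp
          ((commutator_comm _ _).trans h)).trans (centralizer_le (SetLike.coe_subset_coe.mpr h3))).trans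
          (centralizer_le_normalizer _))
      rw [Subgroup.map_eq_bot_iff, hπdef, QuotientGroup.ker_mk'] at h4
      haveI : (O.subgroupOf E).Normal := normal_subgroupOf
      exact Cfsg.Lib.Components.le_pCore (N := O.subgroupOf E) hOp.comap_subtype (h4 ⟨x, hx, rfl⟩)
    · conv_lhs => rw [hROS]
      exact sup_le h hSW
  have hcentral : ∀ E ∈ 𝒦, ∀ B : Subgroup (G ⧸ O),
      (∀ b ∈ B, ∀ a ∈ E.map π, ⁅b, a⁆ ∈ E.map π ∧ ∀ e ∈ E.map π, Commute ⁅b, a⁆ e) →
      B ≤ centralizer (E.map π : Set (G ⧸ O)) := by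
    intro E hE B h b hb
    have hle : E.map π ≤ centralizer ({b} : Set (G ⧸ O)) := (hgen E hE).trans ((closure_le _).mpr ?_)
    · exact mem_centralizer_iff.mpr fun e he => mem_centralizer_singleton_iff.mp (hle he)
    rintro a ⟨haE, k, hk⟩
    obtain ⟨hzE, hzc⟩ := h b hb a haE
    refine mem_centralizer_singleton_iff.mpr (trick hk (hzc a haE) fun hz => ?_).symm.eq
    refine zpowers_eq_bot.mp (hc E hE _ hz (zpowers_le.mpr hzE) ?_)
    refine le_trans (fun e he => ?_) (centralizer_le_normalizer _)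
    rw [mem_centralizer_iff]
    intro y hy
    obtain ⟨n, rfl⟩ := mem_zpowers_iff.mp hy
    exact ((hzc e he).zpow_left n).eq
  have hbar : ∀ E ∈ 𝒦, ∀ K ∈ 𝒦, RO p (E.map π) ≤ K.map π →
      RO p (E ⊔ O) = RO p (K ⊔ O) := by
    intro E hE K hK h
    have h1 : RO p (E ⊔ O) ≤ RO p (K ⊔ O) := by
      refine ro_le_of _ _ fun x hx hxc => mem_ro ?_ hxc
      have hx' : π x ∈ E.map π := (hker E).ge hx
      exact (hker K).le (h (mem_ro hx' (Nat.Coprime.coprime_dvd_left (orderOf_map_dvd π x) hxc)))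
    refine Subgroup.eq_of_le_of_card_ge h1 ?_
    obtain ⟨g, rfl⟩ := htr E hE K hK
    have hg : E.map (MulAut.conj g).toMonoidHom ⊔ O = (E ⊔ O).map (MulAut.conj g).toMonoidHom := by
      rw [Subgroup.map_sup]
      exact congrArg _ (mem_normalizer_iff_map_conj_eq.1 ((normalizer_eq_top_iff.2 (inferInstance : O.Normal)).ge (mem_top g))).symm
    rw [hg]
    exact (Subgroup.card_le_of_le (ro_map _ _)).trans (Cfsg.Lib.Transfer.card_map_conj _ g).le
  refine ⟨⟨fun hcl => ?_, fun N hN hNc => ?_⟩, fun E hE K hK => ?_⟩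
  · -- not `p`-closed
    obtain ⟨E, hE⟩ := hne
    obtain ⟨T⟩ : Nonempty (Sylow p G) := inferInstance
    have hT := (Cfsg.Lib.PIrr.isPClosed_top_iff T).1 hcl
    refine hEbot E hE (le_bot_iff.mp ((hgen E hE).trans ((closure_le _).mpr ?_)))
    rintro a ⟨-, k, hk⟩
    obtain ⟨S, hS⟩ := (isPGroup_zpowers (Γ := G ⧸ O) hk).exists_le_sylow
    have hSeq : (S : Subgroup (G ⧸ O)) ≤ Cfsg.pCore p (G ⧸ O) := by
      refine (Cfsg.Lib.PIrr.isPClosed_top_iff S).1 ((Cfsg.Lib.PIrr.isPClosed_top_iff (T.mapSurjective hπs)).2 ?_)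
      rw [← Cfsg.Lib.PIrr.map_pCore_quotient O hOp]
      exact map_mono hT
    exact mem_bot.mpr (mem_bot.mp (hcore.le (hSeq (hS (mem_zpowers a)))))
  · -- the normal subgroups which are not `p`-closed
    haveI := hN
    obtain ⟨T⟩ : Nonempty (Sylow p G) := inferInstance
    set N' := N.map π
    haveI hN'n : N'.Normal := Normal.map inferInstance π hπs
    by_cases hcase : ∃ E ∈ 𝒦, RO p (E.map π) ≤ N'
    · obtain ⟨E, hE, hEN⟩ := hcase
      refine Cfsg.Lib.PIrr.pResidual_le_of_le_sup T.2 (hres.trans (sSup_le fun K hK => ?_))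
      obtain ⟨P, hP⟩ := exists_sylow_factor T K (subnormal_factor hinv hnorm hK)
      have hKN : RO p (K.map π) ≤ N' := by
        obtain ⟨g, rfl⟩ := htr E hE K hK
        have hcomp : (E.map (MulAut.conj g).toMonoidHom).map π = (E.map π).map (MulAut.conj (π g)).toMonoidHom := by
          rw [Subgroup.map_map, Subgroup.map_map]
          congr 1
        rw [hcomp]
        refine (ro_map _ _).trans ((map_mono hEN).trans ?_)
        rintro _ ⟨y, hy, rfl⟩
        exact hN'n.conj_mem y hy _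
      have hKd := congrArg (Subgroup.map K.subtype) (Cfsg.Lib.Transfer.pResidual_sup_sylow P)
      rw [Subgroup.map_sup, ← MonoidHom.range_eq_map, range_subtype] at hKd
      rw [← hKd, hP, subgroupOf_map_subtype]
      refine sup_le ?_ (inf_le_left.trans le_sup_right)
      refine (ro_le_of (p := p) K ((N ⊔ O)) fun x hx hxc => ?_).trans
        (sup_le_sup_left (Cfsg.Lib.Coprime.pCore_le_sylow p T) N)
      exact (hker N).le (hKN (mem_ro (mem_map_of_mem π hx) (Nat.Coprime.coprime_dvd_left (orderOf_map_dvd π x) hxc)))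
    · exfalso
      apply hNc
      push Not at hcase
      have hNX : N' ⊓ R.map π ≤ centralizer (R.map π : Set (G ⧸ O)) := by
        have hE : ∀ E ∈ 𝒦, N' ⊓ R.map π ≤ centralizer (E.map π : Set (G ⧸ O)) := by
          intro E hE
          refine hcentral E hE _ fun b hb a haE => ?_
          obtain ⟨hbN, hbX⟩ := mem_inf.mp hb
          have hzE : ⁅b, a⁆ ∈ E.map π := by
            rw [commutatorElement_def]
            exact mul_mem ((mem_normalizer_iff.mp (hnE E hE hbX) a).mp haE) (inv_mem haE)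
          have hzN : ⁅b, a⁆ ∈ N' := by
            rw [show ⁅b, a⁆ = b * (a * b⁻¹ * a⁻¹) by group]
            exact mul_mem hbN (hN'n.conj_mem _ (inv_mem hbN) a)
          refine ⟨hzE, fun e he => ?_⟩
          have h1 : ⁅E.map π ⊓ N', E.map π⁆ = ⊥ := (ha E hE _ inf_le_left
            ((le_inf le_normalizer ((le_top).trans (normalizer_eq_top_iff.2 hN'n).ge)).trans
              inf_normalizer_le_normalizer_inf)).resolve_right
            fun h => hcase E hE (h.trans inf_le_right)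
          exact commutatorElement_eq_one_iff_commute.mp
            (mem_bot.mp (h1 ▸ commutator_mem_commutator (mem_inf.mpr ⟨hzE, hzN⟩) he))
        rw [le_centralizer_iff]
        conv_lhs => rw [hR, (gc_map_comap π).l_sSup]
        refine iSup₂_le fun E hE' => le_centralizer_iff.mp (hE E hE')
      refine (Cfsg.Lib.PIrr.isPClosed_iff T).2 fun t ht => ?_
      obtain ⟨htT, htN⟩ := mem_inf.mp ht
      obtain ⟨k, hk⟩ := T.2 ⟨t, htT⟩
      have hk' : π t ^ p ^ k = 1 := by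
        rw [← map_pow, show t ^ p ^ k = 1 from congrArg Subtype.val hk, map_one]
      have htc : π t ∈ centralizer (R.map π : Set (G ⧸ O)) := by
        have hX : R.map π ≤ centralizer ({π t} : Set (G ⧸ O)) := by
          rw [hR, (gc_map_comap π).l_sSup]
          refine iSup₂_le fun E hE => (hgen E hE).trans ((closure_le _).mpr ?_)
          rintro a ⟨haE, j, hj⟩
          have hzN : ⁅π t, a⁆ ∈ N' := by
            rw [show ⁅π t, a⁆ = π t * (a * (π t)⁻¹ * a⁻¹) by group]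
            exact mul_mem (mem_map_of_mem π htN) (hN'n.conj_mem _ (inv_mem (mem_map_of_mem π htN)) a)
          have hzX : ⁅π t, a⁆ ∈ R.map π := by
            rw [commutatorElement_def]
            exact mul_mem (hXN.conj_mem a (hEX E hE haE) (π t)) (inv_mem (hEX E hE haE))
          have hzc := hNX (mem_inf.mpr ⟨hzN, hzX⟩)
          refine mem_centralizer_singleton_iff.mpr (trick hj (mem_centralizer_iff.mp hzc a (hEX E hE haE)).symm
            fun hz => ?_).symm.eq
          exact zpowers_eq_bot.mp (Cfsg.Lib.WPerfect.no_p_centralizing hcore hq hz (zpowers_le.mpr hzc))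
        exact mem_centralizer_iff.mpr fun e he => mem_centralizer_singleton_iff.mp (hX he)
      exact (hπ1 t).mp (zpowers_eq_bot.mp
        (Cfsg.Lib.WPerfect.no_p_centralizing hcore hq (isPGroup_zpowers hk') (zpowers_le.mpr htc)))
  · -- pairs
    set D := E.map π ⊓ K.map π
    have hn : E.map π ≤ normalizer (D : Set (G ⧸ O)) :=
      (le_inf le_normalizer ((hEX E hE).trans (hnE K hK))).trans inf_normalizer_le_normalizer_inf
    rcases ha E hE D inf_le_left hn with h | h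
    · right
      have hcE : K.map π ≤ centralizer (E.map π : Set (G ⧸ O)) := by
        refine hcentral E hE _ fun b hb a haE => ?_
        have hzE : ⁅b, a⁆ ∈ E.map π := by
          rw [commutatorElement_def]
          exact mul_mem ((mem_normalizer_iff.mp (hnE E hE (hEX K hK hb)) a).mp haE) (inv_mem haE)
        have hzK : ⁅b, a⁆ ∈ K.map π := by
          rw [show ⁅b, a⁆ = b * (a * b⁻¹ * a⁻¹) by group]
          exact mul_mem hb ((mem_normalizer_iff.mp (hnE K hK (hEX E hE haE)) _).mp (inv_mem hb))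
        exact ⟨hzE, fun e he => commutatorElement_eq_one_iff_commute.mp
          (mem_bot.mp (h ▸ commutator_mem_commutator (mem_inf.mpr ⟨hzE, hzK⟩) he))⟩
      have h2 : (⁅E, K⁆).map π = ⊥ := by
        rw [Subgroup.map_commutator, commutator_eq_bot_iff_le_centralizer]
        exact le_centralizer_iff.mp hcE
      rw [Subgroup.map_eq_bot_iff, hπdef, QuotientGroup.ker_mk'] at h2
      exact h2
    · exact Or.inl (hbar E hE K hK (h.trans inf_le_right))

end Cfsg.Lib.PTransitive
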