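import Cfsg.Agent.Blocks.Isometry
import Cfsg.Agent.Blocks.Feit3
import Cfsg.Agent.Blocks.FongFullDefect
import Cfsg.Agent.Chars.Sums
import Cfsg.Agent.Chars.Values
import Cfsg.Agent.Components.PComponents
import Cfsg.Agent.Coprime.Fitting
import Cfsg.Agent.PLocal.Constrained
import Mathlib

/-!
No simple group has an elementary abelian Sylow `p`-subgroup (`p` odd) with all nontrivial elements conjugate,
centralisers with normal `p`-complements and all pairs of elements of order `p` generating a `p`-solvable subgroup.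
-/

set_option autoImplicit false
set_option linter.unusedSectionVars false
set_option linter.style.haveILetI false

namespace Cfsg.Lib.PairwisePSolvable

open Cfsg Cfsg.Lib.Chars Cfsg.Lib.Blocks
open scoped ComplexConjugate

universe u

variable {G : Type u} [Group G] [Finite G] {p : ℕ} [Fact p.Prime]

/-- Two elements of order `p` generating a `p`-solvable group generate a `p`-nilpotent one. -/
theorem pair_step {x y : G} (hx : orderOf x = p) (hy : orderOf y = p) (k : ℕ)
    (hab : ∀ Q : Subgroup G, IsPGroup p Q → ∀ a ∈ Q, ∀ b ∈ Q, a * b = b * a)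
    (hs : IsPSolvable p ↥(Subgroup.closure ({x, y} : Set G)))
    (h1 : ¬ p ∣ orderOf (x * y)) (h2 : ¬ p ∣ orderOf (x * y ^ k)) : k % p = 1 := by
  have hp := (Fact.out : p.Prime)
  set H := Subgroup.closure ({x, y} : Set G) with hH
  let xH : H := ⟨x, Subgroup.subset_closure (Set.mem_insert _ _)⟩
  let yH : H := ⟨y, Subgroup.subset_closure (Set.mem_insert_of_mem _ rfl)⟩
  let π := QuotientGroup.mk' (pPrimeCore p H)
  have hπ : Function.Surjective π := QuotientGroup.mk'_surjective _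
  have hsol : IsPSolvable p (H ⧸ pPrimeCore p H) := Cfsg.Lib.Constraint.isPSolvable_of_surjective hπ hs
  have hC := Cfsg.Lib.Blocks.centralizer_pCore_le_of_isPSolvable p hsol Cfsg.Lib.Components.pPrimeCore_quotient_eq_bot
  -- every Sylow subgroup of the quotient is the core
  have hsyl : ∀ S : Sylow p (H ⧸ pPrimeCore p H), (S : Subgroup (H ⧸ pPrimeCore p H)) ≤ pCore p _ := by
    intro S
    obtain ⟨S₀, rfl⟩ := Sylow.mapSurjective_surjective hπ p S
    rintro _ ⟨a, ha, rfl⟩
    refine hC ?_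
    rw [Subgroup.mem_centralizer_iff]
    intro b hb
    obtain ⟨b, hb', rfl⟩ := Cfsg.Lib.Coprime.pCore_le_sylow p (S₀.mapSurjective hπ) hb
    rw [← map_mul, ← map_mul]
    refine congrArg π (Subtype.ext ?_)
    exact hab ((S₀ : Subgroup H).map H.subtype) (S₀.isPGroup'.map _) b ⟨b, hb', rfl⟩ a ⟨a, ha, rfl⟩
  have hmem : ∀ a : H, orderOf (a : G) = p → π a ∈ pCore p (H ⧸ pPrimeCore p H) := by
    intro a ha
    have hpa : IsPGroup p (Subgroup.zpowers (π a)) := by
      obtain ⟨j, -, hj⟩ := (Nat.dvd_prime_pow hp).mp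
        (show orderOf (π a) ∣ p ^ 1 from (orderOf_map_dvd π a).trans
          (dvd_of_eq ((Subgroup.orderOf_coe a).symm.trans (ha.trans (pow_one p).symm))))
      exact IsPGroup.of_card (n := j) (by rw [Nat.card_zpowers, hj])
    obtain ⟨S, hS⟩ := hpa.exists_le_sylow
    exact hsyl S (hS (Subgroup.mem_zpowers _))
  have hgrp : ∀ a : H, π a ∈ pCore p (H ⧸ pPrimeCore p H) := by
    intro a
    obtain ⟨a, ha⟩ := a
    refine Subgroup.closure_induction (p := fun b hb => π ⟨b, hb⟩ ∈ pCore p _) ?_ ?_ ?_ ?_ ha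
    · intro b hb
      rcases hb with rfl | rfl
      · exact hmem xH hx
      · exact hmem yH hy
    · exact map_one π ▸ Subgroup.one_mem _
    · intro b c hb hc hb' hc'
      show π (⟨b, hb⟩ * ⟨c, hc⟩) ∈ _
      rw [map_mul]; exact Subgroup.mul_mem _ hb' hc'
    · intro b hb hb'
      show π (⟨b, hb⟩⁻¹) ∈ _
      rw [map_inv]; exact Subgroup.inv_mem _ hb'
  have hreg : ∀ a : H, ¬ p ∣ orderOf (a : G) → π a = 1 := by
    intro a ha
    obtain ⟨j, hj'⟩ := Cfsg.Lib.Components.isPGroup_pCore (G := H ⧸ pPrimeCore p H) p ⟨π a, hgrp a⟩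
    have hj : (π a) ^ p ^ j = 1 := congrArg Subtype.val hj'
    rw [← orderOf_eq_one_iff]
    refine Nat.eq_one_of_dvd_coprimes (((hp.coprime_iff_not_dvd).2 ha).pow_left j)
      (orderOf_dvd_of_pow_eq_one hj) ?_
    rw [Subgroup.orderOf_coe]
    exact orderOf_map_dvd π a
  have hx1 : π xH ≠ 1 := by
    intro h
    have hxK : xH ∈ pPrimeCore p H := (QuotientGroup.eq_one_iff _).mp h
    have := Nat.Coprime.coprime_dvd_left
      (show orderOf xH ∣ Nat.card (pPrimeCore p H) by
        rw [← Subgroup.orderOf_mk _ hxK]; exact orderOf_dvd_natCard _)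
      (Cfsg.Lib.Components.coprime_card_pPrimeCore p)
    rw [← Subgroup.orderOf_coe, show ((xH : H) : G) = x from rfl, hx] at this
    exact hp.ne_one ((Nat.coprime_self p).mp this)
  have hox : orderOf (π xH) = p := by
    refine ((Nat.dvd_prime hp).mp ?_).resolve_left (by rwa [orderOf_eq_one_iff])
    exact (orderOf_map_dvd π xH).trans (dvd_of_eq ((Subgroup.orderOf_coe xH).symm.trans hx))
  have e1 := hreg (xH * yH) h1
  have e2 := hreg (xH * yH ^ k) h2
  rw [map_mul] at e1 e2
  rw [map_pow, eq_inv_of_mul_eq_one_right e1, inv_pow, mul_inv_eq_one] at e2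
  have := pow_eq_pow_iff_modEq.mp (show π xH ^ k = π xH ^ 1 by rw [pow_one]; exact e2.symm)
  rw [hox] at this
  unfold Nat.ModEq at this
  rwa [Nat.mod_eq_of_lt hp.one_lt] at this

/-- The data of the situation. -/
theorem main [IsSimpleGroup G] (hG : ¬ IsMulCommutative G) (P : Sylow p G) (hP1 : (P : Subgroup G) ≠ ⊥)
    (hPe : IsElementaryAbelian p (P : Subgroup G))
    (hconj : ∀ x ∈ (P : Subgroup G), ∀ y ∈ (P : Subgroup G), x ≠ 1 → y ≠ 1 → ∃ g : G, g * x * g⁻¹ = y)
    (hb : ∀ x ∈ (P : Subgroup G), orderOf x = p → HasNormalPComplement p ↥(Subgroup.centralizer ({x} : Set G)))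
    (hc : ∀ x y : G, orderOf x = p → orderOf y = p → IsPSolvable p ↥(Subgroup.closure ({x, y} : Set G))) :
    p = 2 := by
  classical
  have hp := (Fact.out : p.Prime)
  by_contra hp2
  have hp3 : 3 ≤ p := lt_of_le_of_ne hp.two_le (Ne.symm hp2)
  letI : Fintype G := Fintype.ofFinite G
  obtain ⟨M, hM⟩ := Cfsg.Lib.Blocks.exists_isPModular hp
  have hab : ∀ Q : Subgroup G, IsPGroup p Q → ∀ a ∈ Q, ∀ b ∈ Q, a * b = b * a := by
    intro Q hQ a ha b hb'
    obtain ⟨S, hS⟩ := hQ.exists_le_sylow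
    obtain ⟨g, hg⟩ := MulAction.exists_smul_eq G S P
    have hmem : ∀ c ∈ (S : Subgroup G), g * c * g⁻¹ ∈ (P : Subgroup G) := fun c hc' => by
      rw [← hg, Sylow.coe_subgroup_smul]
      exact Subgroup.smul_mem_pointwise_smul c (MulAut.conj g) _ hc'
    have := congrArg Subtype.val
      (hPe.1.1.comm ⟨_, hmem a (hS ha)⟩ ⟨_, hmem b (hS hb')⟩)
    have e : g * (a * b) * g⁻¹ = g * (b * a) * g⁻¹ := by
      simpa [mul_assoc] using this
    simpa using e
  obtain ⟨⟨x, hxP⟩, hxne⟩ := (Subgroup.ne_bot_iff_exists_ne_one).mp hP1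
  have hx1 : x ≠ 1 := fun h => hxne (Subtype.ext h)
  have hx : orderOf x = p := orderOf_eq_prime (hPe.2 x hxP) hx1
  -- all nontrivial `p`-elements are conjugate
  have hall : ∀ u : G, u ≠ 1 → (∃ k, orderOf u = p ^ k) → IsConj x u := by
    rintro u hu ⟨k, hk⟩
    have hup : IsPGroup p (Subgroup.zpowers u) := IsPGroup.of_card (n := k) (by rw [Nat.card_zpowers, hk])
    obtain ⟨S, hS⟩ := hup.exists_le_sylow
    obtain ⟨g, hg⟩ := MulAction.exists_smul_eq G S P
    have hgu : g * u * g⁻¹ ∈ (P : Subgroup G) := by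
      rw [← hg, Sylow.coe_subgroup_smul]
      exact Subgroup.smul_mem_pointwise_smul u (MulAut.conj g) _ (hS (Subgroup.mem_zpowers u))
    obtain ⟨h, hh⟩ := hconj x hxP _ hgu hx1 (by simpa using hu)
    refine isConj_iff.mpr ⟨g⁻¹ * h, ?_⟩
    calc g⁻¹ * h * x * (g⁻¹ * h)⁻¹ = g⁻¹ * (h * x * h⁻¹) * g := by group
      _ = u := by rw [hh]; group
  have hord : ∀ u : G, IsConj x u → orderOf u = p := by
    intro u hu
    obtain ⟨g, rfl⟩ := isConj_iff.mp hu
    rw [show g * x * g⁻¹ = MulAut.conj g x from rfl,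
      MulEquiv.orderOf_eq, hx]
  set q := Nat.card (P : Subgroup G) with hq
  have hqp : p ≤ q := by
    rw [← hx, ← Nat.card_zpowers]
    exact Subgroup.card_le_of_le (Subgroup.zpowers_le.mpr hxP)
  -- the centraliser of `x`
  set C := Subgroup.centralizer ({x} : Set G) with hC
  letI : Fintype C := Fintype.ofFinite C
  obtain ⟨Q, N, hNn, hNQ⟩ := hb x hxP hx
  haveI := hNn
  have hPC : (P : Subgroup G) ≤ C := fun a ha =>
    Subgroup.mem_centralizer_singleton_iff.mpr (hab _ P.isPGroup' a ha x hxP)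
  have hNidx : N.index = q := by
    rw [Subgroup.IsComplement'.index_eq_card hNQ.symm]
    refine le_antisymm ?_ ?_
    · obtain ⟨S, hS⟩ := (Q.isPGroup'.map C.subtype).exists_le_sylow
      have := Subgroup.card_le_of_le hS
      rw [Subgroup.card_map_of_injective C.subtype_injective] at this
      refine this.trans (le_of_eq ?_)
      rw [hq, S.card_eq_multiplicity, P.card_eq_multiplicity]
    · obtain ⟨S, hS⟩ := (P.isPGroup'.comap_of_injective C.subtype C.subtype_injective).exists_le_sylow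
      have h1 : q = Nat.card ((P : Subgroup G).comap C.subtype) := by
        rw [hq, ← Subgroup.card_map_of_injective C.subtype_injective,
          Subgroup.map_comap_eq, Subgroup.range_subtype, inf_eq_right.mpr hPC]
      have h2 := Subgroup.card_le_of_le hS
      rw [← h1] at h2
      refine h2.trans (le_of_eq ?_)
      rw [S.card_eq_multiplicity, Q.card_eq_multiplicity]
  have hNp : ¬ p ∣ Nat.card N := by
    rw [← Subgroup.IsComplement'.index_eq_card hNQ]
    exact Q.not_dvd_index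
  obtain ⟨e, he⟩ : ∃ e, N.index = p ^ e := by
    rw [hNidx, hq]; exact ⟨_, P.card_eq_multiplicity⟩
  set B := principalBlock M G with hBdef
  have hB : IsPBlock M B := isPBlock_blockOf (principal G)
  have hxk : ∃ k : ℕ, orderOf x = p ^ k := ⟨1, by rw [pow_one, hx]⟩
  have hH : C = Subgroup.centralizer (Subgroup.zpowers x : Set G) := (centralizer_zpowers x).symm
  let f : G → ℂ := fun z => colKer B z x
  have hsec : ∀ c : C, ¬ p ∣ orderOf c → f (x * c) = (q : ℂ) := by
    intro c hc'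
    have h1 : ¬ p ∣ orderOf (1 : C) := by rw [orderOf_one]; exact hp.not_dvd_one
    have h := colKer_section hM hxk hH hB hc' h1
    rw [filter_induced_principal hM hxk hH, Finset.sum_singleton, OneMemClass.coe_one, mul_one] at h
    show colKer B (x * c) x = _
    rw [h, colKer_eq, ← hNidx, ← sum_sq_trivial_on N]
    refine Finset.sum_congr ?_ fun ψ hψ => ?_
    · ext ψ
      simp only [Finset.mem_filter, Finset.mem_univ, true_and]
      exact mem_principalBlock_iff hM N hNp he ψ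
    · rw [(Finset.mem_filter.mp hψ).2 c (mem_of_pRegular_of_index_eq_pow hp N he hc'),
        irr_apply_one_eq_deg, Complex.conj_natCast]
  have hfcl : ∀ z g : G, f (g * z * g⁻¹) = f z := fun z g => by
    show colKer B _ x = colKer B z x
    rw [← conj_colKer, colKer_conj_right, conj_colKer]
  have hf0 : ∀ z : G, ¬ p ∣ orderOf z → f z = 0 := fun z hz => by
    show colKer B z x = 0
    rw [colKer_eq]
    exact block_orthogonality_regular hM hB hz (hx ▸ dvd_refl p)
  have hf1 : ∀ z : G, p ∣ orderOf z → f z = (q : ℂ) := by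
    intro z hz
    obtain ⟨u, hu⟩ := exists_isPPart' hp z
    have hu1 : u ≠ 1 := fun h => (isPPart_one_iff hp).mp (h ▸ hu) hz
    obtain ⟨c, hcz, hcomm, hupow, hcreg⟩ := hu
    obtain ⟨g, hg⟩ := isConj_iff.mp (hall u hu1 hupow).symm
    have hmem : g * c * g⁻¹ ∈ C := by
      rw [hC, Subgroup.mem_centralizer_singleton_iff, ← hg]
      calc g * c * g⁻¹ * (g * u * g⁻¹) = g * (c * u) * g⁻¹ := by group
        _ = g * (u * c) * g⁻¹ := by rw [hcomm.eq]
        _ = g * u * g⁻¹ * (g * c * g⁻¹) := by group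
    rw [← hfcl z g, show g * z * g⁻¹ = x * (⟨_, hmem⟩ : C) by rw [← hcz, ← hg]; group]
    refine hsec _ ?_
    rw [← Subgroup.orderOf_coe, show (((⟨_, hmem⟩ : C)) : G) = MulAut.conj g c from rfl,
      MulEquiv.orderOf_eq]
    exact hcreg
  -- the values at `x`
  have hint : ∀ χ : IrrCharacter G, ∃ z : ℤ, (χ : G → ℂ) x = (z : ℂ) ∧
      (χ ≠ principal G → z + (q : ℤ) ≤ (deg (χ : G → ℂ) : ℤ)) := by
    intro χ
    have hcl := isClassFunction_irr χ
    letI : Fintype (P : Subgroup G) := Fintype.ofFinite _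
    obtain ⟨n, hn⟩ := IsCharacter.exists_mult (IsCharacter.restrict (isCharacter_of_irr χ.2) (P : Subgroup G))
      (isIrrCharacter_one (G := (P : Subgroup G)))
    rw [classInner_def] at hn
    simp only [map_one, mul_one] at hn
    rw [← hq] at hn
    rw [inv_mul_eq_iff_eq_mul₀ (by rw [hq]; exact Nat.cast_ne_zero.2 Nat.card_pos.ne'),
      ← Finset.add_sum_erase _ _ (Finset.mem_univ (1 : (P : Subgroup G))),
      Finset.sum_congr rfl fun (u : (P : Subgroup G)) hu => show (χ : G → ℂ) (u : G) = (χ : G → ℂ) x by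
        obtain ⟨g, hg⟩ := hconj x hxP u u.2 hx1 (fun h => (Finset.mem_erase.mp hu).1 (Subtype.ext h))
        rw [← hg]; exact hcl x g,
      Finset.sum_const, Finset.card_erase_of_mem (Finset.mem_univ _), Finset.card_univ,
      ← Nat.card_eq_fintype_card, ← hq, nsmul_eq_mul, OneMemClass.coe_one, irr_apply_one_eq_deg,
      Nat.cast_sub (le_trans (le_trans hp.one_lt.le hqp) le_rfl)] at hn
    have hq1 : ((q : ℚ) - 1) ≠ 0 := by
      have : (3 : ℚ) ≤ q := by exact_mod_cast hp3.trans hqp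
      linarith
    have hval : (χ : G → ℂ) x = (((q * n - deg (χ : G → ℂ)) / (q - 1) : ℚ) : ℂ) := by
      have hq1' : ((q : ℂ) - 1) ≠ 0 := by
        intro h
        apply hq1
        exact_mod_cast h
      push_cast at hn ⊢
      rw [eq_div_iff hq1']
      linear_combination hn
    obtain ⟨z, hz⟩ := int_of_isIntegral_rat (hval ▸ IsCharacter.isIntegral (isCharacter_of_irr χ.2) x)
    refine ⟨z, by rw [hval, hz, Rat.cast_intCast], fun hne => ?_⟩
    have heq : (deg (χ : G → ℂ) : ℤ) - z = q * ((n : ℤ) - z) := by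
      rw [div_eq_iff hq1] at hz
      have : ((deg (χ : G → ℂ) : ℤ) : ℚ) - z = (q : ℚ) * ((n : ℚ) - z) := by
        push_cast
        linear_combination -hz
      exact_mod_cast this
    have hnorm := IsCharacter.norm_le (isCharacter_of_irr χ.2) x
    rw [show (χ : G → ℂ) x = (z : ℂ) by rw [hval, hz, Rat.cast_intCast], Complex.norm_intCast] at hnorm
    have hzle : z ≤ (deg (χ : G → ℂ) : ℤ) := by
      have h1 : (z : ℝ) ≤ ((χ : G → ℂ) 1).re := (le_abs_self _).trans hnorm
      rw [irr_apply_one_eq_deg, Complex.natCast_re] at h1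
      exact_mod_cast h1
    have hzne : z ≠ (deg (χ : G → ℂ) : ℤ) := by
      intro h
      have hxker : x ∈ kerSubgroup (χ : G → ℂ) (isCharacter_of_irr χ.2) := by
        rw [mem_kerSubgroup, hval, hz, Rat.cast_intCast, h, irr_apply_one_eq_deg, Int.cast_natCast]
      rcases (kerSubgroup_normal (isCharacter_of_irr χ.2)).eq_bot_or_eq_top with hk | hk
      · exact hx1 (by rwa [hk, Subgroup.mem_bot] at hxker)
      · have hconst : ∀ a, (χ : G → ℂ) a = (deg (χ : G → ℂ) : ℂ) := fun a =>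
          ((mem_kerSubgroup (isCharacter_of_irr χ.2) a).mp (hk ▸ Subgroup.mem_top a)).trans (irr_apply_one_eq_deg χ)
        have h1 := classInner_irr_self χ
        rw [classInner_def] at h1
        simp only [hconst, Complex.conj_natCast, Finset.sum_const, Finset.card_univ, nsmul_eq_mul,
          ← Nat.card_eq_fintype_card] at h1
        rw [inv_mul_cancel_left₀ (Nat.cast_ne_zero.2 Nat.card_pos.ne')] at h1
        have h2 : deg (χ : G → ℂ) * deg (χ : G → ℂ) = 1 := by exact_mod_cast h1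
        refine hne (Subtype.ext (funext fun a => ?_))
        rw [hconst a, (mul_eq_one.mp h2).1]
        simp [principal]
    have hnz : 1 ≤ (n : ℤ) - z := by
      by_contra hlt
      push Not at hlt
      nlinarith [heq, hzle, hzne, lt_of_le_of_ne hzle hzne]
    nlinarith [heq, hnz]
  choose z hzval hzdeg using hint
  -- the two column relations
  set s := Finset.univ.filter (· ∈ B) with hs
  have hsum2 : ∑ χ ∈ s, (z χ : ℝ) ^ 2 = q := by
    have h := hsec 1 (by rw [orderOf_one]; exact hp.not_dvd_one)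
    simp only [f, OneMemClass.coe_one, mul_one, colKer_eq, hzval, map_intCast] at h
    have : ((∑ χ ∈ s, (z χ : ℝ) ^ 2 : ℝ) : ℂ) = ((q : ℝ) : ℂ) := by
      push_cast
      rw [← h]
      exact Finset.sum_congr rfl fun χ _ => pow_two _
    exact_mod_cast this
  have hsum1 : ∑ χ ∈ s, (z χ : ℝ) * (deg (χ : G → ℂ) : ℝ) = 0 := by
    have h := hf0 1 (by rw [orderOf_one]; exact hp.not_dvd_one)
    simp only [f, colKer_eq, hzval, map_intCast, irr_apply_one_eq_deg] at h
    have : ((∑ χ ∈ s, (z χ : ℝ) * (deg (χ : G → ℂ) : ℝ) : ℝ) : ℂ) = 0 := by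
      push_cast
      rw [← h]
      exact Finset.sum_congr rfl fun χ _ => mul_comm _ _
    exact_mod_cast this
  have hprinc : principal G ∈ s := Finset.mem_filter.mpr ⟨Finset.mem_univ _, mem_blockOf_self hM (principal G)⟩
  have hz1 : z (principal G) = 1 := by
    have := hzval (principal G)
    simp only [principal] at this
    exact_mod_cast this.symm
  have hd1 : deg ((principal G : IrrCharacter G) : G → ℂ) = 1 := by
    have := irr_apply_one_eq_deg (principal G)
    simp only [principal] at this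
    exact_mod_cast this.symm
  -- the upper bound
  have hupper : ∑ χ ∈ s, (z χ : ℝ) ^ 3 / (deg (χ : G → ℂ) : ℝ) < (q : ℝ) / 2 := by
    obtain ⟨χ₀, hχ₀, hneg⟩ : ∃ χ ∈ s, (z χ : ℝ) < 0 := by
      by_contra hno
      push Not at hno
      have h1 : (z (principal G) : ℝ) * (deg ((principal G : IrrCharacter G) : G → ℂ) : ℝ) ≤
          ∑ χ ∈ s, (z χ : ℝ) * (deg (χ : G → ℂ) : ℝ) :=
        Finset.single_le_sum (f := fun χ => (z χ : ℝ) * (deg (χ : G → ℂ) : ℝ))
          (fun χ hχ => mul_nonneg (hno χ hχ) (Nat.cast_nonneg _)) hprinc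
      rw [hsum1, hz1, hd1] at h1
      norm_num at h1
    have hne : χ₀ ≠ principal G := fun h => by rw [h, hz1] at hneg; norm_num at hneg
    have hterm : ∀ χ ∈ s, χ ≠ principal G → (z χ : ℝ) ^ 3 / (deg (χ : G → ℂ) : ℝ) ≤ (z χ : ℝ) ^ 2 / 2 := by
      intro χ hχ hχ1
      have hd : (0 : ℝ) < (deg (χ : G → ℂ) : ℝ) := by exact_mod_cast deg_irr_pos χ
      rw [div_le_iff₀ hd]
      rcases le_or_gt (z χ) 0 with hle | hgt
      · have hle' : (z χ : ℝ) ≤ 0 := by exact_mod_cast hle
        nlinarith [sq_nonneg (z χ : ℝ), mul_nonneg (sq_nonneg (z χ : ℝ)) hd.le]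
      · have h2 : (z χ : ℝ) ^ 2 ≤ q := hsum2 ▸ Finset.single_le_sum (f := fun χ => (z χ : ℝ) ^ 2)
          (fun χ _ => sq_nonneg _) hχ
        have h1 : (1 : ℝ) ≤ (z χ : ℝ) := by exact_mod_cast hgt
        have h3 : (z χ : ℝ) + (q : ℝ) ≤ (deg (χ : G → ℂ) : ℝ) := by exact_mod_cast hzdeg χ hχ1
        have h4 : 2 * (z χ : ℝ) ≤ (deg (χ : G → ℂ) : ℝ) := by nlinarith
        nlinarith [mul_le_mul_of_nonneg_left h4 (sq_nonneg (z χ : ℝ))]
    have hmem₀ : χ₀ ∈ s.erase (principal G) := Finset.mem_erase.mpr ⟨hne, hχ₀⟩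
    rw [← Finset.add_sum_erase _ _ hprinc] at hsum2 ⊢
    rw [← Finset.add_sum_erase _ _ hmem₀] at hsum2 ⊢
    rw [hz1, hd1] at *
    have hrest : ∑ χ ∈ (s.erase (principal G)).erase χ₀, (z χ : ℝ) ^ 3 / (deg (χ : G → ℂ) : ℝ) ≤
        ∑ χ ∈ (s.erase (principal G)).erase χ₀, (z χ : ℝ) ^ 2 / 2 :=
      Finset.sum_le_sum fun χ hχ => hterm χ (Finset.mem_of_mem_erase (Finset.mem_of_mem_erase hχ))
        (Finset.ne_of_mem_erase (Finset.mem_of_mem_erase hχ))
    rw [← Finset.sum_div] at hrest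
    have h0 : (z χ₀ : ℝ) ^ 3 / (deg (χ₀ : G → ℂ) : ℝ) < 0 :=
      div_neg_of_neg_of_pos (by nlinarith [pow_pos (neg_pos.mpr hneg) 3]) (by exact_mod_cast deg_irr_pos χ₀)
    have h00 : (1 : ℝ) ≤ (z χ₀ : ℝ) ^ 2 := by
      have : (z χ₀ : ℝ) ≤ -1 := by
        have hz0 : z χ₀ ≤ -1 := by
          have : z χ₀ < 0 := by exact_mod_cast hneg
          omega
        exact_mod_cast hz0
      nlinarith
    push_cast at hsum2 ⊢
    norm_num
    linarith
  -- the class sum
  set cl := Finset.univ.filter (IsConj x) with hcl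
  have hS : (Nat.card {a : G // IsConj x a} : ℂ) = (cl.card : ℂ) := by
    rw [Nat.card_eq_fintype_card, Fintype.card_subtype]
  have hSpos : 0 < cl.card := Finset.card_pos.mpr ⟨x, Finset.mem_filter.mpr ⟨Finset.mem_univ _, IsConj.refl x⟩⟩
  set R := (cl ×ˢ cl).filter (fun t => ¬ p ∣ orderOf (t.1 * t.2)) with hR
  have hcount : (cl.card : ℝ) ^ 2 * ∑ χ ∈ s, (z χ : ℝ) ^ 3 / (deg (χ : G → ℂ) : ℝ) =
      (q : ℝ) * ((cl.card : ℝ) ^ 2 - (R.card : ℝ)) := by
    have h1 : ∑ t ∈ cl ×ˢ cl, f (t.1 * t.2) = (q : ℂ) * ((cl.card : ℂ) ^ 2 - (R.card : ℂ)) := by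
      rw [← Finset.sum_filter_add_sum_filter_not (cl ×ˢ cl) (fun t => ¬ p ∣ orderOf (t.1 * t.2))]
      rw [Finset.sum_eq_zero (fun t ht => hf0 _ (Finset.mem_filter.mp ht).2), zero_add,
        Finset.sum_congr rfl (fun t ht => hf1 _ (not_not.mp (Finset.mem_filter.mp ht).2)),
        Finset.sum_const, nsmul_eq_mul]
      have := Finset.card_filter_add_card_filter_not (s := cl ×ˢ cl) (fun t => ¬ p ∣ orderOf (t.1 * t.2))
      rw [← hR, Finset.card_product] at this
      have hc2 : ((cl.card : ℂ)) ^ 2 = (R.card : ℂ) +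
          (((cl ×ˢ cl).filter fun t => ¬¬ p ∣ orderOf (t.1 * t.2)).card : ℂ) := by
        rw [pow_two]; exact_mod_cast this.symm
      rw [hc2]; ring
    have h2 : ∑ t ∈ cl ×ˢ cl, f (t.1 * t.2) =
        ∑ χ ∈ s, (z χ : ℂ) * ((cl.card : ℂ) ^ 2 * (z χ : ℂ) ^ 2 / (deg (χ : G → ℂ) : ℂ)) := by
      rw [Finset.sum_product]
      simp only [f, colKer_eq, hzval, map_intCast]
      rw [Finset.sum_congr rfl fun a _ => Finset.sum_comm, Finset.sum_comm]
      refine Finset.sum_congr rfl fun χ _ => ?_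
      have h := sum_class_products χ.2 x x 1
      simp only [mul_one, hS, hzval, irr_apply_one_eq_deg] at h
      have hd : (deg (χ : G → ℂ) : ℂ) ≠ 0 := Nat.cast_ne_zero.2 (deg_irr_pos χ).ne'
      simp only [← Finset.sum_mul]
      rw [h]
      field_simp
    rw [h1] at h2
    have : (((cl.card : ℝ) ^ 2 * ∑ χ ∈ s, (z χ : ℝ) ^ 3 / (deg (χ : G → ℂ) : ℝ) : ℝ) : ℂ) =
        (((q : ℝ) * ((cl.card : ℝ) ^ 2 - (R.card : ℝ)) : ℝ) : ℂ) := by
      push_cast
      rw [h2, Finset.mul_sum]
      exact Finset.sum_congr rfl fun χ _ => by ring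
    exact_mod_cast this
  -- few regular products
  have hfew : R.card * (p - 1) ≤ cl.card * cl.card := by
    rw [← Finset.card_range (p - 1), ← Finset.card_product, ← Finset.card_product]
    refine Finset.card_le_card_of_injOn (fun t => (t.1.1, t.1.2 ^ (t.2 + 1))) ?_ ?_
    · rintro ⟨⟨a, b⟩, j⟩ ht
      obtain ⟨ht, hj⟩ := Finset.mem_product.mp (Finset.mem_coe.mp ht)
      obtain ⟨ha, hb'⟩ := Finset.mem_product.mp (Finset.mem_filter.mp ht).1
      simp only [hcl, Finset.mem_filter, Finset.mem_univ, true_and, Finset.mem_range] at hb' hj ha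
      refine Finset.mem_coe.mpr (Finset.mem_product.mpr ⟨Finset.mem_filter.mpr ⟨Finset.mem_univ _, ha⟩,
        Finset.mem_filter.mpr ⟨Finset.mem_univ _, hall _ ?_ ?_⟩⟩)
      · exact pow_ne_one_of_lt_orderOf (by omega) (by rw [hord b hb']; omega)
      · obtain ⟨i, -, hi⟩ := (Nat.dvd_prime_pow hp).mp
          (show orderOf (b ^ (j + 1)) ∣ p ^ 1 by
            rw [pow_one, ← hord b hb']; exact orderOf_dvd_of_mem_zpowers (Subgroup.npow_mem_zpowers b (j + 1)))
        exact ⟨i, hi⟩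
    · rintro ⟨⟨a, b⟩, i⟩ h ⟨⟨a', b'⟩, j⟩ h' heq
      simp only [Prod.mk.injEq] at heq
      obtain ⟨rfl, hpow⟩ := heq
      obtain ⟨h, hi⟩ := Finset.mem_product.mp (Finset.mem_coe.mp h)
      obtain ⟨h, hr₁⟩ := Finset.mem_filter.mp h
      obtain ⟨ha, hb₁⟩ := Finset.mem_product.mp h
      obtain ⟨h', hj⟩ := Finset.mem_product.mp (Finset.mem_coe.mp h')
      obtain ⟨h', hr₂⟩ := Finset.mem_filter.mp h'
      obtain ⟨-, hb₂⟩ := Finset.mem_product.mp h'
      rw [Finset.mem_range] at hi hj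
      have ha := (Finset.mem_filter.mp ha).2
      have hb₁ := (Finset.mem_filter.mp hb₁).2
      have hb₂ := (Finset.mem_filter.mp hb₂).2
      have ob := hord b hb₁
      have ob' := hord b' hb₂
      obtain ⟨l, hl⟩ : ∃ l, (j + 1) * l % p = 1 := by
        obtain ⟨l, -, hl⟩ := Nat.exists_mul_mod_eq_one_of_coprime
          (show (j + 1).Coprime p from ((hp.coprime_iff_not_dvd).2
            (Nat.not_dvd_of_pos_of_lt (by omega) (by omega))).symm) hp.one_lt
        exact ⟨l, hl⟩
      have hb'eq : b' = b ^ ((i + 1) * l) := by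
        rw [pow_mul, hpow, ← pow_mul, ← pow_mod_orderOf, ob', hl, pow_one]
      have hk := pair_step (hord a ha) ob ((i + 1) * l) hab (hc _ _ (hord a ha) ob) hr₁ (hb'eq ▸ hr₂)
      have hbb : b' = b := by rw [hb'eq, ← pow_mod_orderOf, ob, hk, pow_one]
      subst hbb
      have hij := pow_eq_pow_iff_modEq.mp hpow
      rw [ob] at hij
      have := hij.eq_of_lt_of_lt (by omega) (by omega)
      simp only [Prod.mk.injEq, true_and]
      omega
  have hclpos : (0 : ℝ) < (cl.card : ℝ) ^ 2 := by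
    have : (0 : ℝ) < (cl.card : ℝ) := by exact_mod_cast hSpos
    exact pow_pos this 2
  have hlt : (q : ℝ) * ((cl.card : ℝ) ^ 2 - (R.card : ℝ)) < (cl.card : ℝ) ^ 2 * ((q : ℝ) / 2) := by
    rw [← hcount]
    exact mul_lt_mul_of_pos_left hupper hclpos
  have hR2 : (2 : ℝ) * (R.card : ℝ) ≤ (cl.card : ℝ) ^ 2 := by
    have : R.card * 2 ≤ cl.card * cl.card := le_trans (Nat.mul_le_mul_left _ (by omega)) hfew
    have h' : (R.card : ℝ) * 2 ≤ (cl.card : ℝ) * (cl.card : ℝ) := by exact_mod_cast this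
    nlinarith
  have hq0 : (0 : ℝ) ≤ (q : ℝ) := Nat.cast_nonneg _
  nlinarith [mul_le_mul_of_nonneg_left hR2 hq0]

end Cfsg.Lib.PairwisePSolvable
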