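import Cfsg.Agent.Components.CharP
import Cfsg.Agent.PGroups.Basic
import Cfsg.Agent.Transfer.Basic
import Cfsg.Prelude.Def_LocalStructure

/-! Parabolic characteristic `p` in terms of centralizers of central elements. -/

set_option linter.style.haveILetI false
set_option linter.unusedSectionVars false

namespace Cfsg.Lib.Components

open Subgroup

universe u

variable {G : Type u} [Group G] [Finite G] {p : ℕ} [Fact p.Prime]

theorem centralizer_zpowers' (z : G) :
    centralizer ((zpowers z : Subgroup G) : Set G) = centralizer ({z} : Set G) := by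
  rw [zpowers_eq_closure, centralizer_closure]

theorem charP_centralizer_iff_normalizer {z : G} (hz : IsPGroup p (zpowers z)) :
    CharPGroup p ↥(centralizer ({z} : Set G)) ↔
      CharPGroup p ↥(normalizer ((zpowers z : Subgroup G) : Set G)) := by
  set N := normalizer ((zpowers z : Subgroup G) : Set G) with hN
  set C := centralizer ({z} : Set G) with hC
  have hCN : C ≤ N := by rw [hC, ← centralizer_zpowers']; exact centralizer_le_normalizer _
  have hzN : z ∈ N := le_normalizer (mem_zpowers z)
  constructor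
  · intro h
    refine charP_of_centralizer_le (U := C.subgroupOf N) ?_
      (charP_congr (subgroupOfEquivOfLe hCN).symm h)
    intro x hx
    refine mem_centralizer_singleton_iff.2 ?_
    haveI : ((zpowers z).subgroupOf N).Normal := normal_in_normalizer
    have hmem : (⟨z, hzN⟩ : N) ∈ pCore p N :=
      le_pCore (N := (zpowers z).subgroupOf N) hz.comap_subtype (mem_zpowers z)
    exact congrArg Subtype.val (mem_centralizer_iff.1 hx _ hmem).symm
  · intro h
    haveI : (C.subgroupOf N).Normal := normal_subgroupOf_of_le_normalizer (by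
      rw [hC, ← centralizer_zpowers']
      intro g hg
      refine mem_normalizer_iff.2 fun x => ?_
      simp only [mem_centralizer_iff]
      constructor
      · intro hx y hy
        have h1 := hx _ ((mem_normalizer_iff''.1 hg y).1 hy)
        have h2 := congrArg (fun u => g * u * g⁻¹) h1
        simpa [mul_assoc] using h2
      · intro hx y hy
        have h1 := hx _ ((mem_normalizer_iff.1 hg y).1 hy)
        have h2 := congrArg (fun u => g⁻¹ * u * g) h1
        simpa [mul_assoc] using h2)
    exact charP_congr (subgroupOfEquivOfLe hCN)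
      (charP_subnormal h (inferInstance : (C.subgroupOf N).Normal).isSubnormal)

theorem isPGroup_zpowers_of_mem {P : Subgroup G} (hP : IsPGroup p P) {z : G} (hz : z ∈ P) :
    IsPGroup p (zpowers z) := hP.to_le (zpowers_le.2 hz)

theorem charP_normalizer_of_central {X : Subgroup G} (hX : IsPGroup p X) {z : G} (hz : z ∈ X)
    (hc : ∀ x ∈ X, x * z = z * x) (h : CharPGroup p ↥(centralizer ({z} : Set G))) :
    CharPGroup p ↥(normalizer (X : Set G)) := by
  refine (charP_normalizer_of_normal_in hX (zpowers_le.2 hz) ?_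
    ((charP_centralizer_iff_normalizer (isPGroup_zpowers_of_mem hX hz)).1 h)).1
  refine le_trans ?_ (centralizer_le_normalizer _)
  rw [centralizer_zpowers']
  exact fun x hx => mem_centralizer_singleton_iff.2 (hc x hx)

theorem charP_centralizer_conj (g : G) {z : G} (h : CharPGroup p ↥(centralizer ({z} : Set G))) :
    CharPGroup p ↥(centralizer ({g * z * g⁻¹} : Set G)) := by
  have hmap : (centralizer ({z} : Set G)).map (MulAut.conj g).toMonoidHom =
      centralizer ({g * z * g⁻¹} : Set G) := by
    ext y
    rw [mem_centralizer_singleton_iff]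
    constructor
    · rintro ⟨x, hx, rfl⟩
      show g * x * g⁻¹ * (g * z * g⁻¹) = g * z * g⁻¹ * (g * x * g⁻¹)
      have := congrArg (fun u => g * u * g⁻¹) (mem_centralizer_singleton_iff.1 hx)
      simpa [mul_assoc] using this
    · intro hy
      refine ⟨g⁻¹ * y * g, mem_centralizer_singleton_iff.2 ?_, by simp [mul_assoc]⟩
      have := congrArg (fun u => g⁻¹ * u * g) hy
      simpa [mul_assoc] using this
  exact charP_congr ((equivMapOfInjective _ _ (MulAut.conj g).injective).trans
    (MulEquiv.subgroupCongr hmap)) h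

theorem exists_central_order_p {R T : Subgroup G} (hT : IsPGroup p T) (hRT : R ≤ T)
    (hn : T ≤ normalizer (R : Set G)) (hR : R ≠ ⊥) :
    ∃ z ∈ R, (∀ x ∈ T, x * z = z * x) ∧ orderOf z = p := by
  haveI : (R.subgroupOf T).Normal := normal_subgroupOf_of_le_normalizer hn
  obtain ⟨w, hw, hwc, hwo⟩ := Cfsg.Lib.PGroups.exists_mem_center_of_normal_ne_bot hT
    (N := R.subgroupOf T) (by
      rw [ne_eq, subgroupOf_eq_bot, disjoint_iff, inf_eq_left.2 hRT]; exact hR)
  exact ⟨w, hw, fun x hx => congrArg Subtype.val (mem_center_iff.1 hwc ⟨x, hx⟩),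
    by rw [Subgroup.orderOf_coe, hwo]⟩

theorem le_sylow_of_le_normalizer (T : Sylow p G) {R : Subgroup G} (hR : IsPGroup p R)
    (hn : (T : Subgroup G) ≤ normalizer (R : Set G)) : R ≤ (T : Subgroup G) := by
  have h : IsPGroup p ↥(R ⊔ (T : Subgroup G)) := hR.to_sup_of_normal_left' T.2 hn
  have := T.3 h le_sup_right
  exact this ▸ le_sup_left

theorem mem_omegaOne_of {A : Subgroup G} {z : G} (hz : z ∈ A) (ho : z ^ p = 1) : z ∈ omegaOne p A :=
  subset_closure ⟨hz, ho⟩

theorem parabolic_of_center (S : Sylow p G)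
    (h : ∀ z : G, z ≠ 1 → z ^ p = 1 →
      z ∈ (S : Subgroup G) ⊓ centralizer ((S : Subgroup G) : Set G) →
      CharPGroup p ↥(centralizer ({z} : Set G))) :
    IsOfParabolicCharacteristic p G := by
  rintro R hR hRne ⟨T, hT⟩
  obtain ⟨g, hg⟩ := MulAction.exists_smul_eq G S T
  obtain ⟨z, hz, hzc, hzo⟩ := exists_central_order_p T.2 (le_sylow_of_le_normalizer T hR hT) hT hRne
  have hzT : z ∈ (T : Subgroup G) := le_sylow_of_le_normalizer T hR hT hz
  obtain ⟨w, hw, hwz⟩ : z ∈ ((g • S : Sylow p G) : Subgroup G) := hg ▸ hzT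
  have hwz' : g * w * g⁻¹ = z := hwz
  have hw1 : w ≠ 1 := fun h1 => by
    rw [h1, mul_one, mul_inv_cancel] at hwz'
    rw [← hwz', orderOf_one] at hzo
    exact (Fact.out : p.Prime).ne_one hzo.symm
  have hwp : w ^ p = 1 := by
    have h1 : (g * w * g⁻¹) ^ p = 1 := by rw [hwz', ← hzo]; exact pow_orderOf_eq_one z
    rwa [conj_pow, mul_inv_eq_one, mul_eq_left] at h1
  have hwc : w ∈ centralizer ((S : Subgroup G) : Set G) := by
    refine mem_centralizer_iff.2 fun x hx => ?_
    have hxT : g * x * g⁻¹ ∈ (T : Subgroup G) := hg ▸ ⟨x, hx, rfl⟩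
    have h1 := hzc _ hxT
    rw [← hwz'] at h1
    have h2 := congrArg (fun u => g⁻¹ * u * g) h1
    simpa [mul_assoc] using h2
  have h2 := charP_centralizer_conj g (h w hw1 hwp ⟨hw, hwc⟩)
  rw [hwz'] at h2
  exact charP_normalizer_of_central hR hz (fun x hx => hzc x (le_sylow_of_le_normalizer T hR hT hx)) h2

theorem charP_centralizer_of_parabolic (hG : IsOfParabolicCharacteristic p G) (S : Sylow p G) {z : G}
    (hz1 : z ≠ 1) (hz : z ∈ (S : Subgroup G) ⊓ centralizer ((S : Subgroup G) : Set G)) :
    CharPGroup p ↥(centralizer ({z} : Set G)) := by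
  have hzp := isPGroup_zpowers_of_mem S.2 hz.1
  refine (charP_centralizer_iff_normalizer hzp).2 (hG _ hzp (by rwa [ne_eq, zpowers_eq_bot]) ⟨S, ?_⟩)
  refine le_trans ?_ (centralizer_le_normalizer _)
  rw [centralizer_zpowers']
  exact fun x hx => mem_centralizer_singleton_iff.2 (mem_centralizer_iff.1 hz.2 x hx)

theorem charP_centralizer_subnormal {G₁ : Subgroup G} (hsn : G₁.IsSubnormal) {z : G₁}
    (h : CharPGroup p ↥(centralizer ({(z : G)} : Set G))) :
    CharPGroup p ↥(centralizer ({z} : Set G₁)) := by
  set C := centralizer ({(z : G)} : Set G) with hC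
  have h1 : CharPGroup p ↥(G₁.subgroupOf C) := charP_subnormal h hsn.subgroupOf
  have e1 : (G₁.subgroupOf C).map C.subtype = (centralizer ({z} : Set G₁)).map G₁.subtype := by
    ext y
    constructor
    · rintro ⟨⟨x, hx⟩, hx1, rfl⟩
      exact ⟨⟨x, hx1⟩, mem_centralizer_singleton_iff.2 (Subtype.ext (mem_centralizer_singleton_iff.1 hx)), rfl⟩
    · rintro ⟨x, hx, rfl⟩
      exact ⟨⟨x, mem_centralizer_singleton_iff.2
        (congrArg Subtype.val (mem_centralizer_singleton_iff.1 hx))⟩, x.2, rfl⟩
  exact charP_congr (((equivMapOfInjective _ _ C.subtype_injective).trans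
    (MulEquiv.subgroupCongr e1)).trans (equivMapOfInjective _ _ G₁.subtype_injective).symm) h1

end Cfsg.Lib.Components
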