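import Mathlib

/-!
Groups in which every non-identity element fixes exactly two points, and finite groups of linear maps of a
plane over an algebraically closed field, acting on lines.
-/

set_option linter.style.haveILetI false
set_option linter.unusedSectionVars false

namespace Cfsg.Lib.PointCount

open scoped Classical

theorem arith_one (g n1 n2 n3 e1 e2 e3 E b : ℕ) (h1 : n1 * e1 = g) (h2 : n2 * e2 = g) (h3 : n3 * e3 = g)
    (g2 : 2 ≤ e2) (g3 : 2 ≤ e3) (hN : n1 + n2 + n3 = g + 2) (hE : (E = 6 ∧ b = 3) ∨ (E = 4 ∧ b = 13))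
    (hb : b ≤ n1) (b1 : E ≤ e1) (b2 : e2 < E) (b3 : e3 < E) : False := by
  have h := Nat.mul_le_mul_left n1 b1
  rw [h1] at h
  rcases hE with ⟨rfl, rfl⟩ | ⟨rfl, rfl⟩ <;> interval_cases e2 <;> interval_cases e3 <;>
    try omega
  all_goals
    rcases Nat.lt_or_ge e1 6 with h6 | h6
    · interval_cases e1 <;> omega
    · have := Nat.mul_le_mul_left n1 h6
      omega

theorem arith3 (g n1 n2 n3 e1 e2 e3 E b : ℕ) (h1 : n1 * e1 = g) (h2 : n2 * e2 = g) (h3 : n3 * e3 = g)
    (g1 : 2 ≤ e1) (g2 : 2 ≤ e2) (g3 : 2 ≤ e3) (hN : n1 + n2 + n3 = g + 2)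
    (hE : (E = 6 ∧ b = 3) ∨ (E = 4 ∧ b = 13))
    (hb : b ≤ (if E ≤ e1 then n1 else 0) + (if E ≤ e2 then n2 else 0) + (if E ≤ e3 then n3 else 0)) : False := by
  have hE4 : 4 ≤ E := by omega
  have hle : ∀ n e, n * e = g → 2 ≤ e → 2 * n ≤ g ∧ (E ≤ e → 4 * n ≤ g) := fun n e hne he =>
    ⟨by rw [← hne, mul_comm 2]; exact Nat.mul_le_mul_left _ he,
      fun h => by rw [← hne, mul_comm 4]; exact Nat.mul_le_mul_left _ (hE4.trans h)⟩
  obtain ⟨a1, c1⟩ := hle _ _ h1 g1
  obtain ⟨a2, c2⟩ := hle _ _ h2 g2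
  obtain ⟨a3, c3⟩ := hle _ _ h3 g3
  by_cases d1 : E ≤ e1 <;> by_cases d2 : E ≤ e2 <;> by_cases d3 : E ≤ e3 <;>
    simp only [d1, d2, d3, if_true, if_false, add_zero, zero_add] at hb
  · have := c1 d1; have := c2 d2; have := c3 d3; omega
  · have := c1 d1; have := c2 d2; omega
  · have := c1 d1; have := c3 d3; omega
  · exact arith_one g n1 n2 n3 e1 e2 e3 E b h1 h2 h3 g2 g3 hN hE hb d1 (not_le.mp d2) (not_le.mp d3)
  · have := c2 d2; have := c3 d3; omega
  · exact arith_one g n2 n1 n3 e2 e1 e3 E b h2 h1 h3 g1 g3 (by omega) hE hb d2 (not_le.mp d1) (not_le.mp d3)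
  · exact arith_one g n3 n1 n2 e3 e1 e2 E b h3 h1 h2 g1 g2 (by omega) hE hb d3 (not_le.mp d1) (not_le.mp d2)
  · omega

theorem arith {ι : Type*} [Fintype ι] (g : ℕ) (n e : ι → ℕ) (hne : ∀ i, n i * e i = g) (he : ∀ i, 2 ≤ e i)
    (heq : 2 * (g - 1) + ∑ i, n i = Fintype.card ι * g) (E b : ℕ) (hE : (E = 6 ∧ b = 3) ∨ (E = 4 ∧ b = 13))
    (hb : b ≤ ∑ i, if E ≤ e i then n i else 0) : False := by
  classical
  have key : ∀ (r : ℕ) (n e : Fin r → ℕ), (∀ i, n i * e i = g) → (∀ i, 2 ≤ e i) →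
      2 * (g - 1) + ∑ i, n i = r * g → (b ≤ ∑ i, if E ≤ e i then n i else 0) → False := by
    intro r n e hne he heq hb
    have h2 : 2 * ∑ i, n i ≤ r * g := by
      rw [Finset.mul_sum]
      calc ∑ i, 2 * n i ≤ ∑ _i : Fin r, g := Finset.sum_le_sum fun i _ => by
            rw [← hne i, mul_comm 2]; exact Nat.mul_le_mul_left _ (he i)
        _ = r * g := by simp
    have hb1 : 3 ≤ ∑ i, n i := by
      refine le_trans (le_trans (by omega) hb) (Finset.sum_le_sum fun i _ => ?_)
      split_ifs <;> omega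
    match r, n, e, hne, he, heq, hb, h2, hb1 with
    | 0, n, e, _, _, _, _, _, hb1 => simp at hb1
    | 1, n, e, hne, he, heq, hb, h2, hb1 =>
      rw [Fin.sum_univ_one] at heq h2 hb1
      omega
    | 2, n, e, hne, he, heq, hb, h2, hb1 =>
      rw [Fin.sum_univ_two] at heq h2 hb1
      omega
    | 3, n, e, hne, he, heq, hb, h2, hb1 =>
      rw [Fin.sum_univ_three] at heq hb hb1 h2
      exact arith3 g (n 0) (n 1) (n 2) (e 0) (e 1) (e 2) E b (hne 0) (hne 1) (hne 2) (he 0) (he 1) (he 2)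
        (by omega) hE hb
    | r + 4, n, e, hne, he, heq, hb, h2, hb1 =>
      have h4 : 4 * g ≤ (r + 4) * g := Nat.mul_le_mul_right g (by omega)
      omega
  let φ := Fintype.equivFin ι
  refine key _ (n ∘ φ.symm) (e ∘ φ.symm) (fun i => hne _) (fun i => he _) ?_ ?_
  · rw [show ∑ i, (n ∘ φ.symm) i = ∑ i, n i from Equiv.sum_comp φ.symm n]
    exact heq
  · exact hb.trans_eq (Equiv.sum_comp φ.symm fun i => if E ≤ e i then n i else 0).symm

theorem finite_bound {H X : Type*} [Group H] [Finite H] [Finite X] [MulAction H X]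
    (hfix : ∀ h : H, h ≠ 1 → (MulAction.fixedBy X h).ncard = 2)
    (hstab : ∀ x : X, 2 ≤ Nat.card (MulAction.stabilizer H x)) (E b : ℕ)
    (hE : (E = 6 ∧ b = 3) ∨ (E = 4 ∧ b = 13))
    (hb : b ≤ Nat.card {x : X // E ≤ Nat.card (MulAction.stabilizer H x)}) : False := by
  letI := Fintype.ofFinite H
  letI := Fintype.ofFinite X
  set Ω := MulAction.orbitRel.Quotient H X
  letI := Fintype.ofFinite Ω
  let n : Ω → ℕ := fun ω => Fintype.card (MulAction.orbit H ω.out)
  let e : Ω → ℕ := fun ω => Fintype.card (MulAction.stabilizer H ω.out)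
  have hne : ∀ ω, n ω * e ω = Fintype.card H := fun ω =>
    MulAction.card_orbit_mul_card_stabilizer_eq_card_group H ω.out
  have hN : Fintype.card X = ∑ ω, n ω := by
    rw [Fintype.card_congr (MulAction.selfEquivSigmaOrbits H X), Fintype.card_sigma]
  have hsum := MulAction.sum_card_fixedBy_eq_card_orbits_mul_card_group H X
  have hterm : ∀ h : H, Fintype.card (MulAction.fixedBy X h) = if h = 1 then Fintype.card X else 2 := by
    intro h
    split_ifs with h1
    · subst h1
      exact Fintype.card_congr ((Equiv.setCongr (by ext; simp)).trans (Equiv.Set.univ X))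
    · rw [← hfix h h1, Set.ncard_eq_toFinset_card', Set.toFinset_card]
  rw [Finset.sum_congr rfl fun h _ => hterm h, ← Finset.add_sum_erase _ _ (Finset.mem_univ (1 : H)), if_pos rfl,
    Finset.sum_congr rfl (fun h hh => if_neg (Finset.ne_of_mem_erase hh)), Finset.sum_const, smul_eq_mul,
    Finset.card_erase_of_mem (Finset.mem_univ _), Finset.card_univ] at hsum
  refine arith (Fintype.card H) n e hne (fun ω => ?_) ?_ E b hE (hb.trans ?_)
  · have := hstab ω.out
    rwa [Nat.card_eq_fintype_card] at this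
  · rw [← hN, ← hsum]; ring
  · have hconst : ∀ ω : Ω, ∀ x ∈ MulAction.orbit H ω.out, Nat.card (MulAction.stabilizer H x) = e ω := by
      intro ω x hx
      have h1 := MulAction.card_orbit_mul_card_stabilizer_eq_card_group H x
      have h2 : Fintype.card (MulAction.orbit H x) = n ω :=
        Fintype.card_congr (Equiv.setCongr (MulAction.orbit_eq_iff.mpr hx))
      rw [h2, ← hne ω] at h1
      rw [Nat.card_eq_fintype_card]
      exact Nat.eq_of_mul_eq_mul_left (Fintype.card_pos_iff.mpr ⟨⟨_, MulAction.mem_orbit_self _⟩⟩) h1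
    let ψ := MulAction.selfEquivSigmaOrbits H X
    have hmem : ∀ x : X, x ∈ MulAction.orbit H (ψ x).1.out := fun x => by
      have h : ((ψ x).2 : X) = x := by
        conv_rhs => rw [← ψ.symm_apply_apply x]
        rfl
      rw [← h]
      exact (ψ x).2.2
    rw [Nat.card_eq_fintype_card, Fintype.card_subtype,
      Finset.card_eq_sum_card_fiberwise (f := fun x => (ψ x).1) (t := (Finset.univ : Finset Ω))
        (fun _ _ => Finset.mem_univ _)]
    refine Finset.sum_le_sum fun ω _ => ?_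
    split_ifs with hω
    · calc _ ≤ (MulAction.orbit H ω.out).toFinset.card := Finset.card_le_card fun x hx => by
            rw [Finset.mem_filter] at hx
            rw [Set.mem_toFinset, ← hx.2]
            exact hmem x
        _ = n ω := Set.toFinset_card _
    · refine le_of_eq (Finset.card_eq_zero.mpr (Finset.filter_eq_empty_iff.mpr fun x hx hx2 => hω ?_))
      rw [Finset.mem_filter] at hx
      exact (hconst ω x (hx2 ▸ hmem x)) ▸ hx.2

theorem point_bound {H X : Type*} [Group H] [Finite H] [MulAction H X]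
    (hfix : ∀ h : H, h ≠ 1 → (MulAction.fixedBy X h).ncard = 2) (E b : ℕ)
    (hE : (E = 6 ∧ b = 3) ∨ (E = 4 ∧ b = 13)) (S : Finset X) (hS : b ≤ S.card)
    (hst : ∀ x ∈ S, E ≤ Nat.card (MulAction.stabilizer H x)) : False := by
  let Y : SubMulAction H X :=
    { carrier := {x | ∃ h : H, h ≠ 1 ∧ h • x = x}
      smul_mem' := by
        rintro c x ⟨h, h1, hx⟩
        exact ⟨c * h * c⁻¹, fun e => h1 (by simpa using e), by simp [mul_smul, hx]⟩ }
  haveI : Finite Y := by
    have hfin : (⋃ h ∈ ({1}ᶜ : Set H), MulAction.fixedBy X h).Finite :=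
      (Set.toFinite _).biUnion fun h hh => Set.finite_of_ncard_ne_zero (by rw [hfix h hh]; decide)
    refine (hfin.subset fun x hx => ?_).to_subtype
    obtain ⟨h, h1, hx⟩ := hx
    exact Set.mem_iUnion₂.mpr ⟨h, h1, hx⟩
  have hstabY : ∀ y : Y, MulAction.stabilizer H y = MulAction.stabilizer H (y : X) :=
    fun y => SubMulAction.stabilizer_of_subMul y
  have hmem : ∀ x ∈ S, x ∈ Y := fun x hx => by
    have h : 1 < Nat.card (MulAction.stabilizer H x) := by have := hst x hx; omega
    haveI := Finite.one_lt_card_iff_nontrivial.mp h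
    obtain ⟨c, hc⟩ := exists_ne (1 : MulAction.stabilizer H x)
    exact ⟨c, fun e => hc (Subtype.ext e), c.2⟩
  refine finite_bound (H := H) (X := Y) (fun h h1 => ?_) (fun y => ?_) E b hE (hS.trans ?_)
  · rw [← hfix h h1, ← Set.ncard_image_of_injective _ Subtype.val_injective]
    congr 1
    ext x
    exact ⟨fun ⟨y, hy, e⟩ => e ▸ congrArg Subtype.val hy,
      fun hx => ⟨⟨x, h, h1, hx⟩, Subtype.ext hx, rfl⟩⟩
  · rw [hstabY]
    obtain ⟨h, h1, hx⟩ := y.2
    haveI : Nontrivial (MulAction.stabilizer H (y : X)) :=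
      ⟨⟨⟨h, hx⟩, 1, fun e => h1 (congrArg Subtype.val e)⟩⟩
    exact Finite.one_lt_card
  · rw [← Fintype.card_coe, ← Nat.card_eq_fintype_card]
    exact Nat.card_le_card_of_injective
      (fun x : S => (⟨⟨x, hmem x x.2⟩, by rw [hstabY]; exact hst x x.2⟩ :
        {y : Y // E ≤ Nat.card (MulAction.stabilizer H y)}))
      fun x x' e => Subtype.ext (congrArg (fun t : {y : Y // E ≤ Nat.card (MulAction.stabilizer H y)} =>
        ((t : Y) : X)) e)

section Plane

variable {K : Type*} [Field K] [IsAlgClosed K]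

abbrev V (K : Type*) := Fin 2 → K

/-- the lines of the plane -/
def Line (K : Type*) [Field K] := {W : Submodule K (V K) // Module.finrank K W = 1}

noncomputable instance : MulAction (V K ≃ₗ[K] V K) (Line K) where
  smul g W := ⟨W.1.map g.toLinearMap, by rw [g.finrank_map_eq]; exact W.2⟩
  one_smul W := Subtype.ext (Submodule.map_id _)
  mul_smul g h W := Subtype.ext (Submodule.map_comp _ _ _)

theorem smul_val (g : V K ≃ₗ[K] V K) (W : Line K) : (g • W).1 = W.1.map g.toLinearMap := rfl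

noncomputable def mkLine (v : V K) (hv : v ≠ 0) : Line K := ⟨Submodule.span K {v}, finrank_span_singleton hv⟩

theorem exists_mkLine (W : Line K) : ∃ (v : V K) (hv : v ≠ 0), W = mkLine v hv := by
  obtain ⟨v, hv, h⟩ := (finrank_eq_one_iff'.mp W.2)
  refine ⟨v, fun e => hv (Subtype.ext e), Subtype.ext (le_antisymm (fun w hw => ?_) ?_)⟩
  · obtain ⟨c, hc⟩ := h ⟨w, hw⟩
    exact Submodule.mem_span_singleton.mpr ⟨c, congrArg Subtype.val hc⟩
  · exact (Submodule.span_singleton_le_iff_mem _ _).mpr v.2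

theorem mkLine_eq_iff {v w : V K} (hv : v ≠ 0) (hw : w ≠ 0) :
    mkLine v hv = mkLine w hw ↔ ∃ c : K, w = c • v := by
  constructor
  · intro h
    have : w ∈ Submodule.span K {v} := by
      show w ∈ (mkLine v hv).1
      rw [h]
      exact Submodule.mem_span_singleton_self w
    obtain ⟨c, hc⟩ := Submodule.mem_span_singleton.mp this
    exact ⟨c, hc.symm⟩
  · rintro ⟨c, rfl⟩
    refine Subtype.ext ?_
    show Submodule.span K {v} = Submodule.span K {c • v}
    rw [Submodule.span_singleton_smul_eq (IsUnit.mk0 c fun e => hw (by rw [e, zero_smul]))]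

theorem fix_iff {g : V K ≃ₗ[K] V K} {v : V K} (hv : v ≠ 0) :
    g • mkLine v hv = mkLine v hv ↔ ∃ c : K, g v = c • v := by
  have h : g • mkLine v hv = mkLine (g v) (fun e => hv (g.map_eq_zero_iff.mp e)) := Subtype.ext (by
    rw [smul_val]
    show Submodule.map g.toLinearMap (Submodule.span K {v}) = Submodule.span K {g v}
    rw [Submodule.map_span, Set.image_singleton]
    rfl)
  rw [h, eq_comm, mkLine_eq_iff]

theorem fixed_two {g : V K ≃ₗ[K] V K} {m : ℕ} (hm : (m : K) ≠ 0) (hg : g ^ m = 1)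
    (hns : ∃ W : Line K, g • W ≠ W) : (MulAction.fixedBy (Line K) g).ncard = 2 := by
  obtain ⟨c, hc⟩ := Module.End.exists_eigenvalue (g : V K →ₗ[K] V K)
  obtain ⟨v, hv⟩ := hc.exists_hasEigenvector
  have hv0 : v ≠ 0 := hv.2
  have hgv : g v = c • v := Module.End.mem_eigenspace_iff.mp hv.1
  obtain ⟨w, hw⟩ : ∃ w : V K, w ∉ Submodule.span K {v} := by
    by_contra h
    push Not at h
    have h1 : (Submodule.span K {v} : Submodule K (V K)) = ⊤ := eq_top_iff.mpr fun w _ => h w
    have h2 := finrank_span_singleton (K := K) hv0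
    rw [h1, finrank_top, Module.finrank_fin_fun] at h2
    omega
  have hli : LinearIndependent K ![v, w] := LinearIndependent.pair_iff' hv0 |>.mpr
    fun a ha => hw (Submodule.mem_span_singleton.mpr ⟨a, ha⟩)
  let B := basisOfLinearIndependentOfCardEqFinrank hli (by simp)
  have hdec : ∀ u : V K, ∃ r d : K, u = r • v + d • w := fun u => ⟨B.repr u 0, B.repr u 1, by
    have := B.sum_repr u
    rw [Fin.sum_univ_two] at this
    simpa [B] using this.symm⟩
  obtain ⟨r, d, hgw⟩ := hdec (g w)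
  have hdc : d ≠ c := by
    intro e
    subst e
    have hpow : ∀ k : ℕ, (g ^ (k + 1)) w = (((k + 1 : ℕ) : K) * d ^ k * r) • v + d ^ (k + 1) • w ∧
        (g ^ (k + 1)) v = d ^ (k + 1) • v := by
      intro k
      induction k with
      | zero => simp [hgw, hgv]
      | succ k ih =>
        have hsucc : ∀ u, (g ^ (k + 1 + 1)) u = g ((g ^ (k + 1)) u) := fun u => by
          rw [pow_succ' g (k + 1)]; rfl
        rw [hsucc, hsucc, ih.1, ih.2, map_add, map_smul, map_smul, map_smul, hgv, hgw]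
        refine ⟨?_, by rw [smul_smul, ← pow_succ]⟩
        push_cast
        rw [smul_add, smul_smul, smul_smul, smul_smul, ← add_assoc, ← add_smul]
        congr 1
        · congr 1; ring
        · rw [← pow_succ]
    obtain ⟨k, rfl⟩ : ∃ k, m = k + 1 := Nat.exists_eq_succ_of_ne_zero fun e => hm (by simp [e])
    obtain ⟨h1, h2⟩ := hpow k
    rw [hg] at h1 h2
    have hd : d ^ (k + 1) = 1 := by
      have : (1 : K) • v = d ^ (k + 1) • v := by rw [one_smul]; exact h2
      exact (smul_left_injective K hv0 this).symm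
    rw [hd, one_smul] at h1
    have h3 : (((k + 1 : ℕ) : K) * d ^ k * r) • v = 0 := by simpa using h1.symm
    have hr : r = 0 := by
      rcases mul_eq_zero.mp ((smul_eq_zero.mp h3).resolve_right hv0) with h4 | h4
      · rcases mul_eq_zero.mp h4 with h5 | h5
        · exact absurd h5 hm
        · have hd0 : d ≠ 0 := fun e => by simp [e] at hd
          exact absurd h5 (pow_ne_zero _ hd0)
      · exact h4
    obtain ⟨W, hW⟩ := hns
    obtain ⟨u, hu, rfl⟩ := exists_mkLine W
    refine hW ((fix_iff hu).mpr ⟨d, ?_⟩)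
    obtain ⟨α, β, rfl⟩ := hdec u
    rw [map_add, map_smul, map_smul, hgv, hgw, hr, zero_smul, zero_add, smul_add, smul_comm α, smul_comm β]
  set w' := w + (r / (d - c)) • v with hw'
  have hgw' : g w' = d • w' := by
    have hne := sub_ne_zero.mpr hdc
    rw [hw', map_add, map_smul, hgw, hgv, smul_add, smul_smul, smul_smul, add_comm (r • v), add_assoc, ← add_smul]
    congr 2
    field_simp
    ring
  have hw'0 : w' ≠ 0 := fun e => hw (Submodule.mem_span_singleton.mpr ⟨-(r / (d - c)), by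
    rw [neg_smul]; exact (eq_neg_of_add_eq_zero_left e).symm⟩)
  have hne : mkLine v hv0 ≠ mkLine w' hw'0 := fun e => by
    obtain ⟨a, ha⟩ := (mkLine_eq_iff hv0 hw'0).mp e
    exact hw (Submodule.mem_span_singleton.mpr ⟨a - r / (d - c), by rw [sub_smul, ← ha, hw']; abel⟩)
  refine Eq.trans ?_ (Set.ncard_pair hne)
  congr 1
  ext W
  obtain ⟨u, hu, rfl⟩ := exists_mkLine W
  rw [MulAction.mem_fixedBy, Set.mem_insert_iff, Set.mem_singleton_iff]
  refine ⟨fun h => ?_, ?_⟩
  · obtain ⟨e, he⟩ := (fix_iff hu).mp h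
    obtain ⟨α, β, hαβ⟩ := hdec u
    obtain ⟨α', hu'⟩ : ∃ α', u = α' • v + β • w' := ⟨α - β * (r / (d - c)), by
      rw [hαβ, hw', smul_add, smul_smul, sub_smul]; abel⟩
    have hz : (α' * (c - e)) • v + (β * (d - e)) • w' = 0 := by
      have h1 : g u - e • u = 0 := by rw [he, sub_self]
      rw [hu', map_add, map_smul, map_smul, hgv, hgw'] at h1
      rw [← h1]
      module
    have hboth := (LinearIndependent.pair_iff.mp ((LinearIndependent.pair_iff' hv0).mpr fun a ha =>
      hne ((mkLine_eq_iff hv0 hw'0).mpr ⟨a, ha.symm⟩))) _ _ hz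
    by_cases hα : α' = 0
    · refine Or.inr (((mkLine_eq_iff hw'0 hu).mpr ⟨β, ?_⟩).symm)
      rw [hu', hα, zero_smul, zero_add]
    · have hce : c = e := sub_eq_zero.mp ((mul_eq_zero.mp hboth.1).resolve_left hα)
      have hβ : β = 0 := (mul_eq_zero.mp hboth.2).resolve_right (fun h' =>
        hdc ((sub_eq_zero.mp h').trans hce.symm))
      refine Or.inl (((mkLine_eq_iff hv0 hu).mpr ⟨α', ?_⟩).symm)
      rw [hu', hβ, zero_smul, add_zero]
  · rintro (h | h) <;> rw [h]
    · exact (fix_iff hv0).mpr ⟨c, hgv⟩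
    · exact (fix_iff hw'0).mpr ⟨d, hgw'⟩

/-- a finite group of linear maps of order invertible in the field -/
theorem plane_bound {N : Type*} [Group N] (T : N →* (V K ≃ₗ[K] V K))
    (hord : ∀ n : N, ∃ m : ℕ, (m : K) ≠ 0 ∧ T n ^ m = 1) [Finite T.range] (E b : ℕ)
    (hE : (E = 6 ∧ b = 3) ∨ (E = 4 ∧ b = 13)) (S : Finset (Line K)) (hS : b ≤ S.card)
    (hst : ∀ W ∈ S, ∃ n : N, T n • W = W ∧ ∀ k : ℕ, 0 < k → k < E → ∃ U : Line K, T n ^ k • U ≠ U) : False := by
  classical
  let ρ : T.range →* Equiv.Perm (Line K) := MulAction.toPermHom T.range (Line K)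
  haveI : Finite ρ.range := Finite.of_surjective ρ.rangeRestrict ρ.rangeRestrict_surjective
  refine point_bound (H := ρ.range) (X := Line K) ?_ E b hE S hS fun W hW => ?_
  · rintro ⟨_, ⟨⟨_, n, rfl⟩, rfl⟩⟩ h1
    obtain ⟨m, hm, hpow⟩ := hord n
    have hns : ∃ W : Line K, T n • W ≠ W := by
      by_contra h
      push Not at h
      exact h1 (Subtype.ext (Equiv.ext h))
    exact fixed_two hm hpow hns
  · obtain ⟨n, hnW, hk⟩ := hst W hW
    let σ : MulAction.stabilizer ρ.range W :=
      ⟨⟨ρ ⟨T n, n, rfl⟩, ⟨T n, n, rfl⟩, rfl⟩, hnW⟩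
    refine le_trans ?_ (Nat.le_of_dvd Nat.card_pos (orderOf_dvd_natCard σ))
    by_contra hlt
    obtain ⟨U, hU⟩ := hk _ (orderOf_pos σ) (not_le.mp hlt)
    apply hU
    have h1 : ((σ ^ orderOf σ : MulAction.stabilizer ρ.range W) : ρ.range) = 1 := by
      rw [pow_orderOf_eq_one]; rfl
    have h2 := congrArg (fun x : ρ.range => (x : Equiv.Perm (Line K)) U) h1
    simp only [SubmonoidClass.coe_pow, OneMemClass.coe_one, Equiv.Perm.one_apply, σ, ← map_pow] at h2
    exact h2

end Plane

end Cfsg.Lib.PointCount
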