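import Cfsg.Agent.Components.Misc.Kieler
import Cfsg.Agent.Components.Misc.SubnormalSylow
import Cfsg.Agent.Coprime.SolvableBasics
import Cfsg.Prelude.Def_LocalEven

/-!
Point stabilizers of joins of subnormal subgroups in groups of local characteristic `p`.
-/

set_option linter.style.haveILetI false
set_option linter.unusedSectionVars false

namespace Cfsg.Lib.Misc.PointStabilizerJoin

open Subgroup Cfsg.Lib.Components Cfsg.Lib.Kieler

universe u

variable {G : Type u} [Group G] [Finite G] {p : ℕ} [Fact p.Prime]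

theorem zp_map {H : Subgroup G} (X : Subgroup H) (l : H) :
    (∀ z ∈ Zp p X, z * l = l * z) ↔ ∀ z ∈ Zp p (X.map H.subtype), z * (l : G) = (l : G) * z := by
  constructor
  · rintro h z ⟨hz, hzp⟩
    obtain ⟨⟨y, hy, rfl⟩, hzc⟩ := mem_inf.1 hz
    exact congrArg Subtype.val (h y ⟨mem_inf.mpr ⟨hy, mem_centralizer_iff.2 fun x hx =>
      Subtype.ext (mem_centralizer_iff.1 hzc x ⟨x, hx, rfl⟩)⟩, Subtype.ext hzp⟩)
  · rintro h z ⟨hz, hzp⟩
    refine Subtype.ext (h z ⟨mem_inf.mpr ⟨⟨z, (mem_inf.1 hz).1, rfl⟩, mem_centralizer_iff.2 ?_⟩,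
      congrArg Subtype.val hzp⟩)
    rintro _ ⟨x, hx, rfl⟩
    exact congrArg Subtype.val (mem_centralizer_iff.1 (mem_inf.1 hz).2 x hx)

theorem localChar_subnormal (hH : Cfsg.IsOfLocalCharacteristic p G) {K : Subgroup G} (hK : K.IsSubnormal)
    (hd : p ∣ Nat.card K) : Cfsg.IsOfLocalCharacteristic p K := by
  refine ⟨hd, fun R hR hR1 => ?_⟩
  set R' := R.map K.subtype with hR'
  have hR'p : IsPGroup p R' := hR.map _
  have hR'1 : R' ≠ ⊥ := fun h => hR1 ((map_eq_bot_iff_of_injective R K.subtype_injective).1 h)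
  set N := normalizer (R' : Set G)
  have hN : CharPGroup p N := hH.2 R' hR'p hR'1
  have hsub : (K.subgroupOf N).IsSubnormal := hK.subgroupOf
  have heq : (normalizer (R : Set K)).map K.subtype = K ⊓ N := by
    ext g
    constructor
    · rintro ⟨k, hk, rfl⟩
      refine ⟨k.2, mem_normalizer_iff.2 fun y => ⟨?_, ?_⟩⟩
      · rintro ⟨r, hr, rfl⟩
        exact ⟨k * r * k⁻¹, (mem_normalizer_iff.1 hk r).1 hr, rfl⟩
      · rintro ⟨r, hr, hre⟩
        refine ⟨k⁻¹ * r * k, (mem_normalizer_iff.1 hk _).2 (by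
          rw [show k * (k⁻¹ * r * k) * k⁻¹ = r by group]; exact hr), ?_⟩
        show (k : G)⁻¹ * (r : G) * (k : G) = y
        rw [show (r : G) = (k : G) * y * (k : G)⁻¹ from hre]
        group
    · rintro ⟨hgK, hgN⟩
      refine ⟨⟨g, hgK⟩, mem_normalizer_iff.2 fun r => ?_, rfl⟩
      have h := mem_normalizer_iff.1 hgN (r : G)
      rw [hR', show (g * (r : G) * g⁻¹) = K.subtype (⟨g, hgK⟩ * r * ⟨g, hgK⟩⁻¹) from rfl,
        mem_map_iff_mem K.subtype_injective, show (r : G) = K.subtype r from rfl,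
        mem_map_iff_mem K.subtype_injective] at h
      exact h
  let e : ↥(K.subgroupOf N) ≃* ↥(normalizer (R : Set K)) :=
    (((K.subgroupOf N).equivMapOfInjective N.subtype N.subtype_injective).trans
      (MulEquiv.subgroupCongr (by rw [subgroupOf_map_subtype, heq]))).trans
      ((normalizer (R : Set K)).equivMapOfInjective K.subtype K.subtype_injective).symm
  have hc : CharPGroup p ↥(K.subgroupOf N) := charP_subnormal hN hsub
  show CharPGroup p ↥(normalizer (R : Set K))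
  rw [Cfsg.Lib.Components.charP_iff] at hc ⊢
  exact ⟨by rw [← pPrimeCore_map_equiv e, hc.1, Subgroup.map_bot],
    by rw [← layer_map_equiv e, hc.2, Subgroup.map_bot]⟩

/-- Kieler's lemma in local characteristic `p`: the normal case. -/
theorem kieler_normal (hH : Cfsg.IsOfLocalCharacteristic p G) (T : Sylow p G) (L : Subgroup G) [L.Normal]
    (hne : (T : Subgroup G) ⊓ L ≠ ⊥) :
    ∀ l ∈ L, ((∀ z ∈ Zp p (T : Subgroup G), z * l = l * z) ↔
      ∀ z ∈ Zp p ((T : Subgroup G) ⊓ L), z * l = l * z) := by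
  -- a central element of order `p` of `T` in `L`
  obtain ⟨z, hzT, hzL, hzp, hz1⟩ : ∃ z, z ∈ (T : Subgroup G) ⊓ centralizer ((T : Subgroup G) : Set G) ∧
      z ∈ L ∧ z ^ p = 1 ∧ z ≠ 1 := by
    haveI : Group.IsNilpotent (T : Subgroup G) := T.2.isNilpotent
    haveI : (L.subgroupOf (T : Subgroup G)).Normal := inferInstance
    have hne' : L.subgroupOf (T : Subgroup G) ≠ ⊥ := fun h => hne (by
      have h' := congrArg (Subgroup.map (T : Subgroup G).subtype) h
      rw [subgroupOf_map_subtype, Subgroup.map_bot] at h'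
      rwa [inf_comm])
    have hi := Cfsg.Lib.Coprime.inf_center_ne_bot _ hne'
    obtain ⟨k, hk⟩ := IsPGroup.iff_card.1 (T.2.to_subgroup (L.subgroupOf (T : Subgroup G) ⊓ Subgroup.center _))
    have hk0 : k ≠ 0 := fun h0 => hi (card_eq_one.1 (by rw [hk, h0, pow_zero]))
    obtain ⟨⟨y, hy⟩, hyo⟩ := exists_prime_orderOf_dvd_card' p
      (show p ∣ Nat.card (L.subgroupOf (T : Subgroup G) ⊓ Subgroup.center _ : Subgroup (T : Subgroup G)) by
        rw [hk]; exact dvd_pow_self p hk0)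
    rw [Subgroup.orderOf_mk] at hyo
    refine ⟨y, ⟨y.2, mem_centralizer_iff.2 fun t ht => congrArg Subtype.val (mem_center_iff.1 hy.2 ⟨t, ht⟩)⟩,
      hy.1, ?_, fun h => ?_⟩
    · rw [← Subgroup.coe_pow, orderOf_dvd_iff_pow_eq_one.1 hyo.dvd, Subgroup.coe_one]
    · rw [show y = 1 from Subtype.ext h, orderOf_one] at hyo
      exact (Fact.out : p.Prime).ne_one hyo.symm
  set M := normalizer (zpowers z : Set G)
  have hzpg : IsPGroup p (zpowers z) := IsPGroup.of_card (n := 1)
    (by rw [Nat.card_zpowers, orderOf_eq_prime hzp hz1, pow_one])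
  have hM : CharPGroup p M := hH.2 _ hzpg (zpowers_ne_bot.2 hz1)
  have hcm : ∀ g : G, z * g = g * z → g ∈ M := fun g hg => by
    refine centralizer_le_normalizer _ (mem_centralizer_iff.2 ?_)
    rintro a ⟨i, rfl⟩
    exact ((show Commute z g from hg).zpow_left i).eq
  have hTM : (T : Subgroup G) ≤ M := fun t ht => hcm t (mem_centralizer_iff.1 hzT.2 t ht).symm
  intro l hl
  by_cases hlM : l ∈ M
  · have e := centralizer_Zp_normal hM (T.subtype hTM) (L.subgroupOf M) ⟨l, hlM⟩ hl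
    rw [zp_map, zp_map, map_inf _ _ _ M.subtype_injective, Sylow.coe_subtype,
      map_subgroupOf_eq_of_le hTM, subgroupOf_map_subtype] at e
    rwa [show (T : Subgroup G) ⊓ (L ⊓ M) = (T : Subgroup G) ⊓ L from by
      rw [← inf_assoc, inf_eq_left.2 (inf_le_left.trans hTM)]] at e
  · refine iff_of_false (fun h => hlM (hcm l (h z ⟨hzT, hzp⟩))) fun h => hlM (hcm l (h z ⟨⟨⟨hzT.1, hzL⟩, ?_⟩, hzp⟩))
    exact mem_centralizer_iff.2 fun t ht => mem_centralizer_iff.1 hzT.2 t ht.1

/-- Kieler's lemma in local characteristic `p`. -/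
theorem kieler_local (hH : Cfsg.IsOfLocalCharacteristic p G) (T : Sylow p G) {L : Subgroup G}
    (hL : L.IsSubnormal) (hne : (T : Subgroup G) ⊓ L ≠ ⊥) :
    ∀ l ∈ L, ((∀ z ∈ Zp p (T : Subgroup G), z * l = l * z) ↔
      ∀ z ∈ Zp p ((T : Subgroup G) ⊓ L), z * l = l * z) := by
  induction hL with
  | top => intro l _; rw [inf_top_eq]
  | step H K hle hK hN ih =>
    intro l hl
    haveI := hN
    have hneK : (T : Subgroup G) ⊓ K ≠ ⊥ := fun h => hne (le_bot_iff.1 (h ▸ inf_le_inf_left _ hle))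
    rw [ih hneK l (hle hl)]
    obtain ⟨TK, hTK⟩ := exists_sylow_of_subnormal T hK
    have e1 : (TK : Subgroup K).map K.subtype = (T : Subgroup G) ⊓ K := by
      rw [hTK, subgroupOf_map_subtype]
    have e2 : ((TK : Subgroup K) ⊓ H.subgroupOf K).map K.subtype = (T : Subgroup G) ⊓ H := by
      rw [map_inf _ _ _ K.subtype_injective, e1, map_subgroupOf_eq_of_le hle, inf_assoc, inf_eq_right.2 hle]
    have hd : p ∣ Nat.card K := by
      obtain ⟨k, hk⟩ := IsPGroup.iff_card.1 (T.2.to_le (inf_le_left : (T : Subgroup G) ⊓ K ≤ _))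
      rcases Nat.eq_zero_or_pos k with rfl | hk0
      · exact absurd (card_eq_one.1 (by rw [hk, pow_zero])) hneK
      · refine (dvd_pow_self p hk0.ne').trans ?_
        rw [← hk]
        exact card_dvd_of_le inf_le_right
    have hne2 : (TK : Subgroup K) ⊓ H.subgroupOf K ≠ ⊥ := fun h => hne (by rw [← e2, h, Subgroup.map_bot])
    have e := kieler_normal (localChar_subnormal hH hK hd) TK (H.subgroupOf K) hne2 ⟨l, hle hl⟩ hl
    rwa [zp_map, zp_map, e1, e2] at e

/-- a subnormal subgroup containing a Sylow subgroup contains every `p`-element -/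
theorem mem_of_subnormal_of_sylow_le (P : Sylow p G) {X : Subgroup G} (hX : X.IsSubnormal)
    (hP : (P : Subgroup G) ≤ X) {x : G} (hx : IsPGroup p (zpowers x)) : x ∈ X := by
  obtain ⟨Q, hQ⟩ := hx.exists_le_sylow
  obtain ⟨QX, hQX⟩ := exists_sylow_of_subnormal Q hX
  have hc : Nat.card (Q : Subgroup G) ≤ Nat.card ((Q : Subgroup G) ⊓ X : Subgroup G) := by
    rw [← subgroupOf_map_subtype, ← hQX, card_map_of_injective X.subtype_injective,
      Sylow.card_eq_multiplicity Q, ← Sylow.card_eq_multiplicity P, ← card_subgroupOf_of_le hP]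
    refine le_of_eq ?_
    rw [← Sylow.coe_subtype (h := hP), Sylow.card_eq_multiplicity, Sylow.card_eq_multiplicity]
  exact (eq_of_le_of_card_ge inf_le_left hc).ge (hQ (mem_zpowers x)) |>.2

theorem stabilizer_join (hH : Cfsg.IsOfLocalCharacteristic p G) (T : Sylow p G) (L₁ L₂ : Subgroup G)
    (h₁ : L₁.IsSubnormal) (h₂ : L₂.IsSubnormal) :
    Cfsg.pointStabilizer p (L₁ ⊔ L₂) ((T : Subgroup G) ⊓ (L₁ ⊔ L₂)) =
      Cfsg.pointStabilizer p L₁ ((T : Subgroup G) ⊓ L₁) ⊔ Cfsg.pointStabilizer p L₂ ((T : Subgroup G) ⊓ L₂) := by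
  set C := centralizer (Cfsg.omegaOne p ((T : Subgroup G) ⊓ centralizer ((T : Subgroup G) : Set G)) : Set G)
  have hTC : (T : Subgroup G) ≤ C := fun t ht => by
    rw [centralizer_omega_iff]
    intro z hz
    exact (mem_centralizer_iff.1 hz.1.2 t ht).symm
  -- rewrite the point stabilizers
  have hps : ∀ L : Subgroup G, L.IsSubnormal → Cfsg.pointStabilizer p L ((T : Subgroup G) ⊓ L) =
      Subgroup.closure {x : G | x ∈ L ⊓ C ∧ ∃ k, orderOf x = p ^ k} := by
    intro L hL
    rw [Cfsg.pointStabilizer]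
    refine congrArg Subgroup.closure (Set.ext fun x => and_congr_left fun ⟨k, hk⟩ => ?_)
    rw [mem_inf, mem_inf]
    refine and_congr_right fun hxL => ?_
    by_cases hne : (T : Subgroup G) ⊓ L = ⊥
    · -- a `p'`-group
      obtain ⟨TL, hTL⟩ := exists_sylow_of_subnormal T hL
      have hx1 : x = 1 := by
        have hxp : IsPGroup p (zpowers (⟨x, hxL⟩ : L)) := IsPGroup.of_card (n := k)
          (by rw [Nat.card_zpowers, Subgroup.orderOf_mk, hk])
        obtain ⟨Q, hQ⟩ := hxp.exists_le_sylow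
        have hQc : Nat.card (Q : Subgroup L) = 1 := by
          rw [Sylow.card_eq_multiplicity Q, ← Sylow.card_eq_multiplicity TL,
            ← card_map_of_injective L.subtype_injective, hTL, subgroupOf_map_subtype, hne, Subgroup.card_bot]
        have := hQ (mem_zpowers _)
        rw [card_eq_one.1 hQc, mem_bot] at this
        exact congrArg Subtype.val this
      subst hx1
      exact iff_of_true (one_mem _) (one_mem _)
    · rw [centralizer_omega_iff, centralizer_omega_iff]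
      exact (kieler_local hH T hL hne x hxL).symm
  have hsup := Cfsg.Lib.SolvStruct.isSubnormal_sup h₁ h₂
  rw [hps _ hsup, hps _ h₁, hps _ h₂]
  refine le_antisymm ?_ (sup_le (Subgroup.closure_mono ?_) (Subgroup.closure_mono ?_))
  rotate_left
  · rintro x ⟨hx, hk⟩
    exact ⟨⟨mem_sup_left hx.1, hx.2⟩, hk⟩
  · rintro x ⟨hx, hk⟩
    exact ⟨⟨mem_sup_right hx.1, hx.2⟩, hk⟩
  set D := (L₁ ⊔ L₂) ⊓ C with hD
  set W := fun L : Subgroup G => Subgroup.closure {x : G | x ∈ L ⊓ C ∧ ∃ k, orderOf x = p ^ k}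
  have hWle : ∀ L, W L ≤ L ⊓ C := fun L => (Subgroup.closure_le _).2 fun x hx => hx.1
  have hWn : ∀ L, L.IsSubnormal → L ≤ L₁ ⊔ L₂ → ((W L).subgroupOf D).IsSubnormal := by
    intro L hL hle
    have hLD : ((L ⊓ C).subgroupOf D).IsSubnormal := by
      have : (L.subgroupOf D).IsSubnormal := hL.subgroupOf
      rwa [show (L ⊓ C).subgroupOf D = L.subgroupOf D from by
        ext ⟨a, ha⟩
        simp only [mem_subgroupOf, mem_inf]
        exact ⟨fun h => h.1, fun h => ⟨h, ha.2⟩⟩]
    have hn : L ⊓ C ≤ normalizer (W L : Set G) := by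
      intro g hg
      rw [mem_normalizer_iff_map_conj_eq]
      show (W L).map (MulAut.conj g).toMonoidHom = W L
      refine eq_of_le_of_card_ge ?_ (card_map_of_injective (MulAut.conj g).injective).ge
      rw [MonoidHom.map_closure, Subgroup.closure_le]
      rintro _ ⟨a, ⟨ha, k, hk⟩, rfl⟩
      refine subset_closure ⟨mul_mem (mul_mem hg ha) (inv_mem hg), k, ?_⟩
      rw [← hk]
      exact MulEquiv.orderOf_eq (MulAut.conj g) a
    have hle' : (W L).subgroupOf D ≤ (L ⊓ C).subgroupOf D := comap_mono (hWle L)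
    have h1 : (((W L).subgroupOf D).subgroupOf ((L ⊓ C).subgroupOf D)).Normal := by
      refine normal_subgroupOf_of_le_normalizer fun a ha => mem_normalizer_iff.2 fun b => ?_
      exact mem_normalizer_iff.1 (hn ha) (b : G)
    have := isSubnormal_map_subtype hLD h1.isSubnormal
    rwa [map_subgroupOf_eq_of_le hle'] at this
  have hX := Cfsg.Lib.SolvStruct.isSubnormal_sup (hWn L₁ h₁ le_sup_left) (hWn L₂ h₂ le_sup_right)
  obtain ⟨TL, hTL⟩ := exists_sylow_of_subnormal T hsup
  have hTLD : (T : Subgroup G) ⊓ (L₁ ⊔ L₂) ≤ D := le_inf inf_le_right (inf_le_left.trans hTC)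
  have hcard : Nat.card (((T : Subgroup G) ⊓ (L₁ ⊔ L₂)).subgroupOf D) = p ^ (Nat.card D).factorization p := by
    refine le_antisymm ?_ ?_
    · obtain ⟨Q, hQ⟩ := ((T.2.to_le (inf_le_left : (T : Subgroup G) ⊓ (L₁ ⊔ L₂) ≤ _)).comap_subtype (K := D)).exists_le_sylow
      rw [← Sylow.card_eq_multiplicity Q]
      exact Nat.le_of_dvd Nat.card_pos (card_dvd_of_le hQ)
    · rw [card_subgroupOf_of_le hTLD, ← subgroupOf_map_subtype, ← hTL,
        card_map_of_injective (L₁ ⊔ L₂).subtype_injective, Sylow.card_eq_multiplicity TL]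
      exact Nat.pow_le_pow_right (Fact.out : p.Prime).pos
        ((Nat.factorization_le_iff_dvd Nat.card_pos.ne' Nat.card_pos.ne').2 (card_dvd_of_le inf_le_left) p)
  set X := W L₁ ⊔ W L₂ with hXdef
  have hXD : (W L₁).subgroupOf D ⊔ (W L₂).subgroupOf D = X.subgroupOf D :=
    (subgroupOf_sup ((hWle L₁).trans (inf_le_inf_right _ le_sup_left))
      ((hWle L₂).trans (inf_le_inf_right _ le_sup_right))).symm
  rw [hXD] at hX
  have hTX : ((Sylow.ofCard _ hcard : Sylow p D) : Subgroup D) ≤ X.subgroupOf D := by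
    rw [Sylow.coe_ofCard]
    refine comap_mono ?_
    rw [inf_comm, Cfsg.Lib.SubnormalSylow.join_inf_sylow_eq T L₁ L₂ h₁ h₂]
    have hin : ∀ L, L ⊓ (T : Subgroup G) ≤ W L := fun L a ha => by
      obtain ⟨k, hk⟩ := IsPGroup.iff_orderOf.1 T.2 ⟨a, ha.2⟩
      rw [Subgroup.orderOf_mk] at hk
      exact subset_closure ⟨⟨ha.1, hTC ha.2⟩, k, hk⟩
    exact sup_le_sup (hin L₁) (hin L₂)
  rw [Subgroup.closure_le]
  rintro x ⟨hxD, k, hk⟩
  exact mem_subgroupOf.1 (mem_of_subnormal_of_sylow_le _ hX hTX (x := ⟨x, hxD⟩)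
    (IsPGroup.of_card (n := k) (by rw [Nat.card_zpowers, Subgroup.orderOf_mk, hk])))

end Cfsg.Lib.Misc.PointStabilizerJoin
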