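import Cfsg.Agent.RootSub.SL2
import Mathlib.GroupTheory.PGroup

/-!
An irreducible module for `SL₂(F)` in the characteristic of `F` with quadratic action of the
unipotent group, or with large fixed space for it, is the natural module.
-/

set_option autoImplicit false
set_option linter.unusedSectionVars false

namespace Cfsg.Lib.QuadSL2

open Cfsg.Lib.RootSub

section mat

variable {F : Type*} [Field F]

local notation "SL2" => Matrix.SpecialLinearGroup (Fin 2) F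

/-- the diagonal element -/
def dg (a : Fˣ) : SL2 := ⟨!![(a : F), 0; 0, ((a⁻¹ : Fˣ) : F)], by simp [Matrix.det_fin_two]⟩

theorem dg_coe (a : Fˣ) :
    ((dg a : SL2) : Matrix (Fin 2) (Fin 2) F) = !![(a : F), 0; 0, ((a⁻¹ : Fˣ) : F)] := rfl

/-- the Weyl element -/
def w : SL2 := upEl 1 * loEl (-1) * upEl 1

theorem w_coe : ((w : SL2) : Matrix (Fin 2) (Fin 2) F) = !![0, 1; -1, 0] := by
  ext i j; fin_cases i <;> fin_cases j <;>
    simp [w, upEl_coe, loEl_coe, Matrix.SpecialLinearGroup.coe_mul, Matrix.mul_apply, Fin.sum_univ_two]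

theorem w_lo (b : F) : (w : SL2) * loEl b = upEl (-b) * w := by
  ext i j; fin_cases i <;> fin_cases j <;>
    simp [w_coe, upEl_coe, loEl_coe, Matrix.SpecialLinearGroup.coe_mul, Matrix.mul_apply, Fin.sum_univ_two]

theorem w_up (a : F) : (w : SL2) * upEl a = loEl (-a) * w := by
  ext i j; fin_cases i <;> fin_cases j <;>
    simp [w_coe, upEl_coe, loEl_coe, Matrix.SpecialLinearGroup.coe_mul, Matrix.mul_apply, Fin.sum_univ_two]

theorem w_dg (a : Fˣ) : (w : SL2) * dg a = dg a⁻¹ * w := by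
  ext i j; fin_cases i <;> fin_cases j <;>
    simp [w_coe, dg_coe, Matrix.SpecialLinearGroup.coe_mul, Matrix.mul_apply, Fin.sum_univ_two]

theorem w_mul_w : (w : SL2) * w = dg (-1) := by
  ext i j; fin_cases i <;> fin_cases j <;>
    simp [w_coe, dg_coe, Matrix.SpecialLinearGroup.coe_mul, Matrix.mul_apply, Fin.sum_univ_two]

theorem dg_mul (a b : Fˣ) : (dg a : SL2) * dg b = dg (a * b) := by
  ext i j; fin_cases i <;> fin_cases j <;>
    simp [dg_coe, Matrix.SpecialLinearGroup.coe_mul, Matrix.mul_apply, Fin.sum_univ_two, mul_comm]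

theorem up_dg (a : Fˣ) (t : F) :
    upEl t * (dg a : SL2) = dg a * upEl (((a⁻¹ : Fˣ) : F) * t * ((a⁻¹ : Fˣ) : F)) := by
  ext i j; fin_cases i <;> fin_cases j <;>
    simp [dg_coe, upEl_coe, Matrix.SpecialLinearGroup.coe_mul, Matrix.mul_apply, Fin.sum_univ_two]
  field_simp

theorem lo_dg (a : Fˣ) (t : F) :
    loEl t * (dg a : SL2) = dg a * loEl ((a : F) * t * (a : F)) := by
  ext i j; fin_cases i <;> fin_cases j <;>
    simp [dg_coe, loEl_coe, Matrix.SpecialLinearGroup.coe_mul, Matrix.mul_apply, Fin.sum_univ_two]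
  field_simp

theorem big_cell (a : Fˣ) : upEl (a : F) * loEl (-((a⁻¹ : Fˣ) : F)) * upEl (a : F) = (dg a : SL2) * w := by
  ext i j; fin_cases i <;> fin_cases j <;>
    simp [w_coe, dg_coe, upEl_coe, loEl_coe, Matrix.SpecialLinearGroup.coe_mul, Matrix.mul_apply, Fin.sum_univ_two]

/-- a subgroup containing all root elements is everything -/
theorem gen (H : Subgroup SL2) (hu : ∀ a, upEl a ∈ H) (hl : ∀ b, loEl b ∈ H) : ∀ g, g ∈ H := by
  intro g
  have h : g ∈ lowerUnipotentSL2 F ⊔ upperUnipotentSL2 F := lower_sup_upper.ge (Subgroup.mem_top g)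
  refine (sup_le (fun x hx => ?_) (fun x hx => ?_) :
    lowerUnipotentSL2 F ⊔ upperUnipotentSL2 F ≤ H) h
  · obtain ⟨t, rfl⟩ := mem_lower_iff.mp hx; exact hl t
  · obtain ⟨t, rfl⟩ := mem_upper_iff.mp hx; exact hu t

end mat

variable {F : Type*} [Field F] [Fintype F] {M : Type*} [AddCommGroup M] [Finite M]
  (ρ : Matrix.SpecialLinearGroup (Fin 2) F →* AddMonoid.End M)

local notation "SL2" => Matrix.SpecialLinearGroup (Fin 2) F

theorem rho_mul (g h : SL2) (m : M) : ρ (g * h) m = ρ g (ρ h m) := by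
  rw [map_mul]; rfl

theorem rho_one (m : M) : ρ 1 m = m := by
  rw [map_one]; rfl

theorem rho_inv_apply (g : SL2) (m : M) : ρ g⁻¹ (ρ g m) = m := by
  rw [← rho_mul, inv_mul_cancel, rho_one]

theorem rho_apply_inv (g : SL2) (m : M) : ρ g (ρ g⁻¹ m) = m := by
  rw [← rho_mul, mul_inv_cancel, rho_one]

theorem fixed_all (m : M) (hu : ∀ a, ρ (upEl a) m = m) (hl : ∀ b, ρ (loEl b) m = m) (g : SL2) :
    ρ g m = m :=
  gen { carrier := {g | ρ g m = m}
        mul_mem' := fun {g h} hg hh => by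
          simp only [Set.mem_setOf_eq] at hg hh ⊢; rw [rho_mul, hh, hg]
        one_mem' := rho_one ρ m
        inv_mem' := fun {g} hg => by
          simp only [Set.mem_setOf_eq] at hg ⊢; conv_lhs => rw [← hg, rho_inv_apply] } hu hl g

theorem inv_all (U : AddSubgroup M) (hu : ∀ a, ∀ m ∈ U, ρ (upEl a) m ∈ U)
    (hl : ∀ b, ∀ m ∈ U, ρ (loEl b) m ∈ U) (g : SL2) : ∀ m ∈ U, ρ g m ∈ U :=
  gen { carrier := {g | ∀ m ∈ U, ρ g m ∈ U}
        mul_mem' := fun {g h} hg hh m hm => by rw [rho_mul]; exact hg _ (hh m hm)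
        one_mem' := fun m hm => by rw [rho_one]; exact hm
        inv_mem' := fun {g} hg => by
          intro m hm
          let f : U → U := fun x => ⟨ρ g x, hg x x.2⟩
          have hf : Function.Injective f := fun x y h => Subtype.ext (by
            have h' : ρ g (x : M) = ρ g (y : M) := congrArg Subtype.val h
            rw [← rho_inv_apply ρ g (x : M), h', rho_inv_apply])
          obtain ⟨x, hx⟩ := Finite.injective_iff_surjective.mp hf ⟨m, hm⟩
          have hx' : ρ g (x : M) = m := congrArg Subtype.val hx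
          rw [← hx', rho_inv_apply]; exact x.2 } hu hl g

/-- fixed points of the upper unipotent group -/
def fix : AddSubgroup M where
  carrier := {m | ∀ a, ρ (upEl a) m = m}
  zero_mem' a := map_zero _
  add_mem' hx hy a := by rw [map_add, hx a, hy a]
  neg_mem' hx a := by rw [map_neg, hx a]

theorem dg_fix (a : Fˣ) {c : M} (hc : c ∈ fix ρ) : ρ (dg a) c ∈ fix ρ := fun t => by
  rw [← rho_mul, up_dg, rho_mul, hc _]

/-- the opposite of a fixed point -/
def op (m : M) : M := ρ (w : SL2)⁻¹ m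

theorem op_add (x y : M) : op ρ (x + y) = op ρ x + op ρ y := map_add _ _ _

theorem lo_op {c : M} (hc : c ∈ fix ρ) (b : F) : ρ (loEl b) (op ρ c) = op ρ c := by
  unfold op
  rw [← rho_mul, show loEl b * (w : SL2)⁻¹ = w⁻¹ * upEl (-b) by
    rw [eq_inv_mul_iff_mul_eq, ← mul_assoc, w_lo, mul_inv_cancel_right], rho_mul, hc]

theorem up_op (a : F) (c : M) : ρ (upEl a) (op ρ c) = op ρ (ρ (loEl (-a)) c) := by
  unfold op
  rw [← rho_mul, show upEl a * (w : SL2)⁻¹ = w⁻¹ * loEl (-a) by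
    rw [eq_inv_mul_iff_mul_eq, ← mul_assoc, w_up, mul_inv_cancel_right], rho_mul]

theorem lo_eq_op (b : F) (c : M) : ρ (loEl b) c = op ρ (ρ (upEl (-b)) (ρ w c)) := by
  unfold op
  rw [← rho_mul ρ (upEl (-b)) w, ← rho_mul, ← w_lo, inv_mul_cancel_left]

theorem op_op (c : M) : op ρ (op ρ c) = ρ (dg (-1)) c := by
  unfold op
  rw [← rho_mul, ← mul_inv_rev, w_mul_w]
  congr 2
  exact inv_eq_of_mul_eq_one_right (by rw [dg_mul]; ext i j; fin_cases i <;> fin_cases j <;> simp [dg_coe])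

theorem w_eq_op (c : M) : ρ w c = op ρ (ρ (dg (-1)) c) := by
  unfold op
  rw [← rho_mul, ← w_mul_w, inv_mul_cancel_left]

theorem dg_op (a : Fˣ) (c : M) : ρ (dg a) (op ρ c) = op ρ (ρ (dg a⁻¹) c) := by
  unfold op
  rw [← rho_mul, show dg a * (w : SL2)⁻¹ = w⁻¹ * dg a⁻¹ by
    rw [eq_inv_mul_iff_mul_eq, ← mul_assoc, w_dg, mul_inv_cancel_right], rho_mul]

theorem w_op (c : M) : ρ w (op ρ c) = c := rho_apply_inv ρ _ c

theorem op_inj {x y : M} (h : op ρ x = op ρ y) : x = y := by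
  rw [← w_op ρ x, h, w_op]

variable (hirr : ∀ U : AddSubgroup M, (∀ g : Matrix.SpecialLinearGroup (Fin 2) F, ∀ m ∈ U, ρ g m ∈ U) → U = ⊥ ∨ U = ⊤)
  (hnt : ∃ g : Matrix.SpecialLinearGroup (Fin 2) F, ∃ m, ρ g m ≠ m)

include hirr hnt

theorem disjoint {x : M} (hx : x ∈ fix ρ) {y : M} (hy : y ∈ fix ρ) (h : x = op ρ y) : x = 0 := by
  let D : AddSubgroup M :=
    { carrier := {m | ∀ g : SL2, ρ g m = m}
      zero_mem' := fun g => map_zero _
      add_mem' := fun hx hy g => by rw [map_add, hx g, hy g]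
      neg_mem' := fun hx g => by rw [map_neg, hx g] }
  have hxD : x ∈ D := fun g => fixed_all ρ x hx (fun b => by rw [h]; exact lo_op ρ hy b) g
  rcases hirr D (fun g m hm => by rw [hm g]; exact hm) with e | e
  · rw [e] at hxD; exact hxD
  · obtain ⟨g, m, hm⟩ := hnt
    exact absurd ((e.ge (AddSubgroup.mem_top m)) g) hm

theorem unique {x y x' y' : M} (hx : x ∈ fix ρ) (hy : y ∈ fix ρ) (hx' : x' ∈ fix ρ) (hy' : y' ∈ fix ρ)
    (h : x + op ρ y = x' + op ρ y') : x = x' ∧ y = y' := by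
  have h1 : x - x' = op ρ (y' - y) := by
    unfold op at h ⊢
    rw [map_sub, sub_eq_sub_iff_add_eq_add]
    rw [h, add_comm]
  have h2 := disjoint ρ hirr hnt (sub_mem hx hx') (sub_mem hy' hy) h1
  refine ⟨sub_eq_zero.mp h2, op_inj ρ ?_⟩
  rw [sub_eq_zero.mp h2] at h
  exact add_left_cancel h

/-- quadratic action gives the decomposition -/
theorem decomp_of_quadratic
    (hq : ∀ (a b : F) (m : M), ρ (upEl b) (ρ (upEl a) m - m) = ρ (upEl a) m - m) :
    (∀ m, ∃ x ∈ fix ρ, ∃ y ∈ fix ρ, m = x + op ρ y) ∧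
      ∀ (a : F), ∀ c ∈ fix ρ, ρ (upEl a) (op ρ c) - op ρ c ∈ fix ρ := by
  have hd : ∀ (a : F) (m : M), ρ (upEl a) m - m ∈ fix ρ := fun a m b => hq a b m
  refine ⟨?_, fun a c _ => hd a _⟩
  let U : AddSubgroup M :=
    { carrier := {m | ∃ x ∈ fix ρ, ∃ y ∈ fix ρ, m = x + op ρ y}
      zero_mem' := ⟨0, zero_mem _, 0, zero_mem _, by unfold op; rw [map_zero, add_zero]⟩
      add_mem' := by
        rintro _ _ ⟨x, hx, y, hy, rfl⟩ ⟨x', hx', y', hy', rfl⟩
        exact ⟨x + x', add_mem hx hx', y + y', add_mem hy hy', by rw [op_add]; abel⟩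
      neg_mem' := by
        rintro _ ⟨x, hx, y, hy, rfl⟩
        exact ⟨-x, neg_mem hx, -y, neg_mem hy, by unfold op; rw [map_neg]; abel⟩ }
  have hup : ∀ a, ∀ m ∈ U, ρ (upEl a) m ∈ U := by
    rintro a _ ⟨x, hx, y, hy, rfl⟩
    refine ⟨x + (ρ (upEl a) (op ρ y) - op ρ y), add_mem hx (hd a _), y, hy, ?_⟩
    rw [map_add, hx a]; abel
  have hlo : ∀ b, ∀ m ∈ U, ρ (loEl b) m ∈ U := by
    rintro b _ ⟨x, hx, y, hy, rfl⟩
    refine ⟨x, hx, (ρ (upEl (-b)) (ρ w x) - ρ w x) + y, add_mem (hd _ _) hy, ?_⟩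
    rw [map_add, lo_op ρ hy b, lo_eq_op ρ b x, op_add]
    unfold op
    rw [map_sub, rho_inv_apply]
    abel
  rcases hirr U (inv_all ρ U hup hlo) with e | e
  · exfalso
    have hC : ∀ c ∈ fix ρ, c = 0 := fun c hc => by
      have : c ∈ U := ⟨c, hc, 0, zero_mem _, by unfold op; rw [map_zero, add_zero]⟩
      rw [e] at this; exact this
    have hu : ∀ (a : F) (m : M), ρ (upEl a) m = m := fun a m => sub_eq_zero.mp (hC _ (hd a m))
    have hl : ∀ (b : F) (m : M), ρ (loEl b) m = m := fun b m => by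
      rw [lo_eq_op, hu]; exact rho_inv_apply ρ _ m
    obtain ⟨g, m, hm⟩ := hnt
    exact hm (fixed_all ρ m (fun a => hu a m) (fun b => hl b m) g)
  · exact fun m => e.ge (AddSubgroup.mem_top m)

/-- a large fixed space gives the decomposition -/
theorem decomp_of_card {p n : ℕ} [hp : Fact p.Prime] (hF : Fintype.card F = p ^ n)
    (hexp : ∀ m : M, p • m = 0) (hc : Nat.card M ≤ Nat.card (fix ρ) ^ 2) :
    (∀ m, ∃ x ∈ fix ρ, ∃ y ∈ fix ρ, m = x + op ρ y) ∧
      ∀ (a : F), ∀ c ∈ fix ρ, ρ (upEl a) (op ρ c) - op ρ c ∈ fix ρ := by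
  let E : fix ρ × fix ρ → M := fun q => (q.1 : M) + op ρ (q.2 : M)
  have hEi : Function.Injective E := fun q r h => by
    obtain ⟨h1, h2⟩ := unique ρ hirr hnt q.1.2 q.2.2 r.1.2 r.2.2 h
    exact Prod.ext (Subtype.ext h1) (Subtype.ext h2)
  have hEb : Function.Bijective E := by
    refine (Nat.bijective_iff_injective_and_card E).mpr ⟨hEi, le_antisymm ?_ ?_⟩
    · exact Nat.card_le_card_of_injective E hEi
    · rwa [Nat.card_prod, ← pow_two]
  have hdec : ∀ m, ∃ x ∈ fix ρ, ∃ y ∈ fix ρ, m = x + op ρ y := fun m => by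
    obtain ⟨q, hq⟩ := hEb.2 m
    exact ⟨q.1, q.1.2, q.2, q.2.2, hq.symm⟩
  refine ⟨hdec, ?_⟩
  obtain ⟨πC, hπC⟩ : ∃ πC : M → fix ρ, ∀ (x y : fix ρ), πC ((x : M) + op ρ (y : M)) = x :=
    ⟨fun m => ((Equiv.ofBijective E hEb).symm m).1, fun x y => by
      rw [show (x : M) + op ρ (y : M) = Equiv.ofBijective E hEb (x, y) from rfl]
      exact congrArg Prod.fst (Equiv.symm_apply_apply (Equiv.ofBijective E hEb) (x, y))⟩
  have hop0 : op ρ (0 : M) = 0 := map_zero _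
  have hπC0 : ∀ x : fix ρ, πC (x : M) = x := fun x => by
    have := hπC x 0
    rwa [ZeroMemClass.coe_zero, hop0, add_zero] at this
  letI : MulAction (Multiplicative F) (fix ρ) :=
    { smul := fun b c => πC (ρ (loEl b.toAdd) (c : M))
      one_smul := fun c => by
        show πC (ρ (loEl (0 : F)) (c : M)) = c
        rw [loEl_zero, rho_one, hπC0]
      mul_smul := fun a b c => by
        show πC (ρ (loEl (a.toAdd + b.toAdd)) (c : M)) =
          πC (ρ (loEl a.toAdd) ((πC (ρ (loEl b.toAdd) (c : M))) : M))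
        obtain ⟨x, hx, y, hy, h⟩ := hdec (ρ (loEl b.toAdd) (c : M))
        have hx' : πC (ρ (loEl b.toAdd) (c : M)) = ⟨x, hx⟩ := by rw [h]; exact hπC ⟨x, hx⟩ ⟨y, hy⟩
        rw [hx', ← loEl_mul, rho_mul, h, map_add, lo_op ρ hy]
        obtain ⟨x₂, hx₂, y₂, hy₂, h₂⟩ := hdec (ρ (loEl a.toAdd) x)
        show πC (ρ (loEl a.toAdd) x + op ρ y) = πC (ρ (loEl a.toAdd) x)
        rw [h₂, add_assoc, ← op_add]
        exact (hπC ⟨x₂, hx₂⟩ ⟨y₂ + y, add_mem hy₂ hy⟩).trans (hπC ⟨x₂, hx₂⟩ ⟨y₂, hy₂⟩).symm }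
  have hCne : ∃ c ∈ fix ρ, c ≠ 0 := by
    by_contra! hno
    obtain ⟨g, m, hm⟩ := hnt
    apply hm
    obtain ⟨x, hx, y, hy, rfl⟩ := hdec m
    rw [hno x hx, hno y hy, hop0, add_zero, map_zero]
  have hdvd : p ∣ Nat.card (fix ρ) := by
    obtain ⟨c, hc, hc0⟩ := hCne
    have ho : addOrderOf (⟨c, hc⟩ : fix ρ) = p :=
      addOrderOf_eq_prime (Subtype.ext (hexp c)) (fun h => hc0 (congrArg Subtype.val h))
    exact ho ▸ addOrderOf_dvd_natCard _
  have hFp : IsPGroup p (Multiplicative F) := IsPGroup.of_card (n := n) (by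
    rw [Nat.card_congr Multiplicative.toAdd, Nat.card_eq_fintype_card, hF])
  obtain ⟨c₀, hc₀, hc₀ne⟩ := hFp.exists_fixed_point_of_prime_dvd_card_of_fixed_point (fix ρ) hdvd
    (a := (0 : fix ρ)) (fun b => by
      show πC (ρ (loEl b.toAdd) ((0 : fix ρ) : M)) = 0
      rw [ZeroMemClass.coe_zero, map_zero]; exact hπC0 0)
  -- the points moved by `loEl` only into the opposite space
  let N : AddSubgroup M :=
    { carrier := {c | c ∈ fix ρ ∧ ∀ b, ∃ k ∈ fix ρ, ρ (loEl b) c = c + op ρ k}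
      zero_mem' := ⟨zero_mem _, fun b => ⟨0, zero_mem _, by rw [map_zero, hop0, add_zero]⟩⟩
      add_mem' := by
        rintro x y ⟨hx, hx'⟩ ⟨hy, hy'⟩
        refine ⟨add_mem hx hy, fun b => ?_⟩
        obtain ⟨k, hk, e⟩ := hx' b
        obtain ⟨l, hl, e'⟩ := hy' b
        exact ⟨k + l, add_mem hk hl, by rw [map_add, e, e', op_add]; abel⟩
      neg_mem' := by
        rintro x ⟨hx, hx'⟩
        refine ⟨neg_mem hx, fun b => ?_⟩
        obtain ⟨k, hk, e⟩ := hx' b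
        exact ⟨-k, neg_mem hk, by unfold op at e ⊢; rw [map_neg, e, map_neg]; abel⟩ }
  have hc₀N : (c₀ : M) ∈ N := by
    refine ⟨c₀.2, fun b => ?_⟩
    obtain ⟨x, hx, y, hy, h⟩ := hdec (ρ (loEl b) (c₀ : M))
    refine ⟨y, hy, ?_⟩
    have h1 : πC (ρ (loEl b) (c₀ : M)) = c₀ := hc₀ (Multiplicative.ofAdd b)
    rw [h, hπC ⟨x, hx⟩ ⟨y, hy⟩] at h1
    rw [h, ← h1]
  have hdgN : ∀ (a : Fˣ), ∀ c ∈ N, ρ (dg a) c ∈ N := by
    rintro a c ⟨hc1, hc2⟩
    refine ⟨dg_fix ρ a hc1, fun b => ?_⟩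
    obtain ⟨k, hk, e⟩ := hc2 ((a : F) * b * (a : F))
    exact ⟨ρ (dg a⁻¹) k, dg_fix ρ _ hk, by rw [← rho_mul, lo_dg, rho_mul, e, map_add, dg_op]⟩
  have hupop : ∀ k ∈ N, ∀ s : F, ρ (upEl s) (op ρ k) - op ρ k ∈ fix ρ := by
    rintro k ⟨_, hk2⟩ s
    obtain ⟨l, hl, e⟩ := hk2 (-s)
    rw [up_op, e, op_add, add_sub_cancel_left, op_op]
    exact dg_fix ρ _ hl
  have hNlo : ∀ c ∈ N, ∀ b, ∃ k ∈ N, ρ (loEl b) c = c + op ρ k := by
    intro c hc b
    by_cases hb : b = 0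
    · exact ⟨0, zero_mem _, by rw [hb, loEl_zero, rho_one, hop0, add_zero]⟩
    obtain ⟨l, hl, e⟩ := hc.2 b
    set a : Fˣ := -(Units.mk0 b hb)⁻¹ with ha
    have hb' : loEl b = upEl (-(a : F)) * (dg a * w) * upEl (-(a : F)) := by
      rw [← big_cell, ← upEl_inv]
      have : (-((a⁻¹ : Fˣ) : F)) = b := by simp [ha]
      rw [this]; group
    set k := ρ (dg a⁻¹) (ρ (dg (-1)) c)
    have hk : k ∈ N := hdgN _ _ (hdgN _ _ hc)
    have e2 : ρ (loEl b) c = ρ (upEl (-(a : F))) (op ρ k) := by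
      rw [hb', rho_mul, hc.1, rho_mul, rho_mul, w_eq_op, dg_op]
    refine ⟨k, hk, ?_⟩
    rw [e] at e2
    have h3 := hupop k hk (-(a : F))
    obtain ⟨-, hlk⟩ := unique ρ hirr hnt hc.1 hl h3 hk.1
      (show c + op ρ l = (ρ (upEl (-(a : F))) (op ρ k) - op ρ k) + op ρ k by rw [e2]; abel)
    rw [e, hlk]
  let V : AddSubgroup M :=
    { carrier := {m | ∃ x ∈ N, ∃ y ∈ N, m = x + op ρ y}
      zero_mem' := ⟨0, zero_mem _, 0, zero_mem _, by rw [hop0, add_zero]⟩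
      add_mem' := by
        rintro _ _ ⟨x, hx, y, hy, rfl⟩ ⟨x', hx', y', hy', rfl⟩
        exact ⟨x + x', add_mem hx hx', y + y', add_mem hy hy', by rw [op_add]; abel⟩
      neg_mem' := by
        rintro _ ⟨x, hx, y, hy, rfl⟩
        exact ⟨-x, neg_mem hx, -y, neg_mem hy, by unfold op; rw [map_neg]; abel⟩ }
  have hVlo : ∀ b, ∀ m ∈ V, ρ (loEl b) m ∈ V := by
    rintro b _ ⟨x, hx, y, hy, rfl⟩
    obtain ⟨k, hk, e⟩ := hNlo x hx b
    exact ⟨x, hx, k + y, add_mem hk hy, by rw [map_add, e, lo_op ρ hy.1, op_add]; abel⟩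
  have hVup : ∀ a, ∀ m ∈ V, ρ (upEl a) m ∈ V := by
    rintro a _ ⟨x, hx, y, hy, rfl⟩
    obtain ⟨k, hk, e⟩ := hNlo y hy (-a)
    exact ⟨x + ρ (dg (-1)) k, add_mem hx (hdgN _ k hk), y, hy, by
      rw [map_add, hx.1 a, up_op, e, op_add, op_op]; abel⟩
  rcases hirr V (inv_all ρ V hVup hVlo) with e | e
  · exfalso
    have : (c₀ : M) ∈ V := ⟨c₀, hc₀N, 0, zero_mem _, by rw [hop0, add_zero]⟩
    rw [e] at this
    exact hc₀ne (Subtype.ext (AddSubgroup.mem_bot.mp this).symm)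
  · intro a c hc
    obtain ⟨x, hx, y, hy, h⟩ := e.ge (AddSubgroup.mem_top c)
    obtain ⟨h1, -⟩ := unique ρ hirr hnt hc (zero_mem _) hx.1 hy.1
      (show c + op ρ 0 = x + op ρ y by rw [hop0, add_zero, h])
    exact hupop c (h1 ▸ hx) a

/-- the coordinates -/
theorem natural (hdec : ∀ m, ∃ x ∈ fix ρ, ∃ y ∈ fix ρ, m = x + op ρ y)
    (hkey : ∀ (a : F), ∀ c ∈ fix ρ, ρ (upEl a) (op ρ c) - op ρ c ∈ fix ρ) :
    ∃ Φ : (Fin 2 → F) ≃+ M, ∀ (g : SL2) (f : Fin 2 → F),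
      ρ g (Φ f) = Φ ((g : Matrix (Fin 2) (Fin 2) F).mulVec f) := by
  let θ : F → M → M := fun a c => ρ (upEl a) (op ρ c) - op ρ c
  have hop0 : op ρ (0 : M) = 0 := map_zero _
  have hθC : ∀ a, ∀ c ∈ fix ρ, θ a c ∈ fix ρ := hkey
  have hθ0 : ∀ c, θ 0 c = 0 := fun c => by
    show ρ (upEl 0) _ - _ = _; rw [upEl_zero, rho_one, sub_self]
  have hθadd : ∀ a b, ∀ c ∈ fix ρ, θ (a + b) c = θ a c + θ b c := by
    intro a b c hc
    show ρ (upEl (a + b)) _ - _ = _
    have h := hθC b c hc a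
    simp only [θ, map_sub] at h ⊢
    rw [← upEl_mul, rho_mul]
    rw [sub_eq_iff_eq_add] at h
    rw [h]; abel
  have hθneg : ∀ a, ∀ c ∈ fix ρ, θ (-a) c = - θ a c := fun a c hc => by
    rw [eq_neg_iff_add_eq_zero, ← hθadd _ _ c hc, neg_add_cancel, hθ0]
  have hθlin : ∀ a x y, θ a (x + y) = θ a x + θ a y := fun a x y => by
    simp only [θ, op_add, map_add]; abel
  have hup : ∀ a c, ρ (upEl a) (op ρ c) = θ a c + op ρ c := fun a c => by simp [θ]
  -- the lower group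
  have hlo0 : ∀ b, ∀ c ∈ fix ρ, ρ (loEl b) c = c + op ρ (θ (-b) (ρ (dg (-1)) c)) := by
    intro b c _
    rw [lo_eq_op, w_eq_op ρ c, hup, op_add, op_op, ← rho_mul, dg_mul,
      show ((-1 : Fˣ) * -1) = 1 by simp, add_comm]
    congr 1
    rw [show (dg (1 : Fˣ) : SL2) = 1 by ext i j; fin_cases i <;> fin_cases j <;> simp [dg_coe], rho_one]
  -- the value at one and the action of the central involution
  have hcalc : ∀ (a : F) (b : F), ∀ c ∈ fix ρ, ρ (upEl a * loEl b * upEl a) (op ρ c) =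
      (θ a c + θ a (c + θ (-b) (ρ (dg (-1)) (θ a c)))) + op ρ (c + θ (-b) (ρ (dg (-1)) (θ a c))) := by
    intro a b c hc
    rw [rho_mul, rho_mul, hup, map_add, hlo0 b _ (hθC a c hc), lo_op ρ hc, add_assoc, ← op_add,
      map_add, hθC a c hc a, hup, add_comm (θ (-b) _) c]
    abel
  have hone : ∀ c ∈ fix ρ, θ 1 c = c ∧ ρ (dg (-1)) c = -c := by
    intro c hc
    have h := hcalc 1 (-1) c hc
    rw [show upEl (1 : F) * loEl (-1) * upEl 1 = w from rfl, w_op, neg_neg] at h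
    set y := c + θ 1 (ρ (dg (-1)) (θ 1 c))
    have hy : y ∈ fix ρ := add_mem hc (hθC _ _ (dg_fix ρ _ (hθC _ _ hc)))
    obtain ⟨h1, h2⟩ := unique ρ hirr hnt (add_mem (hθC 1 c hc) (hθC 1 y hy)) hy hc (zero_mem _)
      (by rw [hop0, add_zero]; exact h.symm)
    have h3 : θ 1 c = c := by
      rw [h2] at h1
      simpa [θ, hop0] using h1
    refine ⟨h3, ?_⟩
    have h4 : θ 1 (ρ (dg (-1)) c) = -c := by
      simp only [y, h3] at h2
      exact eq_neg_of_add_eq_zero_right h2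
    have h5 : ∀ d ∈ fix ρ, θ 1 d = d := by
      intro d hd
      have h := hcalc 1 (-1) d hd
      rw [show upEl (1 : F) * loEl (-1) * upEl 1 = w from rfl, w_op, neg_neg] at h
      have hy' : d + θ 1 (ρ (dg (-1)) (θ 1 d)) ∈ fix ρ :=
        add_mem hd (hθC _ _ (dg_fix ρ _ (hθC _ _ hd)))
      obtain ⟨h1, h2⟩ := unique ρ hirr hnt (add_mem (hθC 1 d hd) (hθC 1 _ hy')) hy' hd (zero_mem _)
        (by rw [hop0, add_zero]; exact h.symm)
      rw [h2] at h1
      simpa [θ, hop0] using h1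
    rwa [h5 _ (dg_fix ρ _ hc)] at h4
  have hlo : ∀ b, ∀ c ∈ fix ρ, ρ (loEl b) c = c + op ρ (θ b c) := by
    intro b c hc
    rw [hlo0 b c hc, (hone c hc).2, hθneg b _ (neg_mem hc)]
    congr 2
    simp only [θ, op, map_neg]
    abel
  have hdg : ∀ (a : Fˣ), ∀ c ∈ fix ρ, ρ (dg a) c = θ (a : F) c := by
    intro a c hc
    have h := hcalc (a : F) (-((a⁻¹ : Fˣ) : F)) c hc
    rw [big_cell, rho_mul, w_op, neg_neg] at h
    set y := c + θ ((a⁻¹ : Fˣ) : F) (ρ (dg (-1)) (θ (a : F) c))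
    have hy : y ∈ fix ρ := add_mem hc (hθC _ _ (dg_fix ρ _ (hθC _ _ hc)))
    obtain ⟨h1, h2⟩ := unique ρ hirr hnt (dg_fix ρ a hc) (zero_mem _)
      (add_mem (hθC (a : F) c hc) (hθC _ y hy)) hy (by rw [hop0, add_zero]; exact h)
    rw [h1, ← h2]
    simp [θ, hop0]
  have hθmul : ∀ a b, ∀ c ∈ fix ρ, θ (a * b) c = θ a (θ b c) := by
    intro a b c hc
    by_cases ha : a = 0
    · rw [ha, zero_mul, hθ0, hθ0]
    by_cases hb : b = 0
    · rw [hb, mul_zero, hθ0]; simp [θ, hop0]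
    have h := hdg (Units.mk0 a ha * Units.mk0 b hb) c hc
    rw [← dg_mul, rho_mul, hdg _ c hc, hdg _ _ (hθC _ _ hc)] at h
    exact h.symm
  obtain ⟨c₁, hc₁, hc₁0⟩ : ∃ c ∈ fix ρ, c ≠ 0 := by
    by_contra! hno
    obtain ⟨g, m, hm⟩ := hnt
    apply hm
    obtain ⟨x, hx, y, hy, rfl⟩ := hdec m
    rw [hno x hx, hno y hy, hop0, add_zero, map_zero]
  let Φ : (Fin 2 → F) →+ M :=
    AddMonoidHom.mk' (fun f => θ (f 0) c₁ + op ρ (θ (f 1) c₁)) fun f f' => by
      simp only [Pi.add_apply, hθadd _ _ c₁ hc₁, op_add]; abel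
  have hC : ∀ t, θ t c₁ ∈ fix ρ := fun t => hθC t c₁ hc₁
  have heq : ∀ (g : SL2) (f : Fin 2 → F), ρ g (Φ f) = Φ ((g : Matrix (Fin 2) (Fin 2) F).mulVec f) := by
    refine gen
      { carrier := {g | ∀ f : Fin 2 → F, ρ g (Φ f) = Φ ((g : Matrix (Fin 2) (Fin 2) F).mulVec f)}
        mul_mem' := fun {g h} hg hh f => by
          rw [rho_mul, hh, hg, Matrix.SpecialLinearGroup.coe_mul, Matrix.mulVec_mulVec]
        one_mem' := fun f => by rw [rho_one, Matrix.SpecialLinearGroup.coe_one, Matrix.one_mulVec]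
        inv_mem' := fun {g} hg f => by
          have h := hg ((((g⁻¹ : SL2)) : Matrix (Fin 2) (Fin 2) F).mulVec f)
          rw [Matrix.mulVec_mulVec, ← Matrix.SpecialLinearGroup.coe_mul, mul_inv_cancel,
            Matrix.SpecialLinearGroup.coe_one, Matrix.one_mulVec] at h
          rw [← h, rho_inv_apply] } (fun a f => ?_) (fun b f => ?_)
    · simp only [Φ, AddMonoidHom.mk'_apply, map_add, hC (f 0) a, hup, upEl_coe, Matrix.mulVec,
        dotProduct, Fin.sum_univ_two]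
      simp [hθadd _ _ c₁ hc₁, hθmul _ _ c₁ hc₁]
      abel
    · simp only [Φ, AddMonoidHom.mk'_apply, map_add, hlo b _ (hC (f 0)), lo_op ρ (hC (f 1)),
        loEl_coe, Matrix.mulVec, dotProduct, Fin.sum_univ_two]
      simp [hθadd _ _ c₁ hc₁, hθmul _ _ c₁ hc₁, op_add]
      abel
  have hθinj : ∀ t, θ t c₁ = 0 → t = 0 := by
    intro t ht
    by_contra ht0
    apply hc₁0
    rw [← (hone c₁ hc₁).1, ← inv_mul_cancel₀ ht0, hθmul _ _ c₁ hc₁, ht]
    simp [θ, hop0]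
  have hinj : Function.Injective Φ := by
    rw [injective_iff_map_eq_zero]
    intro f hf
    obtain ⟨h1, h2⟩ := unique ρ hirr hnt (hC (f 0)) (hC (f 1)) (zero_mem _) (zero_mem _)
      (show θ (f 0) c₁ + op ρ (θ (f 1) c₁) = 0 + op ρ 0 by
        rw [hop0, add_zero]; exact hf)
    funext i
    fin_cases i
    · exact hθinj _ h1
    · exact hθinj _ h2
  have hsurj : Function.Surjective Φ := by
    rcases hirr Φ.range (by rintro g _ ⟨f, rfl⟩; exact ⟨_, (heq g f).symm⟩) with e | e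
    · exfalso
      have h : Φ ![1, 0] = 0 := by
        have : Φ ![1, 0] ∈ Φ.range := ⟨_, rfl⟩
        rw [e] at this; exact this
      have := congrFun (hinj (h.trans (map_zero Φ).symm)) 0
      simp at this
    · exact AddMonoidHom.range_eq_top.mp e
  exact ⟨AddEquiv.ofBijective Φ ⟨hinj, hsurj⟩, heq⟩

end Cfsg.Lib.QuadSL2
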