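import Cfsg.Agent.PGroups.NormalFour
import Cfsg.Agent.SolvStruct.PGroupBasics
import Cfsg.Agent.PGroups.Bounds
import Cfsg.Agent.Coprime.Fitting
import Cfsg.Prelude.Def_CaseTheorems
import Cfsg.Prelude.Def_Transfer

/-! Chains of commuting elementary abelian subgroups in a `p`-group of rank at least three. -/

set_option autoImplicit false
set_option linter.style.haveILetI false

open Subgroup

namespace Cfsg.Lib.RankConnected

variable {P : Type*} [Group P] [Finite P] {p : ℕ} [Fact p.Prime]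

theorem elem_sup {A B : Subgroup P} (hA : Cfsg.IsElementaryAbelian p A)
    (hB : Cfsg.IsElementaryAbelian p B) (h : ∀ a ∈ A, ∀ b ∈ B, a * b = b * a) :
    Cfsg.IsElementaryAbelian p (A ⊔ B) := by
  have hc : IsMulCommutative ↥(A ⊔ B) := by
    rw [show A ⊔ B = Subgroup.closure ((A : Set P) ∪ B) by rw [Subgroup.closure_union, Subgroup.closure_eq, Subgroup.closure_eq]]
    refine isMulCommutative_closure ?_
    rintro a (ha | ha) b (hb | hb)
    · exact congrArg Subtype.val (hA.1.is_comm.comm (⟨a, ha⟩ : A) ⟨b, hb⟩)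
    · exact h a ha b hb
    · exact (h b hb a ha).symm
    · exact congrArg Subtype.val (hB.1.is_comm.comm (⟨a, ha⟩ : B) ⟨b, hb⟩)
  refine ⟨hc, fun y hy => ?_⟩
  obtain ⟨a, ha, b, hb, rfl⟩ := (Cfsg.Lib.Coprime.mem_sup_of_le_normalizer (x := y)
    ((fun b hb => Subgroup.centralizer_le_normalizer _
      (mem_centralizer_iff.2 fun a ha => h a ha b hb) : B ≤ normalizer (A : Set P)))).mp hy
  rw [(show Commute a b from h a ha b hb).mul_pow, hA.2 a ha, hB.2 b hb, one_mul]

theorem elem_le {A B : Subgroup P} (hB : Cfsg.IsElementaryAbelian p B) (h : A ≤ B) :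
    Cfsg.IsElementaryAbelian p A :=
  ⟨⟨⟨fun a b => Subtype.ext (congrArg (fun x : B => (x : P))
      (hB.1.is_comm.comm (⟨a, h a.2⟩ : B) ⟨b, h b.2⟩))⟩⟩,
    fun a ha => hB.2 a (h ha)⟩

theorem exists_big (h : ¬ Cfsg.PRankLE p 2 P) :
    ∃ E : Subgroup P, Cfsg.IsElementaryAbelian p E ∧ p ^ 2 < Nat.card E := by
  rw [Cfsg.PRankLE] at h
  push Not at h
  obtain ⟨E, h1, h2, h3⟩ := h
  exact ⟨E, ⟨h1, h2⟩, h3⟩

theorem rank_of_big {C E : Subgroup P} (hE : Cfsg.IsElementaryAbelian p E) (hEC : E ≤ C)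
    (hc : p ^ 2 < Nat.card E) : ¬ Cfsg.PRankLE p 2 C := by
  intro h
  have h1 := h (E.subgroupOf C)
    ⟨⟨fun a b => Subtype.ext (Subtype.ext (congrArg (fun x : E => (x : P))
      (hE.1.is_comm.comm (⟨_, a.2⟩ : E) ⟨_, b.2⟩) :))⟩⟩
    (fun a ha => Subtype.ext (hE.2 a ha))
  rw [Nat.card_congr (Subgroup.subgroupOfEquivOfLe hEC).toEquiv] at h1
  omega

theorem exists_normal_sq (hP : IsPGroup p P) (hrk : ¬ Cfsg.PRankLE p 2 P) :
    ∃ U : Subgroup P, U.Normal ∧ Cfsg.IsElementaryAbelian p U ∧ Nat.card U = p ^ 2 := by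
  obtain ⟨E, hE, hEc⟩ := exists_big hrk
  by_cases hp : p = 2
  · subst hp
    obtain ⟨k, hk⟩ := IsPGroup.iff_card.1 (hP.to_subgroup E)
    have h3 : 3 ≤ k := by
      rw [hk] at hEc
      have := (Nat.pow_lt_pow_iff_right (by norm_num : 1 < 2)).1 hEc
      omega
    obtain ⟨E', hE', hE'le⟩ := Sylow.exists_subgroup_card_pow_prime_le (G := E) 2
      (m := 3) (by rw [hk]; exact Nat.pow_dvd_pow 2 h3) (⊥ : Subgroup E) (n := 0) (by simp) (by omega)
    obtain ⟨U, hU, hU4⟩ := Cfsg.Lib.PGroups.exists_normal_four hP (E'.map E.subtype)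
      (by rw [Subgroup.card_map_of_injective E.subtype_injective, hE']; norm_num)
      (fun e he => by
        have := hE.2 e (Subgroup.map_subtype_le E' he)
        rwa [sq] at this)
    have hsq : ∀ a ∈ U, a * a = 1 := fun a ha => by
      have := Monoid.pow_exponent_eq_one (⟨a, ha⟩ : U)
      rw [hU4.exponent_two, sq] at this
      exact congrArg Subtype.val this
    refine ⟨U, hU, ⟨⟨⟨fun a b => ?_⟩⟩, fun a ha => by rw [sq]; exact hsq a ha⟩, ?_⟩
    · have h1 : (a * b) * (a * b) = 1 := Subtype.ext (hsq _ (mul_mem a.2 b.2))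
      have h2 : a⁻¹ = a := inv_eq_of_mul_eq_one_right (Subtype.ext (hsq _ a.2))
      have h3 : b⁻¹ = b := inv_eq_of_mul_eq_one_right (Subtype.ext (hsq _ b.2))
      have h4 := inv_eq_of_mul_eq_one_right h1
      rw [mul_inv_rev, h2, h3] at h4
      exact h4.symm
    · rw [hU4.card_four]; norm_num
  · refine Cfsg.Lib.SolvStruct.exists_normal_elementary_sq hp hP fun hcyc => ?_
    haveI := hcyc
    classical
    haveI : Fintype P := Fintype.ofFinite P
    haveI : Fintype E := Fintype.ofFinite E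
    have h1 : Fintype.card E ≤ p := by
      refine le_trans ?_ (IsCyclic.card_pow_eq_one_le (α := P) (Fact.out : p.Prime).pos)
      rw [← Finset.card_univ, ← Finset.card_map ⟨Subtype.val, Subtype.val_injective⟩]
      refine Finset.card_le_card fun x hx => ?_
      obtain ⟨e, -, rfl⟩ := Finset.mem_map.1 hx
      exact Finset.mem_filter.2 ⟨Finset.mem_univ _, hE.2 e e.2⟩
    rw [← Nat.card_eq_fintype_card] at h1
    have : p ≤ p ^ 2 := Nat.le_self_pow (by norm_num) p
    omega

set_option maxHeartbeats 400000 in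
theorem main (hP : IsPGroup p P) (hrk : ¬ Cfsg.PRankLE p 2 P) :
    ∃ U : Subgroup P, U.Normal ∧ Cfsg.IsElementaryAbelian p U ∧ Nat.card ↥U = p ^ 2 ∧
      ∀ X : Subgroup P, Cfsg.IsElementaryAbelian p X → p ^ 2 ≤ Nat.card ↥X →
        (Relation.ReflTransGen (fun A B : Subgroup P => Cfsg.IsElementaryAbelian p A ∧ p ^ 2 ≤ Nat.card ↥A ∧
          Cfsg.IsElementaryAbelian p B ∧ p ^ 2 ≤ Nat.card ↥B ∧ ∀ a ∈ A, ∀ b ∈ B, a * b = b * a) X U ↔
          ¬ Cfsg.PRankLE p 2 ↥(Subgroup.centralizer (X : Set P))) := by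
  obtain ⟨U, hUn, hU, hUc⟩ := exists_normal_sq hP hrk
  haveI := hUn
  have hp := (Fact.out : p.Prime)
  have hCi : (centralizer (U : Set P)).index ≤ p := by
    have := Cfsg.Lib.PGroups.index_centralizer_le_of_normal hP 2 U hUn hUc
    simpa using this
  have hstep : ∀ E : Subgroup P, Cfsg.IsElementaryAbelian p E → p ^ 2 < Nat.card E →
      Cfsg.IsElementaryAbelian p (E ⊓ centralizer (U : Set P)) ∧
        p ^ 2 ≤ Nat.card ↥(E ⊓ centralizer (U : Set P)) := by
    intro E hE hEc
    refine ⟨elem_le hE inf_le_left, ?_⟩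
    set D := E ⊓ centralizer (U : Set P)
    have h1 : Nat.card D * D.relIndex E = Nat.card E := by
      have := Subgroup.relIndex_mul_relIndex ⊥ D E bot_le inf_le_left
      simpa [relIndex_bot_left] using this
    have h2 : D.relIndex E ≤ p := by
      refine le_trans ?_ hCi
      show (E ⊓ centralizer (U : Set P)).relIndex E ≤ _
      rw [inf_relIndex_left]
      exact Nat.le_of_dvd (Nat.pos_of_ne_zero index_ne_zero_of_finite)
        (relIndex_dvd_index_of_normal _ _)
    obtain ⟨i, hi⟩ := IsPGroup.iff_card.1 (hP.to_subgroup D)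
    rw [hi] at h1 ⊢
    by_contra hlt
    have h4 := Nat.mul_le_mul (Nat.pow_le_pow_right hp.pos
      (show i ≤ 1 by
        by_contra h
        exact hlt (Nat.pow_le_pow_right hp.pos (by omega)))) h2
    rw [h1, pow_one, ← sq] at h4
    omega
  refine ⟨U, hUn, hU, hUc, fun X hX hXc => ⟨fun hch => ?_, fun hC => ?_⟩⟩
  · -- the centraliser contains an elementary abelian subgroup of order `p³`
    have hXX : X ≤ centralizer (X : Set P) := fun x hx => mem_centralizer_iff.2 fun y hy =>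
      congrArg Subtype.val (hX.1.is_comm.comm (⟨y, hy⟩ : X) ⟨x, hx⟩)
    by_cases hbig : p ^ 2 < Nat.card X
    · exact rank_of_big hX hXX hbig
    have key : X = U ∨ ∃ B, B ≠ X ∧ (Cfsg.IsElementaryAbelian p X ∧ p ^ 2 ≤ Nat.card ↥X ∧
        Cfsg.IsElementaryAbelian p B ∧ p ^ 2 ≤ Nat.card ↥B ∧ ∀ a ∈ X, ∀ b ∈ B, a * b = b * a) := by
      clear hbig hXX
      induction hch using Relation.ReflTransGen.head_induction_on with
      | refl => exact Or.inl rfl
      | @head a c hac _ ih =>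
        by_cases h : c = a
        · subst h; exact ih hX hXc
        · exact Or.inr ⟨c, h, hac⟩
    rcases key with rfl | ⟨B, hBX, -, -, hB, hBc, hcomm⟩
    · obtain ⟨E, hE, hEc⟩ := exists_big hrk
      by_cases hEU : E ⊓ centralizer (X : Set P) ≤ X
      · obtain ⟨-, h2⟩ := hstep E hE hEc
        have heq : E ⊓ centralizer (X : Set P) = X :=
          Subgroup.eq_of_le_of_card_ge hEU (by omega)
        have hXE : X ≤ E := fun x hx => (Subgroup.mem_inf.1 (heq.ge hx)).1
        refine rank_of_big hE (fun e he => mem_centralizer_iff.2 fun x hx => ?_) hEc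
        exact congrArg Subtype.val (hE.1.is_comm.comm (⟨x, hXE hx⟩ : E) ⟨e, he⟩)
      · obtain ⟨h1, -⟩ := hstep E hE hEc
        have hlt : X < X ⊔ (E ⊓ centralizer (X : Set P)) :=
          lt_of_le_of_ne le_sup_left fun h => hEU (le_sup_right.trans (le_of_eq h.symm))
        have hab : ∀ a ∈ X, ∀ b ∈ E ⊓ centralizer (X : Set P), a * b = b * a := fun a ha b hb =>
          mem_centralizer_iff.1 (Subgroup.mem_inf.1 hb).2 a ha
        have hle : X ⊔ (E ⊓ centralizer (X : Set P)) ≤ centralizer (X : Set P) :=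
          sup_le hXX inf_le_right
        have hEl := elem_sup hX h1 hab
        refine rank_of_big hEl hle ?_
        refine lt_of_le_of_lt hXc ?_
        by_contra hle
        exact hlt.ne (Subgroup.eq_of_le_of_card_ge hlt.le (not_lt.1 hle))
    · have hBX' : ¬ B ≤ X := fun h => hBX (Subgroup.eq_of_le_of_card_ge h (by omega))
      have hlt : X < X ⊔ B := lt_of_le_of_ne le_sup_left fun h => hBX' (le_sup_right.trans (le_of_eq h.symm))
      refine rank_of_big (elem_sup hX hB hcomm) (sup_le hXX fun b hb =>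
        mem_centralizer_iff.2 fun a ha => hcomm a ha b hb) ?_
      refine lt_of_le_of_lt hXc ?_
      by_contra hle
      exact hlt.ne (Subgroup.eq_of_le_of_card_ge hlt.le (not_lt.1 hle))
  · rw [Cfsg.PRankLE] at hC
    push Not at hC
    obtain ⟨E₀, hc, he, hcard⟩ := hC
    set E := E₀.map (centralizer (X : Set P)).subtype
    have hEcard : Nat.card E = Nat.card E₀ := Subgroup.card_map_of_injective (Subgroup.subtype_injective _)
    have hE : Cfsg.IsElementaryAbelian p E := by
      refine ⟨⟨⟨?_⟩⟩, ?_⟩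
      · rintro ⟨_, a, ha, rfl⟩ ⟨_, b, hb, rfl⟩
        exact Subtype.ext (congrArg (fun x : E₀ => ((x : centralizer (X : Set P)) : P))
          (hc.is_comm.comm (⟨a, ha⟩ : E₀) ⟨b, hb⟩))
      · rintro _ ⟨a, ha, rfl⟩
        rw [← map_pow, he a ha, map_one]
    obtain ⟨h1, h2⟩ := hstep E hE (by omega)
    have c1 : ∀ a ∈ X, ∀ b ∈ E, a * b = b * a := fun a ha b hb =>
      mem_centralizer_iff.1 (Subgroup.map_subtype_le _ hb) a ha
    have c2 : ∀ a ∈ E, ∀ b ∈ E ⊓ centralizer (U : Set P), a * b = b * a := fun a ha b hb =>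
      congrArg Subtype.val (hE.1.is_comm.comm (⟨a, ha⟩ : E) ⟨b, (Subgroup.mem_inf.1 hb).1⟩)
    have c3 : ∀ a ∈ E ⊓ centralizer (U : Set P), ∀ b ∈ U, a * b = b * a := fun a ha b hb =>
      (mem_centralizer_iff.1 (Subgroup.mem_inf.1 ha).2 b hb).symm
    exact ((Relation.ReflTransGen.single ⟨hX, hXc, hE, by omega, c1⟩).tail
      ⟨hE, by omega, h1, h2, c2⟩).tail ⟨h1, h2, hU, hUc.ge, c3⟩

end Cfsg.Lib.RankConnected
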