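import Cfsg.Agent.Components.Misc.RankConnected
import Cfsg.Agent.PGroups.NormalRankFour
import Cfsg.Prelude.Def_Balance

/-! Three-groups of rank at least four are 2-connected. -/

set_option autoImplicit false
set_option linter.style.haveILetI false

open Subgroup

namespace Cfsg.Lib.RankFourThree

theorem card_le_cube {A : Type*} [Group A] [Finite A] (f : A →* A) (h : ∀ a, f (f (f a)) = 1) :
    Nat.card A ≤ Nat.card f.ker ^ 3 := by
  have step : ∀ g : A →* A, Nat.card (f.comp g).ker ≤ Nat.card f.ker * Nat.card g.ker := by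
    intro g
    set K := (f.comp g).ker
    let r : K →* f.ker := MonoidHom.codRestrict (g.comp K.subtype) f.ker fun x => x.2
    calc Nat.card K = Nat.card r.ker * r.ker.index := (r.ker.card_mul_index).symm
      _ ≤ Nat.card g.ker * Nat.card f.ker := by
        refine Nat.mul_le_mul ?_ ?_
        · refine Nat.card_le_card_of_injective
            (fun x : r.ker => (⟨((x : K) : A), congrArg Subtype.val x.2⟩ : g.ker)) ?_
          intro x y hxy
          exact Subtype.ext (Subtype.ext (congrArg Subtype.val hxy :))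
        · rw [Subgroup.index_ker]
          exact Subgroup.card_le_card_group _
      _ = _ := Nat.mul_comm _ _
  have e : (f.comp (f.comp f)).ker = ⊤ := eq_top_iff.2 fun a _ => h a
  calc Nat.card A = Nat.card (f.comp (f.comp f)).ker := by rw [e, Subgroup.card_top]
    _ ≤ Nat.card f.ker * Nat.card (f.comp f).ker := step _
    _ ≤ Nat.card f.ker * (Nat.card f.ker * Nat.card f.ker) := Nat.mul_le_mul_left _ (step f)
    _ = _ := by ring

variable {P : Type*} [Group P] [Finite P]

theorem nine_le (A : Subgroup P) [hn : A.Normal] (hA : Cfsg.IsElementaryAbelian 3 A)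
    (hAc : Nat.card A = 3 ^ 4) (hP : IsPGroup 3 P) (x : P) (hx : x ^ 3 = 1) :
    3 ^ 2 ≤ Nat.card ↥(A ⊓ centralizer ({x} : Set P)) := by
  haveI := hA.1
  letI : CommGroup A := { (inferInstance : Group A) with mul_comm := fun a b => Std.Commutative.comm a b }
  let σ : A →* A := ((MulAut.conjNormal x : MulAut A)).toMonoidHom
  let δ : A →* A := σ / MonoidHom.id A
  have hσ3 : ∀ a, σ (σ (σ a)) = a := by
    intro a
    apply Subtype.ext
    show x * (x * (x * (a : P) * x⁻¹) * x⁻¹) * x⁻¹ = a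
    calc x * (x * (x * (a : P) * x⁻¹) * x⁻¹) * x⁻¹ = (x * x * x) * a * (x * x * x)⁻¹ := by group
      _ = x ^ 3 * a * (x ^ 3)⁻¹ := by rw [pow_succ x 2, sq]
      _ = a := by rw [hx, one_mul, inv_one, mul_one]
  have h3 : ∀ a : A, a ^ 3 = 1 := fun a => Subtype.ext (hA.2 a a.2)
  have hδ : ∀ a, δ (δ (δ a)) = 1 := by
    intro a
    show σ (σ (σ a / a) / (σ a / a)) / (σ (σ a / a) / (σ a / a)) = 1
    simp only [map_div, hσ3]
    set u := σ (σ a)
    set v := σ a
    have key : a / u / (u / v) / (u / v / (v / a)) = (v ^ 3) / (u ^ 3) := by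
      apply Additive.ofMul.injective
      simp only [ofMul_div, ofMul_pow]
      abel
    rw [key, h3, h3, div_one]
  have h := card_le_cube δ hδ
  rw [hAc] at h
  have e : δ.ker.map A.subtype = A ⊓ centralizer ({x} : Set P) := by
    ext w
    rw [Subgroup.mem_inf, mem_centralizer_singleton_iff]
    constructor
    · rintro ⟨a, ha, rfl⟩
      refine ⟨a.2, ?_⟩
      have h1 : x * (a : P) * x⁻¹ = a := congrArg Subtype.val (div_eq_one.1 (ha : σ a / a = 1))
      exact (mul_inv_eq_iff_eq_mul.1 h1).symm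
    · rintro ⟨hw, hc⟩
      refine ⟨⟨w, hw⟩, ?_, rfl⟩
      show σ ⟨w, hw⟩ / ⟨w, hw⟩ = 1
      rw [div_eq_one]
      exact Subtype.ext (by
        show x * w * x⁻¹ = w
        rw [← hc, mul_inv_cancel_right])
  have hcard : Nat.card ↥(A ⊓ centralizer ({x} : Set P)) = Nat.card δ.ker := by
    rw [← e, Subgroup.card_map_of_injective A.subtype_injective]
  obtain ⟨i, hi⟩ := IsPGroup.iff_card.1 ((hP.to_subgroup A).to_subgroup δ.ker)
  rw [hi] at h hcard
  rw [hcard]
  refine Nat.pow_le_pow_right (by norm_num) ?_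
  by_contra hlt
  interval_cases i <;> norm_num at h

theorem main (hP : IsPGroup 3 P) (hrk : ¬ Cfsg.PRankLE 3 3 P) : Cfsg.IsKConnected 3 2 P := by
  haveI : Fact (Nat.Prime 3) := ⟨by norm_num⟩
  rw [Cfsg.PRankLE] at hrk
  push Not at hrk
  obtain ⟨E, hEc, hEe, hE⟩ := hrk
  obtain ⟨i, hi⟩ := IsPGroup.iff_card.1 (hP.to_subgroup E)
  rw [hi] at hE
  have hi4 : 4 ≤ i := (Nat.pow_lt_pow_iff_right (by norm_num)).1 hE
  obtain ⟨E', hE', -⟩ := Sylow.exists_subgroup_card_pow_prime_le (G := E) 3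
    (m := 4) (by rw [hi]; exact Nat.pow_dvd_pow 3 hi4) (⊥ : Subgroup E) (n := 0) (by simp) (by omega)
  obtain ⟨A, hAn, hA, hAc⟩ := Cfsg.Lib.PGroups.NormalRankFour.exists_normal_rank_four (by norm_num) hP
    (E'.map E.subtype) (Cfsg.Lib.RankConnected.elem_le ⟨hEc, hEe⟩ (Subgroup.map_subtype_le E'))
    (by rw [Subgroup.card_map_of_injective E.subtype_injective, hE'])
  haveI := hAn
  let R : Subgroup P → Subgroup P → Prop := fun X Y =>
    Cfsg.IsElementaryAbelian 3 X ∧ 3 ^ 2 ≤ Nat.card ↥X ∧ Cfsg.IsElementaryAbelian 3 Y ∧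
      3 ^ 2 ≤ Nat.card ↥Y ∧ ∀ a ∈ X, ∀ b ∈ Y, a * b = b * a
  have hA2 : 3 ^ 2 ≤ Nat.card A := by rw [hAc]; norm_num
  have hcommA : ∀ a ∈ A, ∀ b ∈ A, a * b = b * a := fun a ha b hb =>
    congrArg Subtype.val (hA.1.is_comm.comm (⟨a, ha⟩ : A) ⟨b, hb⟩)
  have key : ∀ X, Cfsg.IsElementaryAbelian 3 X → 3 ^ 2 ≤ Nat.card X → Relation.ReflTransGen R X A := by
    intro X hX hXc
    by_cases hXA : X ≤ A
    · exact Relation.ReflTransGen.single ⟨hX, hXc, hA, hA2, fun a ha b hb => hcommA a (hXA ha) b hb⟩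
    obtain ⟨x, hx, hxA⟩ := SetLike.not_le_iff_exists.1 hXA
    have hAne : A ≠ ⊥ := fun h => by rw [h, Subgroup.card_bot] at hAc; norm_num at hAc
    obtain ⟨K, hK, -, hKA, hKc⟩ := Cfsg.Lib.PGroups.exists_normal_relIndex_prime hP (N := ⊥) (M := A)
      (bot_lt_iff_ne_bot.2 hAne)
    rw [relIndex_bot_left] at hKc
    haveI := hK
    have hKZ := Cfsg.Lib.PGroups.le_center_of_card_eq_prime hP hKc
    have hxX : zpowers x ≤ X := zpowers_le.2 hx
    have hKe := Cfsg.Lib.RankConnected.elem_le hA hKA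
    have hxe := Cfsg.Lib.RankConnected.elem_le hX hxX
    have hKx : ∀ a ∈ K, ∀ b ∈ zpowers x, a * b = b * a := fun a ha b _ =>
      (mem_center_iff.1 (hKZ ha) b).symm
    have hY := Cfsg.Lib.RankConnected.elem_sup hKe hxe hKx
    have hlt : K < K ⊔ zpowers x := lt_of_le_of_ne le_sup_left fun h =>
      hxA (hKA (le_sup_right.trans (le_of_eq h.symm) (mem_zpowers x)))
    have hYc : 3 ^ 2 ≤ Nat.card ↥(K ⊔ zpowers x) := by
      obtain ⟨j, hj⟩ := IsPGroup.iff_card.1 (hP.to_subgroup (K ⊔ zpowers x))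
      rw [hj]
      refine Nat.pow_le_pow_right (by norm_num) ?_
      by_contra hj2
      refine hlt.ne (Subgroup.eq_of_le_of_card_ge hlt.le ?_)
      rw [hj, hKc]
      calc 3 ^ j ≤ 3 ^ 1 := Nat.pow_le_pow_right (by norm_num) (by omega)
        _ = 3 := by norm_num
    have hB := Cfsg.Lib.RankConnected.elem_le hA (inf_le_left : A ⊓ centralizer ({x} : Set P) ≤ A)
    have hBc := nine_le A hA hAc hP x (hX.2 x hx)
    have c1 : ∀ a ∈ X, ∀ b ∈ K ⊔ zpowers x, a * b = b * a := by
      intro a ha b hb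
      have hle : K ⊔ zpowers x ≤ centralizer ({a} : Set P) := sup_le
        (fun k hk => mem_centralizer_singleton_iff.2 (mem_center_iff.1 (hKZ hk) a).symm)
        (fun k hk => mem_centralizer_singleton_iff.2
          (congrArg Subtype.val (hX.1.is_comm.comm (⟨k, hxX hk⟩ : X) ⟨a, ha⟩)))
      exact (mem_centralizer_singleton_iff.1 (hle hb)).symm
    have c2 : ∀ a ∈ K ⊔ zpowers x, ∀ b ∈ A ⊓ centralizer ({x} : Set P), a * b = b * a := by
      intro a ha b hb
      have hle : K ⊔ zpowers x ≤ centralizer ({b} : Set P) := sup_le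
        (fun k hk => mem_centralizer_singleton_iff.2 (mem_center_iff.1 (hKZ hk) b).symm)
        (zpowers_le.2 (mem_centralizer_singleton_iff.2
          (mem_centralizer_singleton_iff.1 (mem_inf.1 hb).2).symm))
      exact mem_centralizer_singleton_iff.1 (hle ha)
    have c3 : ∀ a ∈ A ⊓ centralizer ({x} : Set P), ∀ b ∈ A, a * b = b * a := fun a ha b hb =>
      hcommA a (mem_inf.1 ha).1 b hb
    exact ((Relation.ReflTransGen.single ⟨hX, hXc, hY, hYc, c1⟩).tail ⟨hY, hYc, hB, hBc, c2⟩).tail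
      ⟨hB, hBc, hA, hA2, c3⟩
  intro X Y hX hXc hY hYc
  refine (key X hX hXc).trans ?_
  have hsym : ∀ U V, R U V → R V U := fun U V h =>
    ⟨h.2.2.1, h.2.2.2.1, h.1, h.2.1, fun a ha b hb => (h.2.2.2.2 b hb a ha).symm⟩
  have hrev : ∀ U V, Relation.ReflTransGen R U V → Relation.ReflTransGen R V U := by
    intro U V h
    induction h with
    | refl => exact Relation.ReflTransGen.refl
    | tail _ h2 ih => exact Relation.ReflTransGen.head (hsym _ _ h2) ih
  exact hrev Y A (key Y hY hYc)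

end Cfsg.Lib.RankFourThree
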