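import Cfsg.Agent.Transfer.Basic
import Cfsg.Agent.Known.SylowTwoMain
import Mathlib.GroupTheory.Transfer
import Mathlib.LinearAlgebra.Dimension.Finite
import Mathlib.LinearAlgebra.Matrix.GeneralLinearGroup.Defs
import Mathlib.LinearAlgebra.Matrix.ToLin

/-!
Sylow `2`-subgroups inside `GL₃(q)`, `q` odd, of three-rank: the transfer of a central involution.
-/

set_option autoImplicit false
set_option linter.unusedSectionVars false

open Subgroup

namespace Cfsg.Lib.RankThreeGL3

section transfer

variable {G : Type*} [Group G] [Finite G]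

/-- a finite commutative group with an involution has a subgroup of index two -/
theorem exists_index_two_comm {A : Type*} [CommGroup A] [Finite A] {a : A} (ha : a ≠ 1)
    (ha2 : a * a = 1) : ∃ K : Subgroup A, K.index = 2 := by
  set sq : A →* A := powMonoidHom 2
  have hne : sq.range ≠ ⊤ := fun h => by
    have hi := Finite.injective_iff_surjective.mpr (MonoidHom.range_eq_top.mp h)
    exact ha (hi (show sq a = sq 1 by simp [sq, pow_two, ha2]))
  have hp : IsPGroup 2 (A ⧸ sq.range) := fun q => ⟨1, by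
    obtain ⟨x, rfl⟩ := QuotientGroup.mk_surjective q
    rw [pow_one, ← QuotientGroup.mk_pow, QuotientGroup.eq_one_iff]
    exact ⟨x, rfl⟩⟩
  obtain ⟨M, -, hM⟩ := Cfsg.Lib.Known.SylowTwoMax.exists_index_two hp (H := ⊥) (fun h => hne (by
    rw [eq_top_iff]
    intro x _
    exact (QuotientGroup.eq_one_iff x).mp (mem_bot.mp (h.ge (mem_top (x : A ⧸ sq.range))))))
  exact ⟨M.comap (QuotientGroup.mk' sq.range), by
    rw [index_comap_of_surjective _ (QuotientGroup.mk'_surjective _), hM]⟩

/-- transfer of a central involution -/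
theorem exists_index_two (X : Subgroup G) (hX : IsPGroup 2 X) (hXodd : ¬ 2 ∣ X.index)
    {A : Type*} [CommGroup A]
    (χ : ↥X →* A) {z : G} (hzS : z ∈ X) (hz2 : z * z = 1)
    (hzc : ∀ s ∈ X, Commute s z) (hz1 : χ ⟨z, hzS⟩ ≠ 1)
    (hval : ∀ s : ↥X, s * s = 1 → χ s = 1 ∨ χ s = χ ⟨z, hzS⟩)
    (hN : ∀ g ∈ normalizer (X : Set G), g⁻¹ * z * g = z) :
    ∃ K : Subgroup G, K.index = 2 := by
  classical
  haveI : Fact (Nat.Prime 2) := ⟨Nat.prime_two⟩
  haveI := Fintype.ofFinite (G ⧸ X)
  haveI := Fintype.ofFinite (Quotient (MulAction.orbitRel (zpowers z) (G ⧸ X)))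
  set a := χ ⟨z, hzS⟩ with ha
  have ha2 : a * a = 1 := by
    rw [ha, ← map_mul, show (⟨z, hzS⟩ * ⟨z, hzS⟩ : ↥X) = 1 from Subtype.ext hz2, map_one]
  -- the value at a fixed coset
  let φ : G ⧸ X → A := fun c => if h : c.out⁻¹ * z * c.out ∈ X then χ ⟨_, h⟩ else 1
  have hfix : ∀ c : G ⧸ X, z • c = c ↔ c.out⁻¹ * z * c.out ∈ X := by
    intro c
    conv_lhs => rw [← QuotientGroup.out_eq' c]
    rw [MulAction.Quotient.smul_mk, QuotientGroup.eq, smul_eq_mul]
    have e : (z * c.out)⁻¹ * c.out = (c.out⁻¹ * z * c.out)⁻¹ := by group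
    rw [e, inv_mem_iff]
  have hφ : ∀ (c : G ⧸ X) (g : G) (h : g⁻¹ * z * g ∈ X), (g : G ⧸ X) = c → φ c = χ ⟨_, h⟩ := by
    intro c g h hc
    obtain ⟨x, hx⟩ := QuotientGroup.mk_out_eq_mul X g
    rw [← hc]
    have hh : (g * x)⁻¹ * z * (g * (x : G)) = (x : G)⁻¹ * (g⁻¹ * z * g) * x := by group
    have hmem : ((g : G ⧸ X).out)⁻¹ * z * (g : G ⧸ X).out ∈ X := by
      rw [hx, hh]; exact mul_mem (mul_mem (inv_mem x.2) h) x.2
    show (if h' : _ then χ ⟨_, h'⟩ else 1) = _
    rw [dif_pos hmem]
    have he : (⟨_, hmem⟩ : ↥X) = x⁻¹ * ⟨_, h⟩ * x := Subtype.ext (by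
      show ((g : G ⧸ X).out)⁻¹ * z * (g : G ⧸ X).out = (x : G)⁻¹ * (g⁻¹ * z * g) * x
      rw [hx, hh])
    rw [he, map_mul, map_mul, map_inv, inv_mul_cancel_comm]
  -- the transfer
  have hT : MonoidHom.transfer χ z = ∏ c ∈ Finset.univ.filter (fun c : G ⧸ X => z • c = c), φ c := by
    rw [MonoidHom.transfer_eq_prod_quotient_orbitRel_zpowers_quot χ z]
    have hper : ∀ c : G ⧸ X, Function.minimalPeriod (z • ·) c = 1 ∨
        (Function.minimalPeriod (z • ·) c = 2 ∧ ¬ z • c = c) := by
      intro c
      have h2 : Function.IsPeriodicPt (z • ·) 2 c := by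
        show z • (z • c) = c
        rw [← mul_smul, hz2, one_smul]
      rcases (Nat.dvd_prime Nat.prime_two).mp h2.minimalPeriod_dvd with h | h
      · exact Or.inl h
      · refine Or.inr ⟨h, fun hf => ?_⟩
        have h1 := (Function.minimalPeriod_eq_one_iff_isFixedPt (f := (z • ·)) (x := c)).mpr hf
        omega
    refine Eq.trans ?_ (Finset.prod_bij
      (s := (Finset.univ.filter (fun q : Quotient (MulAction.orbitRel (zpowers z) (G ⧸ X)) => z • q.out = q.out)))
      (t := Finset.univ.filter (fun c : G ⧸ X => z • c = c))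
      (f := fun q => φ q.out) (g := φ) (fun q _ => q.out) (fun q hq => by simpa using hq)
      (fun q _ q' _ h => Quotient.out_injective h) (fun c hc => ?_) (fun q _ => rfl))
    · rw [Finset.prod_filter]
      refine Finset.prod_congr rfl fun q _ => ?_
      rcases hper q.out with h | ⟨h, hne⟩
      · have hf : z • q.out = q.out :=
          (Function.minimalPeriod_eq_one_iff_isFixedPt (f := (z • ·)) (x := q.out)).mp h
        rw [if_pos hf]
        have hmem := (hfix _).mp hf
        show _ = if h' : _ then χ ⟨_, h'⟩ else 1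
        rw [dif_pos hmem]
        congr 1
        exact Subtype.ext (by simp only [h, pow_one])
      · rw [if_neg hne, ← map_one χ]
        congr 1
        refine Subtype.ext ?_
        simp only [h, pow_two, hz2, mul_one, inv_mul_cancel]
        rfl
    · simp only [Finset.mem_filter, Finset.mem_univ, true_and] at hc
      have hq : (Quotient.mk'' c : Quotient (MulAction.orbitRel (zpowers z) (G ⧸ X))).out = c := by
        have h1 := Quotient.mk_out' (s₁ := MulAction.orbitRel (zpowers z) (G ⧸ X)) c
        obtain ⟨⟨w, hw⟩, hw'⟩ := MulAction.orbitRel_apply.mp h1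
        rw [← hw']
        obtain ⟨i, rfl⟩ := mem_zpowers_iff.mp hw
        exact MulAction.mem_stabilizer_iff.mp (zpow_mem (MulAction.mem_stabilizer_iff.mpr hc) i)
      exact ⟨Quotient.mk'' c, Finset.mem_filter.mpr ⟨Finset.mem_univ _, by rw [hq]; exact hc⟩, hq⟩
  -- evaluate: count the cosets of value `a`
  let T : Set (G ⧸ X) := {c | z • c = c ∧ φ c = a}
  have hcount : MonoidHom.transfer χ z = a ^ Nat.card T := by
    rw [hT, ← Finset.prod_filter_mul_prod_filter_not _ (fun c => φ c = a)]
    rw [Finset.prod_eq_one (s := Finset.filter (fun c => ¬ φ c = a) _) fun c hc => ?_, mul_one,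
      Finset.prod_eq_pow_card (b := a) fun c hc => (Finset.mem_filter.mp hc).2]
    · congr 1
      rw [Finset.filter_filter, Nat.card_eq_fintype_card, ← Set.toFinset_card]
      congr 1
      ext c; simp [T]
    · simp only [Finset.mem_filter, Finset.mem_univ, true_and] at hc
      have hmem := (hfix c).mp hc.1
      have hv := hφ c c.out hmem (QuotientGroup.out_eq' c)
      rcases hval ⟨_, hmem⟩ (Subtype.ext (by
        show c.out⁻¹ * z * c.out * (c.out⁻¹ * z * c.out) = 1
        rw [show c.out⁻¹ * z * c.out * (c.out⁻¹ * z * c.out) = c.out⁻¹ * (z * z) * c.out by group, hz2]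
        group)) with h | h
      · rw [hv, h]
      · exact absurd (hv.trans h) hc.2
  -- `X` acts on `T`
  have hTinv : ∀ x : ↥X, ∀ c ∈ T, (x : G) • c ∈ T := by
    rintro x c ⟨hc1, hc2⟩
    have hc' : z • ((x : G) • c) = (x : G) • c := by
      rw [← mul_smul, ← (hzc x x.2).eq, mul_smul, hc1]
    refine ⟨hc', ?_⟩
    have hmem := (hfix c).mp hc1
    have e : ((x : G) * c.out)⁻¹ * z * ((x : G) * c.out) = c.out⁻¹ * z * c.out := by
      rw [mul_inv_rev]
      calc c.out⁻¹ * (x : G)⁻¹ * z * ((x : G) * c.out) = c.out⁻¹ * ((x : G)⁻¹ * (z * x)) * c.out := by group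
        _ = c.out⁻¹ * z * c.out := by rw [← (hzc x x.2).eq, inv_mul_cancel_left]
    have h1 := hφ ((x : G) • c) ((x : G) * c.out) (by rw [e]; exact hmem)
      (by rw [← smul_eq_mul, ← MulAction.Quotient.smul_mk, QuotientGroup.out_eq'])
    rw [h1, ← hc2, hφ c c.out hmem (QuotientGroup.out_eq' c)]
    congr 1
    exact Subtype.ext e
  letI : MulAction ↥X T :=
    { smul := fun x c => ⟨(x : G) • (c : G ⧸ X), hTinv x c c.2⟩
      one_smul := fun c => Subtype.ext (one_smul G _)
      mul_smul := fun x y c => Subtype.ext (mul_smul (x : G) (y : G) _) }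
  have hmod := hX.card_modEq_card_fixedPoints T
  have hfp : Nat.card (MulAction.fixedPoints ↥X T) =
      Nat.card (MulAction.fixedPoints ↥X (G ⧸ X)) := by
    refine Nat.card_congr ⟨fun c => ⟨(c.1 : G ⧸ X), fun x => congrArg Subtype.val (c.2 x)⟩,
      fun c => ⟨⟨c.1, ?_⟩, fun x => Subtype.ext (c.2 x)⟩, fun c => rfl, fun c => rfl⟩
    have hout : c.1.out ∈ normalizer ((X : Subgroup G) : Set G) := by
      have h2 : ((c.1.out : G) : G ⧸ X) ∈ MulAction.fixedPoints ↥X (G ⧸ X) := by
        rw [QuotientGroup.out_eq']; exact c.2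
      exact (Sylow.mem_fixedPoints_mul_left_cosets_iff_mem_normalizer).mp h2
    have hz' := hN _ hout
    have hmem : c.1.out⁻¹ * z * c.1.out ∈ X := by rw [hz']; exact hzS
    refine ⟨(hfix _).mpr hmem, ?_⟩
    rw [hφ c.1 c.1.out hmem (QuotientGroup.out_eq' c.1), ha]
    congr 1
    exact Subtype.ext hz'
  have hodd : ¬ 2 ∣ Nat.card T := by
    intro hd
    have h2 := hX.card_modEq_card_fixedPoints (G ⧸ X)
    rw [hfp] at hmod
    have h3 := (h2.trans hmod.symm)
    rw [← Subgroup.index_eq_card] at h3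
    exact hXodd ((Nat.ModEq.dvd_iff h3 dvd_rfl).mpr hd)
  obtain ⟨k, hk⟩ : Odd (Nat.card T) := Nat.not_even_iff_odd.mp fun h => hodd (even_iff_two_dvd.mp h)
  rw [hk, pow_succ, pow_mul, pow_two, ha2, one_pow, one_mul] at hcount
  set f := MonoidHom.transfer χ
  haveI : Finite f.range := Finite.of_surjective _ f.rangeRestrict_surjective
  obtain ⟨K, hK⟩ := exists_index_two_comm (A := f.range) (a := ⟨a, z, hcount⟩)
    (fun h => hz1 (congrArg Subtype.val h)) (Subtype.ext ha2)
  exact ⟨K.comap f.rangeRestrict, by rw [index_comap_of_surjective _ f.rangeRestrict_surjective, hK]⟩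

end transfer

section diag

open Module

variable {F : Type*} [Field F]

local notation "V" => Fin 3 → F

/-- joint eigenvectors of a list of involutions span -/
theorem span_joint (h2 : (2 : F) ≠ 0) : ∀ (L : List (Module.End F (Fin 3 → F))),
    (∀ e ∈ L, e * e = 1) → (∀ e ∈ L, ∀ e' ∈ L, Commute e e') →
    Submodule.span F {v : V | ∀ e ∈ L, e v = v ∨ e v = -v} = ⊤
  | [], _, _ => by
    rw [eq_top_iff]
    intro v _
    exact Submodule.subset_span (fun e he => absurd he List.not_mem_nil)
  | e :: L, hsq, hcomm => by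
    rw [eq_top_iff, ← span_joint h2 L (fun x hx => hsq x (List.mem_cons_of_mem _ hx))
      (fun x hx y hy => hcomm x (List.mem_cons_of_mem _ hx) y (List.mem_cons_of_mem _ hy))]
    rw [Submodule.span_le]
    intro v hv
    have hee : e (e v) = v := by
      have := LinearMap.congr_fun (hsq e List.mem_cons_self) v
      simpa using this
    have hp : ∀ s : F, (s = 1 ∨ s = -1) →
        v + s • e v ∈ Submodule.span F {v : V | ∀ x ∈ e :: L, x v = v ∨ x v = -v} := by
      intro s hs
      refine Submodule.subset_span fun x hx => ?_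
      rcases List.mem_cons.mp hx with rfl | hx
      · rcases hs with rfl | rfl
        · left; rw [map_add, map_smul, hee, one_smul, one_smul, add_comm]
        · right; rw [map_add, map_smul, hee]; module
      · have hc : x (e v) = e (x v) := LinearMap.congr_fun (hcomm x (List.mem_cons_of_mem _ hx) e List.mem_cons_self).eq v
        rcases hv x hx with h | h
        · left; rw [map_add, map_smul, hc, h]
        · right; rw [map_add, map_smul, hc, h, map_neg]; module
    have : v = (2 : F)⁻¹ • ((v + (1 : F) • e v) + (v + (-1 : F) • e v)) := by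
      rw [show (v + (1 : F) • e v) + (v + (-1 : F) • e v) = (2 : F) • v by module, smul_smul,
        inv_mul_cancel₀ h2, one_smul]
    rw [SetLike.mem_coe, this]
    exact Submodule.smul_mem _ _ (add_mem (hp 1 (Or.inl rfl)) (hp (-1) (Or.inr rfl)))

/-- an elementary abelian group of order eight of involutions of a three-space is the diagonal one -/
theorem diag_of_eight (h2 : (2 : F) ≠ 0) {E : Type*} [Group E] [Finite E]
    (ρ : E →* Module.End F (Fin 3 → F)) (hρ : Function.Injective ρ) (hsq : ∀ e : E, e * e = 1)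
    (hcomm : ∀ e e' : E, Commute e e') (h8 : Nat.card E = 8) :
    (∃ e, ρ e = -1) ∧
    (∀ x y : Module.End F V, (∀ e, Commute x (ρ e)) → (∀ e, Commute y (ρ e)) → Commute x y) ∧
    (∀ x : Module.End F V, x * x = 1 → (∀ e, Commute x (ρ e)) → ∃ e, ρ e = x) := by
  classical
  haveI := Fintype.ofFinite E
  set L := (Finset.univ : Finset E).toList.map ρ
  have hmemL : ∀ e, ρ e ∈ L := fun e => List.mem_map.mpr ⟨e, by simp, rfl⟩
  have hspan := span_joint h2 L
    (fun x hx => by obtain ⟨e, -, rfl⟩ := List.mem_map.mp hx; rw [← map_mul, hsq, map_one])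
    (fun x hx y hy => by
      obtain ⟨e, -, rfl⟩ := List.mem_map.mp hx
      obtain ⟨e', -, rfl⟩ := List.mem_map.mp hy
      exact (hcomm e e').map ρ)
  set J := {v : V | ∀ e ∈ L, e v = v ∨ e v = -v}
  let b₀ := Basis.ofSpan hspan.ge
  have hb₀ : ∀ i, b₀ i ∈ J := fun i => Basis.ofSpan_subset hspan.ge ⟨i, rfl⟩
  let b := b₀.reindex (b₀.indexEquiv (Pi.basisFun F (Fin 3)))
  have hb : ∀ i e, ρ e (b i) = b i ∨ ρ e (b i) = -(b i) := fun i e => by
    have := hb₀ ((b₀.indexEquiv (Pi.basisFun F (Fin 3))).symm i) (ρ e) (hmemL e)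
    simpa [b, Basis.reindex_apply] using this
  have hb0 : ∀ i, b i ≠ -(b i) := fun i h => by
    have h' : (2 : F) • b i = 0 := by rw [two_smul]; exact add_eq_zero_iff_eq_neg.mpr h
    exact b.ne_zero i ((smul_eq_zero.mp h').resolve_left h2)
  let σ : E → Fin 3 → Bool := fun e i => decide (ρ e (b i) = b i)
  have hσ : Function.Bijective σ := by
    refine (Nat.bijective_iff_injective_and_card σ).mpr ⟨fun e e' h => hρ (b.ext fun i => ?_), by
      rw [h8]; simp [Nat.card_eq_fintype_card]⟩
    have := congrFun h i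
    simp only [σ, decide_eq_decide] at this
    rcases hb i e with h1 | h1 <;> rcases hb i e' with h2' | h2'
    · rw [h1, h2']
    · exact absurd (h2' ▸ (this.mp h1)).symm (hb0 i)
    · exact absurd (h1 ▸ (this.mpr h2')).symm (hb0 i)
    · rw [h1, h2']
  have hdiag : ∀ x : Module.End F V, (∀ e, Commute x (ρ e)) → ∀ i, x (b i) = (b.repr (x (b i)) i) • b i := by
    intro x hx i
    conv_lhs => rw [← b.sum_repr (x (b i))]
    refine Finset.sum_eq_single i (fun j _ hj => ?_) (fun h => absurd (Finset.mem_univ i) h)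
    obtain ⟨e, he⟩ := hσ.2 (fun k => decide (k = i))
    have hi : ρ e (b i) = b i := by have := congrFun he i; simpa [σ] using this
    have hjn : ρ e (b j) = -(b j) := (hb j e).resolve_left fun h => by
      have := congrFun he j; simp [σ, h, hj] at this
    have h1 : ρ e (x (b i)) = x (b i) := by
      conv_rhs => rw [← hi]
      exact (LinearMap.congr_fun (hx e).eq (b i)).symm
    have h3 : (b.repr (ρ e (x (b i)))) j = -((b.repr (x (b i))) j) := by
      conv_lhs => rw [← b.sum_repr (x (b i)), map_sum, map_sum]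
      rw [Finsupp.finsetSum_apply, Finset.sum_eq_single j]
      · rw [map_smul, hjn]; simp
      · intro k _ hk
        rw [map_smul]
        rcases hb k e with h | h <;> rw [h] <;> simp [Finsupp.single_eq_of_ne (Ne.symm hk)]
      · simp
    rw [h1] at h3
    have h4 : (2 : F) * (b.repr (x (b i))) j = 0 := by rw [two_mul]; exact add_eq_zero_iff_eq_neg.mpr h3
    rw [(mul_eq_zero.mp h4).resolve_left h2, zero_smul]
  refine ⟨?_, fun x y hx hy => ?_, fun x hx2 hx => ?_⟩
  · obtain ⟨e, he⟩ := hσ.2 (fun _ => false)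
    refine ⟨e, b.ext fun i => ?_⟩
    have := congrFun he i
    simp only [σ, decide_eq_false_iff_not] at this
    rw [(hb i e).resolve_left this]; simp
  · refine b.ext fun i => ?_
    show x (y (b i)) = y (x (b i))
    obtain ⟨c, hc⟩ : ∃ c, x (b i) = c • b i := ⟨_, hdiag x hx i⟩
    obtain ⟨d, hd⟩ : ∃ d, y (b i) = d • b i := ⟨_, hdiag y hy i⟩
    rw [hd, map_smul, hc, map_smul, hd, smul_smul, smul_smul, mul_comm]
  · obtain ⟨e, he⟩ := hσ.2 (fun i => decide (b.repr (x (b i)) i = 1))
    refine ⟨e, b.ext fun i => ?_⟩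
    set c := b.repr (x (b i)) i
    have hxb : x (b i) = c • b i := hdiag x hx i
    have hc : c * c = 1 := by
      have h := LinearMap.congr_fun hx2 (b i)
      simp only [Module.End.mul_apply, Module.End.one_apply, hxb, map_smul, smul_smul] at h
      exact smul_left_injective F (b.ne_zero i) (h.trans (one_smul F (b i)).symm)
    have hi := congrFun he i
    simp only [σ, decide_eq_decide] at hi
    rcases mul_self_eq_one_iff.mp hc with h | h
    · rw [hxb, h, one_smul]; exact hi.mpr h
    · rw [hxb, h, neg_one_smul]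
      refine (hb i e).resolve_left fun hh => ?_
      have : (2 : F) = 0 := by
        have := hi.mp hh
        rw [show b.repr (x (b i)) i = -1 from h] at this
        linear_combination -this
      exact h2 this

end diag

end Cfsg.Lib.RankThreeGL3
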