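import Cfsg.Agent.Fusion.ReplacementExtra
import Cfsg.Prelude.Def_PLocal

/-!
Glauberman's replacement does not shrink the elements of order `p`, for odd `p`.
-/

set_option linter.style.haveILetI false
set_option linter.unusedSectionVars false

namespace Cfsg.Lib.Misc.ReplacementOmega

open Subgroup Cfsg.Lib.Fusion
open scoped commutatorElement

variable {G : Type*} [Group G] [Finite G]

/-- the elements of order dividing `p` of an abelian subgroup -/
def pTorsion (p : ℕ) (A : Subgroup G) (hA : IsMulCommutative A) : Subgroup G where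
  carrier := {x | x ∈ A ∧ x ^ p = 1}
  one_mem' := ⟨one_mem A, one_pow p⟩
  mul_mem' := fun {x y} hx hy => ⟨mul_mem hx.1 hy.1, by
    rw [(show Commute x y from congrArg Subtype.val (hA.is_comm.comm ⟨x, hx.1⟩ ⟨y, hy.1⟩)).mul_pow, hx.2, hy.2,
      one_mul]⟩
  inv_mem' := fun {x} hx => ⟨inv_mem hx.1, by rw [inv_pow, hx.2, inv_one]⟩

theorem omegaOne_eq (p : ℕ) (A : Subgroup G) (hA : IsMulCommutative A) :
    Cfsg.omegaOne p A = pTorsion p A hA := by
  refine le_antisymm ((closure_le _).2 fun x hx => hx) fun x hx => subset_closure hx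

theorem diff_pow {p : ℕ} {A B : Subgroup G} {b : G} (h : ReplSetup p A B b) (hp : p ≠ 2) {a : G}
    (ha : a ∈ A) (hap : a ^ p = 1) : (a⁻¹ * (b * a * b⁻¹)) ^ p = 1 := by
  have hE := h.e_mem (A.inv_mem ha) ha
  set c := ⁅a⁻¹, b * a * b⁻¹⁆ with hc'
  have hca := h.commute_left hE (A.inv_mem ha)
  have hcb := h.commute_right hE ha
  have hc : a⁻¹ * (b * a * b⁻¹) = c * ((b * a * b⁻¹) * a⁻¹) := by
    rw [hc', commutatorElement_def]; group
  have hcp : c ^ p = 1 := by
    have h1 : ∀ m : ℕ, a⁻¹ ^ m * (b * a * b⁻¹) = c ^ m * ((b * a * b⁻¹) * a⁻¹ ^ m) := by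
      intro m
      induction m with
      | zero => simp
      | succ m ih =>
        calc a⁻¹ ^ (m + 1) * (b * a * b⁻¹) = a⁻¹ ^ m * (a⁻¹ * (b * a * b⁻¹)) := by rw [pow_succ, mul_assoc]
          _ = a⁻¹ ^ m * c * ((b * a * b⁻¹) * a⁻¹) := by rw [hc]; simp only [mul_assoc]
          _ = c * a⁻¹ ^ m * ((b * a * b⁻¹) * a⁻¹) := by rw [(hca.symm.pow_right m).eq]
          _ = c * (a⁻¹ ^ m * (b * a * b⁻¹)) * a⁻¹ := by group
          _ = c * (c ^ m * ((b * a * b⁻¹) * a⁻¹ ^ m)) * a⁻¹ := by rw [ih]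
          _ = c ^ (m + 1) * ((b * a * b⁻¹) * a⁻¹ ^ (m + 1)) := by rw [pow_succ', pow_succ]; group
    have h2 := h1 p
    rw [inv_pow, hap, inv_one, one_mul, mul_one] at h2
    exact mul_eq_right.1 h2.symm
  have hpow := pow_mul_of_central_comm hc hca.symm hcb.symm p
  obtain ⟨t, ht⟩ := h.prime.odd_of_ne_two hp
  have hch : p.choose 2 = p * t := by
    rw [Nat.choose_two_right, ht, show 2 * t + 1 - 1 = 2 * t by omega,
      show (2 * t + 1) * (2 * t) = 2 * ((2 * t + 1) * t) by ring, Nat.mul_div_cancel_left _ (by norm_num)]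
  have h1 : ((b * a * b⁻¹) * a⁻¹) ^ p = 1 := by
    rw [hpow, hch, pow_mul, hcp, one_pow, one_mul, conj_pow, hap, inv_pow, hap]
    simp
  rw [show a⁻¹ * (b * a * b⁻¹) = a⁻¹ * ((b * a * b⁻¹) * a⁻¹) * a⁻¹⁻¹ by group, conj_pow, h1]
  simp

theorem omega_le {p : ℕ} {A B : Subgroup G} {b : G} (h : ReplSetup p A B b) (hp : p ≠ 2) :
    Nat.card (Cfsg.omegaOne p A) ≤ Nat.card (Cfsg.omegaOne p (replaceBy A b)) := by
  rw [omegaOne_eq p A h.comm, omegaOne_eq p _ h.isMulCommutative_replaceBy]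
  set T := pTorsion p A h.comm with hT
  set D := A ⊓ A.map (MulAut.conj b).toMonoidHom with hD
  have hDc : IsMulCommutative D := ⟨⟨fun x y => Subtype.ext (h.comm_eq x.2.1 y.2.1)⟩⟩
  set Dp := pTorsion p D hDc with hDp
  set T1 : Subgroup T := (A.map (MulAut.conj b⁻¹).toMonoidHom).subgroupOf T with hT1
  have hT1' : ∀ x : T, x ∈ T1 ↔ b * x * b⁻¹ ∈ A := by
    intro x
    constructor
    · rintro ⟨y, hy, e⟩
      rw [show (x : G) = b⁻¹ * y * b by simpa using e.symm]
      simpa [mul_assoc] using hy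
    · intro hx
      exact ⟨_, hx, by simp [mul_assoc]⟩
  have hcard : Nat.card T1 = Nat.card Dp := Nat.card_congr
    { toFun := fun x => ⟨b * (x : T) * b⁻¹, ⟨(hT1' _).mp x.2, h.mem_map.mpr (by simpa [mul_assoc] using (x : T).2.1)⟩,
        by rw [conj_pow, (x : T).2.2, mul_one, mul_inv_cancel]⟩
      invFun := fun y => ⟨⟨b⁻¹ * y * b, h.mem_map.mp y.2.1.2, by
        have := conj_pow (i := p) (a := b⁻¹) (b := (y : G))
        rw [inv_inv] at this
        rw [this, y.2.2, mul_one, inv_mul_cancel]⟩,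
        (hT1' _).mpr (by simpa [mul_assoc] using y.2.1.1)⟩
      left_inv := fun x => Subtype.ext (Subtype.ext (by simp [mul_assoc]))
      right_inv := fun y => Subtype.ext (by simp [mul_assoc]) }
  let Φ : (T ⧸ T1) × Dp → pTorsion p (replaceBy A b) h.isMulCommutative_replaceBy := fun q =>
    ⟨q.2 * ((q.1.out : G)⁻¹ * (b * q.1.out * b⁻¹)), h.rep_mem q.1.out.2.1 q.2.2.1, by
      rw [(h.commute_diff q.2.2.1 q.1.out.2.1).symm.mul_pow, q.2.2.2,
        diff_pow h hp q.1.out.2.1 q.1.out.2.2, one_mul]⟩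
  have hinj : Function.Injective Φ := by
    rintro ⟨ω, d⟩ ⟨ω', d'⟩ e
    have e1 : (d : G) * ((ω.out : G)⁻¹ * (b * ω.out * b⁻¹)) =
        d' * ((ω'.out : G)⁻¹ * (b * ω'.out * b⁻¹)) := congrArg Subtype.val e
    have hω : ω = ω' := by
      rw [← QuotientGroup.out_eq' ω, ← QuotientGroup.out_eq' ω', QuotientGroup.eq, hT1']
      have e2 : b * ω'.out * b⁻¹ = ω'.out * ((d' : G)⁻¹ * d * (ω.out : G)⁻¹) * (b * ω.out * b⁻¹) := by
        calc b * ω'.out * b⁻¹ = ω'.out * ((d' : G)⁻¹ *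
              (d' * ((ω'.out : G)⁻¹ * (b * ω'.out * b⁻¹)))) := by group
          _ = _ := by rw [← e1]; group
      set m := ω'.out.1 * ((d' : G)⁻¹ * d * (ω.out : G)⁻¹) with hm
      have hmA : m ∈ A := A.mul_mem ω'.out.2.1 (A.mul_mem (A.mul_mem (A.inv_mem d'.2.1.1) d.2.1.1)
        (A.inv_mem ω.out.2.1))
      have hc : Commute (b * ω.out * b⁻¹) (b * ω'.out * b⁻¹) := by
        show b * ω.out * b⁻¹ * (b * ω'.out * b⁻¹) = b * ω'.out * b⁻¹ * (b * ω.out * b⁻¹)
        calc b * ω.out * b⁻¹ * (b * ω'.out * b⁻¹) = b * (ω.out.1 * ω'.out) * b⁻¹ := by group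
          _ = b * (ω'.out.1 * ω.out) * b⁻¹ := by rw [h.comm_eq ω.out.2.1 ω'.out.2.1]
          _ = _ := by group
      show b * ((ω.out : G)⁻¹ * ω'.out) * b⁻¹ ∈ A
      rw [show b * ((ω.out : G)⁻¹ * ω'.out) * b⁻¹ = (b * ω.out * b⁻¹)⁻¹ * (b * ω'.out * b⁻¹) by
        group, hc.inv_left.eq, e2, mul_inv_cancel_right]
      exact hmA
    subst hω
    exact Prod.ext rfl (Subtype.ext (mul_right_cancel e1))
  calc Nat.card T = Nat.card ((T ⧸ T1) × Dp) := by
        rw [Nat.card_prod, ← hcard, ← Subgroup.index, Subgroup.index_mul_card]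
    _ ≤ _ := Nat.card_le_card_of_injective Φ hinj

theorem exists_replacement {p : ℕ} [Fact p.Prime] (hp : p ≠ 2) (hG : IsPGroup p G) (A B : Subgroup G)
    (hA : IsMulCommutative A) (hBA : ⁅B, B⁆ ≤ A) (hAB : A ≤ normalizer (B : Set G))
    (hnot : ¬ B ≤ normalizer (A : Set G)) :
    ∃ As : Subgroup G, IsMulCommutative As ∧ Nat.card As = Nat.card A ∧ A ⊓ B < As ⊓ B ∧
      As ≤ normalizer (A : Set G) ∧ As ≤ normalClosure (A : Set G) ∧
      Monoid.exponent As ∣ Monoid.exponent A ∧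
      Nat.card (Cfsg.omegaOne p A) ≤ Nat.card (Cfsg.omegaOne p As) := by
  set U := A ⊔ B
  set N := U ⊓ normalizer (A : Set G)
  have hAN : A ≤ N := le_inf le_sup_left le_normalizer
  have hNU : N < U := lt_of_le_of_ne inf_le_left fun e => hnot fun x hx => (e.ge (mem_sup_right hx : x ∈ U)).2
  haveI : Group.IsNilpotent U := (hG.to_subgroup U).isNilpotent
  obtain ⟨x, hx, hxN⟩ := SetLike.exists_of_lt (Group.normalizerCondition_of_isNilpotent (N.subgroupOf U)
    (lt_top_iff_ne_top.2 fun e => hNU.not_ge (subgroupOf_eq_top.1 e)))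
  have hxn : (x : G) ∈ normalizer (N : Set G) := by
    refine mem_normalizer_iff.2 fun y => ⟨fun hy => (mem_normalizer_iff.1 hx ⟨y, hy.1⟩).1 hy, fun hy => ?_⟩
    have hyU : y ∈ U := by
      simpa [mul_assoc] using U.mul_mem (U.mul_mem (U.inv_mem x.2) hy.1) x.2
    exact (mem_normalizer_iff.1 hx ⟨y, hyU⟩).2 hy
  have hxU : (x : G) ∈ ((A ⊔ B : Subgroup G) : Set G) := x.2
  rw [coe_mul_of_left_le_normalizer_right A B hAB] at hxU
  obtain ⟨a, ha, b, hb, hab⟩ := hxU
  simp only at hab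
  have hbN : b ∈ normalizer (N : Set G) := by
    have := mul_mem (inv_mem (le_normalizer (hAN ha) : a ∈ normalizer (N : Set G))) hxn
    rwa [← hab, inv_mul_cancel_left] at this
  have hbA : b ∉ normalizer (A : Set G) := fun hb' => hxN (mem_subgroupOf.2 (by
    rw [← hab]
    exact mul_mem (hAN ha) ⟨mem_sup_right hb, hb'⟩))
  obtain ⟨k, hk⟩ := hG b
  have S : ReplSetup p A B b :=
    { comm := hA
      normB := hAB
      derived := hBA
      mem := hb
      prime := Fact.out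
      pA := hG.to_subgroup A
      pow := ⟨k, hk⟩
      odd := Or.inl hp
      conjN := fun a ha => ((mem_normalizer_iff.1 hbN a).1 (hAN ha)).2 }
  refine ⟨replaceBy A b, S.isMulCommutative_replaceBy, S.card_replaceBy, S.inf_lt_replaceBy hbA,
    S.replaceBy_le_normalizer, ?_, S.exponent_dvd hp, omega_le S hp⟩
  refine sup_le (inf_le_left.trans le_normalClosure) ((closure_le _).2 ?_)
  rintro _ ⟨a, ha, rfl⟩
  exact mul_mem (inv_mem (le_normalClosure ha)) (normalClosure_normal.conj_mem a (le_normalClosure ha) b)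

end Cfsg.Lib.Misc.ReplacementOmega
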