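import Cfsg.Agent.Components.Misc.GLInvolution
import Cfsg.Agent.Components.Layer
import Cfsg.Agent.Components.Quasisimple
import Cfsg.Prelude.Def_Local

/-!
The layer of the centraliser of a hyperplane involution of `SL (m+1)` is a standard subgroup.
-/

set_option autoImplicit false
set_option linter.unusedSectionVars false

namespace Cfsg.Lib.Misc.SLStandard

open Matrix

variable {F : Type*} [Field F] [Fintype F] [DecidableEq F]

theorem main (hF : Odd (Fintype.card F)) (m : ℕ) (hm : 3 ≤ m) (hme : Even m)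
    (t : Matrix.SpecialLinearGroup (Fin (m + 1)) F)
    (ht : (t : Matrix (Fin (m + 1)) (Fin (m + 1)) F) =
      Matrix.diagonal (fun i : Fin (m + 1) => if (i : ℕ) + 1 = m + 1 then (1 : F) else -1)) :
    Cfsg.IsStandardSubgroup ((Cfsg.layer ↥(Subgroup.centralizer ({t} : Set (Matrix.SpecialLinearGroup (Fin (m + 1)) F)))).map (Subgroup.centralizer ({t} : Set (Matrix.SpecialLinearGroup (Fin (m + 1)) F))).subtype) := by
  classical
  have h20 : (2 : F) ≠ 0 := Ring.two_ne_zero fun h2 =>
    Nat.not_even_iff_odd.mpr hF (Nat.even_iff.mpr (FiniteField.even_card_of_char_two h2))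
  have hneg : (-1 : F) ≠ 1 := fun h => h20 (by linear_combination (-1 : F) * h)
  haveI : NeZero m := ⟨by omega⟩
  set R := Matrix.reindexAlgEquiv F F (finSumFinEquiv (m := m) (n := 1)) with hR
  have hdetR : ∀ X, (R X).det = X.det := fun X => Matrix.det_reindexAlgEquiv F F _ X
  have ht' : (t : Matrix (Fin (m + 1)) (Fin (m + 1)) F) = R (fromBlocks (-1) 0 0 1) := by
    rw [ht]
    have hblk : (fromBlocks (-1) 0 0 1 : Matrix (Fin m ⊕ Fin 1) (Fin m ⊕ Fin 1) F) =
        diagonal (Sum.elim (fun _ => -1) (fun _ => 1)) := by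
      rw [← fromBlocks_diagonal]
      congr 1
      rw [← diagonal_one, diagonal_neg]
    rw [hblk, hR, reindexAlgEquiv_apply, reindex_apply, submatrix_diagonal_equiv]
    congr 1
    funext i
    obtain ⟨s, rfl⟩ := (finSumFinEquiv (m := m) (n := 1)).surjective i
    rw [Function.comp_apply, Equiv.symm_apply_apply]
    cases s with
    | inl a => simp [finSumFinEquiv_apply_left, a.isLt.ne]
    | inr b => simp [finSumFinEquiv_apply_right, Fin.eq_zero b]
  set C := Subgroup.centralizer ({t} : Set (Matrix.SpecialLinearGroup (Fin (m + 1)) F)) with hC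
  let Y (g : Matrix.SpecialLinearGroup (Fin (m + 1)) F) : Matrix (Fin m ⊕ Fin 1) (Fin m ⊕ Fin 1) F :=
    R.symm (g : Matrix (Fin (m + 1)) (Fin (m + 1)) F)
  have hYR : ∀ g : Matrix.SpecialLinearGroup (Fin (m + 1)) F, (g : Matrix (Fin (m + 1)) (Fin (m + 1)) F) = R (Y g) := fun g => (R.apply_symm_apply _).symm
  have hY_mul : ∀ g h : Matrix.SpecialLinearGroup (Fin (m + 1)) F, Y (g * h) = Y g * Y h := fun g h => by
    simp only [Y, Matrix.SpecialLinearGroup.coe_mul, map_mul]
  have hYt : Y t = fromBlocks (-1) 0 0 1 := by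
    show R.symm _ = _
    rw [ht', AlgEquiv.symm_apply_apply]
  have hext : ∀ g h : Matrix.SpecialLinearGroup (Fin (m + 1)) F, Y g = Y h → g = h := fun g h e => Subtype.ext (R.symm.injective e)
  have hblock : ∀ g ∈ C, ∃ A D, Y g = fromBlocks A 0 0 D := by
    intro g hg
    have h : Y g * Y t = Y t * Y g := by
      rw [← hY_mul, ← hY_mul, Subgroup.mem_centralizer_singleton_iff.mp hg]
    rw [hYt, ← fromBlocks_toBlocks (Y g), fromBlocks_multiply, fromBlocks_multiply, fromBlocks_inj] at h
    obtain ⟨-, hB, hC', -⟩ := h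
    refine ⟨(Y g).toBlocks₁₁, (Y g).toBlocks₂₂, ?_⟩
    conv_lhs => rw [← fromBlocks_toBlocks (Y g)]
    have e12 : (Y g).toBlocks₁₂ = 0 := by
      ext i j
      have := congrFun (congrFun hB i) j
      simp at this
      have h2' : (2 : F) * (Y g).toBlocks₁₂ i j = 0 := by linear_combination this
      exact (mul_eq_zero.mp h2').resolve_left h20
    have e21 : (Y g).toBlocks₂₁ = 0 := by
      ext i j
      have := congrFun (congrFun hC' i) j
      simp at this
      have h2' : (2 : F) * (Y g).toBlocks₂₁ i j = 0 := by linear_combination (-1 : F) * this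
      exact (mul_eq_zero.mp h2').resolve_left h20
    rw [e12, e21]
  let e : Matrix.SpecialLinearGroup (Fin m) F →* Matrix.SpecialLinearGroup (Fin (m + 1)) F :=
  { toFun := fun A => ⟨R (fromBlocks (A : Matrix (Fin m) (Fin m) F) 0 0 1), by
      rw [hdetR, det_fromBlocks_zero₁₂, det_one, mul_one, A.2]⟩
    map_one' := Subtype.ext (by simp [fromBlocks_one])
    map_mul' := fun A B => Subtype.ext (by
      show R _ = R _ * R _
      rw [← map_mul, fromBlocks_multiply]
      simp) }
  have hYe : ∀ A, Y (e A) = fromBlocks (A : Matrix (Fin m) (Fin m) F) 0 0 1 := fun A => R.symm_apply_apply _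
  have heinj : Function.Injective e := fun A B h => by
    have h' : Y (e A) = Y (e B) := by rw [h]
    rw [hYe, hYe] at h'
    exact Subtype.ext (fromBlocks_inj.mp h').1
  set E := e.range with hE
  have hEC : E ≤ C := by
    rintro _ ⟨A, rfl⟩
    refine Subgroup.mem_centralizer_singleton_iff.mpr (hext _ _ ?_)
    rw [hY_mul, hY_mul, hYt, hYe, fromBlocks_multiply, fromBlocks_multiply]
    simp
  let χ : C →* F :=
  { toFun := fun g => Y g.1 (Sum.inr 0) (Sum.inr 0)
    map_one' := by simp [Y]
    map_mul' := fun g h => by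
      obtain ⟨A, D, hg⟩ := hblock g.1 g.2
      obtain ⟨A', D', hh⟩ := hblock h.1 h.2
      show Y (g.1 * h.1) (Sum.inr 0) (Sum.inr 0) = Y g.1 (Sum.inr 0) (Sum.inr 0) * Y h.1 (Sum.inr 0) (Sum.inr 0)
      rw [hY_mul, hg, hh, fromBlocks_multiply]
      simp [Matrix.mul_apply] }
  have hker : χ.ker = E.subgroupOf C := by
    ext g
    rw [MonoidHom.mem_ker, Subgroup.mem_subgroupOf]
    refine ⟨fun h => ?_, ?_⟩
    · obtain ⟨A, D, hg⟩ := hblock g.1 g.2
      have hD : D = 1 := by
        change Y g.1 (Sum.inr 0) (Sum.inr 0) = 1 at h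
        rw [hg, fromBlocks_apply₂₂] at h
        ext i j
        fin_cases i; fin_cases j
        simpa using h
      have hdA : A.det = 1 := by
        have := g.1.2
        rw [hYR g.1, hdetR, hg, hD, det_fromBlocks_zero₁₂, det_one, mul_one] at this
        exact this
      exact ⟨⟨A, hdA⟩, hext _ _ ((hYe ⟨A, hdA⟩).trans (by rw [hg, hD]))⟩
    · rintro ⟨A, hA⟩
      show Y g.1 (Sum.inr 0) (Sum.inr 0) = 1
      rw [← hA, hYe, fromBlocks_apply₂₂, one_apply_eq]
  haveI hEn : (E.subgroupOf C).Normal := hker ▸ MonoidHom.normal_ker χ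
  have hqsSL := Cfsg.Lib.Misc.GLInvolution.isQuasisimple_SL hF (m := m) (by omega) (fun h => by omega)
  have hqsE : Cfsg.IsQuasisimple E := Cfsg.Lib.Components.qs_congr' (MonoidHom.ofInjective heinj) hqsSL
  have hqsE' : Cfsg.IsQuasisimple (E.subgroupOf C) :=
    Cfsg.Lib.Components.qs_congr' (Subgroup.subgroupOfEquivOfLe hEC).symm hqsE
  have hlayer : Cfsg.layer C = E.subgroupOf C := by
    refine le_antisymm (sSup_le fun K hK => ?_) (le_sSup ⟨Subgroup.Normal.isSubnormal inferInstance, hqsE'⟩)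
    rw [← hker, ← Cfsg.Lib.Components.comp_perfect hK, Subgroup.commutator_le]
    intro a _ b _
    rw [MonoidHom.mem_ker, commutatorElement_def, map_mul, map_mul, map_mul, mul_comm (χ a) (χ b),
      mul_assoc (χ b) (χ a), ← map_mul χ a a⁻¹, mul_inv_cancel, map_one, mul_one, ← map_mul, mul_inv_cancel,
      map_one]
  rw [hlayer, Subgroup.subgroupOf_map_subtype, inf_eq_left.mpr hEC]
  set K := Subgroup.centralizer (E : Set (Matrix.SpecialLinearGroup (Fin (m + 1)) F)) with hK
  have htE : t ∈ K := fun x hx => Subgroup.mem_centralizer_singleton_iff.mp (hEC hx)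
  have hKform : ∀ g ∈ K, ∃ (a : F) (D : Matrix (Fin 1) (Fin 1) F),
      Y g = fromBlocks (scalar (Fin m) a) 0 0 D := by
    intro g hg
    have hcomm : ∀ s : TransvectionStruct (Fin m) F,
        fromBlocks s.toMatrix 0 0 1 * Y g = Y g * fromBlocks s.toMatrix 0 0 1 := fun s => by
      have h := hg (e ⟨s.toMatrix, s.det⟩) ⟨_, rfl⟩
      rw [← hYe ⟨s.toMatrix, s.det⟩, ← hY_mul, ← hY_mul, h]
    have hb : ∀ s : TransvectionStruct (Fin m) F, s.toMatrix * (Y g).toBlocks₁₁ = (Y g).toBlocks₁₁ * s.toMatrix ∧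
        s.toMatrix * (Y g).toBlocks₁₂ = (Y g).toBlocks₁₂ ∧ (Y g).toBlocks₂₁ = (Y g).toBlocks₂₁ * s.toMatrix := by
      intro s
      have h := hcomm s
      rw [← fromBlocks_toBlocks (Y g), fromBlocks_multiply, fromBlocks_multiply, fromBlocks_inj] at h
      refine ⟨by simpa using h.1, by simpa using h.2.1, by simpa using h.2.2.1⟩
    obtain ⟨a, ha⟩ := Matrix.mem_range_scalar_of_commute_transvectionStruct fun s => (hb s).1
    have e12 : (Y g).toBlocks₁₂ = 0 := by
      ext i k
      obtain ⟨j, hj⟩ := Fintype.exists_ne_of_one_lt_card (by rw [Fintype.card_fin]; omega) i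
      have := congrFun (congrFun (hb ⟨j, i, hj, 1⟩).2.1 j) k
      simp only [TransvectionStruct.toMatrix_mk, transvection_mul_apply_same, one_mul] at this
      simpa using this
    have e21 : (Y g).toBlocks₂₁ = 0 := by
      ext i k
      obtain ⟨j, hj⟩ := Fintype.exists_ne_of_one_lt_card (by rw [Fintype.card_fin]; omega) k
      have := congrFun (congrFun (hb ⟨k, j, hj.symm, 1⟩).2.2 i) j
      simp only [TransvectionStruct.toMatrix_mk, mul_transvection_apply_same, one_mul] at this
      simpa using this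
    refine ⟨a, (Y g).toBlocks₂₂, ?_⟩
    conv_lhs => rw [← fromBlocks_toBlocks (Y g)]
    rw [e12, e21, ← ha]
  have hKcomm : IsMulCommutative K := ⟨⟨fun x y => Subtype.ext (hext _ _ (by
    obtain ⟨a, D, hx⟩ := hKform x.1 x.2
    obtain ⟨b, D', hy⟩ := hKform y.1 y.2
    show Y (x.1 * y.1) = Y (y.1 * x.1)
    rw [hY_mul, hY_mul, hx, hy, fromBlocks_multiply, fromBlocks_multiply]
    simp only [Matrix.zero_mul, Matrix.mul_zero, add_zero, zero_add, ← map_mul, mul_comm a b]
    congr 1
    ext i j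
    fin_cases i; fin_cases j
    simp [Matrix.mul_apply, mul_comm]))⟩⟩
  have huniq : ∀ g ∈ K, orderOf g = 2 → g = t := by
    intro g hg ho
    obtain ⟨a, D, hgY⟩ := hKform g hg
    have hgg : g * g = 1 := by rw [← pow_two, ← ho]; exact pow_orderOf_eq_one g
    have hsq : Y g * Y g = 1 := by rw [← hY_mul, hgg]; simp [Y]
    rw [hgY, fromBlocks_multiply, ← fromBlocks_one, fromBlocks_inj] at hsq
    have ha : a * a = 1 := by
      have := congrFun (congrFun hsq.1 ⟨0, by omega⟩) ⟨0, by omega⟩
      simpa using this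
    have hD : D = 1 := by
      have hdet := g.2
      rw [hYR g, hdetR, hgY, det_fromBlocks_zero₁₂, det_fin_one, Matrix.scalar_apply, det_diagonal,
        Finset.prod_const, Finset.card_univ, Fintype.card_fin] at hdet
      have ham : a ^ m = 1 := by
        obtain ⟨r, rfl⟩ := hme
        rw [← two_mul, pow_mul, pow_two, ha, one_pow]
      rw [ham, one_mul] at hdet
      ext i j
      fin_cases i; fin_cases j
      simpa using hdet
    rcases mul_self_eq_one_iff.mp ha with rfl | rfl
    · exfalso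
      have : g = 1 := hext _ _ (by rw [hgY, hD, map_one, fromBlocks_one]; simp [Y])
      rw [this, orderOf_one] at ho
      omega
    · refine hext _ _ ?_
      rw [hgY, hD, hYt, map_neg, map_one]
  have ht1 : t ≠ 1 := by
    intro h
    have h' : Y t = 1 := by rw [h]; simp [Y]
    rw [hYt, ← fromBlocks_one, fromBlocks_inj] at h'
    have := congrFun (congrFun h'.1 ⟨0, by omega⟩) ⟨0, by omega⟩
    simp at this
    exact hneg this
  have hto : orderOf t = 2 := by
    refine orderOf_eq_prime (hext _ _ ?_) ht1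
    rw [pow_two, hY_mul, hYt, fromBlocks_multiply]
    simp [Y, fromBlocks_one]
  have hCN : C ≤ Subgroup.normalizer (E : Set (Matrix.SpecialLinearGroup (Fin (m + 1)) F)) :=
    (Subgroup.normal_subgroupOf_iff_le_normalizer hEC).mp hEn
  have hNN : Subgroup.normalizer (E : Set (Matrix.SpecialLinearGroup (Fin (m + 1)) F)) ≤
      Subgroup.normalizer (K : Set (Matrix.SpecialLinearGroup (Fin (m + 1)) F)) := by
    intro g hg
    rw [Subgroup.mem_normalizer_iff] at hg ⊢
    have key : ∀ (g : Matrix.SpecialLinearGroup (Fin (m + 1)) F), (∀ h, h ∈ E ↔ g * h * g⁻¹ ∈ E) →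
        ∀ k ∈ K, g * k * g⁻¹ ∈ K := by
      intro g hg k hk x hx
      have hx' : g⁻¹ * x * g ∈ E := (hg _).mpr (by simpa [mul_assoc] using hx)
      have h := hk _ hx'
      calc x * (g * k * g⁻¹) = g * ((g⁻¹ * x * g) * k) * g⁻¹ := by group
        _ = g * (k * (g⁻¹ * x * g)) * g⁻¹ := by rw [h]
        _ = g * k * g⁻¹ * x := by group
    refine fun k => ⟨key g hg k, fun hk => ?_⟩
    have hg' : ∀ h, h ∈ E ↔ g⁻¹ * h * g⁻¹⁻¹ ∈ E := fun h => by
      rw [hg (g⁻¹ * h * g⁻¹⁻¹)]; simp [mul_assoc]
    simpa [mul_assoc] using key g⁻¹ hg' _ hk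
  have hNKC : Subgroup.normalizer (K : Set (Matrix.SpecialLinearGroup (Fin (m + 1)) F)) ≤ C := by
    intro g hg
    have h1 : g * t * g⁻¹ ∈ K := (Subgroup.mem_normalizer_iff.mp hg t).mp htE
    have h2 := huniq _ h1 (by
      rw [show g * t * g⁻¹ = (MulAut.conj g).toMonoidHom t from rfl,
        orderOf_injective (MulAut.conj g).toMonoidHom (MulAut.conj g).injective]
      exact hto)
    refine Subgroup.mem_centralizer_singleton_iff.mpr ?_
    rw [mul_inv_eq_iff_eq_mul] at h2
    exact h2
  refine ⟨hqsE, ⟨?_, fun g hg => ?_⟩, fun g hg hbot => ?_, le_antisymm hNN (hNKC.trans hCN)⟩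
  · refine even_iff_two_dvd.mpr ?_
    rw [← hto]
    exact Subgroup.orderOf_dvd_natCard _ htE
  · rw [← Nat.not_even_iff_odd, even_iff_two_dvd]
    intro hev
    haveI : Fact (Nat.Prime 2) := ⟨Nat.prime_two⟩
    obtain ⟨s, hs⟩ := exists_prime_orderOf_dvd_card' (G := ↥(K ⊓ K.map (MulAut.conj g).toMonoidHom)) 2 hev
    have hs' : orderOf (s : Matrix.SpecialLinearGroup (Fin (m + 1)) F) = 2 := by rw [Subgroup.orderOf_coe, hs]
    have hst := huniq _ s.2.1 hs'
    obtain ⟨k, hk, hks⟩ := s.2.2
    have hkt := huniq k hk (by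
      rw [← orderOf_injective (MulAut.conj g).toMonoidHom (MulAut.conj g).injective, hks]; exact hs')
    apply hg
    refine hNN (hCN (Subgroup.mem_centralizer_singleton_iff.mpr ?_))
    have h3 : g * t * g⁻¹ = t := by
      have h4 : (MulAut.conj g).toMonoidHom t = t := by rw [← hkt]; exact hks.trans (hst.trans hkt.symm)
      simpa using h4
    exact mul_inv_eq_iff_eq_mul.mp h3
  · have hle : E.map (MulAut.conj g).toMonoidHom ≤ K := by
      rw [hK, Subgroup.le_centralizer_iff]
      exact Subgroup.commutator_eq_bot_iff_le_centralizer.mp hbot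
    have hqs' : Cfsg.IsQuasisimple ↥(E.map (MulAut.conj g).toMonoidHom) :=
      Cfsg.Lib.Components.qs_congr' (Subgroup.equivMapOfInjective E _ (MulAut.conj g).injective) hqsE
    refine Cfsg.Lib.Components.qs_not_isMulCommutative hqs' ⟨⟨fun a b => Subtype.ext ?_⟩⟩
    have := hKcomm.is_comm.comm (⟨a.1, hle a.2⟩ : K) ⟨b.1, hle b.2⟩
    exact congrArg (fun x : K => (x : Matrix.SpecialLinearGroup (Fin (m + 1)) F)) this

end Cfsg.Lib.Misc.SLStandard
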