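import Cfsg.Agent.Components.Misc.BenderPair
import Cfsg.Agent.Components.PxQ
import Cfsg.Agent.Components.Qd.Basics
import Cfsg.Agent.Quadratic.StableQd
import Cfsg.Agent.Elementary.Basics
import Mathlib.GroupTheory.SchurZassenhaus

/-!
The centralizer of a self-centralizing normal subgroup of the Fitting subgroup of a Hall
subgroup of a solvable group.
-/

set_option linter.style.haveILetI false
set_option linter.unusedSectionVars false

namespace Cfsg.Lib.Components.ScnHall

open Subgroup Cfsg.Lib.Components Cfsg.Lib.Misc.BenderPair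
open scoped commutatorElement

universe u

variable {S : Type u} [Group S] [Finite S]

/-- a subgroup containing every element of prime power order in a cyclic group contains it -/
theorem mem_of_primary {C : Subgroup S} {f : S}
    (h : ∀ (r k : ℕ), r.Prime → ∀ g ∈ zpowers f, orderOf g = r ^ k → g ∈ C) : f ∈ C := by
  have hd : Nat.card (zpowers f) ∣ Nat.card (C ⊓ zpowers f : Subgroup S) := by
    rw [Nat.card_zpowers, Nat.dvd_iff_prime_pow_dvd_dvd]
    intro r k hr hk
    have ho : orderOf (f ^ (orderOf f / r ^ k)) = r ^ k :=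
      orderOf_pow_orderOf_div (orderOf_pos f).ne' hk
    have hm : f ^ (orderOf f / r ^ k) ∈ (C ⊓ zpowers f : Subgroup S) :=
      mem_inf.2 ⟨h r k hr _ (pow_mem (mem_zpowers f) _) ho, pow_mem (mem_zpowers f) _⟩
    rw [← ho, ← Subgroup.orderOf_mk (f ^ (orderOf f / r ^ k)) hm]
    exact orderOf_dvd_natCard _
  have he : C ⊓ zpowers f = zpowers f :=
    eq_of_le_of_card_ge inf_le_right (Nat.le_of_dvd Nat.card_pos hd)
  exact (inf_eq_right.mp he) (mem_zpowers f)

theorem qd_not_involved [Group.IsSolvable S] {p : ℕ} [Fact p.Prime] (hp : 3 < p) :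
    ¬ Cfsg.Involves ↥(Cfsg.qd p) S := by
  rintro ⟨K, R, hR, ⟨e⟩⟩
  haveI := hR
  haveI : Group.IsSolvable (Cfsg.qd p) :=
    Group.isSolvable_of_surjective (f := e.toMonoidHom.comp (QuotientGroup.mk' (R.subgroupOf K)))
      (e.surjective.comp (QuotientGroup.mk'_surjective _))
  haveI : Nontrivial (Cfsg.qd p) := by
    have h1 : 1 < Nat.card (Cfsg.Lib.Fusion.transl (p := p)).range := by
      rw [Cfsg.Lib.QdRankTwo.card_transl_range]
      exact Nat.one_lt_pow two_ne_zero (Fact.out : p.Prime).one_lt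
    haveI := (Finite.one_lt_card_iff_nontrivial).mp h1
    exact Function.Injective.nontrivial
      (Subgroup.subtype_injective (Cfsg.Lib.Fusion.transl (p := p)).range)
  exact (Group.IsSolvable.commutator_lt_top_of_nontrivial (Cfsg.qd p)).ne
    (Cfsg.Lib.QdRankTwo.qd_perfect hp)

theorem fitting_isPi {π : Set ℕ} (hcore : piCore {r | r ∉ π} S = ⊥) :
    ∀ r : ℕ, r.Prime → r ∣ Nat.card (fittingSubgroup S) → r ∈ π := by
  intro r hr hd
  by_contra hrn
  haveI : Fact r.Prime := ⟨hr⟩
  obtain ⟨y, hy⟩ := exists_prime_orderOf_dvd_card' r hd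
  have hyF : zpowers (y : S) ≤ fittingSubgroup S := zpowers_le.mpr y.2
  have hle : zpowers (y : S) ≤ piCore {r | r ∉ π} S := by
    refine Cfsg.Lib.Elementary.le_piCore_of_subnormal (isSubnormal_of_le_fitting hyF) ?_
    intro q hq hqd
    rw [Nat.card_zpowers, Subgroup.orderOf_coe, hy] at hqd
    rw [Set.mem_ofPred_eq, (Nat.prime_dvd_prime_iff_eq hq hr).mp hqd]
    exact hrn
  rw [hcore, le_bot_iff, zpowers_eq_bot] at hle
  have : orderOf (y : S) = r := by rw [Subgroup.orderOf_coe, hy]
  rw [hle, orderOf_one] at this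
  exact hr.ne_one this.symm

theorem normal_pi_le_hall {π : Set ℕ} {H N : Subgroup S} [N.Normal] (hH : IsPiHall π H)
    (hN : ∀ r : ℕ, r.Prime → r ∣ Nat.card N → r ∈ π) : N ≤ H := by
  have hsup : ∀ r : ℕ, r.Prime → r ∣ Nat.card (N ⊔ H : Subgroup S) → r ∈ π := by
    intro r hr hd
    rcases hr.dvd_mul.mp (hd.trans (card_sup_dvd_mul N H)) with h | h
    exacts [hN r hr h, hH.1 r hr h]
  have h1 : H.relIndex (N ⊔ H) = 1 := by
    by_contra hne
    obtain ⟨r, hr, hd⟩ := Nat.exists_prime_and_dvd hne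
    exact hH.2 r hr (hsup r hr (hd.trans (relIndex_dvd_card H (N ⊔ H))))
      (hd.trans (relIndex_dvd_index_of_le le_sup_right))
  exact le_sup_left.trans (relIndex_eq_one.mp h1)

theorem core_case [Group.IsSolvable S] {π : Set ℕ} (h2 : 2 ∉ π) (h3 : 3 ∉ π) {H A : Subgroup S}
    (hH : IsPiHall π H) (hA : IsSCN ((fittingSubgroup H).map H.subtype) A)
    (hcore : piCore {r | r ∉ π} S = ⊥) {q : ℕ} (hq : q.Prime) (hqπ : q ∈ π) {x : S}
    (hx : x ∈ centralizer (A : Set S)) {n : ℕ} (hxo : orderOf x ∣ q ^ n) : x ∈ A := by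
  haveI : Fact q.Prime := ⟨hq⟩
  set F := fittingSubgroup S with hF
  have hFH : F ≤ H := normal_pi_le_hall hH (fitting_isPi hcore)
  have hFF : F ≤ (fittingSubgroup H).map H.subtype := by
    rw [← map_subgroupOf_eq_of_le hFH]
    refine Subgroup.map_mono ?_
    haveI := isNilpotent_fitting (G := S)
    exact le_fitting (Group.nilpotent_of_mulEquiv (subgroupOfEquivOfLe hFH).symm)
  have hFN : F ≤ normalizer (A : Set S) := hFF.trans hA.2.1
  have hFC : ∀ g ∈ F, g ∈ centralizer (A : Set S) → g ∈ A := fun g hg hc =>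
    hA.2.2.le (mem_inf.2 ⟨hFF hg, hc⟩)
  have hAx : ∀ g ∈ zpowers x, g ∈ centralizer (A : Set S) := fun g hg => zpowers_le.mpr hx hg
  -- the commutator of a normal subgroup of the Fitting subgroup with `x` lies in `A`
  have hcomm : ∀ (R : Subgroup S) [R.Normal], R ≤ F → ∀ g ∈ zpowers x, ∀ w ∈ R, ⁅g, w⁆ ∈ A := by
    intro R hRn hRF g hg w hw
    refine hFC _ (hRF ?_) ?_
    · rw [commutatorElement_def]
      exact mul_mem (hRn.conj_mem w hw g) (inv_mem hw)
    · refine mem_centralizer_iff.mpr fun a ha => ?_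
      have hga := mem_centralizer_iff.mp (hAx g hg)
      have ha' : w⁻¹ * a * w ∈ A := by
        have := (mem_normalizer_iff.mp (inv_mem (hFN (hRF hw))) a).mp ha
        rwa [inv_inv] at this
      have e1 : g * (w⁻¹ * a * w) = w⁻¹ * a * w * g := (hga _ ha').symm
      have e2 : g * a = a * g := (hga a ha).symm
      have key : ⁅g, w⁆ * a * ⁅g, w⁆⁻¹ = a := by
        calc ⁅g, w⁆ * a * ⁅g, w⁆⁻¹
            = g * w * (g⁻¹ * ((w⁻¹ * a * w) * g)) * w⁻¹ * g⁻¹ := by
              rw [commutatorElement_def]; group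
          _ = g * w * (g⁻¹ * (g * (w⁻¹ * a * w))) * w⁻¹ * g⁻¹ := by rw [e1]
          _ = g * a * g⁻¹ := by group
          _ = a := by rw [e2, mul_inv_cancel_right]
      calc a * ⁅g, w⁆ = (⁅g, w⁆ * a * ⁅g, w⁆⁻¹) * ⁅g, w⁆ := by rw [key]
        _ = ⁅g, w⁆ * a := by rw [inv_mul_cancel_right]
  have hpF : ∀ r : ℕ, r.Prime → pCore r S ≤ F := fun r hr => by
    haveI : Fact r.Prime := ⟨hr⟩
    haveI := (isPGroup_pCore (G := S) r).isNilpotent
    exact le_fitting this
  -- `x` centralizes the other primary parts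
  have hother : ∀ r : ℕ, r.Prime → r ≠ q → ∀ w ∈ pCore r S, x * w = w * x := by
    intro r hr hrq w hw
    haveI : Fact r.Prime := ⟨hr⟩
    refine centralize_of_commutator_fixed (isPGroup_pCore (G := S) r) ?_ ?_ hw ?_
    · exact ((((Nat.coprime_primes hq hr).mpr (Ne.symm hrq))).pow_left n).coprime_dvd_left hxo
    · rw [normalizer_eq_top]; trivial
    · have hc := hcomm _ (hpF r hr) x (mem_zpowers x) w hw
      rw [← mem_centralizer_iff.mp hx _ hc, mul_inv_cancel_right]
  set C := centralizer ((pCore q S : Subgroup S) : Set S) with hC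
  haveI : C.Normal := normal_centralizer
  have hq2 : q ≠ 2 := fun h => h2 (h ▸ hqπ)
  have hq3 : 3 < q := by
    rcases Nat.lt_or_ge 3 q with h | h
    · exact h
    · have := hq.two_le
      have : q = 3 := by omega
      exact absurd (this ▸ hqπ) h3
  have hstab : (QuotientGroup.mk x : S ⧸ C) ∈ pCore q (S ⧸ C) := by
    refine Cfsg.Lib.QuadPair.stable_of_qd_free hq2 (Nat.card (pCore q S)) S (qd_not_involved hq3)
      (pCore q S) (isPGroup_pCore q) rfl x ?_
    have h1 : ⁅(pCore q S : Subgroup S), zpowers x⁆ ≤ A := by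
      rw [commutator_comm]
      exact commutator_le.mpr fun g hg w hw => hcomm _ (hpF q hq) g hg w hw
    refine le_bot_iff.mp ((commutator_mono h1 le_rfl).trans (le_of_eq ?_))
    refine commutator_eq_bot_iff_le_centralizer.mpr fun a ha => mem_centralizer_iff.mpr fun g hg => ?_
    exact (mem_centralizer_iff.mp (hAx g hg) a ha).symm
  set T : Set S := {f | f ∈ F ∧ (orderOf f).Coprime q} with hT
  set L := centralizer T with hL
  have hLn : L.Normal := by
    refine ⟨fun g hg c => mem_centralizer_iff.mpr fun f hf => ?_⟩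
    have hf' : c⁻¹ * f * c ∈ T := by
      refine ⟨?_, ?_⟩
      · have := (inferInstance : (fittingSubgroup S).Normal).conj_mem f hf.1 c⁻¹
        rwa [inv_inv] at this
      · have : orderOf (c⁻¹ * f * c) = orderOf f := by
          rw [← orderOf_injective (MulAut.conj c).toMonoidHom (MulAut.conj c).injective]
          congr 1
          simp [mul_assoc]
        rw [this]
        exact hf.2
    have := mem_centralizer_iff.mp hg _ hf'
    calc f * (c * g * c⁻¹) = c * ((c⁻¹ * f * c) * g) * c⁻¹ := by group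
      _ = c * (g * (c⁻¹ * f * c)) * c⁻¹ := by rw [this]
      _ = c * g * c⁻¹ * f := by group
  have hxL : x ∈ L := by
    refine mem_centralizer_iff.mpr fun f hf => ?_
    suffices f ∈ centralizer ({x} : Set S) from
      (mem_centralizer_iff.mp this x rfl).symm
    refine mem_of_primary fun r k hr g hg hgo => mem_centralizer_iff.mpr fun y hy => ?_
    rw [Set.mem_singleton_iff] at hy
    rw [hy]
    haveI : Fact r.Prime := ⟨hr⟩
    by_cases hrq : r = q
    · have hd : q ^ k ∣ orderOf f := by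
        rw [← hrq, ← hgo]
        exact orderOf_dvd_of_mem_zpowers hg
      have hk : orderOf g = 1 := by
        rw [hgo, hrq]
        exact Nat.eq_one_of_dvd_coprimes hf.2 hd
          (by rcases k with _ | k
              · simp
              · exfalso
                have h1 : q ∣ orderOf f := (dvd_pow_self q k.succ_ne_zero).trans hd
                exact hq.ne_one (Nat.eq_one_of_dvd_coprimes hf.2 h1 dvd_rfl))
      rw [orderOf_eq_one_iff.mp hk, mul_one, one_mul]
    · refine hother r hr hrq g (le_pCore_of_le_fitting (H := zpowers g) ?_ ?_ (mem_zpowers g))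
      · exact zpowers_le.mpr (zpowers_le.mpr hf.1 hg)
      · exact IsPGroup.of_card (n := k) (by rw [Nat.card_zpowers, hgo])
  set M := (pCore q (S ⧸ C)).comap (QuotientGroup.mk' C) ⊓ L with hM
  haveI : M.Normal := inferInstance
  have hxM : x ∈ M := mem_inf.2 ⟨hstab, hxL⟩
  obtain ⟨k, hk⟩ := Cfsg.Lib.QuadPair.exists_core_power (p := q) C
  have hMz : ∀ g ∈ M, ∃ i : ℕ, g ^ q ^ i ∈ centralizer (M : Set S) := by
    intro g hg
    have h1 : g ^ q ^ k ∈ C := hk g (mem_inf.1 hg).1
    have h2' : g ^ q ^ k ∈ L := pow_mem (mem_inf.1 hg).2 _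
    have h3' : g ^ q ^ k ∈ F := by
      refine Cfsg.Lib.Coprime.centralizer_fitting_le (mem_centralizer_iff.mpr fun f hf => ?_)
      suffices f ∈ centralizer ({g ^ q ^ k} : Set S) from
        (mem_centralizer_iff.mp this _ rfl).symm
      refine mem_of_primary fun r i hr w hw hwo => mem_centralizer_iff.mpr fun y hy => ?_
      rw [Set.mem_singleton_iff] at hy
      rw [hy]
      haveI : Fact r.Prime := ⟨hr⟩
      have hwF : w ∈ F := zpowers_le.mpr hf hw
      by_cases hrq : r = q
      · subst hrq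
        have : w ∈ pCore r S := le_pCore_of_le_fitting (H := zpowers w) (zpowers_le.mpr hwF)
          (IsPGroup.of_card (n := i) (by rw [Nat.card_zpowers, hwo])) (mem_zpowers w)
        exact (mem_centralizer_iff.mp h1 w this).symm
      · have : w ∈ T := ⟨hwF, by
          rw [hwo]; exact ((Nat.coprime_primes hr hq).mpr hrq).pow_left i⟩
        exact (mem_centralizer_iff.mp h2' w this).symm
    obtain ⟨j, m, hm, ho⟩ := Nat.exists_eq_pow_mul_and_not_dvd
      (orderOf_pos (g ^ q ^ k)).ne' q hq.ne_one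
    refine ⟨k + j, mem_centralizer_iff.mpr fun h hh => ?_⟩
    have hT' : (g ^ q ^ k) ^ q ^ j ∈ T := by
      refine ⟨pow_mem h3' _, ?_⟩
      have hor : orderOf ((g ^ q ^ k) ^ q ^ j) = m := by
        rw [orderOf_pow' _ (pow_ne_zero _ hq.ne_zero), ho, Nat.gcd_mul_right_left,
          Nat.mul_div_cancel_left _ (pow_pos hq.pos j)]
      rw [hor]
      exact (hq.coprime_iff_not_dvd.mpr hm).symm
    have := mem_centralizer_iff.mp (mem_inf.1 (show h ∈ M from hh)).2 _ hT'
    rw [pow_add, pow_mul]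
    exact this.symm
  have hMnil : Group.IsNilpotent M := by
    have hpg : IsPGroup q (M ⧸ center M) := by
      intro y
      obtain ⟨g, rfl⟩ := QuotientGroup.mk'_surjective _ y
      obtain ⟨i, hi⟩ := hMz g g.2
      refine ⟨i, ?_⟩
      rw [← map_pow, ← MonoidHom.mem_ker, QuotientGroup.ker_mk', mem_center_iff]
      intro h
      exact Subtype.ext (mem_centralizer_iff.mp hi (h : S) h.2)
    haveI := hpg.isNilpotent
    exact Subgroup.isNilpotent_of_ker_le_center (QuotientGroup.mk' (center M))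
      (le_of_eq (QuotientGroup.ker_mk' _))
  exact hFC x (le_fitting hMnil hxM) hx

theorem qElement_mem [Group.IsSolvable S] {π : Set ℕ} (h2 : 2 ∉ π) (h3 : 3 ∉ π)
    {H A : Subgroup S} (hH : IsPiHall π H)
    (hA : IsSCN ((fittingSubgroup H).map H.subtype) A) {q : ℕ} (hq : q.Prime) (hqπ : q ∈ π)
    {x : S} (hx : x ∈ centralizer (A : Set S)) {n : ℕ} (hxo : orderOf x ∣ q ^ n) :
    x ∈ A ⊔ piCore {r | r ∉ π} S := by
  set N := piCore {r | r ∉ π} S with hN
  set f := QuotientGroup.mk' N with hf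
  have hHN : H ⊓ N = ⊥ := by
    refine inf_eq_bot_of_coprime (Nat.coprime_of_dvd' fun r hr ha hb => ?_)
    exact absurd (hH.1 r hr ha) (Cfsg.Lib.Elementary.piCore_isPi _ r hr hb)
  have hinj : Function.Injective (f.subgroupMap H) := by
    rw [injective_iff_map_eq_one]
    intro y hy
    have h1 : f (y : S) = 1 := congrArg Subtype.val hy
    rw [← MonoidHom.mem_ker, hf, QuotientGroup.ker_mk'] at h1
    have : (y : S) ∈ H ⊓ N := mem_inf.2 ⟨y.2, h1⟩
    rw [hHN, mem_bot] at this
    exact Subtype.ext this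
  let e : H ≃* H.map f := MulEquiv.ofBijective (f.subgroupMap H) ⟨hinj, f.subgroupMap_surjective H⟩
  have hFe : (fittingSubgroup (H.map f)).map (H.map f).subtype
      = ((fittingSubgroup H).map H.subtype).map f := by
    rw [← fitting_map_equiv e, map_map, map_map]
    rfl
  have hA' : IsSCN ((fittingSubgroup (H.map f)).map (H.map f).subtype) (A.map f) := by
    rw [hFe]
    refine ⟨Subgroup.map_mono hA.1, ?_, ?_⟩
    · exact (Subgroup.map_mono hA.2.1).trans (le_normalizer_map f)
    · refine le_antisymm ?_ (le_inf (Subgroup.map_mono hA.1) ?_)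
      · intro z hz
        obtain ⟨y, hy, rfl⟩ := mem_map.mp (mem_inf.1 hz).1
        have hyH : y ∈ H := map_subtype_le _ hy
        refine mem_map.mpr ⟨y, hA.2.2.le (mem_inf.2 ⟨hy, mem_centralizer_iff.mpr fun a ha => ?_⟩), rfl⟩
        have h1 : f a * f y = f y * f a := mem_centralizer_iff.mp (mem_inf.1 hz).2 _ ⟨a, ha, rfl⟩
        have h2' : a * y * a⁻¹ * y⁻¹ ∈ H ⊓ N := by
          refine mem_inf.2 ⟨?_, ?_⟩
          · have haH : a ∈ H := map_subtype_le _ (hA.1 ha)
            exact mul_mem (mul_mem (mul_mem haH hyH) (inv_mem haH)) (inv_mem hyH)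
          · rw [← QuotientGroup.ker_mk' N, MonoidHom.mem_ker, ← hf, map_mul, map_mul, map_mul,
              h1, map_inv, map_inv, mul_inv_cancel_right, mul_inv_cancel]
        rw [hHN, mem_bot, mul_inv_eq_one, mul_inv_eq_iff_eq_mul] at h2'
        exact h2'
      · rintro _ ⟨a, ha, rfl⟩
        refine mem_centralizer_iff.mpr ?_
        rintro _ ⟨b, hb, rfl⟩
        rw [← map_mul, ← map_mul, mem_centralizer_iff.mp (mem_inf.1 (hA.2.2.ge ha)).2 b hb]
  have hcore : piCore {r | r ∉ π} (S ⧸ N) = ⊥ := by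
    set B := piCore {r | r ∉ π} (S ⧸ N) with hB
    have h1 : B.comap f ≤ N := by
      refine Cfsg.Lib.Elementary.le_piCore ?_
      intro r hr hd
      rw [hf, Cfsg.Lib.Coprime.card_comap_mk'] at hd
      rcases hr.dvd_mul.mp hd with h | h
      exacts [Cfsg.Lib.Elementary.piCore_isPi _ r hr h, Cfsg.Lib.Elementary.piCore_isPi _ r hr h]
    have h1' := Subgroup.map_mono (f := f) h1
    rw [map_comap_eq_self_of_surjective (QuotientGroup.mk'_surjective N), hf,
      QuotientGroup.map_mk'_self] at h1'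
    exact le_bot_iff.mp h1'
  have hxC : f x ∈ centralizer ((A.map f : Subgroup (S ⧸ N)) : Set (S ⧸ N)) := by
    refine mem_centralizer_iff.mpr ?_
    rintro _ ⟨a, ha, rfl⟩
    rw [← map_mul, ← map_mul, mem_centralizer_iff.mp hx a ha]
  have := core_case h2 h3 (Cfsg.Lib.Coprime.isPiHall_map hH (QuotientGroup.mk'_surjective N)) hA'
    hcore hq hqπ hxC ((orderOf_map_dvd f x).trans hxo)
  have h' : x ∈ (A.map f).comap f := this
  rwa [comap_map_eq, hf, QuotientGroup.ker_mk'] at h'

theorem main [Group.IsSolvable S] (π : Set ℕ) (h2 : 2 ∉ π) (h3 : 3 ∉ π) (H : Subgroup S)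
    (hH : IsPiHall π H) (A : Subgroup S) (hA : IsSCN ((fittingSubgroup H).map H.subtype) A) :
    ∃ D : Subgroup S, D ≤ centralizer (A : Set S) ∧
      (∀ c ∈ centralizer (A : Set S), ∀ d ∈ D, c * d * c⁻¹ ∈ D) ∧
      A ⊓ D = ⊥ ∧ A ⊔ D = centralizer (A : Set S) ∧
      ∀ q : ℕ, q.Prime → q ∣ Nat.card D → q ∉ π := by
  set C := centralizer (A : Set S) with hC
  set N := piCore {r | r ∉ π} S with hN
  have hAC : A ≤ C := hA.2.2.ge.trans inf_le_right
  set A' := A.subgroupOf C with hA'
  have hcardA : Nat.card A' = Nat.card A := Nat.card_congr (subgroupOfEquivOfLe hAC).toEquiv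
  have hApi : ∀ r : ℕ, r.Prime → r ∣ Nat.card A → r ∈ π := fun r hr hd =>
    hH.1 r hr (hd.trans (card_dvd_of_le (hA.1.trans (map_subtype_le _))))
  haveI hA'n : A'.Normal := ⟨fun a ha c => by
    rw [hA', mem_subgroupOf] at ha ⊢
    push_cast
    rw [← mem_centralizer_iff.mp c.2 _ ha, mul_inv_cancel_right]
    exact ha⟩
  have hindex : ∀ q : ℕ, q.Prime → q ∈ π → ¬ q ∣ A'.index := by
    intro q hq hqπ hd
    haveI : Fact q.Prime := ⟨hq⟩
    have hP := IsPGroup.iff_card.mp (default : Sylow q C).isPGroup'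
    obtain ⟨v, hv⟩ := hP
    set P : Subgroup C := ((default : Sylow q C) : Subgroup C) with hPd
    set N' := (N ⊓ C).subgroupOf C with hN'
    have hle : P ≤ A' ⊔ N' := by
      intro z hz
      have ho : orderOf (z : S) ∣ q ^ v := by
        rw [← hv, Subgroup.orderOf_coe]
        exact (Subgroup.orderOf_mk (H := P) z hz) ▸ orderOf_dvd_natCard _
      have h1 := qElement_mem h2 h3 hH hA hq hqπ z.2 ho
      rw [← SetLike.mem_coe, ← hN, Subgroup.mul_normal] at h1
      obtain ⟨a, ha, m, hm, he⟩ := h1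
      have he' : a * m = (z : S) := he
      have hmC : m ∈ C := by
        have : m = a⁻¹ * z := by rw [← he', inv_mul_cancel_left]
        rw [this]
        exact mul_mem (inv_mem (hAC ha)) z.2
      have : z = (⟨a, hAC ha⟩ : C) * ⟨m, hmC⟩ := Subtype.ext he'.symm
      rw [this]
      exact Subgroup.mul_mem_sup (mem_subgroupOf.mpr ha) (mem_subgroupOf.mpr (mem_inf.2 ⟨hm, hmC⟩))
    have h1 : Nat.card P ∣ Nat.card A' * Nat.card N' :=
      (card_dvd_of_le hle).trans (card_sup_dvd_mul A' N')
    have h2' : (Nat.card P).Coprime (Nat.card N') := by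
      rw [hv]
      refine Nat.Coprime.pow_left _ ((hq.coprime_iff_not_dvd).mpr fun h => ?_)
      have h' : q ∣ Nat.card (N ⊓ C : Subgroup S) := by
        rwa [hN', Nat.card_congr (subgroupOfEquivOfLe (inf_le_right : N ⊓ C ≤ C)).toEquiv] at h
      exact Cfsg.Lib.Elementary.piCore_isPi _ q hq (h'.trans (card_dvd_of_le inf_le_left)) hqπ
    have h3' : Nat.card P ∣ Nat.card A' := h2'.dvd_of_dvd_mul_right h1
    have h4 : q ∣ P.index := by
      have : A'.index ∣ P.index := by
        have e : Nat.card P * P.index = Nat.card A' * A'.index := by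
          rw [card_mul_index, card_mul_index]
        obtain ⟨t, ht⟩ := h3'
        rw [ht, mul_assoc] at e
        exact ⟨t, by rw [Nat.eq_of_mul_eq_mul_left Nat.card_pos e, mul_comm]⟩
      exact hd.trans this
    exact (default : Sylow q C).not_dvd_index h4
  have hcop : (Nat.card A').Coprime A'.index := by
    refine Nat.coprime_of_dvd' fun r hr ha hb => ?_
    exact absurd hb (hindex r hr (hApi r hr (hcardA ▸ ha)))
  obtain ⟨K, hK⟩ := exists_right_complement'_of_coprime hcop
  have hKn : K.Normal := by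
    refine normalizer_eq_top_iff.mp (top_le_iff.mp ?_)
    rw [← hK.sup_eq_top]
    refine sup_le (fun a ha => ?_) le_normalizer
    refine mem_normalizer_iff.mpr fun g => ?_
    have : a * g * a⁻¹ = g := by
      have ha' : ((a : C) : S) ∈ A := mem_subgroupOf.mp ha
      refine Subtype.ext ?_
      push_cast
      rw [mem_centralizer_iff.mp g.2 _ ha', mul_inv_cancel_right]
    rw [this]
  refine ⟨K.map C.subtype, map_subtype_le _, ?_, ?_, ?_, ?_⟩
  · rintro c hc _ ⟨d, hd, rfl⟩
    exact ⟨⟨c, hc⟩ * d * ⟨c, hc⟩⁻¹, hKn.conj_mem d hd _, rfl⟩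
  · rw [← map_subgroupOf_eq_of_le hAC, ← map_inf _ _ _ C.subtype_injective, ← hA',
      hK.disjoint.eq_bot, Subgroup.map_bot]
  · rw [← map_subgroupOf_eq_of_le hAC, ← Subgroup.map_sup, ← hA', hK.sup_eq_top,
      ← MonoidHom.range_eq_map, Subgroup.range_subtype]
  · intro q hq hqd hqπ
    rw [← Nat.card_congr (K.equivMapOfInjective _ C.subtype_injective).toEquiv,
      ← hK.symm.index_eq_card] at hqd
    exact hindex q hq hqπ hqd

end Cfsg.Lib.Components.ScnHall
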