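import Cfsg.Agent.Golay.FusionCert

/-!
The certificate for a fusion system also shows that the Sylow 2-subgroups are self-normalizing.
-/

set_option linter.style.haveILetI false

namespace Cfsg.Lib.Golay.FusionCert

open Cfsg.Lib.PermCert

theorem selfNorm {G : Type*} [Group G] [Finite G] (cG : List Level) (C : Cert)
    (hcG : check 24 cG = true) (hbase : baseCheck cG C = true) (hser : seriesCheck C = true)
    {m : ℕ} (hsizeS : size C.chain = 2 ^ (m + 1)) (hodd : size cG / 2 ^ (m + 1) % 2 = 1)
    (ι : G →* Equiv.Perm (Fin 24)) (hι : Function.Injective ι) (hrange : ι.range = grp 24 cG)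
    (S : Sylow 2 G) : Subgroup.normalizer ((S : Subgroup G) : Set G) = (S : Subgroup G) := by
  haveI : Fact (Nat.Prime 2) := ⟨Nat.prime_two⟩
  simp only [baseCheck, Bool.and_eq_true, List.all_eq_true, Bool.not_eq_true'] at hbase
  obtain ⟨⟨⟨⟨hcS, hgens⟩, hzv⟩, hzS⟩, hz1⟩ := hbase
  set S0 := (grp 24 C.chain).comap ι with hS0
  have hle : grp 24 C.chain ≤ ι.range := by
    rw [hrange]
    refine (Subgroup.closure_le _).mpr ?_
    rintro g ⟨s, hs, rfl⟩
    obtain ⟨hv, hsift⟩ := hgens s hs
    simpa using mem_grp_of_sift hcG (w := [s]) (by simp [hv]) hsift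
  have hmap : S0.map ι = grp 24 C.chain := Subgroup.map_comap_eq_self hle
  have hcard : Nat.card S0 = 2 ^ (m + 1) := by
    rw [← hsizeS, ← card_grp hcS, ← hmap, Subgroup.card_map_of_injective hι]
  have hGcard : Nat.card G = size cG := by
    rw [← card_grp hcG, ← hrange]
    exact Nat.card_congr (MonoidHom.ofInjective hι).toEquiv
  have hindex : ¬ 2 ∣ S0.index := by
    intro hd
    have h1 := S0.card_mul_index
    rw [hcard, hGcard] at h1
    rw [← h1, Nat.mul_div_cancel_left _ (pow_pos two_pos _)] at hodd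
    omega
  set S₀ : Sylow 2 G := (IsPGroup.of_card hcard).toSylow hindex
  have hN : Subgroup.normalizer (S0 : Set G) = S0 := by
    refine le_antisymm ?_ Subgroup.le_normalizer
    have hp2 : IsPGroup 2 (Subgroup.normalizer (S0 : Set G)) := fun g => by
      have h1 : ι g ∈ Subgroup.normalizer (grp 24 C.chain : Set (Equiv.Perm (Fin 24))) :=
        hmap ▸ Subgroup.le_normalizer_map ι ⟨g, g.2, rfl⟩
      obtain ⟨k, hk⟩ := pow_eq_one hcS hser h1
      exact ⟨k, Subtype.ext (hι (by rw [Subgroup.coe_pow, map_pow, hk, Subgroup.coe_one, map_one]))⟩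
    exact (S₀.3 hp2 Subgroup.le_normalizer).le
  have hp2 : IsPGroup 2 (Subgroup.normalizer ((S : Subgroup G) : Set G)) := by
    obtain ⟨g, hg⟩ := MulAction.exists_smul_eq G S₀ S
    have hc : Nat.card (Subgroup.normalizer ((S : Subgroup G) : Set G)) = 2 ^ (m + 1) := by
      have h1 : Nat.card (Sylow 2 G) = (Subgroup.normalizer ((S : Subgroup G) : Set G)).index :=
        S.card_eq_index_normalizer
      have h2 : Nat.card (Sylow 2 G) = (Subgroup.normalizer ((S₀ : Subgroup G) : Set G)).index :=
        S₀.card_eq_index_normalizer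
      have h3 : (S₀ : Subgroup G) = S0 := rfl
      rw [h3, hN] at h2
      have e1 := (Subgroup.normalizer ((S : Subgroup G) : Set G)).card_mul_index
      rw [← h1, h2, ← S0.card_mul_index, hcard] at e1
      exact Nat.eq_of_mul_eq_mul_right (Nat.pos_of_ne_zero Subgroup.index_ne_zero_of_finite) e1
    exact IsPGroup.of_card hc
  exact S.3 hp2 Subgroup.le_normalizer

end Cfsg.Lib.Golay.FusionCert
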