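import Cfsg.Agent.S3195
import Cfsg.Prelude.Def_SubgroupEmbedding

/-!
The Sidki pair condition for groups of order at most four.
-/

set_option autoImplicit false

namespace Cfsg.Lib.SidkiFour

open Cfsg.Agent.S3195 (commute_of_sq eq_one_of_inv_eq exists_inverted)

variable {G : Type*} [Group G] [Finite G]

theorem no_pair {V : Subgroup G} (hS : Cfsg.IsSidkiPair V) (h4 : Nat.card V ≤ 4)
    (hsq : ∀ v ∈ V, v * v = 1) {a b h k : G} (ha : a ∈ V) (hb : b ∈ V) (hab : a ≠ b)
    (h1 : h ≠ 1) (ho : Odd (orderOf h)) (k1 : k ≠ 1) (ko : Odd (orderOf k))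
    (hha : a * h * a = h⁻¹) (hhb : b * h = h * b) (hka : a * k = k * a) (hkb : b * k * b = k⁻¹) :
    False := by
  classical
  have ha1 : a ≠ 1 := by rintro rfl; exact h1 (eq_one_of_inv_eq ho (by simpa using hha.symm))
  have hb1 : b ≠ 1 := by rintro rfl; exact k1 (eq_one_of_inv_eq ko (by simpa using hkb.symm))
  have hc : ∀ v ∈ V, v = 1 ∨ v = a ∨ v = b ∨ v = a * b := by
    intro v hv
    by_contra hn
    push Not at hn
    have haib : a ≠ a * b := fun e => hb1 (mul_left_cancel (a := a) (by rw [mul_one]; exact e.symm))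
    have hbb : b ≠ a * b := fun e => ha1 (mul_right_cancel (b := b) (by rw [one_mul]; exact e.symm))
    have h1ab : 1 ≠ a * b := fun e => hab (mul_right_cancel (b := b) (by rw [← e, hsq b hb]))
    haveI : Fintype G := Fintype.ofFinite G
    have hsub : ({1, a, b, a * b, v} : Finset G) ⊆ Set.toFinset (V : Set G) := by
      intro x hx
      simp only [Finset.mem_insert, Finset.mem_singleton] at hx
      rw [Set.mem_toFinset, SetLike.mem_coe]
      rcases hx with rfl | rfl | rfl | rfl | rfl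
      exacts [one_mem V, ha, hb, mul_mem ha hb, hv]
    have hcard : ({1, a, b, a * b, v} : Finset G).card = 5 := by
      simp [Finset.card_insert_of_notMem, Ne.symm ha1, Ne.symm hb1, h1ab, hab, haib, hbb,
        Ne.symm hn.1, Ne.symm hn.2.1, Ne.symm hn.2.2.1, Ne.symm hn.2.2.2]
    have := Finset.card_le_card hsub
    rw [hcard, Set.toFinset_card, ← Nat.card_eq_fintype_card] at this
    exact absurd (this.trans h4) (by norm_num)
  have hai : a⁻¹ = a := inv_eq_of_mul_eq_one_right (hsq a ha)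
  have hbi : b⁻¹ = b := inv_eq_of_mul_eq_one_right (hsq b hb)
  have ak : a * k * a = k := by rw [hka, mul_assoc, hsq a ha, mul_one]
  have bh : b * h * b = h := by rw [hhb, mul_assoc, hsq b hb, mul_one]
  -- the conjugate of `h` by `k`
  set x := k * h * k⁻¹ with hx
  have hxo : Odd (orderOf x) := by
    rw [hx, show k * h * k⁻¹ = (MulAut.conj k : G ≃* G) h from rfl, MulEquiv.orderOf_eq]; exact ho
  have hx1 : x ≠ 1 := fun e => h1 (conj_eq_one_iff.1 e)
  have hxa : a * x * a⁻¹ = x⁻¹ := by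
    calc a * x * a⁻¹ = (a * k * a) * (a * h * a) * (a * k * a)⁻¹ := by
          rw [hx, hai, mul_inv_rev, mul_inv_rev, hai]
          simp only [mul_assoc, hsq a ha, mul_one, one_mul]
          rw [← mul_assoc a a (h * _), hsq a ha, one_mul, ← mul_assoc a a (k⁻¹ * a), hsq a ha, one_mul]
      _ = k * h⁻¹ * k⁻¹ := by rw [ak, hha]
      _ = x⁻¹ := by rw [hx]; group
  obtain ⟨w, hw, hw1, hwx⟩ := hS x a ha hxo hxa
  have hkk : k * h = h * k := by
    rcases hc w hw with e | e | e | e <;> rw [e] at hwx hw1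
    · exact absurd rfl hw1
    · refine absurd (eq_one_of_inv_eq hxo ?_) hx1
      rw [← hxa, hwx, mul_inv_cancel_right]
    · have e : (k * k) * h * (k * k)⁻¹ = h := by
        have e1 : b * x * b⁻¹ = x := by rw [hwx, mul_inv_cancel_right]
        have e2 : b * x * b⁻¹ = k⁻¹ * h * k := by
          calc b * x * b⁻¹ = (b * k * b) * (b * h * b) * (b * k * b)⁻¹ := by
                rw [hx, hbi, mul_inv_rev, mul_inv_rev, hbi]
                simp only [mul_assoc, hsq b hb, mul_one, one_mul]
                rw [← mul_assoc b b (h * _), hsq b hb, one_mul, ← mul_assoc b b (k⁻¹ * b), hsq b hb, one_mul]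
            _ = k⁻¹ * h * k := by rw [hkb, bh, inv_inv]
        calc (k * k) * h * (k * k)⁻¹ = k * x * k⁻¹ := by rw [hx]; group
          _ = k * (k⁻¹ * h * k) * k⁻¹ := by rw [← e2, e1]
          _ = h := by group
      exact (commute_of_sq ko (show Commute h (k * k) from
        (mul_inv_eq_iff_eq_mul.1 e).symm)).eq.symm
    · have e1 : a * (b * x * b⁻¹) * a⁻¹ = x := by
        calc a * (b * x * b⁻¹) * a⁻¹ = (a * b) * x * (a * b)⁻¹ := by group
          _ = x := by rw [hwx, mul_inv_cancel_right]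
      have e2 : b * x * b⁻¹ = k⁻¹ * h * k := by
        calc b * x * b⁻¹ = (b * k * b) * (b * h * b) * (b * k * b)⁻¹ := by
              rw [hx, hbi, mul_inv_rev, mul_inv_rev, hbi]
              simp only [mul_assoc, hsq b hb, mul_one, one_mul]
              rw [← mul_assoc b b (h * _), hsq b hb, one_mul, ← mul_assoc b b (k⁻¹ * b), hsq b hb, one_mul]
          _ = k⁻¹ * h * k := by rw [hkb, bh, inv_inv]
      have e3 : a * (k⁻¹ * h * k) * a⁻¹ = k⁻¹ * h⁻¹ * k := by
        calc a * (k⁻¹ * h * k) * a⁻¹ = (a * k * a)⁻¹ * (a * h * a) * (a * k * a) := by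
              rw [hai, mul_inv_rev, mul_inv_rev, hai]
              simp only [mul_assoc, hsq a ha, mul_one, one_mul]
              rw [← mul_assoc a a (h * _), hsq a ha, one_mul, ← mul_assoc a a (k * a), hsq a ha, one_mul]
          _ = k⁻¹ * h⁻¹ * k := by rw [ak, hha]
      have e : (k * k) * h * (k * k)⁻¹ = h⁻¹ := by
        calc (k * k) * h * (k * k)⁻¹ = k * x * k⁻¹ := by rw [hx]; group
          _ = k * (k⁻¹ * h⁻¹ * k) * k⁻¹ := by rw [← e3, ← e2, e1]
          _ = h⁻¹ := by group
      have e4 : Commute h (k * k * (k * k)) := by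
        refine (mul_inv_eq_iff_eq_mul.1 ?_).symm
        calc k * k * (k * k) * h * (k * k * (k * k))⁻¹
            = (k * k) * ((k * k) * h * (k * k)⁻¹) * (k * k)⁻¹ := by group
          _ = (k * k) * h⁻¹ * (k * k)⁻¹ := by rw [e]
          _ = ((k * k) * h * (k * k)⁻¹)⁻¹ := (conj_inv).symm
          _ = h := by rw [e, inv_inv]
      have ho2 : Odd (orderOf (k * k)) :=
        ko.of_dvd_nat (orderOf_dvd_of_pow_eq_one (by rw [← sq, ← pow_mul, mul_comm, pow_mul, pow_orderOf_eq_one, one_pow]))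
      exact (commute_of_sq ko (commute_of_sq ho2 e4)).eq.symm
  have hcm : Commute h k := hkk.symm
  have hdo : Odd (orderOf (h * k)) :=
    (ho.mul ko).of_dvd_nat hcm.orderOf_mul_dvd_mul_orderOf
  have hA : a * (h * k) * a⁻¹ = h⁻¹ * k := by
    calc a * (h * k) * a⁻¹ = (a * h * a) * (a * k * a) := by
          rw [hai]; simp only [mul_assoc]
          rw [← mul_assoc a a (k * a), hsq a ha, one_mul]
      _ = _ := by rw [hha, ak]
  have hB : b * (h * k) * b⁻¹ = h * k⁻¹ := by
    calc b * (h * k) * b⁻¹ = (b * h * b) * (b * k * b) := by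
          rw [hbi]; simp only [mul_assoc]
          rw [← mul_assoc b b (k * b), hsq b hb, one_mul]
      _ = _ := by rw [bh, hkb]
  have hAB : (a * b) * (h * k) * (a * b)⁻¹ = (h * k)⁻¹ := by
    calc (a * b) * (h * k) * (a * b)⁻¹ = a * (b * (h * k) * b⁻¹) * a⁻¹ := by group
      _ = (a * h * a) * (a * k * a)⁻¹ := by
          rw [hB, mul_inv_rev, mul_inv_rev, hai]; simp only [mul_assoc]
          rw [← mul_assoc a a (k⁻¹ * a), hsq a ha, one_mul]
      _ = (h * k)⁻¹ := by rw [ak, hha, mul_inv_rev]; exact (hcm.symm.inv_inv).eq.symm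
  obtain ⟨z, hz, hz1, hzd⟩ := hS (h * k) (a * b) (mul_mem ha hb) hdo hAB
  rcases hc z hz with e | e | e | e <;> rw [e] at hzd hz1
  · exact hz1 rfl
  · have : a * (h * k) * a⁻¹ = h * k := by rw [hzd, mul_inv_cancel_right]
    rw [hA] at this
    exact h1 (eq_one_of_inv_eq ho (mul_right_cancel this))
  · have : b * (h * k) * b⁻¹ = h * k := by rw [hzd, mul_inv_cancel_right]
    rw [hB] at this
    exact k1 (eq_one_of_inv_eq ko (mul_left_cancel this))
  · have : (a * b) * (h * k) * (a * b)⁻¹ = h * k := by rw [hzd, mul_inv_cancel_right]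
    rw [hAB] at this
    have e := eq_one_of_inv_eq hdo this
    rw [eq_inv_of_mul_eq_one_left e] at hha
    refine k1 (eq_one_of_inv_eq ko ?_)
    rw [inv_inv] at hha
    calc k⁻¹ = (a * k * a)⁻¹ := by rw [ak]
      _ = a * k⁻¹ * a := by rw [mul_inv_rev, mul_inv_rev, hai, mul_assoc]
      _ = k := hha

theorem sidki_four {V : Subgroup G} (hV : ∀ v ∈ V, v * v = 1) (hV1 : V ≠ ⊥)
    (hS : Cfsg.IsSidkiPair V) (h4 : Nat.card V ≤ 4) : V ⊓ Cfsg.pCore 2 G ≠ ⊥ := by
  intro hbot
  have hne : ∀ v ∈ V, v ≠ 1 → v ∉ Cfsg.pCore 2 G := fun v hv h1 hmem =>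
    h1 (Subgroup.mem_bot.1 (hbot ▸ (⟨hv, hmem⟩ : v ∈ V ⊓ Cfsg.pCore 2 G)))
  have step : ∀ v ∈ V, v ≠ 1 → ∃ h : G, h ≠ 1 ∧ Odd (orderOf h) ∧ v * h * v = h⁻¹ ∧
      ∃ w ∈ V, w ≠ 1 ∧ w ≠ v ∧ w * h = h * w := by
    intro v hv hv1
    obtain ⟨h, h1, ho, hh⟩ := exists_inverted (hV v hv) (hne v hv hv1)
    obtain ⟨w, hw, hw1, hwh⟩ := hS h v hv ho (by rw [inv_eq_of_mul_eq_one_right (hV v hv)]; exact hh)
    refine ⟨h, h1, ho, hh, w, hw, hw1, fun e => h1 (eq_one_of_inv_eq ho ?_), hwh⟩
    rw [← hh, ← e, hwh, mul_assoc, hV w hw, mul_one]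
  obtain ⟨v, hv, hv1⟩ := V.bot_or_exists_ne_one.resolve_left hV1
  obtain ⟨h, h1, ho, hh, w, hw, hw1, hwv, hwh⟩ := step v hv hv1
  obtain ⟨k, k1, ko, hk, u, hu, hu1, huw, huk⟩ := step w hw hw1
  -- `u` inverts `h`
  have huh : u * h * u = h⁻¹ := by
    obtain ⟨x, hx, hx1, hxh⟩ := hS h v hv ho
      (by rw [inv_eq_of_mul_eq_one_right (hV v hv)]; exact hh)
    by_cases huv : u = v
    · rw [huv]; exact hh
    · -- `u = v * w`
      have e : u = v * w := by
        by_contra hn
        classical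
        haveI : Fintype G := Fintype.ofFinite G
        have hvw : (1 : G) ≠ v * w := fun e => hwv (mul_left_cancel (a := v) (by rw [← e, hV v hv]))
        have hv' : v ≠ v * w := fun e => hw1 (mul_left_cancel (a := v) (by rw [mul_one]; exact e.symm))
        have hw' : w ≠ v * w := fun e => hv1 (mul_right_cancel (b := w) (by rw [one_mul]; exact e.symm))
        have hsub : ({1, v, w, v * w, u} : Finset G) ⊆ Set.toFinset (V : Set G) := by
          intro y hy
          simp only [Finset.mem_insert, Finset.mem_singleton] at hy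
          rw [Set.mem_toFinset, SetLike.mem_coe]
          rcases hy with rfl | rfl | rfl | rfl | rfl
          exacts [one_mem V, hv, hw, mul_mem hv hw, hu]
        have hcard : ({1, v, w, v * w, u} : Finset G).card = 5 := by
          simp [Finset.card_insert_of_notMem, Ne.symm hv1, Ne.symm hw1, Ne.symm hwv, hvw, hv', hw',
            Ne.symm hu1, Ne.symm huv, Ne.symm huw, Ne.symm hn]
        have := Finset.card_le_card hsub
        rw [hcard, Set.toFinset_card, ← Nat.card_eq_fintype_card] at this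
        exact absurd (this.trans h4) (by norm_num)
      have ec : v * w = w * v := by
        have := hV (v * w) (mul_mem hv hw)
        calc v * w = (v * w)⁻¹ := (inv_eq_of_mul_eq_one_right this).symm
          _ = w * v := by
            rw [mul_inv_rev, inv_eq_of_mul_eq_one_right (hV v hv), inv_eq_of_mul_eq_one_right (hV w hw)]
      calc u * h * u = v * (w * h * w) * v := by
            rw [e]; nth_rewrite 2 [ec]; group
        _ = h⁻¹ := by rw [hwh, mul_assoc h w w, hV w hw, mul_one, hh]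
  exact no_pair hS h4 hV hu hw huw h1 ho k1 ko huh hwh huk hk

end Cfsg.Lib.SidkiFour
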