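import Cfsg.Prelude.Def_SubgroupEmbedding
import Cfsg.Agent.Components.GenFitting
import Cfsg.Agent.Components.Supplement
import Cfsg.Agent.Coprime.Action

/-!
The structure of a minimal counterexample for the Sidki pair condition.
-/

set_option autoImplicit false
set_option linter.style.haveILetI false
set_option linter.unusedSectionVars false

namespace Cfsg.Lib.SidkiMin

open Subgroup Cfsg.Lib.Components
open scoped commutatorElement

universe u

variable {G : Type u} [Group G] [Finite G]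

theorem eq_one_of_odd {x : G} (hx : Odd (orderOf x)) (h : x * x = 1) : x = 1 := by
  rw [← sq, ← orderOf_dvd_iff_pow_eq_one, Nat.dvd_prime Nat.prime_two] at h
  rcases h with h | h
  · exact orderOf_eq_one_iff.1 h
  · rw [h] at hx; exact absurd hx (by decide)

theorem mem_of_sq_mem {H : Subgroup G} {x : G} (hx : Odd (orderOf x)) (h : x * x ∈ H) : x ∈ H := by
  obtain ⟨m, hm⟩ := exists_pow_eq_self_of_coprime (x := x) (n := 2) (Nat.coprime_two_left.2 hx)
  rw [← hm, sq]; exact pow_mem h m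

theorem odd_conj {x : G} (g : G) (hx : Odd (orderOf x)) : Odd (orderOf (g * x * g⁻¹)) := by
  rw [show g * x * g⁻¹ = (MulAut.conj g : G ≃* G) x from rfl, MulEquiv.orderOf_eq]; exact hx

theorem odd_of_commute {x y : G} (h : Commute x y) (hx : Odd (orderOf x)) (hy : Odd (orderOf y)) :
    Odd (orderOf (x * y⁻¹)) := by
  refine ((hx.mul hy).of_dvd_nat ?_)
  have := h.inv_right.orderOf_mul_dvd_mul_orderOf
  rwa [orderOf_inv] at this

theorem pCore_quotient_eq_bot : Cfsg.pCore 2 (G ⧸ Cfsg.pCore 2 G) = ⊥ := by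
  haveI : Fact (Nat.Prime 2) := ⟨Nat.prime_two⟩
  set q := QuotientGroup.mk' (Cfsg.pCore 2 G)
  haveI : ((Cfsg.pCore 2 (G ⧸ Cfsg.pCore 2 G)).comap q).Normal :=
    Subgroup.Normal.comap inferInstance q
  have hle : (Cfsg.pCore 2 (G ⧸ Cfsg.pCore 2 G)).comap q ≤ Cfsg.pCore 2 G := by
    refine le_pCore ((isPGroup_pCore 2).comap_of_ker_isPGroup q ?_)
    rw [QuotientGroup.ker_mk']
    exact isPGroup_pCore 2
  rw [eq_bot_iff]
  intro y hy
  obtain ⟨g, rfl⟩ := QuotientGroup.mk'_surjective _ y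
  exact mem_bot.2 ((QuotientGroup.eq_one_iff g).2 (hle hy))

/-- the pair condition passes to a quotient -/
theorem quot_pair {V : Subgroup G} (hV : ∀ v ∈ V, v * v = 1) (hS : Cfsg.IsSidkiPair V) (N : Subgroup G)
    [N.Normal] (hVN : V ⊓ N = ⊥) : Cfsg.IsSidkiPair (V.map (QuotientGroup.mk' N)) := by
  set q := QuotientGroup.mk' N
  rintro h' _ ⟨v, hv, rfl⟩ ho hinv
  obtain ⟨h, rfl⟩ := QuotientGroup.mk'_surjective _ h'
  have hvi : v⁻¹ = v := inv_eq_of_mul_eq_one_right (hV v hv)
  set d := v * (h * v * h⁻¹) with hd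
  have hinvd : v * d * v⁻¹ = d⁻¹ := by
    have e : (h * v * h⁻¹)⁻¹ = h * v * h⁻¹ := by rw [mul_inv_rev, mul_inv_rev, inv_inv, hvi, mul_assoc]
    rw [hd, mul_inv_rev, e, hvi, ← mul_assoc v v, hV v hv, one_mul]
  have hqd : q d = (q h)⁻¹ * (q h)⁻¹ := by
    have e : d = (v * h * v⁻¹) * h⁻¹ := by rw [hd, hvi, ← mul_assoc, ← mul_assoc]
    rw [e, map_mul, map_inv, map_mul, map_mul, map_inv, hinv]
  obtain ⟨k, m, hm, hdo⟩ := Nat.exists_eq_two_pow_mul_odd (n := orderOf d) (orderOf_pos d).ne'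
  set x := d ^ (2 ^ k)
  have hxo : Odd (orderOf x) := by
    show Odd (orderOf (d ^ 2 ^ k))
    rw [orderOf_pow' d (by positivity), hdo, Nat.gcd_eq_right (dvd_mul_right _ _), Nat.mul_div_cancel_left _ (by positivity)]
    exact hm
  obtain ⟨w, hw, hw1, hwx⟩ := hS x v hv hxo (by rw [← conj_pow, hinvd, inv_pow])
  refine ⟨q w, mem_map_of_mem q hw, fun e => hw1 (mem_bot.1 (hVN ▸ ⟨hw, (QuotientGroup.eq_one_iff w).1 e⟩)), ?_⟩
  have h1 : Commute (q w) ((q h)⁻¹ ^ (2 ^ (k + 1))) := by
    have e : q x = (q h)⁻¹ ^ (2 ^ (k + 1)) := by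
      show q (d ^ 2 ^ k) = _
      rw [map_pow, hqd, ← sq, ← pow_mul, pow_succ' 2 k]
    rw [← e]
    exact (show Commute w x from hwx).map q
  obtain ⟨j, hj⟩ := exists_pow_eq_self_of_coprime (x := (q h)⁻¹) (n := 2 ^ (k + 1))
    (by rw [orderOf_inv]; exact (Nat.coprime_two_left.2 ho).pow_left _)
  have h2 := h1.pow_right j
  rw [hj] at h2
  exact (Commute.inv_right_iff.1 h2).eq

variable {V : Subgroup G}

theorem main (hV : Cfsg.IsElementaryAbelian 2 V) (hV1 : V ≠ ⊥) (hS : Cfsg.IsSidkiPair V)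
    (hVO : V ⊓ Cfsg.pCore 2 G = ⊥)
    (hminG : ∀ (H : Type u) [Group H] [Finite H] (W : Subgroup H), Nat.card H < Nat.card G →
      Cfsg.IsElementaryAbelian 2 W → W ≠ ⊥ → Cfsg.IsSidkiPair W → W ⊓ Cfsg.pCore 2 H ≠ ⊥)
    (hminV : ∀ W : Subgroup G, Nat.card W < Nat.card V → Cfsg.IsElementaryAbelian 2 W → W ≠ ⊥ →
      Cfsg.IsSidkiPair W → W ⊓ Cfsg.pCore 2 G ≠ ⊥) :
    IsSimpleGroup ↥(Cfsg.generalizedFittingSubgroup G) ∧
      ¬ IsMulCommutative ↥(Cfsg.generalizedFittingSubgroup G) ∧
      V ⊔ Cfsg.generalizedFittingSubgroup G = ⊤ := by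
  haveI : Fact (Nat.Prime 2) := ⟨Nat.prime_two⟩
  have hsq : ∀ v ∈ V, v * v = 1 := fun v hv => by rw [← sq]; exact hV.2 v hv
  have hcomm : ∀ a ∈ V, ∀ b ∈ V, a * b = b * a := fun a ha b hb =>
    congrArg Subtype.val (hV.1.is_comm.comm ⟨a, ha⟩ ⟨b, hb⟩)
  have helab : ∀ {A : Subgroup G}, A ≤ V → Cfsg.IsElementaryAbelian 2 A := fun {A} hA =>
    ⟨⟨⟨fun a b => Subtype.ext (hcomm a (hA a.2) b (hA b.2))⟩⟩, fun a ha => hV.2 a (hA ha)⟩
  -- no normal `2`-subgroup
  have hO : Cfsg.pCore 2 G = ⊥ := by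
    by_contra hne
    set q := QuotientGroup.mk' (Cfsg.pCore 2 G)
    haveI := hV.1
    refine hminG (G ⧸ Cfsg.pCore 2 G) (V.map q) ?_ ⟨Subgroup.map_isMulCommutative V q, ?_⟩ ?_
      (quot_pair hsq hS _ hVO) (by rw [pCore_quotient_eq_bot, inf_bot_eq])
    · rw [Subgroup.card_eq_card_quotient_mul_card_subgroup (Cfsg.pCore 2 G)]
      exact lt_mul_of_one_lt_right Nat.card_pos ((one_lt_card_iff_ne_bot _).mpr hne)
    · rintro _ ⟨v, hv, rfl⟩
      rw [← map_pow, hV.2 v hv, map_one]
    · intro h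
      rw [Subgroup.map_eq_bot_iff, QuotientGroup.ker_mk'] at h
      exact hV1 (by rw [← inf_eq_left.2 h, hVO])
  have hnoN : ∀ {N D : Subgroup G}, N.IsSubnormal → D ≤ N → IsPGroup 2 D → N ≤ normalizer (D : Set G) → D = ⊥ := by
    intro N D hN hDN hD hn
    rw [eq_bot_iff, ← hO]
    exact le_pCore_of_subnormal (Subgroup.IsSubnormal.trans hDN
      (normal_subgroupOf_of_le_normalizer hn).isSubnormal hN) hD
  -- the inductive step on proper subgroups
  have step : ∀ (H A : Subgroup G), H ≠ ⊤ → A ≤ H → A ≤ V → A ≠ ⊥ →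
      (∀ h ∈ H, ∀ v ∈ A, Odd (orderOf h) → v * h * v⁻¹ = h⁻¹ → ∃ w ∈ A, w ≠ 1 ∧ w * h = h * w) →
      ∃ a ∈ A, a ≠ 1 ∧ a ∈ (Cfsg.pCore 2 H).map H.subtype := by
    intro H A hH hAH hAV hA1 hA
    have hne := hminG H (A.subgroupOf H)
      (lt_of_le_of_ne (card_le_card_group H) fun h => hH (H.eq_top_of_card_eq h))
      ⟨⟨⟨fun a b => Subtype.ext (Subtype.ext (hcomm _ (hAV (mem_subgroupOf.1 a.2)) _ (hAV (mem_subgroupOf.1 b.2))))⟩⟩,
        fun a ha => Subtype.ext (hV.2 _ (hAV (mem_subgroupOf.1 ha)))⟩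
      (fun e => hA1 (by rw [← map_subgroupOf_eq_of_le hAH, e, Subgroup.map_bot]))
      (fun h v hv ho hi => by
        obtain ⟨w, hw, hw1, hwh⟩ := hA h h.2 v hv (by rwa [orderOf_coe]) (congrArg Subtype.val hi)
        exact ⟨⟨w, hAH hw⟩, hw, fun e => hw1 (congrArg Subtype.val e), Subtype.ext hwh⟩)
    obtain ⟨a, ha, ha1⟩ := (bot_or_exists_ne_one _).resolve_left hne
    exact ⟨a, mem_subgroupOf.1 ha.1, fun e => ha1 (Subtype.ext e), ⟨a, ha.2, rfl⟩⟩
  -- `O₂(H)` centralizes normalized subgroups without normal `2`-subgroups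
  have cent : ∀ (H N : Subgroup G), N.IsSubnormal → N ≤ H → H ≤ normalizer (N : Set G) →
      ∀ a ∈ (Cfsg.pCore 2 H).map H.subtype, a ∈ centralizer (N : Set G) := by
    intro H N hN hNH hHN a ha
    set O := (Cfsg.pCore 2 H).map H.subtype
    have hOn : H ≤ normalizer (O : Set G) := by
      refine (normal_subgroupOf_iff_le_normalizer (map_subtype_le _)).1 ?_
      show (((Cfsg.pCore 2 H).map H.subtype).comap H.subtype).Normal
      rw [comap_map_eq_self_of_injective H.subtype_injective]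
      infer_instance
    have hD := hnoN (D := N ⊓ O) hN inf_le_left (((isPGroup_pCore 2).map _).to_le inf_le_right)
      ((le_inf le_normalizer (hNH.trans hOn)).trans inf_normalizer_le_normalizer_inf)
    refine mem_centralizer_iff.2 fun n hn => ?_
    have haH : a ∈ H := map_subtype_le _ ha
    have h1 : n * a * n⁻¹ * a⁻¹ ∈ N ⊓ O := mem_inf.2 ⟨by
        rw [mul_assoc n, mul_assoc n]
        exact mul_mem hn ((mem_normalizer_iff.1 (hHN haH) n⁻¹).1 (inv_mem hn)),
      mul_mem ((mem_normalizer_iff.1 (hOn (hNH hn)) a).1 ha) (inv_mem ha)⟩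
    rw [hD, mem_bot] at h1
    calc n * a = n * a * n⁻¹ * a⁻¹ * (a * n) := by group
      _ = a * n := by rw [h1, one_mul]
  -- no centre
  have hZ : center G = ⊥ := by
    by_contra hne
    set q := QuotientGroup.mk' (center G)
    have hVZ : V ⊓ center G = ⊥ := by
      refine (Subgroup.eq_bot_iff_forall _).2 fun v hv => ?_
      haveI : (zpowers v).Normal := ⟨fun x hx g => by
        have hxc : x ∈ center G := (zpowers_le.2 hv.2) hx
        rw [mem_center_iff.1 hxc g, mul_inv_cancel_right]; exact hx⟩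
      have h := le_pCore ((show IsPGroup 2 V from fun a => ⟨1, Subtype.ext (hV.2 a a.2)⟩).to_le
        (zpowers_le.2 hv.1)) (mem_zpowers v)
      rwa [hO, mem_bot] at h
    haveI := hV.1
    have h := hminG (G ⧸ center G) (V.map q) ?_ ⟨Subgroup.map_isMulCommutative V q, ?_⟩ ?_
      (quot_pair hsq hS _ hVZ)
    rotate_left
    · rw [Subgroup.card_eq_card_quotient_mul_card_subgroup (center G)]
      exact lt_mul_of_one_lt_right Nat.card_pos ((one_lt_card_iff_ne_bot _).mpr hne)
    · rintro _ ⟨v, hv, rfl⟩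
      rw [← map_pow, hV.2 v hv, map_one]
    · intro h
      rw [Subgroup.map_eq_bot_iff, QuotientGroup.ker_mk'] at h
      exact hV1 (by rw [← inf_eq_left.2 h, hVZ])
    obtain ⟨_, ⟨⟨a, ha, rfl⟩, haO⟩, ha1⟩ := (bot_or_exists_ne_one _).resolve_left h
    set P := (Cfsg.pCore 2 (G ⧸ center G)).comap q
    haveI : P.Normal := Subgroup.Normal.comap inferInstance q
    haveI := (isPGroup_pCore (G := G ⧸ center G) 2).isNilpotent
    haveI hPnil : Group.IsNilpotent P := by
      let f : P →* Cfsg.pCore 2 (G ⧸ center G) := (q.comp P.subtype).codRestrict _ fun z => z.2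
      refine _root_.isNilpotent_of_ker_le_center f (fun z hz => mem_center_iff.2 fun y => Subtype.ext ?_)
      have : (z : G) ∈ center G := (QuotientGroup.eq_one_iff (z : G)).1 (congrArg Subtype.val hz)
      exact mem_center_iff.1 this y
    obtain ⟨Q⟩ : Nonempty (Sylow 2 P) := inferInstance
    haveI hQn : (Q : Subgroup P).Normal :=
      Sylow.normal_of_normalizerCondition (Group.normalizerCondition_of_isNilpotent (G := P)) Q
    haveI := Sylow.characteristic_of_normal Q hQn
    have haP : a ∈ P := haO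
    have haQ : (⟨a, haP⟩ : P) ∈ (Q : Subgroup P) := by
      have hz : IsPGroup 2 (zpowers (⟨a, haP⟩ : P)) := by
        refine IsPGroup.of_card_dvd_pow (n := 1) ?_
        rw [Nat.card_zpowers]
        exact orderOf_dvd_of_pow_eq_one (Subtype.ext (by rw [pow_one]; exact hV.2 a ha))
      exact (Q.3 (hz.to_sup_of_normal_right Q.2) le_sup_right).le
        ((le_sup_left : zpowers (⟨a, haP⟩ : P) ≤ _) (mem_zpowers _))
    have h2 := le_pCore (N := (Q : Subgroup P).map P.subtype) (Q.2.map _) ⟨_, haQ, rfl⟩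
    rw [hO, mem_bot] at h2
    exact ha1 (by rw [show a = 1 from h2, map_one])
  -- every normal subgroup supplements `V`
  have sup_top : ∀ N : Subgroup G, N.Normal → N ≠ ⊥ → N ⊔ V = ⊤ := by
    intro N hN hN1
    haveI := hN
    by_contra hNV
    set C := centralizer (N : Set G)
    haveI hCn : C.Normal := inferInstance
    have hCne : C ≠ ⊤ := fun h => hN1 (by
      rw [eq_bot_iff, ← hZ]
      exact centralizer_eq_top_iff_subset.1 h)
    have hVC : ¬ V ≤ C := fun hle => by
      obtain ⟨a, -, ha1, haO⟩ := step C V hCne hle le_rfl hV1 fun h _ v hv ho hi => hS h v hv ho hi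
      have hn : C ≤ normalizer ((Cfsg.pCore 2 C).map C.subtype : Set G) := by
        refine (normal_subgroupOf_iff_le_normalizer (map_subtype_le _)).1 ?_
        show (((Cfsg.pCore 2 C).map C.subtype).comap C.subtype).Normal
        rw [comap_map_eq_self_of_injective C.subtype_injective]
        infer_instance
      have := hnoN hCn.isSubnormal (map_subtype_le _) ((isPGroup_pCore 2).map _) hn
      rw [this, mem_bot] at haO
      exact ha1 haO
    set W := V ⊓ C
    have hHn : ∀ U ≤ V, N ⊔ U ≤ normalizer (N : Set G) := fun U _ => by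
      rw [normalizer_eq_top]; exact le_top
    obtain ⟨a, haV, ha1, haO⟩ := step (N ⊔ V) V hNV le_sup_right le_rfl hV1
      fun h _ v hv ho hi => hS h v hv ho hi
    have haW : a ∈ W := ⟨haV, cent _ N hN.isSubnormal le_sup_left (hHn V le_rfl) a haO⟩
    have hWV : Nat.card W < Nat.card V := lt_of_le_of_ne (card_le_of_le inf_le_left) fun e =>
      hVC (inf_eq_left.1 (eq_of_le_of_card_ge inf_le_left e.ge))
    have hWS : ¬ Cfsg.IsSidkiPair W := fun hW =>
      hminV W hWV (helab inf_le_left) (fun e => ha1 (mem_bot.1 (e ▸ haW))) hW (by rw [hO, inf_bot_eq])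
    simp only [Cfsg.IsSidkiPair, not_forall, not_exists, not_and] at hWS
    obtain ⟨h, v, hv, ho, hi, hno⟩ := hWS
    have hvi : v⁻¹ = v := inv_eq_of_mul_eq_one_right (hsq v hv.1)
    have hhC : h ∈ C := mem_of_sq_mem ho (by
      have e : h * h = h * v * h⁻¹ * v⁻¹ := by
        calc h * h = h * (h⁻¹)⁻¹ := by rw [inv_inv]
          _ = h * (v * h * v⁻¹)⁻¹ := by rw [hi]
          _ = h * v * h⁻¹ * v⁻¹ := by group
      rw [e]; exact mul_mem (hCn.conj_mem v hv.2 h) (inv_mem hv.2))
    set U := V ⊓ centralizer ({h} : Set G)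
    have hU1 : U ≠ ⊥ := fun e => by
      obtain ⟨w, hw, hw1, hwh⟩ := hS h v hv.1 ho hi
      exact hw1 (mem_bot.1 (e ▸ (⟨hw, mem_centralizer_singleton_iff.2 hwh⟩ : w ∈ U)))
    have hH2 : N ⊔ U ≠ ⊤ := fun e => hNV (top_le_iff.1 (e.ge.trans (sup_le_sup_left inf_le_left _)))
    obtain ⟨b, hbU, hb1, hbO⟩ := step (N ⊔ U) U hH2 le_sup_right inf_le_left hU1 (by
      intro k hk u hu hko hku
      have hkN : k ∈ N := by
        refine mem_of_sq_mem hko ?_
        obtain ⟨n, hn, u', hu', rfl⟩ := mem_sup_of_normal_left.1 hk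
        have e : (n * u') * (n * u') = n * (u' * u * u'⁻¹) * n⁻¹ * u⁻¹ := by
          calc (n * u') * (n * u') = (n * u') * ((n * u')⁻¹)⁻¹ := by rw [inv_inv]
            _ = (n * u') * (u * (n * u') * u⁻¹)⁻¹ := by rw [hku]
            _ = _ := by group
        rw [e, show u' * u * u'⁻¹ = u by rw [hcomm _ hu'.1 _ hu.1, mul_inv_cancel_right],
          mul_assoc n u, mul_assoc n]
        exact mul_mem hn (hN.conj_mem _ (inv_mem hn) u)
      have hhk : h * k = k * h := (mem_centralizer_iff.1 hhC k hkN).symm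
      have hvk : v * k * v⁻¹ = k := by rw [← mem_centralizer_iff.1 hv.2 k hkN, mul_inv_cancel_right]
      have huh : u * h * u⁻¹ = h := by rw [mem_centralizer_singleton_iff.1 hu.2, mul_inv_cancel_right]
      have hinv : (v * u) * (h * k) * (v * u)⁻¹ = (h * k)⁻¹ := by
        calc (v * u) * (h * k) * (v * u)⁻¹ = v * ((u * h * u⁻¹) * (u * k * u⁻¹)) * v⁻¹ := by group
          _ = (v * h * v⁻¹) * (v * k * v⁻¹)⁻¹ := by rw [huh, hku]; group
          _ = h⁻¹ * k⁻¹ := by rw [hi, hvk]
          _ = (h * k)⁻¹ := by rw [hhk, mul_inv_rev]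
      have hko' : Odd (orderOf (h * k)) :=
        (ho.mul hko).of_dvd_nat (show Commute h k from hhk).orderOf_mul_dvd_mul_orderOf
      obtain ⟨x, hx, hx1, hxc⟩ := hS (h * k) (v * u) (mul_mem hv.1 hu.1) hko' hinv
      set z := x * h * x⁻¹ * h⁻¹ with hz
      have hxhC : x * h * x⁻¹ ∈ C := hCn.conj_mem h hhC x
      have hzN : z ∈ N := by
        have e : z = k * (x * k⁻¹ * x⁻¹) := by
          calc z = (x * (h * k) * x⁻¹) * (x * k⁻¹ * x⁻¹) * h⁻¹ := by rw [hz]; group
            _ = (h * k) * (x * k⁻¹ * x⁻¹) * h⁻¹ := by rw [hxc, mul_inv_cancel_right]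
            _ = h * (k * (x * k⁻¹ * x⁻¹)) * h⁻¹ := by group
            _ = (k * (x * k⁻¹ * x⁻¹)) * h * h⁻¹ := by
              rw [mem_centralizer_iff.1 hhC _ (mul_mem hkN (hN.conj_mem _ (inv_mem hkN) x))]
            _ = _ := mul_inv_cancel_right _ _
        rw [e]; exact mul_mem hkN (hN.conj_mem _ (inv_mem hkN) x)
      have hzh : z * h = h * z := mem_centralizer_iff.1 hhC z hzN
      have hxh : x * h * x⁻¹ = z * h := by rw [hz, inv_mul_cancel_right]
      have hzi : z = z⁻¹ := by
        calc z = v * z * v⁻¹ := by rw [← mem_centralizer_iff.1 hv.2 z hzN, mul_inv_cancel_right]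
          _ = (v * x) * h * (v * x)⁻¹ * (v * h * v⁻¹)⁻¹ := by rw [hz]; group
          _ = (x * v) * h * (x * v)⁻¹ * (v * h * v⁻¹)⁻¹ := by rw [hcomm v hv.1 x hx]
          _ = x * (v * h * v⁻¹) * x⁻¹ * (v * h * v⁻¹)⁻¹ := by group
          _ = (x * h * x⁻¹)⁻¹ * h := by rw [hi]; group
          _ = z⁻¹ := by rw [hxh, hzh]; group
      have hzo : Odd (orderOf z) := by
        rw [hz]
        refine odd_of_commute ?_ (odd_conj x ho) ho
        show x * h * x⁻¹ * h = h * (x * h * x⁻¹)
        rw [hxh, hzh, mul_assoc, hzh]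
      have hz1 : z = 1 := eq_one_of_odd hzo (by nth_rewrite 1 [hzi]; exact inv_mul_cancel z)
      have hxh' : x * h = h * x := by
        rw [hz1, one_mul] at hxh
        exact mul_inv_eq_iff_eq_mul.1 hxh
      refine ⟨x, ⟨hx, mem_centralizer_singleton_iff.2 hxh'⟩, hx1, ?_⟩
      calc x * k = h⁻¹ * (h * x) * k := by group
        _ = h⁻¹ * (x * (h * k)) := by rw [← hxh']; group
        _ = k * x := by rw [hxc]; group)
    exact hno b ⟨hbU.1, cent _ N hN.isSubnormal le_sup_left (hHn U inf_le_left) b hbO⟩ hb1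
      (mem_centralizer_singleton_iff.1 hbU.2)
  -- a minimal normal subgroup
  obtain ⟨v₀, hv₀, hv₀1⟩ := V.bot_or_exists_ne_one.resolve_left hV1
  obtain ⟨N, ⟨hNn, hN1⟩, hNmin⟩ := (Set.toFinite {N : Subgroup G | N.Normal ∧ N ≠ ⊥}).exists_minimal
    ⟨⊤, inferInstance, fun e => hv₀1 (mem_bot.1 (e ▸ mem_top v₀))⟩
  haveI := hNn
  have hmin : ∀ M : Subgroup G, M.Normal → M ≤ N → M = ⊥ ∨ M = N := fun M hM hle => by
    by_cases h1 : M = ⊥
    · exact Or.inl h1
    · exact Or.inr (le_antisymm hle (hNmin ⟨hM, h1⟩ hle))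
  have hNV := sup_top N hNn hN1
  have normal_of : ∀ M : Subgroup G, N ≤ normalizer (M : Set G) → V ≤ normalizer (M : Set G) → M.Normal :=
    fun M h1 h2 => normalizer_eq_top_iff.1 (top_le_iff.1 (hNV ▸ sup_le h1 h2))
  have hNnc : ¬ IsMulCommutative N := by
    intro hc
    have hcN : ∀ a ∈ N, ∀ b ∈ N, a * b = b * a := fun a ha b hb =>
      congrArg Subtype.val (hc.is_comm.comm ⟨a, ha⟩ ⟨b, hb⟩)
    have hfix : ∀ v ∈ V, v ≠ 1 → N ⊓ centralizer ({v} : Set G) = ⊥ := by
      intro v hv hv1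
      have hn : (N ⊓ centralizer ({v} : Set G)).Normal := by
        refine normal_of _ (fun n hn => centralizer_le_normalizer _ (mem_centralizer_iff.2 fun y hy => hcN y hy.1 n hn)) ?_
        refine (le_inf (by rw [normalizer_eq_top]; exact le_top) ?_).trans inf_normalizer_le_normalizer_inf
        exact fun w hw => le_normalizer (mem_centralizer_singleton_iff.2 (hcomm w hw v hv))
      refine (hmin _ hn inf_le_left).resolve_right fun e => hv1 ?_
      have : v ∈ center G := by
        rw [mem_center_iff]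
        intro g
        obtain ⟨n, hn, w, hw, rfl⟩ := mem_sup_of_normal_left.1 (hNV ▸ mem_top g : g ∈ N ⊔ V)
        have h1 : n * v = v * n := mem_centralizer_singleton_iff.1 (e.ge hn).2
        rw [mul_assoc, hcomm w hw v hv, ← mul_assoc, h1, mul_assoc]
      rwa [hZ, mem_bot] at this
    obtain ⟨n, hn, hn1⟩ := N.bot_or_exists_ne_one.resolve_left hN1
    have hodd : ∀ y ∈ N, y * y = 1 → y = 1 := by
      intro y hy hy2
      let D : Subgroup G :=
        { carrier := {y | y ∈ N ∧ y * y = 1}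
          one_mem' := ⟨one_mem _, one_mul 1⟩
          mul_mem' := fun {a b} ha hb => ⟨mul_mem ha.1 hb.1, by
            rw [mul_assoc, ← mul_assoc b, hcN b hb.1 a ha.1, mul_assoc a b, hb.2, mul_one, ha.2]⟩
          inv_mem' := fun {a} ha => ⟨inv_mem ha.1, by rw [← mul_inv_rev, ha.2, inv_one]⟩ }
      have hD := hnoN (D := D) hNn.isSubnormal (fun a ha => ha.1)
        (fun a => ⟨1, Subtype.ext (by rw [pow_one, sq]; exact a.2.2)⟩)
        (fun m hm => centralizer_le_normalizer _ (mem_centralizer_iff.2 fun a ha => hcN a ha.1 m hm))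
      exact mem_bot.1 (hD ▸ (⟨hy, hy2⟩ : y ∈ D))
    have hinv : ∀ v ∈ V, v ≠ 1 → v * n * v⁻¹ = n⁻¹ := by
      intro v hv hv1
      have hvn : v * n * v⁻¹ ∈ N := hNn.conj_mem n hn v
      refine eq_inv_of_mul_eq_one_right (mem_bot.1 (hfix v hv hv1 ▸ (⟨mul_mem hn hvn, mem_centralizer_singleton_iff.2 ?_⟩ :
        n * (v * n * v⁻¹) ∈ N ⊓ centralizer ({v} : Set G))))
      have hvi := inv_eq_of_mul_eq_one_right (hsq v hv)
      calc n * (v * n * v⁻¹) * v = n * (v * n) := by group
        _ = v * (v * n * v⁻¹ * n) := by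
          rw [hvi]; simp only [← mul_assoc]; rw [hsq v hv, one_mul, mul_assoc n v n]
        _ = v * (n * (v * n * v⁻¹)) := by rw [hcN _ hn _ hvn]
    have hno : Odd (orderOf n) := by
      by_contra heven
      obtain ⟨j, hj⟩ := Nat.not_odd_iff_even.1 heven
      have hj0 : 0 < j := by
        have := orderOf_pos n
        omega
      have : n ^ j = 1 := hodd _ (pow_mem hn j) (by rw [← pow_add, ← hj, pow_orderOf_eq_one])
      have := Nat.le_of_dvd hj0 (orderOf_dvd_of_pow_eq_one this)
      omega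
    obtain ⟨w, hw, hw1, hwn⟩ := hS n v₀ hv₀ hno (hinv v₀ hv₀ hv₀1)
    refine hn1 (eq_one_of_odd hno ?_)
    have := hinv w hw hw1
    rw [hwn, mul_inv_cancel_right] at this
    nth_rewrite 1 [this]; exact inv_mul_cancel n
  have hNsol : ¬ Group.IsSolvable N := by
    intro hs
    haveI : Nontrivial N := N.nontrivial_iff_ne_bot.mpr hN1
    have hlt := Group.IsSolvable.commutator_lt_top_of_nontrivial N
    have h1 : (commutator N).map N.subtype = ⊥ := by
      refine (hmin _ inferInstance (map_subtype_le _)).resolve_right fun e => hlt.ne ?_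
      exact map_injective N.subtype_injective (e.trans (by rw [← MonoidHom.range_eq_map, range_subtype]))
    rw [map_eq_bot_iff_of_injective _ N.subtype_injective] at h1
    exact hNnc ⟨⟨fun a b => commutatorElement_eq_one_iff_mul_comm.1
      (mem_bot.1 (h1 ▸ commutator_mem_commutator (mem_top a) (mem_top b)))⟩⟩
  set C := centralizer (N : Set G)
  have hC : C = ⊥ := by
    by_contra hne
    have hCV := sup_top C inferInstance hne
    rcases hmin (N ⊓ C) inferInstance inf_le_left with h0 | h1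
    · have hN2 : ∀ y ∈ N, Odd (orderOf y) → y = 1 := by
        intro y hy ho
        refine mem_bot.1 (h0 ▸ (⟨hy, mem_of_sq_mem ho ?_⟩ : y ∈ N ⊓ C))
        obtain ⟨c, hc, w, hw, rfl⟩ := mem_sup_of_normal_left.1 (hCV ▸ mem_top y : y ∈ C ⊔ V)
        have e : c * w * (c * w) = c * (w * c * w⁻¹) * (w * w) := by group
        rw [e, hsq w hw, mul_one]
        exact mul_mem hc ((inferInstance : C.Normal).conj_mem c hc w)
      haveI : IsPGroup 2 N → Group.IsSolvable N := fun h => by
        haveI := h.isNilpotent; infer_instance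
      refine hNsol (this fun y => ?_)
      obtain ⟨k, m, hm, hym⟩ := Nat.exists_eq_two_pow_mul_odd (n := orderOf (y : G)) (orderOf_pos _).ne'
      refine ⟨k, Subtype.ext ?_⟩
      show (y : G) ^ 2 ^ k = 1
      refine hN2 _ (pow_mem y.2 _) ?_
      rw [orderOf_pow' _ (by positivity), hym, Nat.gcd_eq_right (dvd_mul_right _ _), Nat.mul_div_cancel_left _ (by positivity)]
      exact hm
    · exact hNnc ⟨⟨fun a b => Subtype.ext (mem_centralizer_iff.1 (h1.ge b.2).2 a a.2)⟩⟩
  have hfit : Cfsg.fittingSubgroup G = ⊥ := by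
    rcases hmin (Cfsg.fittingSubgroup G ⊓ N) inferInstance inf_le_right with h0 | h1
    · rw [eq_bot_iff, ← hC]
      refine commutator_eq_bot_iff_le_centralizer.1 (le_bot_iff.1 ((commutator_le_inf _ _).trans h0.le))
    · have := isSolvable_fitting (G := G)
      exact absurd (Cfsg.Lib.Coprime.isSolvable_of_le (h1.ge.trans inf_le_left) this) hNsol
  have hcompN : ∀ L : Subgroup G, IsComponent L → L ≤ N := fun L hL => by
    rcases comp_le_or_commute hL hNn.isSubnormal with h | h
    · exact h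
    · exact absurd (le_bot_iff.1 (hC ▸ commutator_eq_bot_iff_le_centralizer.1 h)) (comp_ne_bot hL)
  have hF : Cfsg.generalizedFittingSubgroup G = Cfsg.layer G := by
    rw [Cfsg.generalizedFittingSubgroup, hfit, sup_bot_eq]
  have hlayer : Cfsg.layer G = N := by
    haveI : (Cfsg.layer G).Normal := inferInstance
    refine ((hmin (Cfsg.layer G) inferInstance (sSup_le hcompN)).resolve_left fun h0 => ?_)
    have := centralizer_genFitting_le (G := G)
    rw [hF, h0] at this
    exact hv₀1 (mem_bot.1 (this (mem_centralizer_iff.2 fun y hy => by rw [mem_bot.1 hy, one_mul, mul_one])))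
  obtain ⟨L, hL⟩ : ∃ L : Subgroup G, IsComponent L := by
    by_contra hno
    push Not at hno
    exact hN1 (hlayer ▸ sSup_eq_bot.2 fun L hL => absurd hL (hno L))
  have hLN := hcompN L hL
  have hNL : N ≤ normalizer (L : Set G) := hlayer ▸ comp_normal_in_layer hL
  have mapc : ∀ g : G, IsComponent (L.map (MulAut.conj g).toMonoidHom) := fun g => comp_conj hL g
  have hVL : V ≤ normalizer (L : Set G) := by
    by_contra hmove
    obtain ⟨v, hv, hvL⟩ := SetLike.not_le_iff_exists.1 hmove
    have hint : ∀ {K : Subgroup G}, IsComponent K → K ≠ L → ∀ y ∈ K, y ∈ L → y = 1 := by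
      intro K hK hKL y hyK hyL
      rw [← mem_bot, ← hC]
      have hle : Cfsg.layer G ≤ centralizer ({y} : Set G) := sSup_le fun M hM m hm => by
        rw [mem_centralizer_singleton_iff]
        by_cases hML : M = L
        · subst hML
          exact (commutatorElement_eq_one_iff_mul_comm.1 (mem_bot.1
            ((comp_commute hK hL hKL) ▸ commutator_mem_commutator hyK hm))).symm
        · exact (commutatorElement_eq_one_iff_mul_comm.1 (mem_bot.1
            ((comp_commute hL hM (Ne.symm hML)) ▸ commutator_mem_commutator hyL hm))).symm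
      exact mem_centralizer_iff.2 fun m hm => mem_centralizer_singleton_iff.1 (hle (hlayer.ge hm))
    have hne : ∀ w, w ∉ normalizer (L : Set G) → L.map (MulAut.conj w).toMonoidHom ≠ L := fun w hw e =>
      hw (mem_normalizer_iff_map_conj_eq.2 e)
    set V₀ := V ⊓ normalizer (L : Set G)
    have hV₀ : V₀ = ⊥ := by
      by_contra hne0
      have hle : L ⊔ V₀ ≤ normalizer (L : Set G) := sup_le le_normalizer inf_le_right
      have hproper : L ⊔ V₀ ≠ ⊤ := fun e => hvL (hle (e ▸ mem_top v))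
      obtain ⟨a, haV, ha1, haO⟩ := step (L ⊔ V₀) V₀ hproper le_sup_right inf_le_left hne0 (by
        intro k hk u hu hko hku
        by_cases hk1 : k = 1
        · obtain ⟨a, ha, ha1⟩ := (bot_or_exists_ne_one _).resolve_left hne0
          exact ⟨a, ha, ha1, by rw [hk1, mul_one, one_mul]⟩
        have hkL : k ∈ L := by
          haveI : (L.subgroupOf (L ⊔ V₀)).Normal := normal_subgroupOf_of_le_normalizer hle
          refine mem_of_sq_mem hko ?_
          obtain ⟨n, hn, u', hu', rfl⟩ := (Cfsg.Lib.Coprime.mem_sup_of_le_normalizer (show V₀ ≤ normalizer (L : Set G) from inf_le_right)).1 hk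
          have e : (n * u') * (n * u') = n * (u' * u * u'⁻¹) * n⁻¹ * u⁻¹ := by
            calc (n * u') * (n * u') = (n * u') * ((n * u')⁻¹)⁻¹ := by rw [inv_inv]
              _ = (n * u') * (u * (n * u') * u⁻¹)⁻¹ := by rw [hku]
              _ = _ := by group
          rw [e, show u' * u * u'⁻¹ = u by rw [hcomm _ hu'.1 _ hu.1, mul_inv_cancel_right],
            mul_assoc n u, mul_assoc n]
          exact mul_mem hn ((mem_normalizer_iff.1 hu.2 n⁻¹).1 (inv_mem hn))
        obtain ⟨w, hw, hw1, hwk⟩ := hS k u hu.1 hko hku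
        refine ⟨w, ⟨hw, ?_⟩, hw1, hwk⟩
        by_contra hwn
        refine hk1 (hint (mapc w) (hne w hwn) k ⟨k, hkL, ?_⟩ hkL)
        show w * k * w⁻¹ = k
        rw [hwk, mul_inv_cancel_right])
      have haL := cent _ L hL.1 le_sup_left hle a haO
      set M := ⨆ t : V, L.map (MulAut.conj (t : G)).toMonoidHom
      have hML : L ≤ M := le_trans (le_of_eq (mem_normalizer_iff_map_conj_eq.1 (one_mem _)).symm)
        (le_iSup (fun t : V => L.map (MulAut.conj (t : G)).toMonoidHom) 1)
      have hMn : M.Normal := by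
        refine normal_of M (fun n hn => ?_) fun w hw => ?_
        · rw [mem_normalizer_iff_map_conj_eq, Subgroup.map_iSup]
          refine iSup_congr fun t => ?_
          exact mem_normalizer_iff_map_conj_eq.1 ((hlayer ▸ comp_normal_in_layer (mapc t)) hn)
        · rw [mem_normalizer_iff_map_conj_eq]
          refine eq_of_le_of_card_ge ?_ (card_map_of_injective (f := ((MulAut.conj w : G ≃* G) : G →* G)) (MulAut.conj w).injective).ge
          rw [Subgroup.map_iSup]
          refine iSup_le fun t => le_trans (le_of_eq ?_) (le_iSup (fun t : V => L.map (MulAut.conj (t : G)).toMonoidHom) ⟨w * t, mul_mem hw t.2⟩)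
          rw [map_map]
          congr 1
          ext y; simp [mul_assoc]
      have hMN : N ≤ M := by
        rcases hmin M hMn (iSup_le fun t => hcompN _ (mapc t)) with h | h
        · exact absurd (le_bot_iff.1 (h ▸ hML)) (comp_ne_bot hL)
        · exact h.ge
      have haC : M ≤ centralizer ({a} : Set G) := iSup_le fun t => by
        rintro _ ⟨y, hy, rfl⟩
        rw [mem_centralizer_singleton_iff]
        show (t : G) * y * (t : G)⁻¹ * a = a * ((t : G) * y * (t : G)⁻¹)
        have h1 := hcomm _ haV.1 _ t.2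
        have h2 : y * a = a * y := mem_centralizer_iff.1 haL y hy
        calc (t : G) * y * (t : G)⁻¹ * a = t * y * ((t : G)⁻¹ * (a * t) * (t : G)⁻¹) := by group
          _ = t * (y * a) * (t : G)⁻¹ := by rw [h1]; group
          _ = (t * a) * y * (t : G)⁻¹ := by rw [h2]; group
          _ = _ := by rw [← h1]; group
      exact ha1 (mem_bot.1 (hC ▸ mem_centralizer_iff.2 fun y hy =>
        mem_centralizer_singleton_iff.1 (haC (hMN hy))))
    have hmoves : ∀ w ∈ V, w ≠ 1 → L.map (MulAut.conj w).toMonoidHom ≠ L := fun w hw hw1 =>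
      hne w fun h => hw1 (mem_bot.1 (hV₀ ▸ ⟨hw, h⟩))
    obtain ⟨x, hxL, hx1, hxo⟩ : ∃ x ∈ L, x ≠ 1 ∧ Odd (orderOf x) := by
      by_contra hno
      push Not at hno
      have hp : IsPGroup 2 L := fun y => by
        obtain ⟨k, m, hm, hym⟩ := Nat.exists_eq_two_pow_mul_odd (n := orderOf (y : G)) (orderOf_pos _).ne'
        refine ⟨k, Subtype.ext ?_⟩
        show (y : G) ^ 2 ^ k = 1
        by_contra h
        refine hno _ (pow_mem y.2 _) h ?_
        rw [orderOf_pow' _ (by positivity), hym, Nat.gcd_eq_right (dvd_mul_right _ _), Nat.mul_div_cancel_left _ (by positivity)]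
        exact hm
      haveI := hp.isNilpotent
      exact comp_not_isSolvable hL inferInstance
    have hvi : v⁻¹ = v := inv_eq_of_mul_eq_one_right (hsq v hv)
    set y := v * x * v⁻¹ with hy
    have hyL' : y ∈ L.map (MulAut.conj v).toMonoidHom := ⟨x, hxL, rfl⟩
    have hLL' := hne v hvL
    have comm_of : ∀ {K K' : Subgroup G}, IsComponent K → IsComponent K' → K ≠ K' →
        ∀ s ∈ K, ∀ t ∈ K', s * t = t * s := fun hK hK' h s hs t ht =>
      commutatorElement_eq_one_iff_mul_comm.1 (mem_bot.1 ((comp_commute hK hK' h) ▸ commutator_mem_commutator hs ht))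
    have hxy : Commute x y := comm_of hL (mapc v) (Ne.symm hLL') x hxL y hyL'
    have hh : v * (x * y⁻¹) * v⁻¹ = (x * y⁻¹)⁻¹ := by
      have e : v * y * v⁻¹ = x := by rw [hy, hvi]; simp only [← mul_assoc, hsq v hv, one_mul]; rw [mul_assoc, hsq v hv, mul_one]
      calc v * (x * y⁻¹) * v⁻¹ = (v * x * v⁻¹) * (v * y * v⁻¹)⁻¹ := by group
        _ = y * x⁻¹ := by rw [e, ← hy]
        _ = _ := by group
    have hho := odd_of_commute hxy hxo (odd_conj v hxo)
    obtain ⟨w, hw, hw1, hwh⟩ := hS _ v hv hho hh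
    have hwh' : w * (x * y⁻¹) * w⁻¹ = x * y⁻¹ := by rw [hwh, mul_inv_cancel_right]
    by_cases hwv : w = v
    · rw [hwv, hh] at hwh'
      have h1 : x * y⁻¹ = 1 := eq_one_of_odd hho (by nth_rewrite 1 [← hwh']; exact inv_mul_cancel _)
      rw [mul_inv_eq_one] at h1
      exact hx1 (hint (mapc v) hLL' x (h1 ▸ hyL') hxL)
    · have hne2 : L.map (MulAut.conj (w * v)).toMonoidHom ≠ L := hmoves _ (mul_mem hw hv) fun e =>
        hwv (mul_right_cancel (b := v) (by rw [hsq v hv]; exact e))
      have hxc : ∀ l ∈ L, l * (x * y⁻¹) = (x * y⁻¹) * l := by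
        intro l hl
        have e : x * y⁻¹ = (w * x * w⁻¹) * ((w * v) * x * (w * v)⁻¹)⁻¹ := by
          rw [← hwh', hy]; group
        rw [e]
        have c1 : Commute l (w * x * w⁻¹) :=
          comm_of hL (mapc w) (Ne.symm (hmoves w hw hw1)) l hl _ ⟨x, hxL, rfl⟩
        have c2 : Commute l ((w * v) * x * (w * v)⁻¹) :=
          comm_of hL (mapc (w * v)) (Ne.symm hne2) l hl _ ⟨x, hxL, rfl⟩
        exact (c1.mul_right c2.inv_right).eq
      refine hx1 (mem_bot.1 (hC ▸ ?_))
      refine mem_centralizer_iff.2 fun m hm => ?_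
      have hle : Cfsg.layer G ≤ centralizer ({x} : Set G) := sSup_le fun M hM l hl => by
        rw [mem_centralizer_singleton_iff]
        by_cases hML : M = L
        · subst hML
          have c : Commute l y := comm_of hL (mapc v) (Ne.symm hLL') l hl y hyL'
          have := (show Commute l (x * y⁻¹) from hxc l hl).mul_right c
          rw [inv_mul_cancel_right] at this
          exact this.eq
        · exact comm_of hM hL hML l hl x hxL
      exact mem_centralizer_singleton_iff.1 (hle (hlayer.ge hm))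
  have hLeq : L = N := ((hmin L (normal_of L hNL hVL) hLN).resolve_left (comp_ne_bot hL))
  rw [hF, hlayer]
  refine ⟨?_, hNnc, by rw [sup_comm]; exact hNV⟩
  subst hLeq
  have hZL : center L = ⊥ := by
    apply map_injective L.subtype_injective
    rw [Subgroup.map_bot, eq_bot_iff, ← hC]
    rintro _ ⟨z, hz, rfl⟩
    exact mem_centralizer_iff.2 fun l hl => congrArg Subtype.val (mem_center_iff.1 hz ⟨l, hl⟩)
  haveI := hL.2.2
  exact ((QuotientGroup.quotientMulEquivOfEq hZL).trans QuotientGroup.quotientBot).isSimpleGroup_congr.1 hL.2.2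

end Cfsg.Lib.SidkiMin
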