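import Cfsg.Agent.S1324
import Cfsg.Agent.Components.Signalizer.Sft.Tools
import Cfsg.Prelude.Def_LocalEven

/-!
A group with self-centralising odd core acting faithfully on an elementary abelian 2-group has no small
offenders unless the symmetric group of degree 3 is involved.
-/

set_option linter.style.haveILetI false
set_option linter.unusedSectionVars false

namespace Cfsg.Lib.SmallOffender

open Subgroup

universe u

variable {G : Type u} [Group G]

theorem pow_val_add {x : G} (hx : x ^ 3 = 1) (i j : ZMod 3) : x ^ (i + j).val = x ^ i.val * x ^ j.val := by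
  rw [ZMod.val_add, ← pow_add, ← pow_eq_pow_mod _ hx]

theorem conj_pow_val {x a : G} (hax : a * x * a⁻¹ = x⁻¹) (hx : x ^ 3 = 1) (i : ZMod 3) :
    a * x ^ i.val * a⁻¹ = x ^ (-i).val := by
  rw [← conj_pow, hax, inv_pow]
  refine inv_eq_of_mul_eq_one_right ?_
  rw [← pow_val_add hx, add_neg_cancel]
  simp

/-- the dihedral group of order 6 from an inverted element of order 3 -/
def dihHom {x a : G} (hx : x ^ 3 = 1) (ha : a * a = 1) (hax : a * x * a⁻¹ = x⁻¹) : DihedralGroup 3 →* G :=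
  MonoidHom.mk' (fun d => match d with | .r i => x ^ i.val | .sr i => a * x ^ i.val) (by
    have key : ∀ i : ZMod 3, x ^ i.val * a = a * x ^ (-i).val := fun i => by
      rw [← conj_pow_val hax hx i, inv_eq_of_mul_eq_one_right ha, ← mul_assoc, ← mul_assoc, ha, one_mul]
    rintro (i | i) (j | j)
    · show x ^ (i + j).val = x ^ i.val * x ^ j.val
      exact pow_val_add hx i j
    · show a * x ^ (j - i).val = x ^ i.val * (a * x ^ j.val)
      rw [← mul_assoc, key i, mul_assoc, ← pow_val_add hx, neg_add_eq_sub]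
    · show a * x ^ (i + j).val = a * x ^ i.val * x ^ j.val
      rw [mul_assoc, ← pow_val_add hx]
    · show x ^ (j - i).val = a * x ^ i.val * (a * x ^ j.val)
      rw [show a * x ^ i.val * (a * x ^ j.val) = a * (x ^ i.val * a) * x ^ j.val by group, key i,
        ← mul_assoc, ha, one_mul, ← pow_val_add hx, neg_add_eq_sub])

theorem dihHom_injective {x a : G} (hx : x ^ 3 = 1) (ha : a * a = 1) (hax : a * x * a⁻¹ = x⁻¹) (hx1 : x ≠ 1) :
    Function.Injective (dihHom hx ha hax) := by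
  have h2 : ∀ i : ZMod 3, x ^ i.val = 1 → i = 0 := by
    intro i h
    have h' := orderOf_dvd_of_pow_eq_one h
    rw [orderOf_eq_prime hx hx1] at h'
    exact (ZMod.val_eq_zero i).mp (Nat.eq_zero_of_dvd_of_lt h' (ZMod.val_lt i))
  rw [injective_iff_map_eq_one]
  rintro (i | i) h
  · rw [h2 i h, DihedralGroup.one_def]
  · exfalso
    have h' : a * x ^ i.val = 1 := h
    have h3 : a = (x ^ i.val)⁻¹ := eq_inv_of_mul_eq_one_left h'
    have hc : Commute a x := h3 ▸ ((Commute.refl x).pow_left _).inv_left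
    rw [hc.eq, mul_inv_cancel_right] at hax
    have hd : orderOf x ∣ 2 := orderOf_dvd_of_pow_eq_one (by
      rw [pow_two]; exact mul_eq_one_iff_eq_inv.mpr hax)
    rw [orderOf_eq_prime hx hx1] at hd
    norm_num at hd

/-- `S₃` as a dihedral group -/
def dihPermFun : DihedralGroup 3 → Equiv.Perm (Fin 3)
  | .r i => (finRotate 3) ^ i.val
  | .sr i => Equiv.swap 0 1 * (finRotate 3) ^ i.val

theorem exists_dihEquiv : Nonempty (DihedralGroup 3 ≃* Equiv.Perm (Fin 3)) := by
  refine ⟨MulEquiv.ofBijective (MonoidHom.mk' dihPermFun ?_) ?_⟩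
  · rintro (i | i) (j | j) <;> revert i j <;> decide
  · refine (Fintype.bijective_iff_injective_and_card _).mpr ⟨?_, ?_⟩
    · rintro (i | i) (j | j) <;> revert i j <;> decide
    · simp [DihedralGroup.card, Fintype.card_perm, Nat.factorial]

theorem involves_perm_three {x a : G} (hx : x ^ 3 = 1) (ha : a * a = 1) (hax : a * x * a⁻¹ = x⁻¹)
    (hx1 : x ≠ 1) : Cfsg.Involves (Equiv.Perm (Fin 3)) G := by
  set f := dihHom hx ha hax
  refine ⟨f.range, ⊥, by rw [bot_subgroupOf]; infer_instance, ?_⟩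
  obtain ⟨e⟩ := exists_dihEquiv
  exact ⟨((QuotientGroup.quotientMulEquivOfEq (bot_subgroupOf f.range)).trans QuotientGroup.quotientBot).trans
    ((MonoidHom.ofInjective (dihHom_injective hx ha hax hx1)).symm.trans e)⟩

variable [Finite G]

theorem relIndex_mul_card' {H K : Subgroup G} (h : H ≤ K) : H.relIndex K * Nat.card H = Nat.card K := by
  rw [← Nat.card_congr (subgroupOfEquivOfLe h).toEquiv, relIndex, mul_comm]
  exact (H.subgroupOf K).card_mul_index

/-- an element of order at least five fixing pointwise a subgroup of index at most four acts trivially -/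
theorem commute_of_small {U W : Subgroup G} {x : G} {r : ℕ} [Fact r.Prime] (hr : 5 ≤ r) (hxr : x ^ r = 1)
    (hU : ∀ u ∈ U, u * u = 1) (hxU : ∀ u ∈ U, x * u * x⁻¹ ∈ U) (hW : W.relIndex U ≤ 4)
    (hfix : ∀ w ∈ W, x * w * x⁻¹ = w) {u : G} (hu : u ∈ U) : x * u = u * x := by
  classical
  have hxpow : ∀ k : ℕ, x ^ k * u * (x ^ k)⁻¹ ∈ U := by
    intro k
    induction k with
    | zero => simpa using hu
    | succ k ih =>
      have := hxU _ ih
      rwa [show x * (x ^ k * u * (x ^ k)⁻¹) * x⁻¹ = x ^ (k + 1) * u * (x ^ (k + 1))⁻¹ by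
        rw [pow_succ']; group] at this
  haveI := Fintype.ofFinite (U ⧸ W.subgroupOf U)
  have hcard : Fintype.card (U ⧸ W.subgroupOf U) < Fintype.card (Fin 5) := by
    rw [Fintype.card_fin, ← Nat.card_eq_fintype_card]
    exact Nat.lt_succ_of_le hW
  obtain ⟨i, j, hij, h⟩ := Fintype.exists_ne_map_eq_of_card_lt
    (fun i : Fin 5 => QuotientGroup.mk (s := W.subgroupOf U) (⟨_, hxpow i⟩ : U)) hcard
  wlog hlt : (i : ℕ) < j generalizing i j with H
  · exact H j i (Ne.symm hij) h.symm (lt_of_le_of_ne (not_lt.mp hlt) fun e => hij (Fin.ext e.symm))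
  have hw : (x ^ (i : ℕ) * u * (x ^ (i : ℕ))⁻¹)⁻¹ * (x ^ (j : ℕ) * u * (x ^ (j : ℕ))⁻¹) ∈ W :=
    mem_subgroupOf.mp (QuotientGroup.eq.mp h)
  obtain ⟨k, hk⟩ := Nat.exists_eq_add_of_lt hlt
  set w := (x ^ (i : ℕ) * u * (x ^ (i : ℕ))⁻¹)⁻¹ * (x ^ (j : ℕ) * u * (x ^ (j : ℕ))⁻¹) with hwdef
  have hcw : Commute x w := mul_inv_eq_iff_eq_mul.mp (hfix w hw)
  have hstep : x ^ (k + 1) * u * (x ^ (k + 1))⁻¹ = u * w := by
    calc x ^ (k + 1) * u * (x ^ (k + 1))⁻¹
        = u * ((x ^ (i : ℕ))⁻¹ * w * x ^ (i : ℕ)) := by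
          rw [hwdef, hk, show (i : ℕ) + k + 1 = i + (k + 1) by ring, pow_add x (i : ℕ)]; group
      _ = u * w := by rw [mul_assoc, ← (hcw.pow_left i).eq, inv_mul_cancel_left]
  have hiter : ∀ m : ℕ, (x ^ (k + 1)) ^ m * u * ((x ^ (k + 1)) ^ m)⁻¹ = u * w ^ m := by
    intro m
    induction m with
    | zero => simp
    | succ m ih =>
      calc (x ^ (k + 1)) ^ (m + 1) * u * ((x ^ (k + 1)) ^ (m + 1))⁻¹
          = x ^ (k + 1) * ((x ^ (k + 1)) ^ m * u * ((x ^ (k + 1)) ^ m)⁻¹) * (x ^ (k + 1))⁻¹ := by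
            rw [pow_succ']; group
        _ = x ^ (k + 1) * u * (x ^ (k + 1))⁻¹ * (x ^ (k + 1) * w ^ m * (x ^ (k + 1))⁻¹) := by rw [ih]; group
        _ = u * w * w ^ m := by rw [hstep, ((hcw.pow_pow (k + 1) m).eq), mul_inv_cancel_right]
        _ = u * w ^ (m + 1) := by rw [pow_succ', mul_assoc]
  have hwr : w ^ r = 1 := by
    have h1 := hiter r
    rw [← pow_mul, mul_comm, pow_mul, hxr, one_pow, one_mul, inv_one, mul_one] at h1
    exact (mul_eq_left.mp h1.symm)
  have hwU : w ∈ U := mul_mem (inv_mem (hxpow i)) (hxpow j)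
  have hw1 : w = 1 := by
    rw [← orderOf_eq_one_iff]
    refine Nat.eq_one_of_dvd_coprimes ?_ (orderOf_dvd_of_pow_eq_one hwr)
      (orderOf_dvd_of_pow_eq_one (pow_two w ▸ hU w hwU))
    exact (Nat.coprime_primes Fact.out Nat.prime_two).mpr (by omega)
  rw [hw1, mul_one, mul_inv_eq_iff_eq_mul] at hstep
  have hco : Nat.Coprime (k + 1) r := by
    refine (Nat.Prime.coprime_iff_not_dvd Fact.out).mpr (fun hd => ?_) |>.symm
    have := Nat.le_of_dvd (by omega) hd
    have := j.isLt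
    omega
  obtain ⟨m, hm⟩ : x ∈ zpowers (x ^ (k + 1)) := by
    rw [mem_zpowers_pow_iff]
    exact Nat.Coprime.of_dvd_right (orderOf_dvd_of_pow_eq_one hxr) hco
  have hc : Commute (x ^ (k + 1)) u := hstep
  rw [← hm]
  exact (hc.zpow_left m).eq

/-- the bound -/
theorem sq_card_le_relIndex {V O : Subgroup G} (hV : Cfsg.IsElementaryAbelian 2 V)
    (hOV : O ≤ normalizer (V : Set G)) (hOf : O ⊓ centralizer (V : Set G) = ⊥) (hOodd : Odd (Nat.card O))
    (A : Subgroup G) (hA : Cfsg.IsElementaryAbelian 2 A) (hAV : A ≤ normalizer (V : Set G))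
    (hAO : A ≤ normalizer (O : Set G)) (hAf : A ⊓ centralizer (O : Set G) = ⊥)
    (hns : ∀ a ∈ A, ∀ x ∈ O, orderOf x = 3 → a * x * a⁻¹ = x⁻¹ → False) :
    Nat.card A ^ 2 ≤ (V ⊓ centralizer (A : Set G)).relIndex V := by
  classical
  haveI : Fact (Nat.Prime 2) := ⟨Nat.prime_two⟩
  induction hn : Nat.card A using Nat.strong_induction_on generalizing A with
  | _ n ih =>
  subst hn
  rcases eq_or_ne A ⊥ with rfl | hA1
  · rw [card_bot, one_pow]
    exact Nat.one_le_iff_ne_zero.mpr (index_ne_zero_of_finite)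
  have hcomm : ∀ a ∈ A, ∀ b ∈ A, a * b = b * a := fun a ha b hb =>
    haveI := hA.1; congrArg Subtype.val (mul_comm' (⟨a, ha⟩ : A) ⟨b, hb⟩)
  have hsq : ∀ a ∈ A, a * a = 1 := fun a ha => pow_two a ▸ hA.2 a ha
  have hp2 : IsPGroup 2 A := fun a => ⟨1, Subtype.ext (by simpa using hA.2 _ a.2)⟩
  -- a hyperplane whose fixed points on `O` are not centralised by `A`
  obtain ⟨B, hBA, hBi, y, ⟨hyO, hyB⟩, hyA⟩ : ∃ B : Subgroup G, B ≤ A ∧ B.relIndex A ≤ 2 ∧
      ∃ y ∈ O ⊓ centralizer (B : Set G), y ∉ centralizer (A : Set G) := by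
    have hnle : ¬ O ≤ centralizer (A : Set G) := fun h => hA1 (by
      rw [← hAf, inf_eq_left.mpr (le_centralizer_iff.mp h)])
    by_cases hA2 : 2 ^ 2 ≤ Nat.card A
    · by_contra! h
      apply hnle
      rw [Cfsg.Agent.S1324.result 2 A O hA hA2
        (fun h => Nat.not_even_iff_odd.mpr hOodd (even_iff_two_dvd.mpr h)) hAO]
      exact iSup_le fun B y hy => h B.1 B.2.1 B.2.2 y hy
    · obtain ⟨y, hy, hy'⟩ := SetLike.not_le_iff_exists.mp hnle
      refine ⟨⊥, bot_le, ?_, y, ⟨hy, mem_centralizer_iff.mpr fun b hb => by rw [mem_bot.mp hb]; simp⟩, hy'⟩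
      rw [relIndex_bot_left]
      obtain ⟨k, hk⟩ := IsPGroup.iff_card.mp hp2
      rw [hk] at hA2 ⊢
      rcases k with _ | _ | k
      · norm_num
      · norm_num
      · exact absurd (Nat.pow_le_pow_right two_pos (by omega : 2 ≤ k + 1 + 1)) hA2
  have hBneA : B ≠ A := fun h => hyA (h ▸ hyB)
  have hAB : Nat.card A = 2 * Nat.card B := by
    have h1 : B.relIndex A ≠ 1 := fun h => hBneA (le_antisymm hBA (relIndex_eq_one.mp h))
    have h0 : B.relIndex A ≠ 0 := index_ne_zero_of_finite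
    have h2 : B.relIndex A = 2 := by omega
    rw [← h2, relIndex_mul_card' hBA]
  obtain ⟨a, haA, hay⟩ : ∃ a ∈ A, a * y ≠ y * a := by
    by_contra! h
    exact hyA (mem_centralizer_iff.mpr h)
  have haB : a ∉ B := fun h => hay (mem_centralizer_iff.mp hyB a h)
  have hai : a⁻¹ = a := inv_eq_of_mul_eq_one_right (hsq a haA)
  set x0 := y⁻¹ * (a * y * a⁻¹) with hx0
  have hx0O : x0 ∈ O := mul_mem (inv_mem hyO) ((mem_normalizer_iff.mp (hAO haA) y).mp hyO)
  have haC : a ∈ normalizer (centralizer (B : Set G) : Set G) := by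
    refine le_normalizer (mem_centralizer_iff.mpr fun b hb => hcomm b (hBA hb) a haA)
  have hx0B : x0 ∈ centralizer (B : Set G) :=
    mul_mem (inv_mem hyB) ((mem_normalizer_iff.mp haC y).mp hyB)
  have hax0 : a * x0 * a⁻¹ = x0⁻¹ := by
    rw [hx0, hai]
    calc a * (y⁻¹ * (a * y * a)) * a = (a * y⁻¹ * a) * y * (a * a) := by group
      _ = (a * y⁻¹ * a) * y := by rw [hsq a haA, mul_one]
      _ = (a⁻¹ * y⁻¹ * a⁻¹) * y := by rw [hai]
      _ = (y⁻¹ * (a * y * a))⁻¹ := by group
  have hx01 : x0 ≠ 1 := fun h => hay (by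
    rw [hx0, inv_mul_eq_one] at h
    exact (mul_inv_eq_iff_eq_mul.mp h.symm))
  -- an inverted element of prime order
  set r := (orderOf x0).minFac with hr
  haveI hrp : Fact r.Prime := ⟨Nat.minFac_prime (fun h => hx01 (orderOf_eq_one_iff.mp h))⟩
  set x := x0 ^ (orderOf x0 / r) with hx
  have hxo : orderOf x = r := by
    rw [hx, orderOf_pow_orderOf_div (orderOf_pos x0).ne' (Nat.minFac_dvd _)]
  have hxr : x ^ r = 1 := hxo ▸ pow_orderOf_eq_one x
  have hxO : x ∈ O := pow_mem hx0O _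
  have hxB : x ∈ centralizer (B : Set G) := pow_mem hx0B _
  have haxi : a * x * a⁻¹ = x⁻¹ := by rw [hx, ← conj_pow, hax0, inv_pow]
  have hr2 : r ≠ 2 := fun h => Nat.not_even_iff_odd.mpr hOodd
    (even_iff_two_dvd.mpr (h ▸ hxo ▸ orderOf_dvd_natCard O hxO))
  have hr5 : 5 ≤ r := by
    rcases (Nat.lt_or_ge r 5) with h | h
    · have := hrp.out.two_le
      interval_cases r
      · exact absurd rfl hr2
      · exact (hns a haA x hxO hxo haxi).elim
      · exact absurd hrp.out (by norm_num)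
    · exact h
  -- induction
  have hBlt : Nat.card B < Nat.card A := by
    have : 0 < Nat.card B := Nat.card_pos
    omega
  have hB : Cfsg.IsElementaryAbelian 2 B :=
    ⟨⟨⟨fun b c => Subtype.ext (hcomm _ (hBA b.2) _ (hBA c.2))⟩⟩, fun b hb => hA.2 b (hBA hb)⟩
  have hBih := ih _ hBlt B hB (hBA.trans hAV) (hBA.trans hAO)
    (le_bot_iff.mp (hAf ▸ inf_le_inf_right _ hBA)) (fun b hb => hns b (hBA hb)) rfl
  set U := V ⊓ centralizer (B : Set G) with hU
  set D := V ⊓ centralizer (A : Set G) with hD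
  have hDU : D ≤ U := inf_le_inf_left _ (centralizer_le hBA)
  have hUa : U ⊓ centralizer ({a} : Set G) ≤ D := by
    have htop : A = B ⊔ zpowers a := by
      refine (eq_of_le_of_card_ge (sup_le hBA (zpowers_le.mpr haA)) ?_).symm
      have h : B < B ⊔ zpowers a := lt_of_le_not_ge le_sup_left fun h =>
        haB (h (mem_sup_right (mem_zpowers a)))
      have h2 := card_dvd_of_le h.le
      have h3 : Nat.card B < Nat.card ↥(B ⊔ zpowers a) := lt_of_not_ge fun h' =>
        h.ne (eq_of_le_of_card_ge h.le h')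
      obtain ⟨c, hc⟩ := h2
      rw [hAB, hc, mul_comm 2]
      rw [hc] at h3
      exact Nat.mul_le_mul_left _ (by nlinarith)
    rintro u ⟨⟨huV, huB⟩, hua⟩
    refine ⟨huV, ?_⟩
    have : A ≤ centralizer ({u} : Set G) := by
      rw [htop]
      refine sup_le (fun b hb => mem_centralizer_singleton_iff.mpr (mem_centralizer_iff.mp huB b hb))
        (zpowers_le.mpr (mem_centralizer_singleton_iff.mpr (mem_centralizer_singleton_iff.mp hua).symm))
    exact mem_centralizer_iff.mpr fun b hb => mem_centralizer_singleton_iff.mp (this hb)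
  have hUsq : ∀ u ∈ U, u * u = 1 := fun u hu => pow_two u ▸ hV.2 u hu.1
  have hnormU : ∀ g ∈ normalizer (V : Set G), g ∈ centralizer (B : Set G) → ∀ u ∈ U, g * u * g⁻¹ ∈ U :=
    fun g hg hgB u hu => ⟨(mem_normalizer_iff.mp hg u).mp hu.1, (centralizer (B : Set G)).mul_mem ((centralizer (B : Set G)).mul_mem hgB hu.2) ((centralizer (B : Set G)).inv_mem hgB)⟩
  have hxU : ∀ u ∈ U, x * u * x⁻¹ ∈ U := hnormU x (hOV hxO) hxB
  have hfour : 4 ≤ D.relIndex U := by
    by_contra hlt
    have hU2 : IsPGroup 2 U := fun u => ⟨1, Subtype.ext (by simpa using hV.2 _ u.2.1)⟩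
    obtain ⟨e, he⟩ : ∃ e, D.relIndex U = 2 ^ e := hU2.index (D.subgroupOf U)
    have he2 : D.relIndex U ≤ 2 := by
      rcases e with _ | _ | e
      · rw [he]; norm_num
      · rw [he]; norm_num
      · have h4 : 2 ^ 2 ≤ 2 ^ (e + 1 + 1) := Nat.pow_le_pow_right two_pos (by omega)
        rw [he] at hlt
        omega
    set E := U ⊓ centralizer ({a} : Set G) with hE
    have hED : E = D := le_antisymm hUa (le_inf hDU fun u hu => mem_centralizer_singleton_iff.mpr
      (mem_centralizer_iff.mp hu.2 a haA).symm)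
    set E' := E.map (MulAut.conj x).toMonoidHom with hE'
    have hE'U : E' ≤ U := by
      rintro _ ⟨u, hu, rfl⟩
      exact hxU u hu.1
    have hidx : E'.relIndex U = E.relIndex U := by
      have hc : Nat.card E' = Nat.card E := card_map_of_injective (MulAut.conj x).injective
      have h1 := relIndex_mul_card' hE'U
      have h2 := relIndex_mul_card' (inf_le_left : E ≤ U)
      rw [hc, ← h2] at h1
      exact Nat.eq_of_mul_eq_mul_right Nat.card_pos h1
    have hW : (E ⊓ E').relIndex U ≤ 4 := by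
      refine relIndex_inf_le.trans ?_
      rw [hidx, hED]
      exact (Nat.mul_le_mul he2 he2).trans (by norm_num)
    have hfix : ∀ w ∈ E ⊓ E', x * w * x⁻¹ = w := by
      rintro w ⟨hw, hw'⟩
      obtain ⟨u, hu, huw⟩ := hw'
      replace huw : x * u * x⁻¹ = w := huw
      have h1 : Commute a w := (mem_centralizer_singleton_iff.mp hw.2).symm
      have h2 : Commute a u := (mem_centralizer_singleton_iff.mp hu.2).symm
      have h3 : Commute (x * a * x⁻¹) w := by
        rw [← huw]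
        show x * a * x⁻¹ * (x * u * x⁻¹) = x * u * x⁻¹ * (x * a * x⁻¹)
        rw [show x * a * x⁻¹ * (x * u * x⁻¹) = x * (a * u) * x⁻¹ by group, h2.eq]; group
      have hxx : x * a * x⁻¹ * a⁻¹ = x * x := by
        rw [show x * a * x⁻¹ * a⁻¹ = x * (a * x * a⁻¹)⁻¹ by group, haxi, inv_inv]
      have h4 : Commute (x * x) w := hxx ▸ h3.mul_left h1.inv_left
      obtain ⟨c, hc⟩ := hrp.out.odd_of_ne_two hr2
      have hxeq : x = (x * x) ^ (c + 1) := by
        rw [← pow_two, ← pow_mul, show 2 * (c + 1) = r + 1 by omega, pow_succ, hxr, one_mul]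
      have h5 : Commute x w := hxeq ▸ h4.pow_left (c + 1)
      rw [h5.eq, mul_inv_cancel_right]
    have hxcU : ∀ u ∈ U, x * u = u * x := fun u hu => commute_of_small hr5 hxr hUsq hxU hW hfix hu
    -- hence `x` centralises `V`
    haveI := hV.1
    let f : V →* G :=
      { toFun := fun v => x * v * x⁻¹ * (v : G)⁻¹
        map_one' := by simp
        map_mul' := fun v w => by
          have hm : x * (w : G) * x⁻¹ * (w : G)⁻¹ ∈ V :=
            mul_mem ((mem_normalizer_iff.mp (hOV hxO) _).mp w.2) (inv_mem w.2)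
          have hc : (v : G)⁻¹ * (x * (w : G) * x⁻¹ * (w : G)⁻¹) =
              x * (w : G) * x⁻¹ * (w : G)⁻¹ * (v : G)⁻¹ :=
            congrArg Subtype.val (mul_comm' (v⁻¹) (⟨_, hm⟩ : V))
          show x * ((v : G) * w) * x⁻¹ * ((v : G) * w)⁻¹ = x * v * x⁻¹ * (v : G)⁻¹ * (x * w * x⁻¹ * (w : G)⁻¹)
          rw [mul_assoc (x * (v : G) * x⁻¹), hc]; group }
    have hfV : f.range ≤ V := by
      rintro _ ⟨v, rfl⟩
      exact mul_mem ((mem_normalizer_iff.mp (hOV hxO) _).mp v.2) (inv_mem v.2)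
    have hBn : B ≤ normalizer (f.range : Set G) := by
      intro b hb
      refine Cfsg.Lib.Sft.mem_normalizer_of_conj ?_
      rintro _ ⟨v, rfl⟩
      refine ⟨⟨b * v * b⁻¹, (mem_normalizer_iff.mp (hAV (hBA hb)) _).mp v.2⟩, ?_⟩
      have hbx : Commute b x := mem_centralizer_iff.mp hxB b hb
      show x * (b * v * b⁻¹) * x⁻¹ * (b * (v : G) * b⁻¹)⁻¹ = b * (x * v * x⁻¹ * (v : G)⁻¹) * b⁻¹
      rw [show x * (b * (v : G) * b⁻¹) * x⁻¹ * (b * (v : G) * b⁻¹)⁻¹ =
        (x * b) * v * (x * b)⁻¹ * b * (v : G)⁻¹ * b⁻¹ by group, ← hbx.eq]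
      group
    have hbot : f.range = ⊥ := by
      by_contra hne
      have hV2 : IsPGroup 2 V := fun v => ⟨1, Subtype.ext (by simpa using hV.2 _ v.2)⟩
      have hPp : IsPGroup 2 ↥(B ⊔ f.range) := (hp2.to_le hBA).to_sup_of_normal_right' (hV2.to_le hfV) hBn
      haveI := hPp.isNilpotent
      haveI : (f.range.subgroupOf (B ⊔ f.range)).Normal :=
        normal_subgroupOf_of_le_normalizer (sup_le hBn le_normalizer)
      have h := Cfsg.Lib.Coprime.inf_center_ne_bot (f.range.subgroupOf (B ⊔ f.range)) (fun h => hne (by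
        rwa [subgroupOf_eq_bot, disjoint_iff, inf_eq_left.mpr le_sup_right] at h))
      rw [Subgroup.ne_bot_iff_exists_ne_one] at h
      obtain ⟨⟨w, hwf, hwc⟩, hw1⟩ := h
      apply hw1
      obtain ⟨v, hv⟩ := (hwf : (w : G) ∈ f.range)
      have hwU : (w : G) ∈ U := ⟨hfV ⟨v, hv⟩, mem_centralizer_iff.mpr fun b hb =>
        congrArg Subtype.val (mem_center_iff.mp hwc ⟨b, mem_sup_left hb⟩)⟩
      have hxw : Commute x (w : G) := hxcU _ hwU
      have hv' : x * v * x⁻¹ = (w : G) * v := by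
        have e : (w : G) = x * v * x⁻¹ * (v : G)⁻¹ := hv.symm
        rw [e]; group
      have hiter : ∀ m : ℕ, x ^ m * v * (x ^ m)⁻¹ = (w : G) ^ m * v := by
        intro m
        induction m with
        | zero => simp
        | succ m ih =>
          calc x ^ (m + 1) * v * (x ^ (m + 1))⁻¹ = x * (x ^ m * v * (x ^ m)⁻¹) * x⁻¹ := by
                rw [pow_succ']; group
            _ = x * (w : G) ^ m * x⁻¹ * (x * v * x⁻¹) := by rw [ih]; group
            _ = (w : G) ^ m * ((w : G) * v) := by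
              rw [hv', (hxw.pow_right m).eq, mul_inv_cancel_right]
            _ = (w : G) ^ (m + 1) * v := by rw [pow_succ, mul_assoc]
      have hwr : (w : G) ^ r = 1 := by
        have h1 := hiter r
        rw [hxr, one_mul, inv_one, mul_one] at h1
        exact mul_eq_right.mp h1.symm
      refine Subtype.ext (Subtype.ext (orderOf_eq_one_iff.mp ?_))
      exact Nat.eq_one_of_dvd_coprimes ((Nat.coprime_primes hrp.out Nat.prime_two).mpr hr2)
        (orderOf_dvd_of_pow_eq_one hwr) (orderOf_dvd_of_pow_eq_one (hV.2 _ hwU.1))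
    have hxV : x ∈ O ⊓ centralizer (V : Set G) := ⟨hxO, mem_centralizer_iff.mpr fun v hv => by
      have h : x * v * x⁻¹ * v⁻¹ = 1 := mem_bot.mp (hbot ▸ (⟨⟨v, hv⟩, rfl⟩ : _ ∈ f.range))
      rw [mul_inv_eq_one, mul_inv_eq_iff_eq_mul] at h
      exact h.symm⟩
    rw [hOf, mem_bot] at hxV
    rw [hxV, orderOf_one] at hxo
    exact hrp.out.one_lt.ne hxo
  calc Nat.card A ^ 2 = 4 * Nat.card B ^ 2 := by rw [hAB]; ring
    _ ≤ D.relIndex U * U.relIndex V := Nat.mul_le_mul hfour hBih
    _ = D.relIndex V := relIndex_mul_relIndex D U V hDU inf_le_left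

end Cfsg.Lib.SmallOffender
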