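import Cfsg.Agent.Components.Qd.Free
import Cfsg.Agent.SolvStruct.ZJFusion
import Mathlib.GroupTheory.Sylow

/-!
Locals not involving `SL(2,p)` make every section stable in the normalizer form.
-/

set_option linter.style.haveILetI false
set_option linter.unusedSectionVars false

namespace Cfsg.Lib.QdFree

open Subgroup

universe u

variable {G : Type u} [Group G] [Finite G] {p : ℕ} [hpf : Fact p.Prime]

theorem stable_at (hp : p ≠ 2) {P : Subgroup G} (hP : IsPGroup p P)
    (hqd : ¬ Cfsg.Involves ↥(Cfsg.qd p) (normalizer (P : Set G))) {g : G}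
    (hg : g ∈ normalizer (P : Set G)) (hquad : ⁅⁅P, zpowers g⁆, zpowers g⁆ = ⊥) :
    (QuotientGroup.mk (s := (centralizer (P : Set G)).subgroupOf (normalizer (P : Set G)))
        (⟨g, hg⟩ : ↥(normalizer (P : Set G)))) ∈
      Cfsg.pCore p (↥(normalizer (P : Set G)) ⧸
        (centralizer (P : Set G)).subgroupOf (normalizer (P : Set G))) := by
  set H := normalizer (P : Set G)
  set B := P.subgroupOf H
  haveI : B.Normal := (normal_subgroupOf_iff_le_normalizer le_normalizer).mpr le_rfl
  have hBP : B.map H.subtype = P := map_subgroupOf_eq_of_le le_normalizer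
  have hB : IsPGroup p B := hP.comap_subtype
  have hq : ⁅⁅B, zpowers (⟨g, hg⟩ : H)⁆, zpowers (⟨g, hg⟩ : H)⁆ = ⊥ := by
    rw [← map_eq_bot_iff_of_injective _ H.subtype_injective, map_commutator, map_commutator,
      MonoidHom.map_zpowers, hBP]
    exact hquad
  have hmem := Cfsg.Lib.QuadPair.stable_of_qd_free hp _ H hqd B hB rfl ⟨g, hg⟩ hq
  have hC : centralizer (B : Set H) = (centralizer (P : Set G)).subgroupOf H := by
    ext x
    simp only [mem_subgroupOf, mem_centralizer_iff]
    constructor
    · intro hx y hy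
      exact congrArg Subtype.val (hx ⟨y, le_normalizer hy⟩ hy)
    · intro hx y hy
      exact Subtype.ext (hx y hy)
  haveI : ((centralizer (P : Set G)).subgroupOf H).Normal := hC ▸ (inferInstance : (centralizer (B : Set H)).Normal)
  let e := QuotientGroup.quotientMulEquivOfEq hC
  exact Cfsg.Lib.ZJ.map_pCore_le (f := e.toMonoidHom) e.surjective (mem_map_of_mem _ hmem)

theorem sections_stable (hp : p ≠ 2)
    (h : ∀ P : Subgroup G, IsPGroup p ↥P → P ≠ ⊥ → ¬ Cfsg.Involves
      (Matrix.SpecialLinearGroup (Fin 2) (ZMod p)) ↥(normalizer ((P : Subgroup G) : Set G))) :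
    ∀ (K R : Subgroup G) [hR : (R.subgroupOf K).Normal],
      Cfsg.IsNormalizerPStable p (↥K ⧸ R.subgroupOf K) := by
  intro K R hR P hP g hg hquad
  by_cases hP1 : P = ⊥
  · subst hP1
    have : QuotientGroup.mk (s := (centralizer ((⊥ : Subgroup (K ⧸ R.subgroupOf K)) : Set (K ⧸ R.subgroupOf K))).subgroupOf
        (normalizer ((⊥ : Subgroup (K ⧸ R.subgroupOf K)) : Set (K ⧸ R.subgroupOf K)))) (⟨g, hg⟩ : ↥(normalizer _)) = 1 := by
      refine (QuotientGroup.eq_one_iff _).mpr (mem_subgroupOf.mpr (mem_centralizer_iff.mpr fun y hy => ?_))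
      rw [mem_bot.mp hy, one_mul, mul_one]
    rw [this]
    exact one_mem _
  refine stable_at hp hP ?_ hg hquad
  set π := QuotientGroup.mk' (R.subgroupOf K)
  have hπ : Function.Surjective π := QuotientGroup.mk'_surjective _
  set H := normalizer (P : Set (K ⧸ R.subgroupOf K))
  set f := π.subgroupComap H with hf
  have hfs : Function.Surjective f := fun y => by
    obtain ⟨x, hx⟩ := hπ y
    exact ⟨⟨x, show π x ∈ H from hx ▸ y.2⟩, Subtype.ext hx⟩
  set B := P.subgroupOf H
  haveI : B.Normal := (normal_subgroupOf_iff_le_normalizer le_normalizer).mpr le_rfl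
  set f2 := f.subgroupComap B
  have hf2 : Function.Surjective f2 := fun y => by
    obtain ⟨x, hx⟩ := hfs y
    exact ⟨⟨x, show f x ∈ B from hx ▸ y.2⟩, Subtype.ext hx⟩
  let S : Sylow p (B.comap f) := default
  have hST : ((S.mapSurjective hf2 : Sylow p B) : Subgroup B) = ⊤ :=
    ((S.mapSurjective hf2).is_maximal' (hP.comap_subtype.of_equiv (Subgroup.topEquiv (G := B)).symm) le_top).symm
  set S1 := (S : Subgroup (B.comap f)).map (B.comap f).subtype with hS1
  set N1 := normalizer (S1 : Set (H.comap π)) with hN1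
  have hBf : B ≤ S1.map f := by
    intro b hb
    have hb' : (⟨b, hb⟩ : B) ∈ ((S.mapSurjective hf2 : Sylow p B) : Subgroup B) := hST ▸ mem_top _
    rw [Sylow.coe_mapSurjective] at hb'
    obtain ⟨s, hs, he⟩ := hb'
    exact ⟨s, mem_map_of_mem _ hs, congrArg Subtype.val he⟩
  have hN : N1.map f = ⊤ := by
    have := congrArg (Subgroup.map f) (Sylow.normalizer_sup_eq_top (N := B.comap f) S)
    rw [Subgroup.map_sup, map_comap_eq_self_of_surjective hfs,
      map_top_of_surjective _ hfs] at this
    exact top_le_iff.mp (this.ge.trans (sup_le le_rfl (hBf.trans (map_mono le_normalizer))))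
  let j : (H.comap π) →* G := K.subtype.comp (H.comap π).subtype
  have hj : Function.Injective j := K.subtype_injective.comp (H.comap π).subtype_injective
  set Qg := S1.map j
  have hQp : IsPGroup p Qg := (S.2.map _).map _
  have hQ1 : Qg ≠ ⊥ := fun e => by
    have hs : S1 = ⊥ := (map_eq_bot_iff_of_injective _ hj).mp e
    rw [hs, Subgroup.map_bot, le_bot_iff, subgroupOf_eq_bot, disjoint_iff,
      inf_eq_left.mpr le_normalizer] at hBf
    exact hP1 hBf
  refine fun hinv => h Qg hQp hQ1 ?_
  have h1 : Cfsg.Involves ↥(Cfsg.qd p) N1 := by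
    refine Cfsg.Lib.QuadPair.involves_of_surjective (f := f.comp N1.subtype) (fun y => ?_) hinv
    obtain ⟨x, hx, rfl⟩ := (hN.ge (mem_top y) : y ∈ N1.map f)
    exact ⟨⟨x, hx⟩, rfl⟩
  have h2 : Cfsg.Involves ↥(Cfsg.qd p) (normalizer (Qg : Set G)) :=
    involves_of_injective (f := MonoidHom.codRestrict (j.comp N1.subtype) _
      fun x => le_normalizer_map j (mem_map_of_mem j x.2))
      (fun a b hab => N1.subtype_injective (hj (congrArg Subtype.val hab :))) h1
  by_contra hno
  exact Cfsg.Lib.SolvStruct.not_involves_qd (fun ⟨X, Y, hn, e⟩ => hno ⟨X, Y, hn, e⟩) h2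

end Cfsg.Lib.QdFree
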