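import Cfsg.Agent.Components.Layer
import Cfsg.Agent.InvolCalc.ZStarApps
import Cfsg.Agent.Frobenius.UniqueSubgroup
import Cfsg.Agent.S0225

/-!
Components of involution centralisers that are components of every involution centralising them.
-/

set_option linter.style.haveILetI false
set_option linter.unusedSectionVars false

namespace Cfsg.Lib.Misc.StdNonemb

open Subgroup Cfsg.Lib.Components
open scoped commutatorElement

universe u

variable {G : Type u} [Group G] [Finite G]

theorem map_centralizer_singleton (g y : G) :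
    (centralizer ({y} : Set G)).map (MulAut.conj g).toMonoidHom = centralizer ({g * y * g⁻¹} : Set G) := by
  ext w
  constructor
  · rintro ⟨v, hv, rfl⟩
    rw [mem_centralizer_iff]
    intro z hz
    rw [Set.mem_singleton_iff] at hz
    subst hz
    have h := mem_centralizer_iff.mp hv y rfl
    show g * y * g⁻¹ * (g * v * g⁻¹) = g * v * g⁻¹ * (g * y * g⁻¹)
    calc g * y * g⁻¹ * (g * v * g⁻¹) = g * (y * v) * g⁻¹ := by group
      _ = g * (v * y) * g⁻¹ := by rw [h]
      _ = _ := by group
  · intro hw
    have h := mem_centralizer_iff.mp hw _ rfl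
    refine ⟨g⁻¹ * w * g, mem_centralizer_iff.mpr ?_, ?_⟩
    · intro z hz
      rw [Set.mem_singleton_iff] at hz
      rw [hz]
      calc y * (g⁻¹ * w * g) = g⁻¹ * (g * y * g⁻¹ * w) * g := by group
        _ = g⁻¹ * (w * (g * y * g⁻¹)) * g := by rw [h]
        _ = _ := by group
    · show g * (g⁻¹ * w * g) * g⁻¹ = w
      group

/-- being a component of a subgroup is invariant under conjugation -/
theorem comp_in_conj {L H : Subgroup G} (hLH : L ≤ H) (h : IsComponent (L.subgroupOf H)) (g : G) :
    IsComponent ((L.map (MulAut.conj g).toMonoidHom).subgroupOf (H.map (MulAut.conj g).toMonoidHom)) := by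
  have h1 := comp_map_equiv h ((MulAut.conj g).subgroupMap H)
  have e : (L.subgroupOf H).map ((MulAut.conj g).subgroupMap H).toMonoidHom =
      (L.map (MulAut.conj g).toMonoidHom).subgroupOf (H.map (MulAut.conj g).toMonoidHom) := by
    ext ⟨w, hw⟩
    constructor
    · rintro ⟨⟨v, hv⟩, hvL, he⟩
      refine mem_subgroupOf.mpr ⟨v, hvL, ?_⟩
      exact congrArg Subtype.val he
    · intro hwL
      obtain ⟨v, hv, hvw⟩ := mem_subgroupOf.mp hwL
      exact ⟨⟨v, hLH hv⟩, mem_subgroupOf.mpr hv, Subtype.ext hvw⟩
  rwa [e] at h1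

/-- two different components of one subgroup commute -/
theorem commutator_eq_bot_of_comp_in {L L' H : Subgroup G} (hL : L ≤ H) (hL' : L' ≤ H)
    (h : IsComponent (L.subgroupOf H)) (h' : IsComponent (L'.subgroupOf H)) (hne : L ≠ L') :
    ⁅L, L'⁆ = ⊥ := by
  have hne' : L.subgroupOf H ≠ L'.subgroupOf H := fun e => hne (by
    rw [← inf_eq_left.mpr hL, ← subgroupOf_map_subtype, e, subgroupOf_map_subtype, inf_eq_left.mpr hL'])
  have h1 := congrArg (Subgroup.map H.subtype) (comp_commute h h' hne')
  rw [map_commutator, Subgroup.map_bot, subgroupOf_map_subtype, subgroupOf_map_subtype,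
    inf_eq_left.mpr hL, inf_eq_left.mpr hL'] at h1
  exact h1

variable {x : G} {L : Subgroup G}

theorem centralizer_map_conj (g : G) (L : Subgroup G) :
    (centralizer (L : Set G)).map (MulAut.conj g).toMonoidHom =
      centralizer ((L.map (MulAut.conj g).toMonoidHom : Subgroup G) : Set G) := by
  ext w
  constructor
  · rintro ⟨v, hv, rfl⟩
    rw [mem_centralizer_iff]
    rintro _ ⟨l, hl, rfl⟩
    rw [← map_mul, ← map_mul, mem_centralizer_iff.mp hv l hl]
  · intro hw
    refine ⟨(MulAut.conj g).symm w, mem_centralizer_iff.mpr fun l hl => ?_, (MulAut.conj g).apply_symm_apply w⟩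
    apply (MulAut.conj g).injective
    rw [map_mul, map_mul, MulEquiv.apply_symm_apply]
    exact mem_centralizer_iff.mp hw _ (mem_map_of_mem _ hl)

/-- a component of every involution centralising it that meets no different conjugate trivially is standard -/
theorem isStandard (hx : orderOf x = 2) (hLx : L ≤ centralizer ({x} : Set G))
    (hL : IsComponent (L.subgroupOf (centralizer ({x} : Set G))))
    (hne : ∀ y : G, orderOf y = 2 → y ∈ centralizer (L : Set G) → L ≤ centralizer ({y} : Set G) ∧
      IsComponent (L.subgroupOf (centralizer ({y} : Set G))))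
    (hnc : ∀ g : G, L.map (MulAut.conj g).toMonoidHom ≠ L → ⁅L, L.map (MulAut.conj g).toMonoidHom⁆ ≠ ⊥) :
    Cfsg.IsStandardSubgroup L := by
  have hxC : x ∈ centralizer (L : Set G) := mem_centralizer_iff.mpr fun l hl =>
    (mem_centralizer_iff.mp (hLx hl) x rfl).symm
  -- a conjugate with a common involution centralising both is equal
  have key : ∀ g : G, ∀ y, orderOf y = 2 → y ∈ centralizer (L : Set G) →
      y ∈ (centralizer (L : Set G)).map (MulAut.conj g).toMonoidHom →
      L.map (MulAut.conj g).toMonoidHom = L := by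
    intro g y hy hyC hyC'
    by_contra hneq
    obtain ⟨w, hw, hwy⟩ := hyC'
    have hwy' : g * w * g⁻¹ = y := hwy
    have hw2 : orderOf w = 2 := by
      rw [← hy, ← hwy]; exact ((MulAut.conj g).orderOf_eq w).symm
    obtain ⟨hle, hcomp⟩ := hne w hw2 hw
    obtain ⟨hle', hcomp'⟩ := hne y hy hyC
    have h2 := comp_in_conj hle hcomp g
    have h3 : L.map (MulAut.conj g).toMonoidHom ≤ (centralizer ({w} : Set G)).map (MulAut.conj g).toMonoidHom :=
      map_mono hle
    rw [map_centralizer_singleton, hwy'] at h2 h3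
    exact hnc g hneq (commutator_eq_bot_of_comp_in hle' h3 hcomp' h2 (Ne.symm hneq))
  refine ⟨qs_congr' (subgroupOfEquivOfLe hLx) hL.2, ⟨?_, fun g hg => ?_⟩, hnc, ?_⟩
  · have h : orderOf (⟨x, hxC⟩ : centralizer (L : Set G)) ∣ Nat.card (centralizer (L : Set G)) :=
      orderOf_dvd_natCard _
    rw [orderOf_mk, hx] at h
    exact even_iff_two_dvd.mpr h
  · by_contra hodd
    rw [Nat.not_odd_iff_even] at hodd
    haveI : Fact (Nat.Prime 2) := ⟨Nat.prime_two⟩
    obtain ⟨⟨y, hy⟩, hy2⟩ := exists_prime_orderOf_dvd_card' (G := ↥(centralizer (L : Set G) ⊓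
      (centralizer (L : Set G)).map (MulAut.conj g).toMonoidHom)) 2 hodd.two_dvd
    rw [orderOf_mk] at hy2
    have hLg := key g y hy2 hy.1 hy.2
    apply hg
    rw [← Cfsg.Lib.Coprime.conjMap_eq_self_iff, Cfsg.Lib.Coprime.conjMap, centralizer_map_conj, hLg]
  · refine le_antisymm (fun g hg => ?_) (fun g hg => ?_)
    · rw [← Cfsg.Lib.Coprime.conjMap_eq_self_iff, Cfsg.Lib.Coprime.conjMap, centralizer_map_conj,
        show L.map (MulAut.conj g).toMonoidHom = L from Cfsg.Lib.Coprime.conjMap_eq_self hg]
    · rw [← Cfsg.Lib.Coprime.conjMap_eq_self_iff, Cfsg.Lib.Coprime.conjMap]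
      refine key g x hx hxC ?_
      rw [show (centralizer (L : Set G)).map (MulAut.conj g).toMonoidHom = centralizer (L : Set G) from
        Cfsg.Lib.Coprime.conjMap_eq_self hg]
      exact hxC

/-- a component of even order and `2`-rank one gives a classical involution -/
theorem exists_classical (hL : Cfsg.IsQuasisimple ↥L) (heven : Even (Nat.card ↥L))
    (hrk : Cfsg.PRankLE 2 1 ↥L)
    (hne : ∀ y : G, orderOf y = 2 → y ∈ centralizer (L : Set G) → L ≤ centralizer ({y} : Set G) ∧
      IsComponent (L.subgroupOf (centralizer ({y} : Set G)))) :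
    ∃ t ∈ L, Cfsg.IsClassicalInvolution t := by
  haveI : Fact (Nat.Prime 2) := ⟨Nat.prime_two⟩
  have hnoklein : ∀ E : Subgroup L, ¬ IsKleinFour E := by
    intro E hE
    haveI := hE
    have h := hrk E (IsMulCommutative.mk ⟨fun a b => mul_comm_of_exponent_two IsKleinFour.exponent_two a b⟩)
      (fun a ha => by
        have h2 := Monoid.pow_exponent_eq_one (⟨a, ha⟩ : E)
        rw [IsKleinFour.exponent_two] at h2
        exact congrArg Subtype.val h2)
    rw [IsKleinFour.card_four] at h
    omega
  obtain ⟨z, hz2, N, hN, hNodd, hNz⟩ := Cfsg.Agent.S0225.result heven hnoklein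
  have hNc : N ≤ center L := by
    refine (qs_subnormal_eq_top_or_le_center hL hN.isSubnormal).resolve_left fun h => ?_
    rw [h, card_top] at hNodd
    exact Nat.not_even_iff_odd.mpr hNodd heven
  -- `z` is central
  have hzc : z ∈ center L := by
    have hbr : ∀ g : L, ⁅z, g⁆ ∈ center L := fun g => hNc (hNz g)
    let f : L →* L :=
      { toFun := fun g => ⁅z, g⁆
        map_one' := commutatorElement_one_right z
        map_mul' := fun a b => by
          have h1 := mem_center_iff.mp (hbr b) a
          calc ⁅z, a * b⁆ = ⁅z, a⁆ * (a * ⁅z, b⁆ * a⁻¹) := by simp only [commutatorElement_def]; group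
            _ = ⁅z, a⁆ * ⁅z, b⁆ := by rw [h1, mul_inv_cancel_right] }
    have hker : f.ker = ⊤ := top_le_iff.mp (by
      rw [← qs_commutator_top hL, commutator_le]
      intro a _ b _
      rw [MonoidHom.mem_ker, map_commutatorElement, commutatorElement_eq_one_iff_mul_comm]
      exact (mem_center_iff.mp (hbr a) _).symm)
    refine mem_center_iff.mpr fun g => ?_
    have h : f g = 1 := MonoidHom.mem_ker.mp (hker ▸ mem_top g)
    exact (commutatorElement_eq_one_iff_mul_comm.mp h).symm
  have huniq : ∀ x y : L, orderOf x = 2 → orderOf y = 2 → x = y := by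
    suffices h : ∀ x : L, orderOf x = 2 → x = z from fun x y hx hy => (h x hx).trans (h y hy).symm
    intro x hx
    by_contra hxz
    have hzz : z * z = 1 := by rw [← pow_two, ← hz2, pow_orderOf_eq_one]
    have hxx : x * x = 1 := by rw [← pow_two, ← hx, pow_orderOf_eq_one]
    have hxz1 : Commute x z := mem_center_iff.mp hzc x
    have hz1 : z ≠ 1 := fun h => by rw [h, orderOf_one] at hz2; omega
    have hx1 : x ≠ 1 := fun h => by rw [h, orderOf_one] at hx; omega
    let f : (zpowers x) × (zpowers z) →* L :=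
      MonoidHom.noncommCoprod (zpowers x).subtype (zpowers z).subtype (fun a b => by
        obtain ⟨i, hi⟩ := mem_zpowers_iff.mp a.2
        obtain ⟨j, hj⟩ := mem_zpowers_iff.mp b.2
        show Commute (a : L) (b : L)
        rw [← hi, ← hj]
        exact hxz1.zpow_zpow i j)
    have hA := hrk f.range (IsMulCommutative.mk ⟨fun a b => by
      obtain ⟨u, hu⟩ := a.2
      obtain ⟨v, hv⟩ := b.2
      refine Subtype.ext ?_
      show (a : L) * b = b * a
      rw [← hu, ← hv, ← map_mul, ← map_mul]
      exact congrArg f (Prod.ext (mul_comm' u.1 v.1) (mul_comm' u.2 v.2))⟩) (fun a ha => by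
      obtain ⟨u, rfl⟩ := ha
      rw [← map_pow]
      refine (congrArg f (Prod.ext ?_ ?_ : u ^ 2 = 1)).trans (map_one f)
      · refine Subtype.ext (orderOf_dvd_iff_pow_eq_one.mp ?_)
        exact hx ▸ (orderOf_dvd_of_mem_zpowers u.1.2)
      · refine Subtype.ext (orderOf_dvd_iff_pow_eq_one.mp ?_)
        exact hz2 ▸ (orderOf_dvd_of_mem_zpowers u.2.2))
    have hinj : Function.Injective f := by
      rw [← MonoidHom.ker_eq_bot_iff, eq_bot_iff]
      rintro ⟨⟨a, ha⟩, ⟨b, hb⟩⟩ hab
      have hab' : a * b = 1 := hab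
      have hax : a ∈ zpowers x ⊓ zpowers z := ⟨ha, by
        show a ∈ zpowers z
        rw [eq_inv_of_mul_eq_one_left hab']; exact inv_mem hb⟩
      have hbot : zpowers x ⊓ zpowers z = ⊥ := by
        by_contra hb'
        have h4 : Nat.card (zpowers x ⊓ zpowers z : Subgroup L) ∣ 2 := by
          rw [← hx, ← Nat.card_zpowers]; exact card_dvd_of_le inf_le_left
        rcases (Nat.dvd_prime Nat.prime_two).mp h4 with h5 | h5
        · exact hb' (eq_bot_of_card_eq _ h5)
        have e1 := eq_of_le_of_card_ge (inf_le_left : zpowers x ⊓ zpowers z ≤ _)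
          (by rw [h5, Nat.card_zpowers, hx])
        have e2 := eq_of_le_of_card_ge (inf_le_right : zpowers x ⊓ zpowers z ≤ _)
          (by rw [h5, Nat.card_zpowers, hz2])
        have h6 : x ∈ zpowers z := by rw [← e2, e1]; exact mem_zpowers x
        obtain ⟨i, hi⟩ := mem_zpowers_iff.mp h6
        rw [← Int.emod_add_mul_ediv i 2, zpow_add, zpow_mul, zpow_two, hzz, one_zpow, mul_one] at hi
        rcases Int.emod_two_eq i with h7 | h7 <;> rw [h7] at hi
        · exact hx1 (by simpa using hi.symm)
        · exact hxz (by simpa using hi.symm)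
      rw [hbot, mem_bot] at hax
      subst hax
      rw [one_mul] at hab'
      subst hab'
      rfl
    rw [MonoidHom.range_eq_map, card_map_of_injective hinj, card_top, Nat.card_prod, Nat.card_zpowers,
      Nat.card_zpowers, hx, hz2] at hA
    omega
  set t : G := (z : G) with ht
  have ht2 : orderOf t = 2 := by rw [ht, Subgroup.orderOf_coe, hz2]
  have htC : t ∈ centralizer (L : Set G) := mem_centralizer_iff.mpr fun l hl =>
    congrArg Subtype.val (mem_center_iff.mp hzc ⟨l, hl⟩)
  obtain ⟨hle, hcomp⟩ := hne t ht2 htC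
  refine ⟨t, z.2, ht2, L, hle, z.2, hcomp.1, ?_⟩
  obtain ⟨S⟩ := (inferInstance : Nonempty (Sylow 2 L))
  refine ⟨S, ?_⟩
  have huS : ∀ a b : (S : Subgroup L), orderOf a = 2 → orderOf b = 2 → b ∈ zpowers a := fun a b ha hb => by
    rw [show b = a from Subtype.ext (huniq b a (by rwa [Subgroup.orderOf_coe]) (by rwa [Subgroup.orderOf_coe]))]
    exact mem_zpowers a
  have hnc : ¬ IsCyclic (S : Subgroup L) := by
    intro hc
    haveI := hc
    have hmin : (Nat.card L).minFac = 2 := (Nat.minFac_eq_two_iff _).mpr heven.two_dvd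
    set f := MonoidHom.transferSylow S (IsCyclic.normalizer_le_centralizer hmin hc) with hf
    have hcompl : f.ker.IsComplement' (S : Subgroup L) := IsCyclic.isComplement' hmin hc
    have hker : f.ker = ⊤ := top_le_iff.mp (by
      rw [← qs_commutator_top hL, commutator_le]
      intro a _ b _
      rw [MonoidHom.mem_ker, map_commutatorElement, commutatorElement_eq_one_iff_mul_comm]
      exact mul_comm' _ _)
    rw [hker] at hcompl
    have hcard := hcompl.card_mul_card
    rw [card_top] at hcard
    have h1 : Nat.card (S : Subgroup L) = 1 := by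
      have := Nat.card_pos (α := L)
      exact Nat.eq_of_mul_eq_mul_left this (by rw [hcard, mul_one])
    exact absurd (h1 ▸ S.dvd_card_of_dvd_card heven.two_dvd) (by decide)
  rcases Cfsg.Lib.UniqueSub.isCyclic_or_quaternion S.2 huS with hcyc | ⟨-, n, hn⟩
  · exact absurd hcyc hnc
  · rcases n with _ | n
    · obtain ⟨e⟩ := hn
      haveI : IsCyclic (QuaternionGroup (2 ^ 0)) := QuaternionGroup.quaternionGroup_one_isCyclic
      exact absurd (isCyclic_of_surjective e.symm.toMonoidHom e.symm.surjective) hnc
    · exact ⟨n, hn⟩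

end Cfsg.Lib.Misc.StdNonemb
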