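import Cfsg.Agent.Components.Misc.MaximalComponent

/-!
A standard subgroup of a core-free group is normal, diagonal in a pair of components, or contained in the simple
layer (solvability of odd order groups is a hypothesis).
-/

set_option autoImplicit false
set_option linter.unusedSectionVars false
set_option linter.style.haveILetI false

namespace Cfsg.Lib.Misc.StandardTrichotomy

open Subgroup Cfsg.Lib.Components
open scoped commutatorElement

universe u

variable {G : Type u} [Group G] [Finite G]

theorem exists_involution {H : Subgroup G} (h : 2 ∣ Nat.card H) : ∃ j ∈ H, orderOf j = 2 := by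
  haveI : Fact (Nat.Prime 2) := ⟨Nat.prime_two⟩
  obtain ⟨x, hx⟩ := exists_prime_orderOf_dvd_card' 2 h
  exact ⟨x, x.2, (Subgroup.orderOf_coe x).trans hx⟩

/-- the centre of the layer of a core-free group is trivial if it has no involution -/
theorem normal_eq_bot_of_odd (hO : Cfsg.oddCore G = ⊥) {N : Subgroup G} (hn : N.Normal)
    (h : ∀ j ∈ N, orderOf j ≠ 2) : N = ⊥ := by
  rw [← le_bot_iff, ← hO]
  refine le_sSup ⟨hn, ?_⟩
  rw [Nat.coprime_two_right]
  by_contra hodd
  obtain ⟨j, hj, hj2⟩ := exists_involution (H := N) (even_iff_two_dvd.mp (Nat.not_odd_iff_even.mp hodd))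
  exact h j hj hj2

theorem main (hodd : ∀ (H : Type u) [Group H] [Finite H], Odd (Nat.card H) → Group.IsSolvable H)
    (A : Subgroup G) (hA : Cfsg.IsStandardSubgroup A) (hO : Cfsg.oddCore G = ⊥) (t : G) (ht : orderOf t = 2)
    (htA : t ∈ centralizer (A : Set G)) :
    A.Normal ∨
      (∃ X : Subgroup G, IsSimpleGroup ↥X ∧ ¬ IsMulCommutative ↥X ∧ Nonempty (↥X ≃* ↥A) ∧
        (∀ a ∈ X, ∀ b ∈ X.map (MulAut.conj t).toMonoidHom, a * b = b * a) ∧
        X ⊓ X.map (MulAut.conj t).toMonoidHom = ⊥ ∧
        X ⊔ X.map (MulAut.conj t).toMonoidHom = Cfsg.layer G ∧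
        centralizer (A : Set G) = zpowers t) ∨
      (A ≤ Cfsg.layer G ∧ IsSimpleGroup ↥(Cfsg.layer G) ∧ ¬ IsMulCommutative ↥(Cfsg.layer G)) := by
  classical
  obtain ⟨hqs, hTE, hncomm, hNN⟩ := hA
  set K := centralizer (A : Set G) with hK
  set c := (MulAut.conj t).toMonoidHom with hc
  -- centralizers of involutions of `C(A)` normalize `A`
  have hfix : ∀ j ∈ K, orderOf j = 2 → ∀ g : G, Commute j g → g ∈ normalizer (A : Set G) := by
    intro j hj hj2 g hg
    rw [hNN]
    by_contra hgn
    have hmem : j ∈ K ⊓ K.map (MulAut.conj g).toMonoidHom :=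
      ⟨hj, j, hj, by show g * j * g⁻¹ = j; rw [← hg.eq, mul_inv_cancel_right]⟩
    have h2 := Subgroup.orderOf_dvd_natCard _ hmem
    rw [hj2] at h2
    exact Nat.not_even_iff_odd.2 (hTE.2 g hgn) (even_iff_two_dvd.2 h2)
  have hAC : A ≤ centralizer ({t} : Set G) := fun a ha =>
    mem_centralizer_singleton_iff.mpr (mem_centralizer_iff.mp htA a ha)
  have hAcomp : IsComponent (A.subgroupOf (centralizer ({t} : Set G))) := by
    have hn : centralizer ({t} : Set G) ≤ normalizer (A : Set G) := fun g hg =>
      hfix t htA ht g (show t * g = g * t from (mem_centralizer_singleton_iff.mp hg).symm)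
    haveI : (A.subgroupOf (centralizer ({t} : Set G))).Normal := normal_subgroupOf_of_le_normalizer hn
    exact ⟨Subgroup.Normal.isSubnormal inferInstance, qs_congr' (subgroupOfEquivOfLe hAC).symm hqs⟩
  have heven : 2 ∣ Nat.card A := by
    by_contra h
    exact qs_not_isSolvable hqs (hodd _ (by rw [Nat.odd_iff]; omega))
  have hL2 : pLayer 2 G ≤ layer G := by
    refine sSup_le fun J hJ => comp_le_layer ((pcomp_isComponent_iff hJ).mpr ?_)
    have h0 : pPrimeCore 2 G = ⊥ := hO
    rw [h0, Subgroup.commutator_bot_right]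
  have hAE := MaximalComponent.le_layer ht hL2 hAC hAcomp heven
  obtain ⟨D, hD, hcase⟩ := MaximalComponent.cases ht hAC hAcomp hAE
  by_cases hAD : A = D
  · left
    subst hAD
    refine ⟨fun a ha g => ?_⟩
    have hg : A.map (MulAut.conj g).toMonoidHom = A := by
      by_contra hne
      exact hncomm g hne (comp_commute hD (comp_conj hD g) (Ne.symm hne))
    exact hg.le ⟨a, ha, rfl⟩
  have hperfA : ⁅A, A⁆ = A := by
    have := congrArg (Subgroup.map A.subtype) (qs_commutator_top hqs)
    rwa [map_commutator, ← MonoidHom.range_eq_map, range_subtype] at this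
  -- `D` does not normalize `A`
  have hDn : ¬ D ≤ normalizer (A : Set G) := by
    intro hn
    rcases hcase with h | ⟨hne, -, -, π, hπ, hπr⟩
    · haveI : (A.subgroupOf D).Normal := normal_subgroupOf_of_le_normalizer hn
      rcases qs_subnormal_eq_top_or_le_center hD.2 (Subgroup.Normal.isSubnormal (H := A.subgroupOf D) inferInstance) with h1 | h1
      · exact hAD (le_antisymm h (subgroupOf_eq_top.mp h1))
      · haveI := isMulCommutative_of_le_center h1
        exact qs_not_isMulCommutative hqs ⟨⟨fun x y => (subgroupOfEquivOfLe h).symm.injective (by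
          rw [map_mul, map_mul]; exact IsMulCommutative.is_comm.comm _ _)⟩⟩
    · have hle : D ≤ A := by
        rw [← comp_perfect hD, commutator_le]
        intro d hd l hl
        have hmem : ∀ x : ↥D, π x ∈ A := fun x => hπr ▸ ⟨x, rfl⟩
        have h1 := (mem_normalizer_iff.mp (hn hd) _).mp (hmem ⟨l, hl⟩)
        rw [hπ] at h1
        have h2 := mul_mem h1 (inv_mem (hmem ⟨l, hl⟩))
        rw [hπ] at h2
        have hcd : Commute d (c l) := commute_of_commutator_eq_bot
          (comp_commute hD (comp_conj hD t) (Ne.symm hne)) hd ⟨l, hl, rfl⟩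
        have hlc : Commute l (c l) := commute_of_commutator_eq_bot
          (comp_commute hD (comp_conj hD t) (Ne.symm hne)) hl ⟨l, hl, rfl⟩
        simp only [hc, MulEquiv.coe_toMonoidHom, MulAut.conj_apply] at hcd hlc
        rw [show d * (l * (t * l * t⁻¹)) * d⁻¹ * (l * (t * l * t⁻¹))⁻¹ = ⁅d, l⁆ by
          rw [commutatorElement_def, ← mul_assoc d l, mul_assoc (d * l) (t * l * t⁻¹) d⁻¹, ← hcd.inv_left.eq]
          group] at h2
        exact h2
      refine hne (mem_normalizer_iff_map_conj_eq.mp (centralizer_le_normalizer _ ?_))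
      exact mem_centralizer_iff.mpr fun d hd => mem_centralizer_singleton_iff.mp (hAC (hle hd))
  have hnoinv : ∀ j ∈ K, orderOf j = 2 → ¬ (∀ d ∈ D, Commute j d) := fun j hj hj2 h =>
    hDn fun d hd => hfix j hj hj2 d (h d hd)
  -- other components
  have hother : ∀ J : Subgroup G, IsComponent J → ⁅A, J⁆ = ⊥ → J = D := by
    intro J hJ hAJ
    by_contra hne
    obtain ⟨j, hj, hj2⟩ := exists_involution (H := J) (by
      by_contra h
      exact comp_not_isSolvable hJ (hodd _ (by rw [Nat.odd_iff]; omega)))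
    refine hnoinv j ?_ hj2 fun d hd => commute_of_commutator_eq_bot (comp_commute hJ hD hne) hj hd
    exact commutator_eq_bot_iff_le_centralizer.mp (by rw [commutator_comm]; exact hAJ) hj
  have hlayD : D ≤ layer G := comp_le_layer hD
  -- no involution centralizes the layer
  have hcent : centralizer (layer G : Set G) = ⊥ := normal_eq_bot_of_odd hO inferInstance fun j hj hj2 =>
    hnoinv j (centralizer_le (SetLike.coe_subset_coe.mpr hAE) hj) hj2
      fun d hd => (mem_centralizer_iff.mp hj d (hlayD hd)).symm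
  have hZ : D ⊓ centralizer (D : Set G) = ⊥ := by
    rw [← le_bot_iff, ← hcent]
    refine le_trans ?_ inf_le_right (b := layer G ⊓ centralizer (layer G : Set G))
    rw [layer_inf_centralizer_eq]
    exact le_iSup (fun L : {K : Subgroup G // IsComponent K} =>
      (L : Subgroup G) ⊓ centralizer ((L : Subgroup G) : Set G)) ⟨D, hD⟩
  have hcz : center ↥D = ⊥ := by
    rw [← (Subgroup.map_eq_bot_iff_of_injective _ D.subtype_injective), center_map_eq, hZ]
  have hsimp : IsSimpleGroup ↥D := by
    haveI := hD.2.2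
    haveI : Nontrivial ↥D := qs_nontrivial hD.2
    refine IsSimpleGroup.isSimpleGroup_of_surjective
      ((QuotientGroup.quotientMulEquivOfEq hcz).trans QuotientGroup.quotientBot).toMonoidHom
      (MulEquiv.surjective _)
  rcases hcase with h | ⟨hne, hJ, -, π, hπ, hπr⟩
  · right; right
    refine ⟨hAE, ?_⟩
    have hlay : layer G = D := le_antisymm (sSup_le fun J hJ => ?_) hlayD
    · rw [hlay]; exact ⟨hsimp, comp_not_isMulCommutative hD⟩
    by_cases hJD : J = D
    · exact hJD.le
    refine (hother J hJ ?_).le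
    rw [← le_bot_iff, ← comp_commute hD hJ (Ne.symm hJD)]
    exact commutator_mono h le_rfl
  · right; left
    set D' := D.map c with hD'
    have hD'c : IsComponent D' := comp_conj hD t
    have hcc : ⁅D, D'⁆ = ⊥ := comp_commute hD hD'c (Ne.symm hne)
    have hinf : D ⊓ D' = ⊥ := by
      rw [← le_bot_iff, ← hZ]
      exact le_inf inf_le_left (inf_le_right.trans
        (commutator_eq_bot_iff_le_centralizer.mp (by rw [commutator_comm]; exact hcc)))
    have hmul : ∀ a ∈ D, ∀ b ∈ D', ∀ a' ∈ D, ∀ b' ∈ D', a * b = a' * b' → a = a' := by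
      intro a ha b hb a' ha' b' hb' e
      have h1 : a'⁻¹ * a ∈ D ⊓ D' := ⟨mul_mem (Subgroup.inv_mem _ ha') ha, by
        rw [show a'⁻¹ * a = b' * b⁻¹ by rw [eq_mul_inv_iff_mul_eq, mul_assoc, e]; group]
        exact mul_mem hb' (Subgroup.inv_mem _ hb)⟩
      rw [hinf, mem_bot] at h1
      exact (inv_mul_eq_one.mp h1).symm
    have hπi : Function.Injective π := fun x y e => Subtype.ext (by
      rw [hπ, hπ] at e
      exact hmul x x.2 _ ⟨x, x.2, rfl⟩ y y.2 _ ⟨y, y.2, rfl⟩ e)
    have hlay : D ⊔ D' = layer G := by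
      refine le_antisymm (sup_le hlayD (comp_le_layer hD'c)) (sSup_le fun J hJc => ?_)
      by_cases hAJ : ⁅A, J⁆ = ⊥
      · exact (hother J hJc hAJ).le.trans le_sup_left
      rcases hJ J hJc hAJ with h | h
      · exact h.le.trans le_sup_left
      · exact h.le.trans le_sup_right
    refine ⟨D, hsimp, comp_not_isMulCommutative hD, ?_, fun a ha b hb =>
      commute_of_commutator_eq_bot hcc ha hb, hinf, hlay, ?_⟩
    · exact ⟨(MonoidHom.ofInjective hπi).trans (MulEquiv.subgroupCongr hπr)⟩
    -- the centralizer of `A`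
    refine le_antisymm (fun k hk => ?_) (zpowers_le.mpr htA)
    have hkey : ∀ k ∈ K, D.map (MulAut.conj k).toMonoidHom = D → k = 1 := by
      intro k hk hkD
      have hD'k : ∀ b ∈ D', k * b * k⁻¹ ∈ D' := by
        intro b hb
        have hD'k' : D'.map (MulAut.conj k).toMonoidHom = D' := by
          by_cases hAJ : ⁅A, D'.map (MulAut.conj k).toMonoidHom⁆ = ⊥
          · exfalso
            refine hne (Subgroup.map_injective (f := (MulAut.conj k).toMonoidHom) (MulAut.conj k).injective ?_)
            rw [hother _ (comp_conj hD'c k) hAJ, hkD]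
          rcases hJ _ (comp_conj hD'c k) hAJ with h | h
          · exact absurd (Subgroup.map_injective (f := (MulAut.conj k).toMonoidHom) (MulAut.conj k).injective (h.trans hkD.symm)) hne
          · exact h
        exact hD'k'.le ⟨b, hb, rfl⟩
      have hcD : ∀ l ∈ D, k * l * k⁻¹ = l := by
        intro l hl
        have h1 : π ⟨l, hl⟩ ∈ A := hπr ▸ ⟨_, rfl⟩
        have h2 : k * π ⟨l, hl⟩ * k⁻¹ = π ⟨l, hl⟩ := by rw [← hk _ h1, mul_inv_cancel_right]
        rw [hπ] at h2
        refine hmul _ (hkD.le ⟨l, hl, rfl⟩) _ (hD'k _ ⟨l, hl, rfl⟩) l hl _ ⟨l, hl, rfl⟩ ?_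
        show k * l * k⁻¹ * (k * (t * l * t⁻¹) * k⁻¹) = l * (t * l * t⁻¹)
        rw [← h2]
        group
      have hcD' : ∀ b ∈ D', k * b * k⁻¹ = b := by
        rintro _ ⟨l, hl, rfl⟩
        have h1 : π ⟨l, hl⟩ ∈ A := hπr ▸ ⟨_, rfl⟩
        have h2 : k * π ⟨l, hl⟩ * k⁻¹ = π ⟨l, hl⟩ := by rw [← hk _ h1, mul_inv_cancel_right]
        rw [hπ] at h2
        show k * (t * l * t⁻¹) * k⁻¹ = t * l * t⁻¹
        have h3 : k * l * k⁻¹ * (k * (t * l * t⁻¹) * k⁻¹) = l * (t * l * t⁻¹) := by
          rw [← h2]
          group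
        rw [hcD l hl] at h3
        exact mul_left_cancel h3
      have : k ∈ centralizer (layer G : Set G) := by
        rw [← hlay]
        have hle : D ⊔ D' ≤ centralizer ({k} : Set G) := sup_le
          (fun l hl => mem_centralizer_singleton_iff.mpr (mul_inv_eq_iff_eq_mul.mp (hcD l hl)).symm)
          (fun l hl => mem_centralizer_singleton_iff.mpr (mul_inv_eq_iff_eq_mul.mp (hcD' l hl)).symm)
        exact mem_centralizer_iff.mpr fun l hl => mem_centralizer_singleton_iff.mp (hle hl)
      rwa [hcent, mem_bot] at this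
    by_cases hkD : D.map (MulAut.conj k).toMonoidHom = D
    · rw [hkey k hk hkD]; exact one_mem _
    have hkD' : D.map (MulAut.conj k).toMonoidHom = D' := by
      by_cases hAJ : ⁅A, D.map (MulAut.conj k).toMonoidHom⁆ = ⊥
      · exact absurd (hother _ (comp_conj hD k) hAJ) hkD
      exact (hJ _ (comp_conj hD k) hAJ).resolve_left hkD
    have h1 : D.map (MulAut.conj (t⁻¹ * k)).toMonoidHom = D := by
      have e : D.map (MulAut.conj (t⁻¹ * k)).toMonoidHom =
          (D.map (MulAut.conj k).toMonoidHom).map (MulAut.conj t⁻¹).toMonoidHom := by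
        rw [map_map]; congr 1; ext x; simp [mul_assoc]
      rw [e, hkD', hD', map_map]
      conv_rhs => rw [← map_id D]
      congr 1; ext x; simp [hc, mul_assoc]
    rw [← inv_mul_eq_one.mp (hkey _ (mul_mem (inv_mem htA) hk) h1)]
    exact mem_zpowers t

end Cfsg.Lib.Misc.StandardTrichotomy
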