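import Cfsg.Agent.Components.Embedded.Basic
import Cfsg.Agent.Components.Cores
import Cfsg.Agent.Components.PComponents
import Cfsg.Agent.Components.GenFitting
import Cfsg.Agent.Coprime.Action
import Cfsg.Prelude.Def_JComponents
import Cfsg.Prelude.Def_Involutions
import Cfsg.Prelude.Def_ClassificationK

/-!
Short facts on 2-local subgroups, `J`-components and 2-groups of symplectic type.
-/

set_option linter.style.haveILetI false
set_option linter.unusedSectionVars false

namespace Cfsg.Lib.Misc.SweepLocal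

open Subgroup
open scoped commutatorElement

universe u

variable {G : Type u} [Group G] [Finite G]

theorem stronglyEmbedded_iff {M : Subgroup G} :
    Cfsg.IsStronglyEmbedded M ↔ M ≠ ⊤ ∧ 2 ∣ Nat.card M ∧ Cfsg.Lib.Embedded.ConjCond 2 M := by
  simp only [Cfsg.IsStronglyEmbedded, Cfsg.Lib.Embedded.ConjCond, even_iff_two_dvd,
    ← Nat.not_even_iff_odd]

theorem straddling_iff (hO : Cfsg.pCore 2 G = ⊥) {M : Subgroup G} (hM : Cfsg.IsTwoLocal M) :
    Cfsg.IsStronglyEmbedded M ↔ Cfsg.straddlingTwoSubgroups M = ∅ := by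
  rw [stronglyEmbedded_iff]
  constructor
  · rintro ⟨-, -, hc⟩
    have hN := Cfsg.Lib.Embedded.norm_of_conj hc
    rw [Set.eq_empty_iff_forall_notMem]
    rintro T ⟨hT, hT1, hTM, L, ⟨U, hU, hU1, rfl⟩, hTL, hnot⟩
    refine hnot (hN U ?_ hU hU1)
    have hP : IsPGroup 2 (U ⊔ T : Subgroup G) := hU.to_sup_of_normal_left' hT hTL
    by_contra hUM
    haveI : Group.IsNilpotent (U ⊔ T : Subgroup G) := hP.isNilpotent
    set P := U ⊔ T
    have hlt : M.subgroupOf P < ⊤ := lt_top_iff_ne_top.2 fun h =>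
      hUM ((le_sup_left : U ≤ P).trans (Subgroup.subgroupOf_eq_top.1 h))
    obtain ⟨x, hxN, hxM⟩ := SetLike.exists_of_lt (Group.normalizerCondition_of_isNilpotent _ hlt)
    refine hc (x : G) (fun h => hxM h) ?_
    refine (Cfsg.Lib.Embedded.dvd_of_ne_bot hT hT1).trans (card_dvd_of_le (le_inf hTM fun t ht => ?_))
    rw [Cfsg.Lib.Embedded.mem_conj_iff]
    have h := (mem_normalizer_iff''.1 hxN ⟨t, (le_sup_right : T ≤ P) ht⟩).1 (mem_subgroupOf.mpr (hTM ht))
    simpa [mem_subgroupOf] using h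
  · intro hno
    obtain ⟨U, hU, hU1, rfl⟩ := hM
    set M := normalizer (U : Set G)
    refine ⟨fun h => ?_, (Cfsg.Lib.Embedded.dvd_of_ne_bot hU hU1).trans (card_dvd_of_le le_normalizer),
      fun g hg hd => ?_⟩
    · haveI : U.Normal := normalizer_eq_top_iff.mp h
      exact hU1 (eq_bot_iff.2 (hO ▸ Cfsg.Lib.Components.le_pCore hU))
    obtain ⟨⟨t, ht⟩, hto⟩ := exists_prime_orderOf_dvd_card' 2 hd
    rw [orderOf_mk] at hto
    have hstr : ∀ L : Subgroup G, Cfsg.IsTwoLocal L → t ∈ L → L ≤ M := by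
      intro L hL htL
      by_contra h
      refine (Set.eq_empty_iff_forall_notMem.1 hno) (zpowers t)
        ⟨IsPGroup.of_card (n := 1) (by rw [Nat.card_zpowers, hto, pow_one]), ?_, zpowers_le.2 ht.1,
          L, hL, zpowers_le.2 htL, h⟩
      intro h1
      rw [zpowers_eq_bot] at h1
      rw [h1, orderOf_one] at hto
      exact absurd hto (by norm_num)
    set φ := (MulAut.conj g).toMonoidHom
    have hφ : Function.Injective φ := (MulAut.conj g).injective
    have h1 : M.map φ ≤ M := by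
      refine hstr _ ⟨U.map φ, hU.map _, ?_, ?_⟩ ht.2
      · rw [ne_eq, map_eq_bot_iff_of_injective _ hφ]; exact hU1
      · exact map_equiv_normalizer_eq U (MulAut.conj g)
    have h2 : M.map φ = M := eq_of_le_of_card_ge h1 (card_map_of_injective hφ).ge
    haveI : (U.subgroupOf M).Normal := normal_in_normalizer
    set O := (Cfsg.pCore 2 M).map M.subtype
    have hUO : U ≤ O := by
      have h := Subgroup.map_mono (f := M.subtype)
        (Cfsg.Lib.Components.le_pCore (p := 2) (N := U.subgroupOf M) hU.comap_subtype)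
      rwa [map_subgroupOf_eq_of_le le_normalizer] at h
    have hgO : g ∈ normalizer (O : Set G) := by
      have key : ∀ a ∈ normalizer (M : Set G), ∀ z ∈ O, a * z * a⁻¹ ∈ O := by
        rintro a ha - ⟨z, hz, rfl⟩
        exact ⟨M.normalizerMonoidHom ⟨a, ha⟩ z,
          characteristic_iff_le_comap.mp (Cfsg.Lib.Components.pCore_characteristic) _ hz, rfl⟩
      have hgM : g ∈ normalizer (M : Set G) := Cfsg.Lib.Coprime.conjMap_eq_self_iff.mp h2
      exact Cfsg.Lib.Coprime.mem_normalizer_of_conj_mem (key g hgM)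
        fun z hz => by simpa using key g⁻¹ (inv_mem hgM) z hz
    refine hg (?_ : g ∈ M)
    by_contra hgM
    refine (Set.eq_empty_iff_forall_notMem.1 hno) U
      ⟨hU, hU1, le_normalizer, normalizer (O : Set G), ⟨O, (Cfsg.Lib.Components.isPGroup_pCore 2).map _, ?_, rfl⟩,
        hUO.trans le_normalizer, fun h => hgM (h hgO)⟩
    exact fun h => hU1 (eq_bot_iff.2 (h ▸ hUO))

theorem jComponent_normalized {T K Q : Subgroup G} (hT : IsPGroup 2 T) (hK : Cfsg.IsJComponent T K)
    (hQ1 : K ⊔ Cfsg.thompsonSubgroupOf 2 T ≤ normalizer (Q : Set G))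
    (hQ2 : Q ≤ normalizer (Cfsg.thompsonSubgroupOf 2 T : Set G)) :
    Q ≤ normalizer (K : Set G) := by
  obtain ⟨hgen, hcomm, -⟩ := hK
  set J := Cfsg.thompsonSubgroupOf 2 T
  set H := K ⊔ J
  have hJ : IsPGroup 2 J := hT.to_le (map_subtype_le _)
  set L : Subgroup G := ⨆ h : H, J.map (MulAut.conj (h : G)).toMonoidHom with hL
  have hLH : L = H := by
    refine le_antisymm (iSup_le fun h => ?_) (sup_le ?_ ?_)
    · rintro _ ⟨j, hj, rfl⟩
      exact mul_mem (mul_mem h.2 ((le_sup_right : J ≤ H) hj)) (inv_mem h.2)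
    · conv_lhs => rw [← hcomm]
      refine commutator_le.2 fun k hk j hj => ?_
      rw [commutatorElement_def]
      refine mul_mem ?_ (inv_mem (mem_iSup_of_mem (1 : H) ⟨j, hj, by simp⟩))
      exact mem_iSup_of_mem (⟨k, mem_sup_left hk⟩ : H) ⟨j, hj, rfl⟩
    · exact fun j hj => mem_iSup_of_mem (1 : H) ⟨j, hj, by simp⟩
  have hQH : ∀ q ∈ Q, ∀ x ∈ H, q * x * q⁻¹ ∈ H := by
    intro q hq x hx
    rw [← hLH] at hx
    have hx' : x ∈ L.comap (MulAut.conj q).toMonoidHom → q * x * q⁻¹ ∈ L := fun h => h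
    rw [← hLH]
    refine hx' ((iSup_le fun h => ?_ : L ≤ L.comap (MulAut.conj q).toMonoidHom) hx)
    rintro _ ⟨j, hj, rfl⟩
    have hq' : (h : G)⁻¹ * q * h ∈ Q := (mem_normalizer_iff''.1 (hQ1 h.2) q).1 hq
    refine mem_iSup_of_mem h ⟨_, (mem_normalizer_iff.1 (hQ2 hq') j).1 hj, ?_⟩
    simp only [MulEquiv.coe_toMonoidHom, MulAut.conj_apply]
    group
  have hJn : J ≤ normalizer (K : Set G) := by
    have := Cfsg.Lib.Coprime.le_normalizer_commutator_right J K
    rwa [hcomm] at this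
  have hodd : ∀ x ∈ H, Odd (orderOf x) → x ∈ K := by
    intro x hx ho
    obtain ⟨k, hk, j, hj, rfl⟩ := (Cfsg.Lib.Coprime.mem_sup_of_le_normalizer hJn).1 hx
    have hkN : k ∈ normalizer (K : Set G) := le_normalizer hk
    have hjN : j ∈ normalizer (K : Set G) := hJn hj
    haveI : (K.subgroupOf (normalizer (K : Set G))).Normal := normal_in_normalizer
    set π := QuotientGroup.mk' (K.subgroupOf (normalizer (K : Set G)))
    have he : π ⟨k * j, mul_mem hkN hjN⟩ = π ⟨j, hjN⟩ := by
      rw [show (⟨k * j, mul_mem hkN hjN⟩ : normalizer (K : Set G)) = ⟨k, hkN⟩ * ⟨j, hjN⟩ from rfl, map_mul,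
        show π ⟨k, hkN⟩ = 1 from (QuotientGroup.eq_one_iff _).2 (mem_subgroupOf.2 hk), one_mul]
    obtain ⟨m, hm⟩ := IsPGroup.iff_orderOf.1 hJ ⟨j, hj⟩
    rw [orderOf_mk] at hm
    have h1 : orderOf (π ⟨j, hjN⟩) = 1 := by
      refine Nat.eq_one_of_dvd_coprimes (ho.coprime_two_right.pow_right m) ?_ ?_
      · rw [← he]; exact (orderOf_map_dvd π _).trans (orderOf_mk _ _).dvd
      · exact (orderOf_map_dvd π _).trans (by rw [orderOf_mk, hm])
    rw [orderOf_eq_one_iff, ← he] at h1
    exact mem_subgroupOf.1 ((QuotientGroup.eq_one_iff _).1 h1)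
  have key : ∀ q ∈ Q, ∀ k ∈ K, q * k * q⁻¹ ∈ K := by
    intro q hq k hk
    have hle : K ≤ K.comap (MulAut.conj q).toMonoidHom := by
      conv_lhs => rw [← hgen]
      rw [closure_le]
      rintro g ⟨hg, hgo⟩
      exact hodd _ (hQH q hq g (mem_sup_left hg)) (by
        rw [MulEquiv.coe_toMonoidHom, MulEquiv.orderOf_eq]; exact hgo)
    exact hle hk
  exact fun q hq => Cfsg.Lib.Coprime.mem_normalizer_of_conj_mem (key q hq)
    fun z hz => by simpa using key q⁻¹ (inv_mem hq) z hz

theorem involution_unique {A : Type u} [Group A] [Finite A] [IsCyclic A] {a b : A} (ha : orderOf a = 2)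
    (hb : orderOf b = 2) : a = b := by
  classical
  letI := Fintype.ofFinite A
  by_contra h
  have hle := IsCyclic.card_pow_eq_one_le (α := A) (n := 2) two_pos
  have hsub : ({1, a, b} : Finset A) ⊆ Finset.univ.filter fun x : A => x ^ 2 = 1 := by
    intro x hx
    simp only [Finset.mem_insert, Finset.mem_singleton] at hx
    refine Finset.mem_filter.2 ⟨Finset.mem_univ _, ?_⟩
    rcases hx with rfl | rfl | rfl
    · exact one_pow 2
    · rw [← ha]; exact pow_orderOf_eq_one _
    · rw [← hb]; exact pow_orderOf_eq_one _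
  have ha1 : a ≠ 1 := fun e => by rw [e, orderOf_one] at ha; exact absurd ha (by norm_num)
  have hb1 : b ≠ 1 := fun e => by rw [e, orderOf_one] at hb; exact absurd hb (by norm_num)
  have h3 : ({1, a, b} : Finset A).card = 3 := by
    rw [Finset.card_eq_three]; exact ⟨1, a, b, ha1.symm, hb1.symm, h, rfl⟩
  have := Finset.card_le_card hsub
  omega

theorem symplectic_char_ti (z : G) (hz : orderOf z = 2) (C : Subgroup G) (hC : C = centralizer ({z} : Set G))
    (Q : Subgroup C) [Q.Normal] (hQz : ∀ h : z ∈ C, (⟨z, h⟩ : C) ∈ Q) (hQ : Cfsg.IsOfSymplecticType ↥Q)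
    (B : Subgroup Q) [hBc : B.Characteristic] (hBa : IsMulCommutative ↥B) (g : G) :
    ((B.map Q.subtype).map C.subtype).map (MulAut.conj g).toMonoidHom = (B.map Q.subtype).map C.subtype ∨
      ((B.map Q.subtype).map C.subtype).map (MulAut.conj g).toMonoidHom ⊓ (B.map Q.subtype).map C.subtype = ⊥ := by
  obtain ⟨hQp, hQc⟩ := hQ
  have hmC : ∀ x : G, x ∈ C ↔ x * z = z * x := fun x => by rw [hC, mem_centralizer_singleton_iff]
  haveI := hQc B hBc hBa
  set B' := (B.map Q.subtype).map C.subtype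
  by_cases hbot : B'.map (MulAut.conj g).toMonoidHom ⊓ B' = ⊥
  · exact Or.inr hbot
  left
  have hinj : Function.Injective fun b : B => (((b : Q) : C) : G) := fun a b h => by
    exact Subtype.ext (Subtype.ext (Subtype.ext h))
  have hB'p : IsPGroup 2 B' := ((hQp.to_subgroup B).map _).map _
  -- the involution of `B` is `z`
  have hzC : z ∈ C := (hmC z).2 rfl
  have hzQ : (⟨z, hzC⟩ : C) ∈ Q := hQz hzC
  set zQ : Q := ⟨⟨z, hzC⟩, hzQ⟩
  have hzQc : zQ ∈ center Q := mem_center_iff.2 fun x => Subtype.ext (Subtype.ext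
    ((hmC _).1 (x : C).2))
  haveI : IsCyclic (center Q) := hQc _ inferInstance inferInstance
  have hzo : orderOf zQ = 2 := by rw [← Subgroup.orderOf_coe, ← Subgroup.orderOf_coe]; exact hz
  have hinv : ∀ w ∈ B', orderOf w = 2 → w = z := by
    rintro _ ⟨_, ⟨b, hb, rfl⟩, rfl⟩ hw
    have hbo : orderOf b = 2 := by
      rw [← Subgroup.orderOf_coe, ← Subgroup.orderOf_coe]; exact hw
    have hbc : b ∈ center Q := by
      refine mem_center_iff.2 fun x => ?_
      haveI : B.Normal := inferInstance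
      have h1 : (⟨x * b * x⁻¹, Normal.conj_mem inferInstance b hb x⟩ : B) = ⟨b, hb⟩ :=
        involution_unique (by rw [orderOf_mk, ← MulAut.conj_apply, MulEquiv.orderOf_eq, hbo]) (by rw [orderOf_mk, hbo])
      exact mul_inv_eq_iff_eq_mul.1 (congrArg Subtype.val h1)
    have h2 : (⟨b, hbc⟩ : center Q) = ⟨zQ, hzQc⟩ :=
      involution_unique (by rw [orderOf_mk, hbo]) (by rw [orderOf_mk, hzo])
    exact congrArg (fun v : center Q => (((v : Q) : C) : G)) h2
  set D := B'.map (MulAut.conj g).toMonoidHom ⊓ B'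
  have hD : IsPGroup 2 D := hB'p.to_le inf_le_right
  obtain ⟨⟨w, hw⟩, hwo⟩ := exists_prime_orderOf_dvd_card' 2 (Cfsg.Lib.Embedded.dvd_of_ne_bot hD hbot)
  rw [orderOf_mk] at hwo
  have hwz : w = z := hinv w hw.2 hwo
  obtain ⟨v, hv, hvw⟩ := hw.1
  have hgv : g * v * g⁻¹ = w := hvw
  have hvz : v = z := hinv v hv (by
    rw [← (MulAut.conj g).orderOf_eq v, MulAut.conj_apply, hgv, hwo])
  rw [hvz, hwz] at hgv
  have hgC : g ∈ C := (hmC g).2 (mul_inv_eq_iff_eq_mul.1 hgv)
  haveI : (B.map Q.subtype).Normal := ConjAct.normal_of_characteristic_of_normal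
  refine eq_of_le_of_card_ge ?_ (card_map_of_injective (MulAut.conj g).injective).ge
  rintro _ ⟨_, ⟨y, hy, rfl⟩, rfl⟩
  exact ⟨_, Normal.conj_mem inferInstance y hy ⟨g, hgC⟩, rfl⟩

theorem central_mem_genFitting (z : G) (hz : orderOf z = 2) (h : z ∈ centralizer ({z} : Set G)) :
    (⟨z, h⟩ : centralizer ({z} : Set G)) ∈ Cfsg.generalizedFittingSubgroup ↥(centralizer ({z} : Set G)) := by
  set y : centralizer ({z} : Set G) := ⟨z, h⟩
  haveI : (zpowers y).Normal := ⟨fun a ha c => by
    obtain ⟨k, rfl⟩ := mem_zpowers_iff.1 ha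
    have hc : Commute c y := Subtype.ext (mem_centralizer_singleton_iff.1 c.2)
    rw [(hc.zpow_right k).eq, mul_inv_cancel_right]
    exact ha⟩
  have hp : IsPGroup 2 (zpowers y) := IsPGroup.of_card (n := 1) (by rw [Nat.card_zpowers, orderOf_mk, hz, pow_one])
  exact Cfsg.Lib.Components.fitting_le_genFitting (Cfsg.Lib.Components.le_fitting hp.isNilpotent (mem_zpowers y))

end Cfsg.Lib.Misc.SweepLocal
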