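import Cfsg.Agent.Components.Misc.SweepLocal
import Cfsg.Agent.PGroups.Basic

/-!
Weak closure of a central involution in a 2-group of symplectic type and exponent four.
-/

set_option autoImplicit false
set_option linter.unusedSectionVars false

namespace Cfsg.Lib.SympWC

open Subgroup
open scoped commutatorElement

universe u

set_option maxHeartbeats 2000000 in
/-- Characteristic abelian subgroups cyclic and exponent four: squares and commutators are central
of order at most two. -/
theorem sq_comm : ∀ (n : ℕ) (Q : Type u) [Group Q] [Finite Q], Nat.card Q = n →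
    (∀ A : Subgroup Q, A.Characteristic → IsMulCommutative A → IsCyclic A) → (∀ x : Q, x ^ 4 = 1) →
    (∀ x : Q, x * x ∈ center Q ∧ x * x * (x * x) = 1) ∧
      (∀ x y : Q, ⁅x, y⁆ ∈ center Q ∧ ⁅x, y⁆ * ⁅x, y⁆ = 1) := by
  intro n
  induction n using Nat.strong_induction_on with
  | _ n ih =>
  intro Q _ _ hn hchar hexp
  have hp4 : ∀ x : Q, x * x * (x * x) = 1 := fun x => by
    rw [← hexp x, pow_succ, pow_succ, pow_succ, pow_one]; group
  by_cases hc : ∀ x y : Q, ⁅x, y⁆ ∈ center Q
  · have hsq : ∀ x y : Q, ⁅x, y⁆ * ⁅x, y⁆ = 1 := by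
      intro x y
      obtain ⟨c, hcdef⟩ : ∃ c, c = ⁅x, y⁆ := ⟨_, rfl⟩
      rw [← hcdef]
      have hcc : ∀ w, Commute w c := fun w => mem_center_iff.mp (hcdef ▸ hc x y) w
      have h0 : x * y = c * y * x := by rw [hcdef, commutatorElement_def]; group
      have h1 : y * x * (y * x) = c * (y * y * (x * x)) := by
        calc y * x * (y * x) = y * (x * y) * x := by group
          _ = y * (c * y * x) * x := by rw [h0]
          _ = (y * c) * (y * (x * x)) := by group
          _ = (c * y) * (y * (x * x)) := by rw [(hcc y).eq]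
          _ = _ := by group
      have h2 : x * x * (y * y) = c * c * (c * c) * (y * y * (x * x)) := by
        calc x * x * (y * y) = x * (x * y) * y := by group
          _ = x * (c * y * x) * y := by rw [h0]
          _ = (x * c) * y * (x * y) := by group
          _ = (c * x) * y * (c * y * x) := by rw [(hcc x).eq, h0]
          _ = c * (x * y) * c * (y * x) := by group
          _ = c * ((c * y * x) * c) * (y * x) := by rw [h0]; group
          _ = c * (c * (c * y * x)) * (y * x) := by rw [(hcc (c * y * x)).eq]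
          _ = c * c * c * y * (x * y) * x := by group
          _ = c * c * c * y * (c * y * x) * x := by rw [h0]
          _ = c * c * c * (y * c) * (y * (x * x)) := by group
          _ = c * c * c * (c * y) * (y * (x * x)) := by rw [(hcc y).eq]
          _ = _ := by group
      rw [hp4 c, one_mul] at h2
      have h3 := hp4 (y * x)
      rw [h1] at h3
      calc c * c = c * c * ((y * y) * (y * y) * ((x * x) * (x * x))) := by rw [hp4, hp4]; simp
        _ = c * c * (y * y * ((y * y) * (x * x)) * (x * x)) := by group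
        _ = c * c * (y * y * (x * x * (y * y)) * (x * x)) := by rw [h2]
        _ = c * ((c * (y * y * (x * x))) * (y * y * (x * x))) := by group
        _ = c * ((y * y * (x * x) * c) * (y * y * (x * x))) := by rw [(hcc (y * y * (x * x))).eq]
        _ = c * (y * y * (x * x)) * (c * (y * y * (x * x))) := by group
        _ = 1 := h3
    refine ⟨fun x => ⟨?_, hp4 x⟩, fun x y => ⟨hc x y, hsq x y⟩⟩
    rw [mem_center_iff]
    intro y
    have hcc : Commute y ⁅x, y⁆ := mem_center_iff.mp (hc x y) y
    have h0 : x * y = ⁅x, y⁆ * y * x := by rw [commutatorElement_def]; group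
    symm
    calc x * x * y = x * (x * y) := by group
      _ = x * ⁅x, y⁆ * y * x := by rw [h0]; group
      _ = ⁅x, y⁆ * x * y * x := by rw [mem_center_iff.mp (hc x y) x]
      _ = ⁅x, y⁆ * (x * y) * x := by group
      _ = ⁅x, y⁆ * ⁅x, y⁆ * y * (x * x) := by rw [h0]; group
      _ = y * (x * x) := by rw [hsq, one_mul]
  -- otherwise a contradiction
  exfalso
  have hP : IsPGroup 2 Q := fun x => ⟨2, hexp x⟩
  haveI : Fact (Nat.Prime 2) := ⟨Nat.prime_two⟩
  obtain ⟨Z₂, hZ₂⟩ : ∃ Z₂ : Subgroup Q, ∀ w, w ∈ Z₂ ↔ ∀ x : Q, ⁅w, x⁆ ∈ center Q := by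
    refine ⟨(center (Q ⧸ center Q)).comap (QuotientGroup.mk' (center Q)), fun w => ?_⟩
    rw [mem_comap, mem_center_iff]
    constructor
    · intro h x
      rw [← QuotientGroup.eq_one_iff, ← QuotientGroup.mk'_apply, map_commutatorElement,
        commutatorElement_eq_one_iff_commute]
      exact (h _).symm
    · intro h q
      obtain ⟨x, rfl⟩ := QuotientGroup.mk'_surjective (center Q) q
      have h1 := h x
      rw [← QuotientGroup.eq_one_iff, ← QuotientGroup.mk'_apply, map_commutatorElement,
        commutatorElement_eq_one_iff_commute] at h1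
      exact h1.symm
  have hZchar : Z₂.Characteristic := characteristic_iff_le_comap.mpr fun φ w hw => by
    rw [mem_comap, hZ₂]
    intro x
    have h1 := (hZ₂ w).mp hw (φ.symm x)
    have h2 : φ ⁅w, φ.symm x⁆ ∈ center Q :=
      (characteristic_iff_le_comap.mp (inferInstance : (center Q).Characteristic)) φ h1
    rwa [map_commutatorElement, MulEquiv.apply_symm_apply] at h2
  obtain ⟨A, hA⟩ : ∃ A, A = commutator Q ⊓ Z₂ := ⟨_, rfl⟩
  have hAchar : A.Characteristic := by
    subst hA
    refine characteristic_iff_le_comap.mpr fun φ w hw => ?_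
    exact ⟨(characteristic_iff_le_comap.mp (inferInstance : (commutator Q).Characteristic)) φ hw.1,
      (characteristic_iff_le_comap.mp hZchar) φ hw.2⟩
  have hAcomm : IsMulCommutative A := by
    refine ⟨⟨fun u v => Subtype.ext ?_⟩⟩
    have hu := (Subgroup.mem_inf.mp (hA.le u.2))
    have hv := (Subgroup.mem_inf.mp (hA.le v.2))
    have hle : commutator Q ≤ centralizer {(u : Q)} := by
      rw [commutator_def, Subgroup.commutator_le]
      intro x _ y _
      rw [mem_centralizer_singleton_iff]
      have hx := mem_center_iff.mp ((hZ₂ _).mp hu.2 x)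
      have hy := mem_center_iff.mp ((hZ₂ _).mp hu.2 y)
      obtain ⟨c, hc⟩ : ∃ c, c = ⁅(u : Q), x⁆ := ⟨_, rfl⟩
      obtain ⟨e, he⟩ : ∃ e, e = ⁅(u : Q), y⁆ := ⟨_, rfl⟩
      rw [← hc] at hx; rw [← he] at hy
      have cx : Commute c x := (hx x).symm
      have cy : Commute c y := (hx y).symm
      have ex : Commute e x := (hy x).symm
      have ey : Commute e y := (hy y).symm
      have ce : Commute c e := (hx e).symm
      have h1 : MulAut.conj (u : Q) x = c * x := by
        rw [hc, commutatorElement_def, MulAut.conj_apply]; group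
      have h2 : MulAut.conj (u : Q) y = e * y := by
        rw [he, commutatorElement_def, MulAut.conj_apply]; group
      have h3 : MulAut.conj (u : Q) ⁅x, y⁆ = ⁅x, y⁆ := by
        rw [map_commutatorElement, h1, h2, commutatorElement_def, commutatorElement_def]
        have a1 : c * x * (e * y) = (c * e) * (x * y) := by
          calc c * x * (e * y) = c * (x * e) * y := by group
            _ = c * (e * x) * y := by rw [ex.eq]
            _ = _ := by group
        have a2 : e * y * (c * x) = (c * e) * (y * x) := by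
          calc e * y * (c * x) = e * (y * c) * x := by group
            _ = e * (c * y) * x := by rw [cy.eq]
            _ = (e * c) * (y * x) := by group
            _ = _ := by rw [ce.eq]
        calc c * x * (e * y) * (c * x)⁻¹ * (e * y)⁻¹ = (c * x * (e * y)) * (e * y * (c * x))⁻¹ := by group
          _ = (c * e) * (x * y) * ((c * e) * (y * x))⁻¹ := by rw [a1, a2]
          _ = (c * e) * (x * y * (y * x)⁻¹) * (c * e)⁻¹ := by group
          _ = (x * y * (y * x)⁻¹) * (c * e) * (c * e)⁻¹ := by
              have h : Commute (c * e) (x * y * (y * x)⁻¹) :=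
                ((cx.mul_right cy).mul_right (cy.mul_right cx).inv_right).mul_left
                  ((ex.mul_right ey).mul_right (ey.mul_right ex).inv_right)
              rw [h.eq]
          _ = _ := by group
      rw [MulAut.conj_apply] at h3
      exact (mul_inv_eq_iff_eq_mul.mp h3).symm
    exact (mem_centralizer_singleton_iff.mp (hle hv.1)).symm
  -- `A` is not central
  obtain ⟨b, hbA, hbc⟩ : ∃ b ∈ A, b ∉ center Q := by
    push Not at hc
    obtain ⟨x, y, hxy⟩ := hc
    haveI : (commutator Q).Normal := inferInstance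
    haveI hN : ((commutator Q).map (QuotientGroup.mk' (center Q))).Normal :=
      Subgroup.Normal.map inferInstance _ (QuotientGroup.mk'_surjective _)
    have hne : (commutator Q).map (QuotientGroup.mk' (center Q)) ≠ ⊥ := by
      intro e
      have : QuotientGroup.mk' (center Q) ⁅x, y⁆ ∈ (commutator Q).map (QuotientGroup.mk' (center Q)) :=
        mem_map_of_mem _ (by rw [commutator_def]; exact commutator_mem_commutator (mem_top x) (mem_top y))
      rw [e, mem_bot, QuotientGroup.mk'_apply, QuotientGroup.eq_one_iff] at this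
      exact hxy this
    obtain ⟨q, ⟨b, hb, hbq⟩, hqc, hqo⟩ :=
      Cfsg.Lib.PGroups.exists_mem_center_of_normal_ne_bot (p := 2) (hP.to_quotient _) hne
    refine ⟨b, ?_, fun hbc => ?_⟩
    · rw [hA]
      refine Subgroup.mem_inf.mpr ⟨hb, (hZ₂ b).mpr fun w => ?_⟩
      rw [← QuotientGroup.eq_one_iff, ← QuotientGroup.mk'_apply, map_commutatorElement, hbq,
        commutatorElement_eq_one_iff_commute]
      exact (mem_center_iff.mp hqc _).symm
    · rw [← hbq, QuotientGroup.mk'_apply, (QuotientGroup.eq_one_iff b).mpr hbc, orderOf_one] at hqo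
      omega
  haveI := hchar A hAchar hAcomm
  obtain ⟨⟨a, haA⟩, hgen⟩ := IsCyclic.exists_generator (α := A)
  have hmem : ∀ w ∈ A, w = 1 ∨ w = a ∨ w = a * a ∨ w = a * a * a := by
    intro w hw
    obtain ⟨i, hi⟩ := hgen ⟨w, hw⟩
    have hi' : a ^ i = w := by simpa using congrArg Subtype.val hi
    have h4 : a ^ (4 : ℤ) = 1 := by
      rw [show (4 : ℤ) = ((4 : ℕ) : ℤ) from rfl, zpow_natCast]; exact hexp a
    have : a ^ i = a ^ (i % 4) := by
      conv_lhs => rw [← Int.emod_add_mul_ediv i 4]
      rw [_root_.zpow_add, zpow_mul, h4, one_zpow, mul_one]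
    rw [← hi', this]
    rcases (show i % 4 = 0 ∨ i % 4 = 1 ∨ i % 4 = 2 ∨ i % 4 = 3 by omega) with e | e | e | e <;> rw [e]
    · left; exact zpow_zero a
    · right; left; exact zpow_one a
    · right; right; left; rw [zpow_two]
    · right; right; right
      rw [show (3 : ℤ) = 2 + 1 from rfl, _root_.zpow_add, zpow_two, zpow_one]
  have hnorm : ∀ x : Q, x * a * x⁻¹ ∈ A := fun x => by
    haveI := hAchar
    exact (inferInstance : A.Normal).conj_mem a haA x
  have ha2 : a * a ≠ 1 := by
    intro e
    refine hbc (mem_center_iff.mpr fun x => ?_)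
    have hxa : x * a = a * x := by
      rcases eq_or_ne a 1 with h1 | h1
      · simp [h1]
      rcases hmem _ (hnorm x) with h | h | h | h
      · exact absurd (conj_eq_one_iff.mp h) h1
      · exact mul_inv_eq_iff_eq_mul.mp h
      · rw [e] at h; exact absurd (conj_eq_one_iff.mp h) h1
      · rw [e, one_mul] at h; exact mul_inv_eq_iff_eq_mul.mp h
    rcases hmem b hbA with rfl | rfl | rfl | rfl
    · simp
    · exact hxa
    · exact (Commute.mul_right hxa hxa : Commute x (a * a)).eq
    · exact ((Commute.mul_right hxa hxa).mul_right hxa : Commute x (a * a * a)).eq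
  have hconja : ∀ x : Q, x * a * x⁻¹ = a ∨ x * a * x⁻¹ = a * a * a := by
    intro x
    rcases hmem _ (hnorm x) with h | h | h | h
    · exact absurd (conj_eq_one_iff.mp h) (fun e => ha2 (by rw [e, one_mul]))
    · exact Or.inl h
    · refine absurd ?_ ha2
      have := hp4 a
      rw [← h] at this
      have e : x * (a * a) * x⁻¹ = 1 := by rw [← this]; group
      exact conj_eq_one_iff.mp e
    · exact Or.inr h
  have ha4 : a * a * (a * a) = 1 := hp4 a
  have ha2c : ∀ x : Q, x * (a * a) = a * a * x := by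
    intro x
    apply mul_inv_eq_iff_eq_mul.mp
    calc x * (a * a) * x⁻¹ = (x * a * x⁻¹) * (x * a * x⁻¹) := by group
      _ = a * a := by
        rcases hconja x with h | h <;> rw [h]
        calc a * a * a * (a * a * a) = a * a * (a * a) * (a * a) := by group
          _ = a * a := by rw [ha4, one_mul]
  obtain ⟨D, hD⟩ : ∃ D, D = centralizer (A : Set Q) := ⟨_, rfl⟩
  have hDmem : ∀ x, x ∈ D ↔ x * a = a * x := by
    intro x
    rw [hD, mem_centralizer_iff]
    constructor
    · intro h; exact (h a haA).symm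
    · intro h w hw
      rcases hmem w hw with rfl | rfl | rfl | rfl
      · simp
      · exact h.symm
      · exact ((Commute.mul_right h h : Commute x (a * a))).eq.symm
      · exact ((Commute.mul_right h h).mul_right h : Commute x (a * a * a)).eq.symm
  have hDchar : D.Characteristic := characteristic_iff_le_comap.mpr fun φ x hx => by
    rw [mem_comap]
    rw [hD, mem_centralizer_iff] at hx ⊢
    intro w hw
    have hw' : φ.symm w ∈ A := (characteristic_iff_le_comap.mp hAchar) φ.symm hw
    have := congrArg φ (hx _ hw')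
    simpa using this
  obtain ⟨t, ht⟩ : ∃ t, t ∉ D := by
    by_contra hall
    push Not at hall
    refine hbc (mem_center_iff.mpr fun x => ?_)
    have h := hall x
    rw [hD, mem_centralizer_iff] at h
    exact (h b hbA).symm
  have hcard : Nat.card D < n := hn ▸ lt_of_le_of_ne (Subgroup.card_le_card_group D)
    fun e => ht ((Subgroup.card_eq_iff_eq_top D).mp e ▸ mem_top t)
  have hDA : ∀ B : Subgroup D, B.Characteristic → IsMulCommutative B → IsCyclic B := by
    intro B hB hBc
    haveI := hDchar; haveI := hB; haveI := hBc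
    haveI : (B.map D.subtype).Characteristic := by
      refine characteristic_iff_le_comap.mpr fun φ x hx => ?_
      obtain ⟨y, hy, rfl⟩ := hx
      have hyD : φ y ∈ D := (characteristic_iff_le_comap.mp hDchar) φ y.2
      let ψ : D ≃* D :=
        { toFun := fun u => ⟨φ u, (characteristic_iff_le_comap.mp hDchar) φ u.2⟩
          invFun := fun u => ⟨φ.symm u, (characteristic_iff_le_comap.mp hDchar) φ.symm u.2⟩
          left_inv := fun u => Subtype.ext (φ.symm_apply_apply _)
          right_inv := fun u => Subtype.ext (φ.apply_symm_apply _)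
          map_mul' := fun u v => Subtype.ext (map_mul φ _ _) }
      exact ⟨ψ y, (characteristic_iff_le_comap.mp hB) ψ hy, rfl⟩
    haveI : IsMulCommutative (B.map D.subtype) := inferInstance
    haveI := hchar (B.map D.subtype) inferInstance inferInstance
    exact isCyclic_of_surjective _ (B.equivMapOfInjective _ D.subtype_injective).symm.surjective
  obtain ⟨hDsq, hDcom⟩ := ih _ hcard ↥D rfl hDA (fun x => Subtype.ext (hexp x))
  -- the involutions of the centre of `D`
  have haD : a ∈ D := (hDmem a).mpr rfl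
  haveI : IsCyclic (center D) := hDA _ inferInstance inferInstance
  have haDc : (⟨a * a, mul_mem haD haD⟩ : D) ∈ center D :=
    mem_center_iff.mpr fun x => Subtype.ext (ha2c x)
  have huniq : ∀ w : D, w ∈ center D → w * w = 1 → (w : Q) = 1 ∨ (w : Q) = a * a := by
    intro w hw hww
    refine or_iff_not_imp_left.mpr fun hne => ?_
    have h1 : orderOf (⟨w, hw⟩ : center D) = 2 :=
      orderOf_eq_prime (Subtype.ext (by rw [SubmonoidClass.coe_pow, pow_two]; exact hww))
        (fun e => hne (by rw [show w = 1 from congrArg Subtype.val e]; rfl))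
    have h2 : orderOf (⟨_, haDc⟩ : center D) = 2 :=
      orderOf_eq_prime (Subtype.ext (Subtype.ext (by
        simp only [SubmonoidClass.coe_pow, pow_two]; exact ha4)))
        (fun e => ha2 (congrArg (fun v : center D => ((v : D) : Q)) e))
    exact congrArg (fun v : center D => ((v : D) : Q))
      (Cfsg.Lib.Misc.SweepLocal.involution_unique h1 h2)
  -- work modulo `⟨a²⟩`
  haveI hzn : (zpowers (a * a)).Normal := ⟨fun w hw x => by
    obtain ⟨i, rfl⟩ := hw
    have h : Commute x (a * a) := ha2c x
    rw [(h.zpow_right i).eq, mul_inv_cancel_right]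
    exact ⟨i, rfl⟩⟩
  obtain ⟨π, hπs, hπ⟩ : ∃ π : Q →* Q ⧸ zpowers (a * a), Function.Surjective π ∧
      ∀ w, π w = 1 ↔ w ∈ zpowers (a * a) :=
    ⟨QuotientGroup.mk' _, QuotientGroup.mk'_surjective _, fun w => QuotientGroup.eq_one_iff w⟩
  have hDn : D.Normal := by haveI := hDchar; infer_instance
  have hDab : ∀ u ∈ D, ∀ v ∈ D, π u * π v = π v * π u := by
    intro u hu v hv
    obtain ⟨h1, h2⟩ := hDcom ⟨u, hu⟩ ⟨v, hv⟩
    have h3 := huniq _ h1 h2
    apply commutatorElement_eq_one_iff_commute.mp
    rw [← map_commutatorElement, hπ]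
    rcases h3 with h | h
    · rw [show ⁅u, v⁆ = 1 from h]; exact one_mem _
    · rw [show ⁅u, v⁆ = a * a from h]; exact mem_zpowers _
  let M : Subgroup (Q ⧸ zpowers (a * a)) :=
    { carrier := {q | ∃ d ∈ D, q = (π d)⁻¹ * (π t * π d * (π t)⁻¹)}
      one_mem' := ⟨1, one_mem _, by simp⟩
      mul_mem' := by
        rintro _ _ ⟨d, hd, rfl⟩ ⟨d', hd', rfl⟩
        refine ⟨d * d', mul_mem hd hd', ?_⟩
        have hc1 : π t * π d * (π t)⁻¹ * (π d')⁻¹ = (π d')⁻¹ * (π t * π d * (π t)⁻¹) := by
          have := hDab _ (hDn.conj_mem d hd t) _ (inv_mem hd')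
          simpa using this
        have hc2 : π d * π d' = π d' * π d := hDab _ hd _ hd'
        rw [map_mul, hc2]
        calc (π d)⁻¹ * (π t * π d * (π t)⁻¹) * ((π d')⁻¹ * (π t * π d' * (π t)⁻¹))
            = (π d)⁻¹ * (π t * π d * (π t)⁻¹ * (π d')⁻¹) * (π t * π d' * (π t)⁻¹) := by group
          _ = (π d)⁻¹ * ((π d')⁻¹ * (π t * π d * (π t)⁻¹)) * (π t * π d' * (π t)⁻¹) := by rw [hc1]
          _ = (π d' * π d)⁻¹ * (π t * (π d * π d') * (π t)⁻¹) := by group
          _ = _ := by rw [hc2]
      inv_mem' := by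
        rintro _ ⟨d, hd, rfl⟩
        refine ⟨d⁻¹, inv_mem hd, ?_⟩
        have hc1 : π d * (π t * (π d)⁻¹ * (π t)⁻¹) = (π t * (π d)⁻¹ * (π t)⁻¹) * π d := by
          have := hDab _ hd _ (hDn.conj_mem _ (inv_mem hd) t)
          simpa using this
        rw [map_inv, inv_inv, hc1]
        group }
  have hconjM : ∀ q ∈ M, π t * q * (π t)⁻¹ ∈ M := by
    rintro _ ⟨d, hd, rfl⟩
    exact ⟨t * d * t⁻¹, hDn.conj_mem d hd t, by simp only [map_mul, map_inv]; group⟩
  have htd : ∀ d ∈ D, ⁅π t, π d⁆ ∈ M := fun d hd => ⟨d, hd, by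
    have h := hDab _ (hDn.conj_mem d hd t) _ (inv_mem hd)
    simp only [map_mul, map_inv] at h
    rw [commutatorElement_def]
    exact h⟩
  have hdt : ∀ d ∈ D, ⁅π d, π t⁆ ∈ M := fun d hd => by
    rw [← commutatorElement_inv]; exact inv_mem (htd d hd)
  have hdec : ∀ x : Q, x ∈ D ∨ ∃ d ∈ D, x = t * d := by
    intro x
    by_cases hx : x ∈ D
    · exact Or.inl hx
    refine Or.inr ⟨t⁻¹ * x, ?_, by group⟩
    rw [hDmem]
    have h1 : x * a * x⁻¹ = a * a * a := (hconja x).resolve_left fun h => hx ((hDmem x).mpr (mul_inv_eq_iff_eq_mul.mp h))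
    have h2 : t * a * t⁻¹ = a * a * a := (hconja t).resolve_left fun h => ht ((hDmem t).mpr (mul_inv_eq_iff_eq_mul.mp h))
    rw [← h2] at h1
    apply mul_inv_eq_iff_eq_mul.mp
    calc t⁻¹ * x * a * (t⁻¹ * x)⁻¹ = t⁻¹ * (x * a * x⁻¹) * t := by group
      _ = a := by rw [h1]; group
  have hallcom : ∀ x y : Q, ⁅π x, π y⁆ ∈ M := by
    have hdd : ∀ d ∈ D, ∀ e ∈ D, ⁅π d, π e⁆ = 1 := fun d hd e he =>
      commutatorElement_eq_one_iff_commute.mpr (hDab d hd e he)
    intro x y
    rcases hdec x with hx | ⟨d, hd, rfl⟩ <;> rcases hdec y with hy | ⟨e, he, rfl⟩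
    · rw [hdd x hx y hy]; exact one_mem _
    · have e1 : ⁅π x, π (t * e)⁆ = ⁅π x, π t⁆ * (π t * ⁅π x, π e⁆ * (π t)⁻¹) := by
        simp only [map_mul, commutatorElement_def]; group
      rw [e1, hdd x hx e he]
      simpa using hdt x hx
    · have e1 : ⁅π (t * d), π y⁆ = π t * ⁅π d, π y⁆ * (π t)⁻¹ * ⁅π t, π y⁆ := by
        simp only [map_mul, commutatorElement_def]; group
      rw [e1, hdd d hd y hy]
      simpa using htd y hy
    · have e1 : ⁅π (t * d), π (t * e)⁆ =
          π t * (⁅π d, π t⁆ * (π t * ⁅π d, π e⁆ * (π t)⁻¹)) * (π t)⁻¹ *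
            (π t * ⁅π t, π e⁆ * (π t)⁻¹) := by
        simp only [map_mul, commutatorElement_def]; group
      rw [e1, hdd d hd e he]
      refine mul_mem ?_ (hconjM _ (htd e he))
      simpa using hconjM _ (hdt d hd)
  have haM : π a ∈ M := by
    have : commutator Q ≤ M.comap π := by
      rw [commutator_def, Subgroup.commutator_le]
      intro x _ y _
      rw [mem_comap, map_commutatorElement]
      exact hallcom x y
    exact this (Subgroup.mem_inf.mp (hA.le haA)).1
  obtain ⟨d, hd, hde⟩ := haM
  obtain ⟨c, hc', hce⟩ : ∃ c, (c = a ∨ c = a * a * a) ∧ t * d * t⁻¹ = d * c := by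
    have h1 : π (a⁻¹ * (d⁻¹ * (t * d * t⁻¹))) = 1 := by
      simp only [map_mul, map_inv]; rw [← hde]; group
    obtain ⟨i, hi⟩ := (hπ _).mp h1
    refine ⟨a * (a * a) ^ i, ?_, ?_⟩
    · have : (a * a) ^ i = 1 ∨ (a * a) ^ i = a * a := by
        have h4 : (a * a) ^ (2 : ℤ) = 1 := by rw [zpow_two]; exact ha4
        rcases Int.even_or_odd' i with ⟨k, e | e⟩
        · left; rw [e, zpow_mul, h4, one_zpow]
        · right; rw [e, _root_.zpow_add, zpow_mul, h4, one_zpow, one_mul, zpow_one]
      rcases this with e | e <;> rw [e]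
      · left; exact mul_one a
      · right; group
    · have hi' : (a * a) ^ i = a⁻¹ * (d⁻¹ * (t * d * t⁻¹)) := hi
      rw [hi']; group
  have hcD : ∀ u ∈ D, Commute u c := by
    intro u hu
    have h : Commute u a := (hDmem u).mp hu
    rcases hc' with rfl | rfl
    · exact h
    · exact (h.mul_right h).mul_right h
  have hc2 : c * c = a * a := by
    rcases hc' with rfl | rfl
    · rfl
    · calc a * a * a * (a * a * a) = a * a * (a * a) * (a * a) := by group
        _ = _ := by rw [ha4, one_mul]
  have htt : t * t ∈ D := by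
    rw [hDmem]
    have h2 : t * a * t⁻¹ = a * a * a := (hconja t).resolve_left fun h => ht ((hDmem t).mpr (mul_inv_eq_iff_eq_mul.mp h))
    apply mul_inv_eq_iff_eq_mul.mp
    calc t * t * a * (t * t)⁻¹ = t * (t * a * t⁻¹) * t⁻¹ := by group
      _ = t * (a * a * a) * t⁻¹ := by rw [h2]
      _ = (t * a * t⁻¹) * (t * a * t⁻¹) * (t * a * t⁻¹) := by group
      _ = a * a * (a * a) * (a * a) * (a * a) * a := by rw [h2]; group
      _ = a := by rw [ha4, one_mul, ha4, one_mul]
  have hdd : Commute (t * t) (d * d) := by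
    have := mem_center_iff.mp (hDsq ⟨d, hd⟩).1 ⟨t * t, htt⟩
    exact congrArg Subtype.val this
  have key : d * t * (d * t) = d * d * c * (t * t) := by
    calc d * t * (d * t) = d * (t * d * t⁻¹) * (t * t) := by group
      _ = _ := by rw [hce]; group
  have hfin := hp4 (d * t)
  rw [key] at hfin
  have e1 : (d * d * c * (t * t)) * (d * d * c * (t * t)) = (d * d * (d * d)) * (c * c) * (t * t * (t * t)) := by
    calc (d * d * c * (t * t)) * (d * d * c * (t * t))
        = d * d * c * (t * t * (d * d)) * c * (t * t) := by group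
      _ = d * d * c * (d * d * (t * t)) * c * (t * t) := by rw [hdd.eq]
      _ = d * d * (c * (d * d)) * (t * t * c) * (t * t) := by group
      _ = d * d * (d * d * c) * (c * (t * t)) * (t * t) := by
          rw [((hcD _ (mul_mem hd hd))).eq, (hcD _ htt).eq]
      _ = _ := by group
  rw [e1, hp4, hp4, hc2] at hfin
  exact ha2 (by simpa using hfin)

/-! ### the configuration -/

variable {G : Type*} [Group G]

/-- `Q` is the self-centralizing normal subgroup of symplectic type and exponent four in `C(z)`. -/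
structure Good (z : G) (Q : Subgroup G) : Prop where
  zz : z * z = 1
  ne : z ≠ 1
  mem : z ∈ Q
  comm : ∀ q ∈ Q, q * z = z * q
  norm : ∀ c, c * z = z * c → ∀ q ∈ Q, c * q * c⁻¹ ∈ Q
  cent : ∀ c, c * z = z * c → (∀ q ∈ Q, c * q = q * c) → c ∈ Q
  sq : ∀ q ∈ Q, q * q = 1 ∨ q * q = z
  comu : ∀ a ∈ Q, ∀ b ∈ Q, a * b * a⁻¹ * b⁻¹ = 1 ∨ a * b * a⁻¹ * b⁻¹ = z
  uniq : ∀ q ∈ Q, q * q = 1 → (∀ b ∈ Q, q * b = b * q) → q = 1 ∨ q = z

theorem Good.inv_z {z : G} {Q : Subgroup G} (h : Good z Q) : z⁻¹ = z :=
  inv_eq_of_mul_eq_one_right h.zz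

theorem Good.conj {z : G} {Q : Subgroup G} (h : Good z Q) (g : G) :
    Good (g * z * g⁻¹) (Q.map (MulAut.conj g).toMonoidHom) where
  zz := by rw [show g * z * g⁻¹ * (g * z * g⁻¹) = g * (z * z) * g⁻¹ by group, h.zz]; group
  ne := fun e => h.ne (conj_eq_one_iff.mp e)
  mem := ⟨z, h.mem, rfl⟩
  comm := by
    rintro _ ⟨q, hq, rfl⟩
    show g * q * g⁻¹ * (g * z * g⁻¹) = g * z * g⁻¹ * (g * q * g⁻¹)
    rw [show g * q * g⁻¹ * (g * z * g⁻¹) = g * (q * z) * g⁻¹ by group, h.comm q hq]; group
  norm := by
    rintro c hc _ ⟨q, hq, rfl⟩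
    have h1 : g⁻¹ * c * g * z = z * (g⁻¹ * c * g) := by
      calc g⁻¹ * c * g * z = g⁻¹ * (c * (g * z * g⁻¹)) * g := by group
        _ = _ := by rw [hc]; group
    exact ⟨_, h.norm _ h1 q hq, by show g * _ * g⁻¹ = c * (g * q * g⁻¹) * c⁻¹; group⟩
  cent := by
    intro c hc hq
    have h1 : g⁻¹ * c * g * z = z * (g⁻¹ * c * g) := by
      calc g⁻¹ * c * g * z = g⁻¹ * (c * (g * z * g⁻¹)) * g := by group
        _ = _ := by rw [hc]; group
    refine ⟨_, h.cent _ h1 fun q hqm => ?_, by show g * (g⁻¹ * c * g) * g⁻¹ = c; group⟩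
    have h2 : c * (g * q * g⁻¹) = g * q * g⁻¹ * c := hq _ ⟨q, hqm, rfl⟩
    calc g⁻¹ * c * g * q = g⁻¹ * (c * (g * q * g⁻¹)) * g := by group
      _ = _ := by rw [h2]; group
  sq := by
    rintro _ ⟨q, hq, rfl⟩
    show g * q * g⁻¹ * (g * q * g⁻¹) = 1 ∨ g * q * g⁻¹ * (g * q * g⁻¹) = g * z * g⁻¹
    rw [show g * q * g⁻¹ * (g * q * g⁻¹) = g * (q * q) * g⁻¹ by group]
    rcases h.sq q hq with e | e <;> rw [e]
    · left; group
    · right; rfl
  comu := by
    rintro _ ⟨a, ha, rfl⟩ _ ⟨b, hb, rfl⟩
    show g * a * g⁻¹ * (g * b * g⁻¹) * (g * a * g⁻¹)⁻¹ * (g * b * g⁻¹)⁻¹ = 1 ∨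
      g * a * g⁻¹ * (g * b * g⁻¹) * (g * a * g⁻¹)⁻¹ * (g * b * g⁻¹)⁻¹ = g * z * g⁻¹
    rw [show g * a * g⁻¹ * (g * b * g⁻¹) * (g * a * g⁻¹)⁻¹ * (g * b * g⁻¹)⁻¹ =
      g * (a * b * a⁻¹ * b⁻¹) * g⁻¹ by group]
    rcases h.comu a ha b hb with e | e <;> rw [e]
    · left; group
    · right; rfl
  uniq := by
    rintro _ ⟨q, hq, rfl⟩ h1 h2
    show g * q * g⁻¹ = 1 ∨ g * q * g⁻¹ = g * z * g⁻¹
    have h1' : q * q = 1 := by
      have : g * (q * q) * g⁻¹ = 1 := by rw [← h1]; show _ = g * q * g⁻¹ * (g * q * g⁻¹); group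
      exact conj_eq_one_iff.mp this
    rcases h.uniq q hq h1' (fun b hb => by
      have e : g * q * g⁻¹ * (g * b * g⁻¹) = g * b * g⁻¹ * (g * q * g⁻¹) := h2 _ ⟨b, hb, rfl⟩
      calc q * b = g⁻¹ * (g * q * g⁻¹ * (g * b * g⁻¹)) * g := by group
        _ = _ := by rw [e]; group) with e | e <;> rw [e]
    · left; group
    · right; rfl

/-- The group `Q` only depends on the involution. -/
theorem Good.dep {z : G} {Q : Subgroup G} (h : Good z Q) {a b : G} (e : a * z * a⁻¹ = b * z * b⁻¹) :
    Q.map (MulAut.conj a).toMonoidHom ≤ Q.map (MulAut.conj b).toMonoidHom := by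
  rintro _ ⟨q, hq, rfl⟩
  have h1 : b⁻¹ * a * z = z * (b⁻¹ * a) := by
    calc b⁻¹ * a * z = b⁻¹ * (a * z * a⁻¹) * a := by group
      _ = _ := by rw [e]; group
  exact ⟨_, h.norm _ h1 q hq, by show b * _ * b⁻¹ = a * q * a⁻¹; group⟩

/-- In `Q`, a non-central involution is moved to its product with `z`. -/
theorem Good.mover {z : G} {Q : Subgroup G} (h : Good z Q) {w : G} (hw : w ∈ Q) (hw2 : w * w = 1)
    (hw1 : w ≠ 1) (hwz : w ≠ z) : ∃ x ∈ Q, x * w * x⁻¹ = z * w := by
  by_contra hall
  push Not at hall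
  refine (h.uniq w hw hw2 fun b hb => ?_).elim hw1 hwz
  rcases h.comu b hb w hw with e | e
  · exact (mul_inv_eq_iff_eq_mul.mp (mul_inv_eq_one.mp e)).symm
  · exact absurd (mul_inv_eq_iff_eq_mul.mp e) (hall b hb)

set_option maxHeartbeats 2000000 in
theorem Good.mem_conjugate {z : G} {Q : Subgroup G} (h : Good z Q) {g w : G} (hw : w = g * z * g⁻¹)
    (hwQ : w ∈ Q) (hne : w ≠ z) : z ∈ Q.map (MulAut.conj g).toMonoidHom := by
  obtain ⟨R, hR⟩ : ∃ R, R = Q.map (MulAut.conj g).toMonoidHom := ⟨_, rfl⟩
  have h' : Good w R := by rw [hR, hw]; exact h.conj g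
  rw [← hR]
  by_contra hzR
  have hzw : z * w = w * z := (h.comm w hwQ).symm
  have hwz : w * z = z * w := hzw.symm
  obtain ⟨x, hx, hxw⟩ := h.mover hwQ h'.zz h'.ne hne
  -- every `q` in `Q` is in `C(w)` or in `x C(w)`
  have hdec : ∀ q ∈ Q, q * w = w * q ∨ (x⁻¹ * q) * w = w * (x⁻¹ * q) := by
    intro q hq
    rcases h.comu q hq w hwQ with e | e
    · exact Or.inl (mul_inv_eq_iff_eq_mul.mp (mul_inv_eq_one.mp e))
    · right
      have e' : q * w * q⁻¹ = x * w * x⁻¹ := by rw [hxw]; exact mul_inv_eq_iff_eq_mul.mp e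
      calc x⁻¹ * q * w = x⁻¹ * (q * w * q⁻¹) * q := by group
        _ = _ := by rw [e']; group
  -- no element of `R` moves `z` to `z * w`
  have hconj : ∀ y ∈ R, y * z * y⁻¹ ≠ z * w := by
    intro y hy hyz
    have h1 : Q.map (MulAut.conj y).toMonoidHom ≤ Q.map (MulAut.conj (x * g)).toMonoidHom :=
      h.dep (by rw [hyz, show x * g * z * (x * g)⁻¹ = x * (g * z * g⁻¹) * x⁻¹ by group, ← hw, hxw])
    obtain ⟨q, hq, e⟩ := h1 ⟨w, hwQ, rfl⟩
    have e' : x * g * q * (x * g)⁻¹ = y * w * y⁻¹ := e
    rw [h'.comm y hy, mul_inv_cancel_right] at e'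
    have h2 : x⁻¹ * w * x ∈ R := by
      rw [hR]
      exact ⟨q, hq, by show g * q * g⁻¹ = _; rw [← e']; group⟩
    have h3 : x⁻¹ * w * x = z⁻¹ * w := by
      have hxz : x * z = z * x := h.comm x hx
      have hxz' : x * z⁻¹ = z⁻¹ * x := by rw [h.inv_z]; exact hxz
      calc x⁻¹ * w * x = x⁻¹ * (z⁻¹ * (z * w)) * x := by group
        _ = x⁻¹ * (z⁻¹ * (x * w * x⁻¹)) * x := by rw [hxw]
        _ = x⁻¹ * (z⁻¹ * x) * w := by group
        _ = _ := by rw [← hxz']; group
    rw [h3, h.inv_z] at h2
    exact hzR (by simpa using mul_mem h2 (inv_mem h'.mem))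
  -- commutators with `z`
  have hv : ∀ y ∈ R, ∀ v, v = y * z * y⁻¹ * z → v ∈ R ∧ v * v = 1 ∧ v * z = z * v := by
    intro y hy v hve
    have hvR : v ∈ R := by
      have : y * (z * y⁻¹ * z⁻¹) ∈ R := mul_mem hy (h'.norm z hzw _ (inv_mem hy))
      rwa [h.inv_z, show y * (z * y⁻¹ * z) = y * z * y⁻¹ * z by group, ← hve] at this
    have hvi : z * v * z = v⁻¹ := by
      rw [hve]
      calc z * (y * z * y⁻¹ * z) * z = z * y * z * y⁻¹ * (z * z) := by group
        _ = z⁻¹ * y * z⁻¹ * y⁻¹ := by rw [h.zz, mul_one, h.inv_z]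
        _ = _ := by group
    rcases h'.sq v hvR with e | e
    · refine ⟨hvR, e, ?_⟩
      rw [show v⁻¹ = v from inv_eq_of_mul_eq_one_right e] at hvi
      calc v * z = z * v * z * z := by rw [hvi]
        _ = z * v := by rw [mul_assoc (z * v), h.zz, mul_one]
    · exfalso
      refine hconj v hvR ?_
      have hvw : v * v * z = z * w := by rw [e]; exact hzw.symm
      rw [← hvw]
      calc v * z * v⁻¹ = v * z * (z * v * z) := by rw [hvi]
        _ = v * (z * z) * v * z := by group
        _ = _ := by rw [h.zz, mul_one]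
  have hv1 : ∀ y ∈ R, (y * z * y⁻¹ * z = 1 ∨ y * z * y⁻¹ * z = w) → y * z = z * y := by
    rintro y hy (e | e)
    · have : y * z * y⁻¹ = z := by rw [mul_eq_one_iff_eq_inv.mp e, h.inv_z]
      exact mul_inv_eq_iff_eq_mul.mp this
    · refine absurd ?_ (hconj y hy)
      calc y * z * y⁻¹ = y * z * y⁻¹ * z * z := by rw [mul_assoc (y * z * y⁻¹), h.zz, mul_one]
        _ = _ := by rw [e]; exact hzw.symm
  -- the centralizer of `C_R(z)` in `R` centralizes `z`
  have hRc : ∀ r ∈ R, (∀ u ∈ R, u * z = z * u → r * u = u * r) → r * z = z * r := by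
    intro r hr hru
    obtain ⟨v, hve⟩ : ∃ v, v = r * z * r⁻¹ * z := ⟨_, rfl⟩
    obtain ⟨hvR, hv2, hvz⟩ := hv r hr v hve
    refine hv1 r hr ?_
    rw [← hve]
    refine h'.uniq v hvR hv2 fun y hy => ?_
    obtain ⟨u, hue⟩ : ∃ u, u = y * z * y⁻¹ * z := ⟨_, rfl⟩
    obtain ⟨huR, hu2, huz⟩ := hv y hy u hue
    have hru' : r * u = u * r := hru u huR huz
    -- the commutator of `r` and `y` is fixed by `z`
    obtain ⟨c, hce⟩ : ∃ c, c = r * y * r⁻¹ * y⁻¹ := ⟨_, rfl⟩
    have hc := h'.comu r hr y hy
    rw [← hce] at hc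
    have hcz : ∀ s, (s = z ∨ s ∈ R) → s * c = c * s := by
      rintro s (rfl | hs) <;> rcases hc with e | e <;> rw [e]
      · simp
      · exact hzw
      · simp
      · exact h'.comm s hs
    have hzr : z * r * z = v⁻¹ * r := by
      rw [hve]
      calc z * r * z = z⁻¹ * r * z⁻¹ := by rw [h.inv_z]
        _ = _ := by group
    have hzy : z * y * z = u⁻¹ * y := by
      rw [hue]
      calc z * y * z = z⁻¹ * y * z⁻¹ := by rw [h.inv_z]
        _ = _ := by group
    have huy : u⁻¹ = u := inv_eq_of_mul_eq_one_right hu2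
    have hvy : v⁻¹ = v := inv_eq_of_mul_eq_one_right hv2
    rw [huy] at hzy
    rw [hvy] at hzr
    have hry : r * y = c * (y * r) := by rw [hce]; group
    have h1 : v * r * y = c * (y * (v * r)) := by
      have e1 : z * (r * (z * y * z)) * z = z * (c * ((z * y * z) * r)) * z := by
        have : r * (u * y) = c * ((u * y) * r) := by
          calc r * (u * y) = u * (r * y) := by rw [← mul_assoc, hru', mul_assoc]
            _ = (u * c) * (y * r) := by rw [hry]; group
            _ = _ := by rw [hcz u (Or.inr huR)]; group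
        rw [hzy, this]
      calc v * r * y = z * (r * (z * y * z)) * z := by
            rw [← hzr]
            calc z * r * z * y = z * r * z * y * (z * z) := by rw [h.zz, mul_one]
              _ = _ := by group
        _ = z * (c * ((z * y * z) * r)) * z := e1
        _ = (z * c) * z * y * (z * r * z) := by group
        _ = (c * z) * z * y * (v * r) := by rw [hcz z (Or.inl rfl), hzr]
        _ = c * (z * z) * (y * (v * r)) := by group
        _ = _ := by rw [h.zz, mul_one]
    calc v * y = c⁻¹ * (c * v * (y * r)) * r⁻¹ := by group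
      _ = c⁻¹ * (v * c * (y * r)) * r⁻¹ := by rw [hcz v (Or.inr hvR)]
      _ = c⁻¹ * (v * (r * y)) * r⁻¹ := by rw [hry]; group
      _ = c⁻¹ * (v * r * y) * r⁻¹ := by group
      _ = y * v := by rw [h1]; group
  -- the intersection
  have hE : ∀ e ∈ Q, e ∈ R → e = 1 ∨ e = w := by
    intro e heQ heR
    have he2 : e * e = 1 := by
      rcases h.sq e heQ with e1 | e1
      · exact e1
      · exact absurd (e1 ▸ mul_mem heR heR) hzR
    have hew : e * w = w * e := h'.comm e heR
    have heD : ∀ q ∈ Q, q * w = w * q → e * q = q * e := by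
      intro q hq hqw
      have hmem : e * q * e⁻¹ * q⁻¹ ∈ R := by
        rw [show e * q * e⁻¹ * q⁻¹ = e * (q * e⁻¹ * q⁻¹) by group]
        exact mul_mem heR (h'.norm q hqw _ (inv_mem heR))
      rcases h.comu e heQ q hq with e1 | e1
      · exact mul_inv_eq_iff_eq_mul.mp (mul_inv_eq_one.mp e1)
      · exact absurd (e1 ▸ hmem) hzR
    by_cases hex : e * x = x * e
    · have hcen : ∀ q ∈ Q, e * q = q * e := by
        intro q hq
        rcases hdec q hq with hq' | hq'
        · exact heD q hq hq'
        · have := heD _ (mul_mem (inv_mem hx) hq) hq'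
          calc e * q = (e * x) * (x⁻¹ * q) := by group
            _ = x * (e * (x⁻¹ * q)) := by rw [hex]; group
            _ = x * (x⁻¹ * q * e) := by rw [this]
            _ = _ := by group
      rcases h.uniq e heQ he2 hcen with e1 | e1
      · exact Or.inl e1
      · exact absurd (e1 ▸ heR) hzR
    · have hxe : x * e * x⁻¹ = z * e := by
        rcases h.comu x hx e heQ with e1 | e1
        · exact absurd (mul_inv_eq_iff_eq_mul.mp (mul_inv_eq_one.mp e1)).symm hex
        · exact mul_inv_eq_iff_eq_mul.mp e1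
      have hew2 : e * w * (e * w) = 1 := by
        calc e * w * (e * w) = e * (w * e) * w := by group
          _ = e * e * (w * w) := by rw [← hew]; group
          _ = 1 := by rw [he2, h'.zz, mul_one]
      have hcx : (e * w) * x = x * (e * w) := by
        symm
        apply mul_inv_eq_iff_eq_mul.mp
        calc x * (e * w) * x⁻¹ = (x * e * x⁻¹) * (x * w * x⁻¹) := by group
          _ = z * (e * z) * w := by rw [hxe, hxw]; group
          _ = z * (z * e) * w := by rw [h.comm e heQ]
          _ = z * z * (e * w) := by group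
          _ = e * w := by rw [h.zz, one_mul]
      have hcen : ∀ q ∈ Q, (e * w) * q = q * (e * w) := by
        intro q hq
        have hD : ∀ q ∈ Q, q * w = w * q → (e * w) * q = q * (e * w) := fun q hq hqw =>
          ((show Commute e q from heD q hq hqw).mul_left (show Commute w q from hqw.symm)).eq
        rcases hdec q hq with hq' | hq'
        · exact hD q hq hq'
        · have := hD _ (mul_mem (inv_mem hx) hq) hq'
          calc (e * w) * q = ((e * w) * x) * (x⁻¹ * q) := by group
            _ = x * ((e * w) * (x⁻¹ * q)) := by rw [hcx]; group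
            _ = x * (x⁻¹ * q * (e * w)) := by rw [this]
            _ = _ := by group
      rcases h.uniq _ (mul_mem heQ hwQ) hew2 hcen with e1 | e1
      · right; rw [mul_eq_one_iff_eq_inv.mp e1, h'.inv_z]
      · exact absurd (e1 ▸ mul_mem heR h'.mem) hzR
  -- everything in `R` commutes with `z`
  have hall : ∀ y ∈ R, y * z = z * y := by
    by_cases hd : ∃ d ∈ Q, d * w = w * d ∧ d * d = z
    · obtain ⟨d, hdQ, hdw, hdz⟩ := hd
      intro y hy
      have hzd : z * d = d * z := (h.comm d hdQ).symm
      obtain ⟨m, hme⟩ : ∃ m, m = d * y * d⁻¹ * y⁻¹ := ⟨_, rfl⟩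
      have hmR : m ∈ R := by rw [hme]; exact mul_mem (h'.norm d hdw y hy) (inv_mem hy)
      have hmu : ∀ u ∈ R, u * z = z * u → m * u = u * m := by
        intro u hu huz
        obtain ⟨c, hce⟩ : ∃ c, c = u⁻¹ * (d * u * d⁻¹) := ⟨_, rfl⟩
        have hcR : c ∈ R := by rw [hce]; exact mul_mem (inv_mem hu) (h'.norm d hdw u hu)
        have huzi : u⁻¹ * z = z * u⁻¹ := (Commute.inv_left huz).eq
        have hcQ : c ∈ Q := by
          rw [hce, show u⁻¹ * (d * u * d⁻¹) = u⁻¹ * d * (u⁻¹)⁻¹ * d⁻¹ by group]
          exact mul_mem (h.norm u⁻¹ huzi d hdQ) (inv_mem hdQ)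
        have hcc : ∀ s ∈ R, c * s = s * c := by
          intro s hs
          rcases hE c hcQ hcR with e | e <;> rw [e]
          · simp
          · exact (h'.comm s hs).symm
        obtain ⟨k, hke⟩ : ∃ k, k = y * u * y⁻¹ * u⁻¹ := ⟨_, rfl⟩
        have hk := h'.comu y hy u hu
        rw [← hke] at hk
        have hks : ∀ s, (s = d ∨ s ∈ R) → s * k = k * s := by
          rintro s (rfl | hs) <;> rcases hk with e | e <;> rw [e]
          · simp
          · exact hdw
          · simp
          · exact h'.comm s hs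
        have hyu : y * u = k * (u * y) := by rw [hke]; group
        have h1 : (m * y) * (u * c) = k * ((u * c) * (m * y)) := by
          have e1 : m * y = d * y * d⁻¹ := by rw [hme]; group
          have e2 : u * c = d * u * d⁻¹ := by rw [hce]; group
          rw [e1, e2]
          calc d * y * d⁻¹ * (d * u * d⁻¹) = d * (y * u) * d⁻¹ := by group
            _ = (d * k) * (u * y) * d⁻¹ := by rw [hyu]; group
            _ = _ := by rw [hks d (Or.inl rfl)]; group
        have h2 : m * (k * (u * y)) = k * (u * (m * y)) := by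
          have : m * y * (u * c) = k * (u * (m * y)) * c := by
            rw [h1]
            calc k * (u * c * (m * y)) = k * u * (c * (m * y)) := by group
              _ = _ := by rw [hcc _ (mul_mem hmR hy)]; group
          rw [← hyu]
          calc m * (y * u) = (m * y * (u * c)) * c⁻¹ := by group
            _ = _ := by rw [this]; group
        calc m * u = k⁻¹ * ((k * m) * (u * y)) * y⁻¹ := by group
          _ = k⁻¹ * (m * (k * (u * y))) * y⁻¹ := by rw [← hks m (Or.inr hmR)]; group
          _ = u * m := by rw [h2]; group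
      have hmz : m * z = z * m := hRc m hmR hmu
      obtain ⟨c, hce⟩ : ∃ c, c = m⁻¹ * (d * m * d⁻¹) := ⟨_, rfl⟩
      have hcR : c ∈ R := by rw [hce]; exact mul_mem (inv_mem hmR) (h'.norm d hdw m hmR)
      have hcQ : c ∈ Q := by
        rw [hce, show m⁻¹ * (d * m * d⁻¹) = m⁻¹ * d * (m⁻¹)⁻¹ * d⁻¹ by group]
        exact mul_mem (h.norm m⁻¹ (Commute.inv_left hmz).eq d hdQ) (inv_mem hdQ)
      have hzy : z * y * z⁻¹ = (m * c * m) * y := by
        rw [← hdz]
        calc d * d * y * (d * d)⁻¹ = d * (d * y * d⁻¹ * y⁻¹) * d⁻¹ * (d * y * d⁻¹ * y⁻¹) * y := by group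
          _ = _ := by rw [← hme, hce]; group
      have hmcm : m * c * m = 1 ∨ m * c * m = w := by
        have hcm : m * c = c * m := by
          rcases hE c hcQ hcR with e | e <;> rw [e]
          · simp
          · exact h'.comm m hmR
        rw [hcm, mul_assoc]
        rcases hE c hcQ hcR with e | e <;> rcases h'.sq m hmR with e' | e' <;> rw [e, e']
        · left; simp
        · right; simp
        · right; simp
        · left; exact h'.zz
      apply hv1 y hy
      have e : y * z * y⁻¹ * z = (m * c * m)⁻¹ := by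
        have e' : m * c * m = z * y * z⁻¹ * y⁻¹ := by rw [hzy]; group
        rw [e']
        calc y * z * y⁻¹ * z = y * z * y⁻¹ * z⁻¹ := by rw [h.inv_z]
          _ = _ := by group
      rw [e]
      rcases hmcm with e' | e' <;> rw [e']
      · left; exact inv_one
      · right; exact h'.inv_z
    · push Not at hd
      have hd1 : ∀ d ∈ Q, d * w = w * d → d * d = 1 := fun d hdQ hdw =>
        (h.sq d hdQ).resolve_right (hd d hdQ hdw)
      have hD : ∀ d ∈ Q, d * w = w * d → d = 1 ∨ d = z ∨ d = w ∨ d = z * w := by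
        intro d hdQ hdw
        have hab : ∀ q ∈ Q, q * w = w * q → d * q = q * d := by
          intro q hq hqw
          have h1 := hd1 _ (mul_mem hdQ hq) ((show Commute d w from hdw).mul_left hqw).eq
          calc d * q = d * q * ((q * d) * (q * d))  := by
                rw [hd1 _ (mul_mem hq hdQ) ((show Commute q w from hqw).mul_left hdw).eq, mul_one]
            _ = (d * (q * q) * d) * (q * d) := by group
            _ = q * d := by rw [hd1 q hq hqw, mul_one, hd1 d hdQ hdw, one_mul]
        by_cases hdx : d * x = x * d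
        · have hcen : ∀ q ∈ Q, d * q = q * d := by
            intro q hq
            rcases hdec q hq with hq' | hq'
            · exact hab q hq hq'
            · have := hab _ (mul_mem (inv_mem hx) hq) hq'
              calc d * q = (d * x) * (x⁻¹ * q) := by group
                _ = x * (d * (x⁻¹ * q)) := by rw [hdx]; group
                _ = x * (x⁻¹ * q * d) := by rw [this]
                _ = _ := by group
          rcases h.uniq d hdQ (hd1 d hdQ hdw) hcen with e | e
          · exact Or.inl e
          · exact Or.inr (Or.inl e)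
        · have hxd : x * d * x⁻¹ = z * d := by
            rcases h.comu x hx d hdQ with e1 | e1
            · exact absurd (mul_inv_eq_iff_eq_mul.mp (mul_inv_eq_one.mp e1)).symm hdx
            · exact mul_inv_eq_iff_eq_mul.mp e1
          have hcx : (d * w) * x = x * (d * w) := by
            symm
            apply mul_inv_eq_iff_eq_mul.mp
            calc x * (d * w) * x⁻¹ = (x * d * x⁻¹) * (x * w * x⁻¹) := by group
              _ = z * (d * z) * w := by rw [hxd, hxw]; group
              _ = z * (z * d) * w := by rw [h.comm d hdQ]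
              _ = z * z * (d * w) := by group
              _ = d * w := by rw [h.zz, one_mul]
          have hcen : ∀ q ∈ Q, (d * w) * q = q * (d * w) := by
            intro q hq
            have hD' : ∀ q ∈ Q, q * w = w * q → (d * w) * q = q * (d * w) := fun q hq hqw =>
              ((show Commute d q from hab q hq hqw).mul_left (show Commute w q from hqw.symm)).eq
            rcases hdec q hq with hq' | hq'
            · exact hD' q hq hq'
            · have := hD' _ (mul_mem (inv_mem hx) hq) hq'
              calc (d * w) * q = ((d * w) * x) * (x⁻¹ * q) := by group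
                _ = x * ((d * w) * (x⁻¹ * q)) := by rw [hcx]; group
                _ = x * (x⁻¹ * q * (d * w)) := by rw [this]
                _ = _ := by group
          have hdw2 : d * w * (d * w) = 1 := hd1 _ (mul_mem hdQ hwQ) ((show Commute d w from hdw).mul_left rfl).eq
          rcases h.uniq _ (mul_mem hdQ hwQ) hdw2 hcen with e | e
          · right; right; left; rw [mul_eq_one_iff_eq_inv.mp e, h'.inv_z]
          · right; right; right
            calc d = d * w * w := by rw [mul_assoc, h'.zz, mul_one]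
              _ = _ := by rw [e]
      intro y hy
      obtain ⟨u, hue⟩ : ∃ u, u = y * z * y⁻¹ * z := ⟨_, rfl⟩
      obtain ⟨huR, hu2, huz⟩ := hv y hy u hue
      have huw : u * w = w * u := h'.comm u huR
      have huD : ∀ q ∈ Q, q * w = w * q → u * q = q * u := by
        intro q hq hqw
        rcases hD q hq hqw with e | e | e | e <;> rw [e]
        · simp
        · exact huz
        · exact huw
        · exact ((show Commute u z from huz).mul_right huw).eq
      apply hv1 y hy
      rw [← hue]
      obtain ⟨d, hde⟩ : ∃ d, d = x⁻¹ * (u * x * u⁻¹) := ⟨_, rfl⟩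
      have hdQ : d ∈ Q := by rw [hde]; exact mul_mem (inv_mem hx) (h.norm u huz x hx)
      have hux : u * x * u⁻¹ = x * d := by rw [hde]; group
      have hdw : d * w = w * d := by
        have h1 : (x * d) * w * (x * d)⁻¹ = z * w := by
          rw [← hux]
          calc u * x * u⁻¹ * w * (u * x * u⁻¹)⁻¹ = u * (x * (u⁻¹ * w * u) * x⁻¹) * u⁻¹ := by group
            _ = u * (x * w * x⁻¹) * u⁻¹ := by rw [mul_assoc u⁻¹, ← huw]; group
            _ = (u * z) * w * u⁻¹ := by rw [hxw]; group
            _ = z * (u * w) * u⁻¹ := by rw [huz]; group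
            _ = _ := by rw [huw]; group
        calc d * w = x⁻¹ * ((x * d) * w * (x * d)⁻¹) * (x * d) := by group
          _ = x⁻¹ * (x * w * x⁻¹) * (x * d) := by rw [h1, hxw]
          _ = _ := by group
      have hxd : d * x = x * d := by
        have h1 : (x * d) * (x * d) = x * x := by
          rw [← hux]
          calc u * x * u⁻¹ * (u * x * u⁻¹) = u * (x * x) * u⁻¹ := by group
            _ = x * x := by
              rcases h.sq x hx with e | e <;> rw [e]
              · group
              · rw [huz]; group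
        have hd2 := hd1 d hdQ hdw
        calc d * x = x⁻¹ * ((x * d) * (x * d)) * d⁻¹ := by group
          _ = x * d⁻¹ := by rw [h1]; group
          _ = x * d := by rw [inv_eq_of_mul_eq_one_right hd2]
      -- `u` or `u * w` centralizes `Q`
      have hcx : u * x = x * u ∨ (u * w) * x = x * (u * w) := by
        rcases hD d hdQ hdw with e | e | e | e
        · left
          rw [e, mul_one] at hux
          exact mul_inv_eq_iff_eq_mul.mp hux
        · right
          rw [e] at hux
          apply mul_inv_eq_iff_eq_mul.mp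
          have hwx : w * x * w⁻¹ = x * z⁻¹ := by
            calc w * x * w⁻¹ = w * (x * w * x⁻¹)⁻¹ * x := by group
              _ = w * (w⁻¹ * z⁻¹) * x := by rw [hxw]; group
              _ = _ := by rw [mul_inv_cancel_left, h.inv_z, ← h.comm x hx]
          calc u * w * x * (u * w)⁻¹ = u * (w * x * w⁻¹) * u⁻¹ := by group
            _ = (u * x * u⁻¹) * (u * z⁻¹ * u⁻¹) := by rw [hwx]; group
            _ = x * z * z⁻¹ := by rw [hux, (Commute.inv_right huz).eq]; group
            _ = x := by group
        · exfalso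
          rw [e] at hxd
          have : x * w * x⁻¹ = w := by rw [← hxd]; group
          rw [hxw] at this
          exact h.ne (mul_eq_right.mp this)
        · exfalso
          rw [e] at hxd
          have h1 : x * (z * w) * x⁻¹ = z * w := by rw [← hxd]; group
          have h2 : x * (z * w) * x⁻¹ = z * (z * w) := by
            calc x * (z * w) * x⁻¹ = (x * z) * w * x⁻¹ := by group
              _ = z * (x * w * x⁻¹) := by rw [h.comm x hx]; group
              _ = _ := by rw [hxw]
          rw [h1] at h2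
          exact h.ne (mul_eq_right.mp h2.symm)
      have hcenQ : ∀ s, s * z = z * s → (∀ q ∈ Q, q * w = w * q → s * q = q * s) → s * x = x * s → s ∈ Q := by
        intro s hsz hsD hsx
        refine h.cent s hsz fun q hq => ?_
        rcases hdec q hq with hq' | hq'
        · exact hsD q hq hq'
        · have := hsD _ (mul_mem (inv_mem hx) hq) hq'
          calc s * q = (s * x) * (x⁻¹ * q) := by group
            _ = x * (s * (x⁻¹ * q)) := by rw [hsx]; group
            _ = x * (x⁻¹ * q * s) := by rw [this]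
            _ = _ := by group
      rcases hcx with hx' | hx'
      · exact hE u (hcenQ u huz huD hx') huR
      · have hsz : u * w * z = z * (u * w) := ((show Commute u z from huz).mul_left hwz).eq
        have hsD : ∀ q ∈ Q, q * w = w * q → u * w * q = q * (u * w) := fun q hq hqw =>
          ((show Commute u q from huD q hq hqw).mul_left (show Commute w q from hqw.symm)).eq
        rcases hE (u * w) (hcenQ _ hsz hsD hx') (mul_mem huR h'.mem) with e | e
        · right; rw [mul_eq_one_iff_eq_inv.mp e, h'.inv_z]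
        · left; exact mul_eq_right.mp e
  exact hzR (h'.cent z hzw fun y hy => (hall y hy).symm)

set_option maxHeartbeats 800000 in
theorem Good.transitive {z : G} {Q : Subgroup G} (h : Good z Q) {g w : G} (hw : w = g * z * g⁻¹)
    (hwQ : w ∈ Q) (hne : w ≠ z) :
    ∀ u ∈ closure ({z, w} : Set G), ∀ v ∈ closure ({z, w} : Set G), u ≠ 1 → v ≠ 1 → u ≠ v →
      ∃ x ∈ Q ⊔ Q.map (MulAut.conj g).toMonoidHom, x * z * x⁻¹ = u ∧ x * w * x⁻¹ = v := by
  obtain ⟨R, hR⟩ : ∃ R, R = Q.map (MulAut.conj g).toMonoidHom := ⟨_, rfl⟩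
  have h' : Good w R := by rw [hR, hw]; exact h.conj g
  have hzR : z ∈ R := hR ▸ h.mem_conjugate hw hwQ hne
  rw [← hR]
  have hzw : z * w = w * z := (h.comm w hwQ).symm
  obtain ⟨a, ha, haw⟩ := h.mover hwQ h'.zz h'.ne hne
  obtain ⟨b, hb, hbz⟩ := h'.mover hzR h.zz h.ne (Ne.symm hne)
  have haz : a * z * a⁻¹ = z := by rw [h.comm a ha]; group
  have hbw : b * w * b⁻¹ = w := by rw [h'.comm b hb]; group
  rw [← hzw] at hbz
  have hW : ∀ u ∈ closure ({z, w} : Set G), u = 1 ∨ u = z ∨ u = w ∨ u = z * w := by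
    intro u hu
    induction hu using Subgroup.closure_induction with
    | mem x hx => rcases hx with rfl | rfl <;> simp
    | one => simp
    | mul x y _ _ hx hy =>
      have e1 : z * (z * w) = w := by rw [← mul_assoc, h.zz, one_mul]
      have e2 : w * (z * w) = z := by rw [← mul_assoc, ← hzw, mul_assoc, h'.zz, mul_one]
      have e3 : z * w * z = w := by rw [hzw, mul_assoc, h.zz, mul_one]
      have e4 : z * w * w = z := by rw [mul_assoc, h'.zz, mul_one]
      have e5 : z * w * (z * w) = 1 := by rw [← mul_assoc, e3, h'.zz]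
      rcases hx with rfl | rfl | rfl | rfl <;> rcases hy with rfl | rfl | rfl | rfl <;>
        simp [h.zz, h'.zz, ← hzw, e1, e2, e3, e4, e5]
    | inv x _ hx =>
      rcases hx with rfl | rfl | rfl | rfl
      · simp
      · simp [h.inv_z]
      · simp [h'.inv_z]
      · right; right; right; rw [mul_inv_rev, h.inv_z, h'.inv_z, hzw]
  have haa : a * (z * w) * a⁻¹ = w := by
    calc a * (z * w) * a⁻¹ = (a * z * a⁻¹) * (a * w * a⁻¹) := by group
      _ = w := by rw [haz, haw, ← mul_assoc, h.zz, one_mul]
  have hbb : b * (z * w) * b⁻¹ = z := by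
    calc b * (z * w) * b⁻¹ = (b * z * b⁻¹) * (b * w * b⁻¹) := by group
      _ = z := by rw [hbz, hbw, mul_assoc, h'.zz, mul_one]
  have hA : a ∈ Q ⊔ R := mem_sup_left ha
  have hB : b ∈ Q ⊔ R := mem_sup_right hb
  have hcomp : ∀ s t u : G, s * t * u * (s * t)⁻¹ = s * (t * u * t⁻¹) * s⁻¹ := fun s t u => by group
  intro u hu v hv hu1 hv1 huv
  rcases hW u hu with rfl | rfl | rfl | rfl <;> rcases hW v hv with rfl | rfl | rfl | rfl <;>
    first | exact absurd rfl hu1 | exact absurd rfl hv1 | exact absurd rfl huv | skip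
  · exact ⟨1, one_mem _, by group, by group⟩
  · exact ⟨a, hA, haz, haw⟩
  · exact ⟨a * (b * a), mul_mem hA (mul_mem hB hA),
      by rw [hcomp, hcomp, haz, hbz, haa], by rw [hcomp, hcomp, haw, hbb, haz]⟩
  · exact ⟨a * b, mul_mem hA hB, by rw [hcomp, hbz, haa], by rw [hcomp, hbw, haw]⟩
  · exact ⟨b * a, mul_mem hB hA, by rw [hcomp, haz, hbz], by rw [hcomp, haw, hbb]⟩
  · exact ⟨b, hB, hbz, hbw⟩

/-- `F*(C(z))` of symplectic type and exponent four. -/
theorem good_of_genFitting {G : Type u} [Group G] [Finite G] (z : G) (hz : orderOf z = 2)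
    (hQ : Cfsg.IsOfSymplecticType ↥(Cfsg.generalizedFittingSubgroup ↥(centralizer ({z} : Set G))))
    (h4 : ∀ q ∈ (Cfsg.generalizedFittingSubgroup ↥(centralizer ({z} : Set G))).map (centralizer ({z} : Set G)).subtype, q ^ 4 = 1) :
    Good z ((Cfsg.generalizedFittingSubgroup ↥(centralizer ({z} : Set G))).map (centralizer ({z} : Set G)).subtype) := by
  obtain ⟨C, hC⟩ : ∃ C, C = centralizer ({z} : Set G) := ⟨_, rfl⟩
  have hzC : z ∈ centralizer ({z} : Set G) := mem_centralizer_singleton_iff.mpr rfl
  have hzF := Cfsg.Lib.Misc.SweepLocal.central_mem_genFitting z hz hzC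
  obtain ⟨hsq, hcom⟩ := sq_comm _ ↥(Cfsg.generalizedFittingSubgroup ↥(centralizer ({z} : Set G))) rfl hQ.2
    (fun x => Subtype.ext (Subtype.ext (by
      have := h4 _ ⟨_, x.2, rfl⟩
      simpa using this)))
  have hzz : z * z = 1 := by rw [← pow_two, ← hz]; exact pow_orderOf_eq_one z
  have hne : z ≠ 1 := fun e => by rw [e, orderOf_one] at hz; omega
  haveI : IsCyclic (center ↥(Cfsg.generalizedFittingSubgroup ↥(centralizer ({z} : Set G)))) :=
    hQ.2 _ inferInstance inferInstance
  have huniq : ∀ q : ↥(Cfsg.generalizedFittingSubgroup ↥(centralizer ({z} : Set G))),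
      q ∈ center ↥(Cfsg.generalizedFittingSubgroup ↥(centralizer ({z} : Set G))) → q * q = 1 →
      ((q : centralizer ({z} : Set G)) : G) = 1 ∨ ((q : centralizer ({z} : Set G)) : G) = z := by
    intro q hq hqq
    refine or_iff_not_imp_left.mpr fun h1 => ?_
    have hzc : (⟨⟨z, hzC⟩, hzF⟩ : ↥(Cfsg.generalizedFittingSubgroup ↥(centralizer ({z} : Set G)))) ∈ center _ :=
      mem_center_iff.mpr fun x => Subtype.ext (Subtype.ext
        (mem_centralizer_singleton_iff.mp (x : centralizer ({z} : Set G)).2))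
    have o1 : orderOf (⟨q, hq⟩ : center ↥(Cfsg.generalizedFittingSubgroup ↥(centralizer ({z} : Set G)))) = 2 :=
      orderOf_eq_prime (Subtype.ext (by rw [SubmonoidClass.coe_pow, pow_two]; exact hqq))
        (fun e => h1 (congrArg (fun v : center ↥(Cfsg.generalizedFittingSubgroup ↥(centralizer ({z} : Set G))) =>
          (((v : ↥(Cfsg.generalizedFittingSubgroup ↥(centralizer ({z} : Set G)))) : centralizer ({z} : Set G)) : G)) e))
    have o2 : orderOf (⟨_, hzc⟩ : center ↥(Cfsg.generalizedFittingSubgroup ↥(centralizer ({z} : Set G)))) = 2 := by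
      rw [orderOf_mk, orderOf_mk, orderOf_mk, hz]
    exact congrArg (fun v : center ↥(Cfsg.generalizedFittingSubgroup ↥(centralizer ({z} : Set G))) =>
      (((v : ↥(Cfsg.generalizedFittingSubgroup ↥(centralizer ({z} : Set G)))) : centralizer ({z} : Set G)) : G))
      (Cfsg.Lib.Misc.SweepLocal.involution_unique o1 o2)
  refine ⟨hzz, hne, ⟨_, hzF, rfl⟩, ?_, ?_, ?_, ?_, ?_, ?_⟩
  · rintro _ ⟨q, -, rfl⟩
    exact mem_centralizer_singleton_iff.mp q.2
  · rintro c hc _ ⟨q, hq, rfl⟩
    exact ⟨_, (inferInstance : (Cfsg.generalizedFittingSubgroup ↥(centralizer ({z} : Set G))).Normal).conj_mem q hq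
      ⟨c, mem_centralizer_singleton_iff.mpr hc⟩, rfl⟩
  · intro c hc hcen
    refine ⟨⟨c, mem_centralizer_singleton_iff.mpr hc⟩, Cfsg.Lib.Components.centralizer_genFitting_le
      (mem_centralizer_iff.mpr fun q hq => Subtype.ext (hcen _ ⟨q, hq, rfl⟩).symm), rfl⟩
  · rintro _ ⟨q, hq, rfl⟩
    obtain ⟨h1, h2⟩ := hsq ⟨q, hq⟩
    exact huniq _ h1 h2
  · rintro _ ⟨a, ha, rfl⟩ _ ⟨b, hb, rfl⟩
    obtain ⟨h1, h2⟩ := hcom ⟨a, ha⟩ ⟨b, hb⟩
    exact huniq _ h1 h2
  · rintro _ ⟨q, hq, rfl⟩ h1 h2
    exact huniq ⟨q, hq⟩ (mem_center_iff.mpr fun b => Subtype.ext (Subtype.ext (h2 _ ⟨_, b.2, rfl⟩).symm))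
      (Subtype.ext (Subtype.ext h1))

end Cfsg.Lib.SympWC
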