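import Cfsg.Agent.Elementary.Basics
import Cfsg.Agent.Coprime.SolvableBasics
import Mathlib.GroupTheory.Nilpotent

/-!
A conjugation invariant TI family of non elementary subgroups of a 2-group commutes pairwise.
-/

set_option linter.style.haveILetI false
set_option linter.unusedSectionVars false

namespace Cfsg.Lib.TIFamily

open Subgroup

universe u

variable {S : Type u} [Group S] [Finite S]

/-- `x` and `g y g⁻¹` commute whenever `x, y ∈ X` and `g ∈ H` moves `X` -/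
def ConjCommute (H X : Subgroup S) : Prop :=
  ∀ g ∈ H, g ∉ normalizer (X : Set S) → ∀ x ∈ X, ∀ y ∈ X, x * (g * y * g⁻¹) = g * y * g⁻¹ * x

theorem eq_one_of_moved {X : Subgroup S} {g : S}
    (hti : X.map (MulAut.conj g).toMonoidHom = X ∨ X.map (MulAut.conj g).toMonoidHom ⊓ X = ⊥)
    (hg : g ∉ normalizer (X : Set S)) {y : S} (hy : y ∈ X) (h : g * y * g⁻¹ ∈ X) : y = 1 := by
  rcases hti with e | e
  · exact absurd (mem_normalizer_iff_map_conj_eq.2 e) hg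
  · have h1 : g * y * g⁻¹ ∈ (⊥ : Subgroup S) := e.le (mem_inf.mpr ⟨⟨y, hy, rfl⟩, h⟩)
    rw [mem_bot, mul_inv_eq_one, mul_eq_left] at h1
    exact h1

theorem case_one {H R T : Subgroup S} (hRH : R ≤ H) (hTH : T ≤ H) (hcR : ConjCommute H R)
    (htiR : ∀ g, R.map (MulAut.conj g).toMonoidHom = R ∨ R.map (MulAut.conj g).toMonoidHom ⊓ R = ⊥)
    (hcard : Nat.card T ≤ Nat.card R) (hRT : R ≤ normalizer (T : Set S)) : T ≤ normalizer (R : Set S) := by
  intro t ht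
  by_contra hn
  have hmem : ∀ r ∈ R, r * (t * r⁻¹ * t⁻¹) ∈ T := fun r hr => by
    rw [show r * (t * r⁻¹ * t⁻¹) = r * t * r⁻¹ * t⁻¹ by group]
    exact mul_mem ((mem_normalizer_iff.1 (hRT hr) t).1 ht) (inv_mem ht)
  let f : R → T := fun r => ⟨(r : S) * (t * (r : S)⁻¹ * t⁻¹), hmem r r.2⟩
  have hinj : Function.Injective f := by
    intro r s h
    have h' : (r : S) * (t * (r : S)⁻¹ * t⁻¹) = (s : S) * (t * (s : S)⁻¹ * t⁻¹) := congrArg Subtype.val h
    have h1 : t * ((s : S)⁻¹ * r) * t⁻¹ = (s : S)⁻¹ * r := by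
      calc t * ((s : S)⁻¹ * r) * t⁻¹
          = (t * (s : S)⁻¹ * t⁻¹) * (t * (r : S)⁻¹ * t⁻¹)⁻¹ := by group
        _ = (s : S)⁻¹ * ((s : S) * (t * (s : S)⁻¹ * t⁻¹)) * (t * (r : S)⁻¹ * t⁻¹)⁻¹ := by group
        _ = (s : S)⁻¹ * r := by rw [← h']; group
    have h2 := eq_one_of_moved (htiR t) hn (y := (s : S)⁻¹ * r) (mul_mem (inv_mem s.2) r.2)
      (h1.symm ▸ mul_mem (inv_mem s.2) r.2)
    exact Subtype.ext (inv_mul_eq_one.1 h2).symm
  obtain ⟨r, hr⟩ := (hinj.bijective_of_nat_card_le hcard).2 ⟨t, ht⟩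
  have e : (r : S) * (t * (r : S)⁻¹ * t⁻¹) = t := congrArg Subtype.val hr
  have h3 : t * (r : S)⁻¹ * t⁻¹ ∈ centralizer (R : Set S) :=
    mem_centralizer_iff.2 fun x hx => hcR t (hTH ht) hn x hx _ (inv_mem r.2)
  have h4 := mul_mem (le_normalizer (H := R) r.2) (centralizer_le_normalizer _ h3)
  rw [e] at h4
  exact hn h4

/-- the normal closure of `X` in `H` -/
def hull (H X : Subgroup S) : Subgroup S :=
  closure {z | ∃ g ∈ H, ∃ y ∈ X, z = g * y * g⁻¹}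

theorem hull_le_normalizer {H X : Subgroup S} (hc : ConjCommute H X) :
    hull H X ≤ normalizer (X : Set S) := by
  rw [hull, closure_le]
  rintro _ ⟨g, hg, y, hy, rfl⟩
  by_cases hn : g ∈ normalizer (X : Set S)
  · exact le_normalizer ((mem_normalizer_iff.1 hn y).1 hy)
  · exact centralizer_le_normalizer _ (mem_centralizer_iff.2 fun x hx => hc g hg hn x hx y hy)

theorem hull_conj {H X : Subgroup S} {h : S} (hh : h ∈ H) {z : S} (hz : z ∈ hull H X) :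
    h * z * h⁻¹ ∈ hull H X := by
  have : (hull H X).map (MulAut.conj h).toMonoidHom ≤ hull H X := by
    rw [hull, MonoidHom.map_closure, closure_le]
    rintro _ ⟨_, ⟨g, hg, y, hy, rfl⟩, rfl⟩
    exact subset_closure ⟨h * g, mul_mem hh hg, y, hy, by simp [mul_assoc]⟩
  exact this ⟨z, hz, rfl⟩

theorem le_hull {H X : Subgroup S} : X ≤ hull H X := fun y hy =>
  subset_closure ⟨1, one_mem _, y, hy, by simp⟩

theorem inf_hull_eq_bot {H R T : Subgroup S} (hS : IsPGroup 2 S) (hRH : R ≤ H) (hTH : T ≤ H)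
    (hcR : ConjCommute H R) (hcT : ConjCommute H T)
    (htiR : ∀ g, R.map (MulAut.conj g).toMonoidHom = R ∨ R.map (MulAut.conj g).toMonoidHom ⊓ R = ⊥)
    (htiT : ∀ g, T.map (MulAut.conj g).toMonoidHom = T ∨ T.map (MulAut.conj g).toMonoidHom ⊓ T = ⊥)
    {t : S} (ht : t ∈ T) (htn : t ∉ normalizer (R : Set S))
    {a : S} (ha : a ∈ R) (han : a ∉ normalizer (T : Set S)) : R ⊓ hull H T = ⊥ := by
  by_contra hne
  haveI : Fact (Nat.Prime 2) := ⟨Nat.prime_two⟩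
  haveI := (hS.to_subgroup R).isNilpotent
  set N := (R ⊓ hull H T).subgroupOf R
  haveI : N.Normal := ⟨fun n hn r => mem_inf.mpr
    ⟨(r * n * r⁻¹).2, hull_conj (hRH r.2) (mem_inf.1 hn).2⟩⟩
  have hN : N ≠ ⊥ := fun h => hne (by
    rw [← map_subgroupOf_eq_of_le (inf_le_left : R ⊓ hull H T ≤ R)]
    show N.map R.subtype = ⊥
    rw [h, Subgroup.map_bot])
  obtain ⟨⟨r, hr⟩, hr0⟩ := Subgroup.ne_bot_iff_exists_ne_one.1 (Cfsg.Lib.Coprime.inf_center_ne_bot N hN)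
  have hr1 : r ≠ 1 := fun h => hr0 (Subtype.ext h)
  obtain ⟨hrN, hrZ⟩ := mem_inf.1 hr
  have hrT : (r : S) ∈ normalizer (T : Set S) := hull_le_normalizer hcT (mem_inf.1 hrN).2
  have hxT : t * r * t⁻¹ * (r : S)⁻¹ ∈ T := by
    rw [show t * r * t⁻¹ * (r : S)⁻¹ = t * ((r : S) * t⁻¹ * (r : S)⁻¹) by group]
    exact mul_mem ht ((mem_normalizer_iff.1 hrT _).1 (inv_mem ht))
  have e1 : a * r = r * a := congrArg Subtype.val (mem_center_iff.1 hrZ ⟨a, ha⟩)
  have e2 : a * (t * r * t⁻¹) = t * r * t⁻¹ * a := hcR t (hTH ht) htn a ha r r.2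
  have hax : a * (t * r * t⁻¹ * (r : S)⁻¹) * a⁻¹ = t * r * t⁻¹ * (r : S)⁻¹ := by
    calc a * (t * r * t⁻¹ * (r : S)⁻¹) * a⁻¹ = a * (t * r * t⁻¹) * (a * r)⁻¹ := by group
      _ = _ := by rw [e2, e1]; group
  have h1 := eq_one_of_moved (htiT a) han hxT (by rw [hax]; exact hxT)
  rw [mul_inv_eq_one] at h1
  exact hr1 (Subtype.ext (eq_one_of_moved (htiR t) htn r.2 (by rw [h1]; exact r.2)))

theorem ti_family (hS : IsPGroup 2 S)
    (Δ : Set (Subgroup S)) (hinv : ∀ s : S, ∀ R ∈ Δ, R.map (MulAut.conj s).toMonoidHom ∈ Δ)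
    (hΦ : ∀ R ∈ Δ, frattini ↥R ≠ ⊥) (hord : ∀ R ∈ Δ, ∀ T ∈ Δ, Nat.card ↥R = Nat.card ↥T)
    (hti : ∀ R ∈ Δ, ∀ T ∈ Δ, R = T ∨ R ⊓ T = ⊥) (H : Subgroup S) :
    ∀ R ∈ Δ, ∀ T ∈ Δ, R ≤ H → T ≤ H → R ≠ T → ∀ x ∈ R, ∀ y ∈ T, x * y = y * x := by
  haveI : Fact (Nat.Prime 2) := ⟨Nat.prime_two⟩
  induction H using (wellFounded_lt (α := Subgroup S)).induction with
  | _ H ih =>
    intro R hR T hT hRH hTH hne
    have hti' : ∀ X ∈ Δ, ∀ g, X.map (MulAut.conj g).toMonoidHom = X ∨ X.map (MulAut.conj g).toMonoidHom ⊓ X = ⊥ :=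
      fun X hX g => hti _ (hinv g X hX) X hX
    have hconj : ∀ X ∈ Δ, X ≤ H → ConjCommute H X := by
      intro X hX hXH g hg hn x hx y hy
      haveI := (hS.to_subgroup H).isNilpotent
      have hlt : (normalizer (X : Set S)).subgroupOf H ≠ ⊤ := fun h => hn (subgroupOf_eq_top.1 h hg)
      obtain ⟨M, hM, hXM⟩ := (eq_top_or_exists_le_coatom _).resolve_left hlt
      haveI : M.Normal := Group.normalizerCondition_of_isNilpotent.normal_of_coatom M hM
      have hlt' : M.map H.subtype < H := by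
        refine lt_of_le_of_ne (map_subtype_le M) fun h => hM.1 ?_
        refine map_injective H.subtype_injective ?_
        rw [h, ← MonoidHom.range_eq_map, range_subtype]
      have h1 : X ≤ M.map H.subtype := fun z hz => ⟨⟨z, hXH hz⟩, hXM (le_normalizer hz), rfl⟩
      have h2 : X.map (MulAut.conj g).toMonoidHom ≤ M.map H.subtype := by
        rintro _ ⟨z, hz, rfl⟩
        obtain ⟨⟨w, hwH⟩, hw, rfl⟩ := h1 hz
        exact ⟨⟨g, hg⟩ * ⟨w, hwH⟩ * ⟨g, hg⟩⁻¹, (inferInstance : M.Normal).conj_mem _ hw _, rfl⟩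
      exact ih _ hlt' X hX _ (hinv g X hX) h1 h2
        (fun e => hn (mem_normalizer_iff_map_conj_eq.2 e.symm)) x hx _ ⟨y, hy, rfl⟩
    have hcR := hconj R hR hRH
    have hcT := hconj T hT hTH
    intro x hx y hy
    by_cases h1 : R ≤ normalizer (T : Set S) ∧ T ≤ normalizer (R : Set S)
    · have hi : R ⊓ T = ⊥ := (hti R hR T hT).resolve_left hne
      have h2 : x * y * x⁻¹ * y⁻¹ ∈ R ⊓ T := mem_inf.mpr ⟨by
        rw [show x * y * x⁻¹ * y⁻¹ = x * (y * x⁻¹ * y⁻¹) by group]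
        exact mul_mem hx ((mem_normalizer_iff.1 (h1.2 hy) _).1 (inv_mem hx)),
        mul_mem ((mem_normalizer_iff.1 (h1.1 hx) _).1 hy) (inv_mem hy)⟩
      rw [hi, mem_bot] at h2
      exact mul_inv_eq_iff_eq_mul.1 (mul_inv_eq_one.1 h2)
    exfalso
    have hnR : ¬ R ≤ normalizer (T : Set S) := fun h =>
      h1 ⟨h, case_one hRH hTH hcR (hti' R hR) (hord T hT R hR).le h⟩
    have hnT : ¬ T ≤ normalizer (R : Set S) := fun h =>
      h1 ⟨case_one hTH hRH hcT (hti' T hT) (hord R hR T hT).le h, h⟩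
    obtain ⟨t₀, ht₀, ht₀n⟩ := SetLike.not_le_iff_exists.1 hnT
    obtain ⟨a₀, ha₀, ha₀n⟩ := SetLike.not_le_iff_exists.1 hnR
    have hA := inf_hull_eq_bot hS hTH hRH hcT hcR (hti' T hT) (hti' R hR) ha₀ ha₀n ht₀ ht₀n
    have hB := inf_hull_eq_bot hS hRH hTH hcR hcT (hti' R hR) (hti' T hT) ht₀ ht₀n ha₀ ha₀n
    -- regular action
    have reg : ∀ (X Y : Subgroup S), X ≤ H → Y ≤ H → ConjCommute H X →
        (∀ g, X.map (MulAut.conj g).toMonoidHom = X ∨ X.map (MulAut.conj g).toMonoidHom ⊓ X = ⊥) →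
        Y ⊓ hull H X = ⊥ → ∀ w ∈ Y, w ∉ normalizer (X : Set S) → ∀ r ∈ X, r ∈ normalizer (Y : Set S) → r = 1 := by
      intro X Y hXH hYH _ htiX hinf w hw hwn r hr hrn
      have h2 : w * r * w⁻¹ * r⁻¹ ∈ Y ⊓ hull H X := mem_inf.mpr ⟨by
        rw [show w * r * w⁻¹ * r⁻¹ = w * (r * w⁻¹ * r⁻¹) by group]
        exact mul_mem hw ((mem_normalizer_iff.1 hrn _).1 (inv_mem hw)),
        mul_mem (hull_conj (hYH hw) (le_hull hr)) (inv_mem (le_hull hr))⟩
      rw [hinf, mem_bot, mul_inv_eq_one] at h2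
      exact eq_one_of_moved (htiX w) hwn hr (by rw [h2]; exact hr)
    obtain ⟨a, ha, ha2⟩ : ∃ a ∈ R, a ^ 2 ≠ 1 := by
      by_contra hno
      push Not at hno
      exact hΦ R hR (Cfsg.Lib.Elementary.frattini_eq_bot_of_sq fun z => Subtype.ext (by simpa using hno z z.2))
    have han : a ∉ normalizer (T : Set S) := fun h => ha2 (by
      rw [reg R T hRH hTH hcR (hti' R hR) hA t₀ ht₀ ht₀n a ha h, one_pow])
    obtain ⟨u, hu⟩ := exists_prime_orderOf_dvd_card' 2 (by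
      obtain ⟨k, hk⟩ := IsPGroup.iff_card.1 (hS.to_subgroup T)
      rw [hk]
      refine dvd_pow_self 2 fun h0 => ?_
      rw [h0, pow_zero, card_eq_one] at hk
      exact hΦ T hT (Cfsg.Lib.Elementary.frattini_eq_bot_of_sq fun z => Subtype.ext (by
        have := z.2
        simp only [hk, mem_bot] at this
        simp [this])) : 2 ∣ Nat.card T)
    have hu2 : (u : S) * u = 1 := by
      have := pow_orderOf_eq_one u
      rw [hu, sq] at this
      exact congrArg Subtype.val this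
    have hun : (u : S) ∉ normalizer (R : Set S) := fun h => by
      have := reg T R hTH hRH hcT (hti' T hT) hB a₀ ha₀ ha₀n u u.2 h
      rw [show u = 1 from Subtype.ext this, orderOf_one] at hu
      omega
    have hcomm : (u : S) * (a * u * a⁻¹) = a * u * a⁻¹ * u := hcT a (hRH ha) han u u.2 u u.2
    have hw : a * ((u : S) * a⁻¹ * (u : S)⁻¹) = (u : S) * a⁻¹ * (u : S)⁻¹ * a :=
      hcR u (hTH u.2) hun a ha a⁻¹ (inv_mem ha)
    have huinv : (u : S)⁻¹ = u := inv_eq_of_mul_eq_one_right hu2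
    have hv2 : (a * u * a⁻¹) * (a * u * a⁻¹) = 1 := by
      rw [show (a * u * a⁻¹) * (a * (u : S) * a⁻¹) = a * ((u : S) * u) * a⁻¹ by group, hu2]
      group
    have hsq : (a * u * a⁻¹ * u) * (a * u * a⁻¹ * u) = 1 := by
      conv_lhs => arg 2; rw [← hcomm]
      rw [show a * u * a⁻¹ * u * ((u : S) * (a * u * a⁻¹)) = a * u * a⁻¹ * ((u : S) * u) * (a * u * a⁻¹) by group,
        hu2, mul_one]
      exact hv2
    rw [show a * u * a⁻¹ * (u : S) = a * ((u : S) * a⁻¹ * (u : S)⁻¹) by rw [huinv]; group] at hsq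
    have h3 : a ^ 2 * ((u : S) * (a ^ 2)⁻¹ * (u : S)⁻¹) = 1 := by
      rw [← hsq]
      generalize hwdef : (u : S) * a⁻¹ * (u : S)⁻¹ = w at hw ⊢
      rw [show (u : S) * (a ^ 2)⁻¹ * (u : S)⁻¹ = w * w by rw [← hwdef]; group]
      calc a ^ 2 * (w * w) = a * (a * w) * w := by simp [sq, mul_assoc]
        _ = a * w * (a * w) := by conv_lhs => rw [hw]
                                  group
    have h5 : a ^ 2 = (u : S) * a ^ 2 * (u : S)⁻¹ := by
      calc a ^ 2 = ((u : S) * (a ^ 2)⁻¹ * (u : S)⁻¹)⁻¹ := eq_inv_of_mul_eq_one_left h3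
        _ = _ := by simp [mul_assoc]
    exact ha2 (eq_one_of_moved (hti' R hR u) hun (pow_mem ha 2) (h5 ▸ pow_mem ha 2))

theorem ti_commute (hS : IsPGroup 2 S)
    (Δ : Set (Subgroup S)) (hinv : ∀ s : S, ∀ R ∈ Δ, R.map (MulAut.conj s).toMonoidHom ∈ Δ)
    (hΦ : ∀ R ∈ Δ, frattini ↥R ≠ ⊥) (hord : ∀ R ∈ Δ, ∀ T ∈ Δ, Nat.card ↥R = Nat.card ↥T)
    (hti : ∀ R ∈ Δ, ∀ T ∈ Δ, R = T ∨ R ⊓ T = ⊥) :
    ∀ R ∈ Δ, ∀ T ∈ Δ, R ≠ T → ⁅R, T⁆ = ⊥ := by
  intro R hR T hT hne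
  rw [commutator_eq_bot_iff_le_centralizer]
  exact fun x hx => mem_centralizer_iff.2 fun y hy =>
    (ti_family hS Δ hinv hΦ hord hti ⊤ R hR T hT le_top le_top hne x hx y hy).symm

end Cfsg.Lib.TIFamily
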