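import Cfsg.Agent.Components.KInf.Quadratic
import Cfsg.Agent.Components.GenFitting

/-!
Abelian trivial-intersection `2`-subgroups of exponent greater than two.
-/

set_option linter.style.haveILetI false
set_option linter.unusedSectionVars false

namespace Cfsg.Lib.TISquares

open Subgroup
open scoped commutatorElement

universe u

variable {G : Type u} [Group G] [Finite G]

/-- trivial intersection, elementwise -/
def TI (A : Subgroup G) : Prop :=
  ∀ h c : G, c ∈ A → c ≠ 1 → h * c * h⁻¹ ∈ A → h ∈ normalizer (A : Set G)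

theorem ti_of_hyp {A : Subgroup G}
    (hti : ∀ h : G, A.map (MulAut.conj h).toMonoidHom = A ∨ A.map (MulAut.conj h).toMonoidHom ⊓ A = ⊥) :
    TI A := by
  intro h c hc hc1 hhc
  rcases hti h with e | e
  · exact Cfsg.Lib.Transfer.map_conj_eq_self_iff.mp e
  · have h1 : h * c * h⁻¹ ∈ A.map (MulAut.conj h).toMonoidHom ⊓ A := ⟨⟨c, hc, rfl⟩, hhc⟩
    rw [e, mem_bot, conj_eq_one_iff] at h1
    exact absurd h1 hc1

/-- a conjugate is again a trivial intersection subgroup -/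
theorem ti_map {A : Subgroup G} (hA : TI A) (g : G) : TI (A.map (MulAut.conj g).toMonoidHom) := by
  rintro h _ ⟨c, hc, rfl⟩ hc1 ⟨d, hd, hhd⟩
  have hn := hA (g⁻¹ * h * g) c hc (fun e => hc1 (by rw [e, map_one])) (by
    have e : g⁻¹ * h * g * c * (g⁻¹ * h * g)⁻¹ = d := by
      have h1 : g * d * g⁻¹ = h * (g * c * g⁻¹) * h⁻¹ := hhd
      calc g⁻¹ * h * g * c * (g⁻¹ * h * g)⁻¹ = g⁻¹ * (h * (g * c * g⁻¹) * h⁻¹) * g := by group
        _ = d := by rw [← h1]; group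
    rw [e]; exact hd)
  rw [← Cfsg.Lib.Transfer.map_conj_eq_self_iff] at hn ⊢
  rw [map_map]
  conv_rhs => rw [← hn, map_map]
  congr 1
  ext x
  simp [mul_assoc]

theorem meet {A : Subgroup G} (hA : TI A) {h : G} (hh : h ∉ normalizer (A : Set G)) {c : G} (hc : c ∈ A)
    (hc' : h * c * h⁻¹ ∈ A) : c = 1 := by
  by_contra h1
  exact hh (hA h c hc h1 hc')

/-- the square of an element commuting with the commutator normalizes -/
theorem sq_normalizes {A : Subgroup G} (hA : TI A) (hA2 : IsPGroup 2 A) {x y z : G} (hx : x ∈ A) (hx1 : x ≠ 1)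
    (hz : y * x * y⁻¹ = z * x) (hzx : Commute z x) (hzy : Commute z y) :
    y * y ∈ normalizer (A : Set G) ∧ z * z ∈ A := by
  obtain ⟨n, hn⟩ := IsPGroup.iff_orderOf.mp hA2 ⟨x, hx⟩
  rw [Subgroup.orderOf_mk] at hn
  obtain ⟨m, rfl⟩ : ∃ m, n = m + 1 := Nat.exists_eq_succ_of_ne_zero fun h0 => hx1 (orderOf_eq_one_iff.mp (by rw [hn, h0, pow_zero]))
  have hy2 : y * y * x * (y * y)⁻¹ = z * z * x := by
    calc y * y * x * (y * y)⁻¹ = y * (y * x * y⁻¹) * y⁻¹ := by group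
      _ = y * (z * x) * y⁻¹ := by rw [hz]
      _ = (y * z * y⁻¹) * (y * x * y⁻¹) := by group
      _ = z * (z * x) := by rw [hz, ← hzy.eq, mul_inv_cancel_right]
      _ = z * z * x := by group
  have hz2 : z ^ (2 ^ (m + 1)) = 1 := by
    have h1 : (z * x) ^ (2 ^ (m + 1)) = 1 := by rw [← hz, conj_pow, ← hn, pow_orderOf_eq_one, mul_one, mul_inv_cancel]
    rwa [hzx.mul_pow, ← hn, pow_orderOf_eq_one, mul_one, hn] at h1
  have hN : y * y ∈ normalizer (A : Set G) := by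
    refine hA (y * y) (x ^ 2 ^ m) (pow_mem hx _) ?_ ?_
    · exact pow_ne_one_of_lt_orderOf (by positivity) (by rw [hn]; exact Nat.pow_lt_pow_right one_lt_two m.lt_succ_self)
    · rw [← conj_pow, hy2, ((hzx.mul_left hzx)).mul_pow, ← sq, ← pow_mul, ← pow_succ', hz2, one_mul]
      exact pow_mem hx _
  refine ⟨hN, ?_⟩
  have h1 := (mem_normalizer_iff.mp hN x).mp hx
  rw [hy2] at h1
  simpa using mul_mem h1 (inv_mem hx)

/-- two trivially meeting members of the family, elementwise -/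
theorem pair {A A' : Subgroup G} (hA : TI A) (hA' : TI A') (hA2 : IsPGroup 2 A) (hA'2 : IsPGroup 2 A')
    (hd : A ⊓ A' = ⊥) {x y : G} (hx : x ∈ A) (hy : y ∈ A') (hzx : Commute ⁅y, x⁆ x) (hzy : Commute ⁅y, x⁆ y)
    (hx2 : x ^ 2 ≠ 1) : y ∈ normalizer (A : Set G) := by
  set z := ⁅y, x⁆ with hzdef
  have hx1 : x ≠ 1 := fun e => hx2 (by rw [e, one_pow])
  have hz : y * x * y⁻¹ = z * x := by simp [hzdef, commutatorElement_def]
  obtain ⟨-, hzA⟩ := sq_normalizes hA hA2 hx hx1 hz hzx hzy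
  by_cases hy1 : y = 1
  · rw [hy1]; exact one_mem _
  obtain ⟨-, hzA'⟩ := sq_normalizes (x := y) (y := x) (z := z⁻¹) hA' hA'2 hy hy1
    (by simp only [hzdef, commutatorElement_def]; group) hzy.inv_left hzx.inv_left
  have hz2 : z * z = 1 := by
    refine mem_bot.mp ?_
    rw [← hd]
    exact ⟨hzA, by simpa using inv_mem hzA'⟩
  refine hA y (x ^ 2) (pow_mem hx 2) hx2 ?_
  rw [← conj_pow, hz, hzx.mul_pow, sq z, hz2, one_mul]
  exact pow_mem hx 2

theorem eq_one_of_normalize {A A' : Subgroup G} (hd : A ⊓ A' = ⊥) {x y : G} (hx : x ∈ A) (hy : y ∈ A')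
    (hyN : y ∈ normalizer (A : Set G)) (hxN : x ∈ normalizer (A' : Set G)) : ⁅y, x⁆ = 1 := by
  refine mem_bot.mp ?_
  rw [← hd]
  refine mem_inf.mpr ⟨?_, ?_⟩
  · rw [commutatorElement_def]; exact mul_mem ((mem_normalizer_iff.mp hyN x).mp hx) (inv_mem hx)
  · rw [commutatorElement_def, mul_assoc, mul_assoc]
    refine mul_mem hy ?_
    have := (mem_normalizer_iff.mp hxN y⁻¹).mp (inv_mem hy)
    rwa [mul_assoc] at this

/-- conjugates inside a `2`-group commute -/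
theorem commute_conjugates : ∀ (n : ℕ) (A P : Subgroup G), Nat.card P = n → IsPGroup 2 P → TI A → A ≤ P →
    (∀ a ∈ A, ∀ b ∈ A, Commute a b) → (∃ a ∈ A, a ^ 2 ≠ 1) → ∀ g ∈ P, ∀ a ∈ A, ∀ b ∈ A, Commute a (g * b * g⁻¹) := by
  intro n
  induction n using Nat.strong_induction_on with
  | _ n ih =>
  intro A P hn hP hA hAP hab hex g hg a ha b hb
  rcases eq_or_lt_of_le hAP with e | hlt
  · rw [← e] at hg
    rw [(hab g hg b hb).eq, mul_inv_cancel_right]
    exact hab a ha b hb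
  obtain ⟨M, ⟨hAM, hMP⟩, hmax⟩ := Set.exists_max_image {M : Subgroup G | A ≤ M ∧ M < P}
    (fun M => Nat.card M) (Set.toFinite _) ⟨A, le_rfl, hlt⟩
  have hPM : P ≤ normalizer (M : Set G) := by
    haveI : Fact (Nat.Prime 2) := ⟨Nat.prime_two⟩
    have hgrow := Cfsg.Lib.Fusion.lt_inf_normalizer hP hMP le_rfl
    by_contra h
    have hne : P ⊓ normalizer (M : Set G) < P := lt_of_le_of_ne inf_le_left fun e => h (inf_eq_left.mp e)
    have h1 := hmax _ ⟨hAM.trans hgrow.le, hne⟩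
    exact hgrow.ne (eq_of_le_of_card_ge hgrow.le h1)
  have hcard : Nat.card M < n := hn ▸ lt_of_le_of_ne (card_le_of_le hMP.le)
    fun e => hMP.ne (eq_of_le_of_card_ge hMP.le e.ge)
  set A' := A.map (MulAut.conj g).toMonoidHom
  have hA' : TI A' := ti_map hA g
  have hA2 : IsPGroup 2 A := hP.to_le hAP
  have hA'2 : IsPGroup 2 A' := hA2.map _
  have hA'M : A' ≤ M := by
    rintro _ ⟨c, hc, rfl⟩
    exact (mem_normalizer_iff.mp (hPM hg) c).mp (hAM hc)
  have hab' : ∀ a ∈ A', ∀ b ∈ A', Commute a b := by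
    rintro _ ⟨a, ha, rfl⟩ _ ⟨b, hb, rfl⟩
    exact (hab a ha b hb).map _
  have hex' : ∃ a ∈ A', a ^ 2 ≠ 1 := by
    obtain ⟨a, ha, h⟩ := hex
    exact ⟨_, mem_map_of_mem _ ha, fun e => h ((MulAut.conj g).injective (by
      rw [map_one, map_pow]; exact e))⟩
  have hb' : g * b * g⁻¹ ∈ A' := ⟨b, hb, rfl⟩
  by_cases hgN : g ∈ normalizer (A : Set G)
  · exact hab a ha _ ((mem_normalizer_iff.mp hgN b).mp hb)
  have hd : A ⊓ A' = ⊥ := eq_bot_iff.mpr fun c hc => by
    obtain ⟨d, hd, rfl⟩ := hc.2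
    rw [mem_bot, MulEquiv.coe_toMonoidHom, MulAut.conj_apply, conj_eq_one_iff]
    exact meet hA hgN hd hc.1
  have hMp : IsPGroup 2 M := hP.to_le hMP.le
  have ih1 := ih _ hcard A M rfl hMp hA hAM hab hex
  have ih2 := ih _ hcard A' M rfl hMp hA' hA'M hab' hex'
  have hcomm : ∀ x ∈ A, ∀ y ∈ A', Commute ⁅y, x⁆ x ∧ Commute ⁅y, x⁆ y := fun x hx y hy => by
    constructor
    · rw [commutatorElement_def]
      exact ((ih1 y (hA'M hy) x hx x hx).symm).mul_left ((Commute.refl x).inv_left)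
    · rw [commutatorElement_def, mul_assoc, mul_assoc]
      refine (Commute.refl y).mul_left ?_
      have := (ih2 x (hAM hx) y hy y⁻¹ (inv_mem hy)).symm
      rwa [mul_assoc] at this
  have hN1 : ∀ y ∈ A', y ∈ normalizer (A : Set G) := fun y hy => by
    obtain ⟨x, hx, hx2⟩ := hex
    exact pair hA hA' hA2 hA'2 hd hx hy (hcomm x hx y hy).1 (hcomm x hx y hy).2 hx2
  have hN2 : ∀ x ∈ A, x ∈ normalizer (A' : Set G) := fun x hx => by
    obtain ⟨y, hy, hy2⟩ := hex'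
    have e : ⁅x, y⁆ = ⁅y, x⁆⁻¹ := (commutatorElement_inv y x).symm
    refine pair hA' hA hA'2 hA2 (by rw [inf_comm]; exact hd) hy hx ?_ ?_ hy2
    · rw [e]; exact (hcomm x hx y hy).2.inv_left
    · rw [e]; exact (hcomm x hx y hy).1.inv_left
  exact (commutatorElement_eq_one_iff_mul_comm.mp
    (eq_one_of_normalize hd ha hb' (hN1 _ hb') (hN2 a ha))).symm

/-- the squares of a trivial intersection subgroup -/
theorem squares (hX : Cfsg.generalizedFittingSubgroup G = Cfsg.pCore 2 G) (A : Subgroup G) (hA2 : IsPGroup 2 A)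
    (hAa : ∀ a ∈ A, ∀ b ∈ A, Commute a b) (hA : TI A) :
    (∀ a ∈ A, a ^ 2 ∈ Cfsg.pCore 2 G) ∧
      ((∃ a ∈ A, (a ^ 2) ^ 2 ≠ 1) →
        ∀ g : G, ∀ a ∈ A, ∀ b ∈ A, Commute (a ^ 2) (g * b ^ 2 * g⁻¹)) := by
  haveI : Fact (Nat.Prime 2) := ⟨Nat.prime_two⟩
  set Q := Cfsg.pCore 2 G
  have hQp : IsPGroup 2 Q := Cfsg.Lib.Components.isPGroup_pCore 2
  have hC : centralizer (Q : Set G) ≤ Q := by
    rw [← hX]; exact Cfsg.Lib.Components.centralizer_genFitting_le
  have key : ∀ B : Subgroup G, TI B → IsPGroup 2 B → (∀ a ∈ B, ∀ b ∈ B, Commute a b) → (∃ a ∈ B, a ^ 2 ≠ 1) →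
      ∀ q ∈ Q, ∀ a ∈ B, ∀ b ∈ B, Commute a (q * b * q⁻¹) := fun B hB hB2 hBa hex q hq =>
    commute_conjugates _ B (B ⊔ Q) rfl (hB2.to_sup_of_normal_right hQp) hB le_sup_left hBa hex q (mem_sup_right hq)
  have part1 : ∀ a ∈ A, a ^ 2 ∈ Q := by
    intro a ha
    by_cases ha2 : a ^ 2 = 1
    · rw [ha2]; exact one_mem _
    refine Cfsg.Lib.KInf.climb (A := Q) (B := zpowers (a ^ 2)) hQp hC (fun U V _ _ hUV hUQ _ _ b hb => ?_)
      (mem_zpowers _)
    refine Or.inr fun u hu => ?_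
    have hsq : ∀ v ∈ U, v * v ∈ V := by
      set W := (frattini U).map U.subtype
      haveI : W.Normal := ConjAct.normal_of_characteristic_of_normal
      have hWU : W ≤ U := map_subtype_le _
      have hWV : W ≤ V := by
        rcases hUV.2.2.2 (W ⊔ V) inferInstance le_sup_right (sup_le hWU hUV.1.le) with h | h
        · exact le_sup_left.trans h.le
        · refine absurd ?_ hUV.1.not_ge
          have h1 : V.subgroupOf U ⊔ frattini U = ⊤ := by
            apply map_injective U.subtype_injective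
            rw [Subgroup.map_sup, subgroupOf_map_subtype, inf_eq_left.mpr hUV.1.le, ← MonoidHom.range_eq_map,
              range_subtype, sup_comm, h]
          have h2 := congrArg (Subgroup.map U.subtype) (frattini_nongenerating h1)
          rw [subgroupOf_map_subtype, inf_eq_left.mpr hUV.1.le, ← MonoidHom.range_eq_map, range_subtype] at h2
          exact h2.ge
      intro v hv
      refine hWV ⟨⟨v, hv⟩ * ⟨v, hv⟩, ?_, rfl⟩
      rw [← pow_two]
      exact Cfsg.Lib.PGroups.pow_mem_frattini (hQp.to_le hUQ) _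
    let F : Subgroup G := (centralizer (U.map (QuotientGroup.mk' V) : Set (G ⧸ V))).comap (QuotientGroup.mk' V)
    have ha2F : a ^ 2 ∈ F := by
      refine mem_centralizer_iff.mpr ?_
      rintro _ ⟨v, hv, rfl⟩
      have hva : a * v * a⁻¹ * v⁻¹ ∈ U := mul_mem (Normal.conj_mem inferInstance v hv a) (inv_mem hv)
      have hcom' : Commute a (v * a⁻¹ * v⁻¹) :=
        key A hA hA2 hAa ⟨a, ha, ha2⟩ v (hUQ hv) a ha a⁻¹ (inv_mem ha)
      have h1 : a ^ 2 * v * (a ^ 2)⁻¹ * v⁻¹ ∈ V := by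
        set d := a * v * a⁻¹ * v⁻¹ with hd
        have hdd : Commute a d := by
          rw [hd, mul_assoc, mul_assoc, ← mul_assoc v]
          exact (Commute.refl a).mul_right hcom'
        have e : a ^ 2 * v * (a ^ 2)⁻¹ * v⁻¹ = (a * d * a⁻¹) * d := by rw [hd, sq]; group
        rw [e, hdd.eq, mul_inv_cancel_right]
        exact hsq d hva
      have h2 := (QuotientGroup.eq_one_iff _).mpr h1
      change QuotientGroup.mk' V (a ^ 2 * v * (a ^ 2)⁻¹ * v⁻¹) = 1 at h2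
      rw [map_mul, map_mul, map_mul, map_inv, map_inv, mul_inv_eq_one, mul_inv_eq_iff_eq_mul] at h2
      exact h2.symm
    have h1 := mem_centralizer_iff.mp ((zpowers_le.mpr ha2F) hb) _ (mem_map_of_mem (QuotientGroup.mk' V) hu)
    rw [← QuotientGroup.eq_one_iff]
    show QuotientGroup.mk' V (b * u * b⁻¹ * u⁻¹) = 1
    rw [map_mul, map_mul, map_mul, map_inv, map_inv, ← h1, mul_inv_cancel_right, mul_inv_cancel]
  refine ⟨part1, fun ⟨a₀, ha₀, ha₀4⟩ g a ha b hb => ?_⟩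
  by_cases hgN : g ∈ normalizer (A : Set G)
  · exact hAa _ (pow_mem ha 2) _ ((mem_normalizer_iff.mp hgN _).mp (pow_mem hb 2))
  set A' := A.map (MulAut.conj g).toMonoidHom
  have hA' : TI A' := ti_map hA g
  have hA'2 : IsPGroup 2 A' := hA2.map _
  have hab' : ∀ a ∈ A', ∀ b ∈ A', Commute a b := by
    rintro _ ⟨a, ha, rfl⟩ _ ⟨b, hb, rfl⟩
    exact (hAa a ha b hb).map _
  have hd : A ⊓ A' = ⊥ := eq_bot_iff.mpr fun c hc => by
    obtain ⟨d, hd, rfl⟩ := hc.2
    rw [mem_bot, MulEquiv.coe_toMonoidHom, MulAut.conj_apply, conj_eq_one_iff]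
    exact meet hA hgN hd hc.1
  have ha₀2 : a₀ ^ 2 ≠ 1 := fun e => ha₀4 (by rw [e, one_pow])
  have hsq' : ∀ y ∈ A', y ^ 2 ∈ Q := by
    rintro _ ⟨c, hc, rfl⟩
    rw [← map_pow]
    exact Normal.conj_mem inferInstance _ (part1 c hc) g
  have hex' : ∃ y ∈ A', (y ^ 2) ^ 2 ≠ 1 := ⟨_, mem_map_of_mem _ ha₀, fun e => ha₀4 ((MulAut.conj g).injective (by
    rw [map_one, map_pow, map_pow]; exact e))⟩
  have hex'2 : ∃ y ∈ A', y ^ 2 ≠ 1 := hex'.imp fun y h => ⟨h.1, fun e => h.2 (by rw [e, one_pow])⟩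
  have hcomm : ∀ x ∈ A, x ∈ Q → ∀ y ∈ A', y ∈ Q → Commute ⁅y, x⁆ x ∧ Commute ⁅y, x⁆ y := fun x hx hxQ y hy hyQ => by
    constructor
    · rw [commutatorElement_def]
      exact ((key A hA hA2 hAa ⟨a₀, ha₀, ha₀2⟩ y hyQ x hx x hx).symm).mul_left ((Commute.refl x).inv_left)
    · rw [commutatorElement_def, mul_assoc, mul_assoc]
      refine (Commute.refl y).mul_left ?_
      have := (key A' hA' hA'2 hab' hex'2 x hxQ y hy y⁻¹ (inv_mem hy)).symm
      rwa [mul_assoc] at this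
  have hy' : g * b ^ 2 * g⁻¹ ∈ A' := ⟨b ^ 2, pow_mem hb 2, rfl⟩
  have hyQ : g * b ^ 2 * g⁻¹ ∈ Q := Normal.conj_mem inferInstance _ (part1 b hb) g
  have hN1 : g * b ^ 2 * g⁻¹ ∈ normalizer (A : Set G) :=
    pair hA hA' hA2 hA'2 hd (pow_mem ha₀ 2) hy' (hcomm _ (pow_mem ha₀ 2) (part1 _ ha₀) _ hy' hyQ).1
      (hcomm _ (pow_mem ha₀ 2) (part1 _ ha₀) _ hy' hyQ).2 ha₀4
  have hN2 : a ^ 2 ∈ normalizer (A' : Set G) := by
    obtain ⟨y, hy, hy4⟩ := hex'
    have hc := hcomm _ (pow_mem ha 2) (part1 a ha) _ (pow_mem hy 2) (hsq' y hy)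
    refine pair hA' hA hA'2 hA2 (by rw [inf_comm]; exact hd) (pow_mem hy 2) (pow_mem ha 2) ?_ ?_ hy4
    · rw [← commutatorElement_inv]; exact hc.2.inv_left
    · rw [← commutatorElement_inv]; exact hc.1.inv_left
  exact (commutatorElement_eq_one_iff_mul_comm.mp
    (eq_one_of_normalize hd (pow_mem ha 2) hy' hN1 hN2)).symm

end Cfsg.Lib.TISquares
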