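import Cfsg.Agent.Components.Misc.LocalIndex
import Cfsg.Agent.PGroups.Basic
import Cfsg.Prelude.Def_Local

/-! A tightly embedded subgroup and one of its conjugates. -/

set_option linter.style.haveILetI false
set_option linter.unusedSectionVars false

namespace Cfsg.Lib.Misc.TightPair

open Subgroup

universe u

variable {G : Type u} [Group G] [Finite G]

theorem centralizer_le_of_tight {K : Subgroup G} (hK : Cfsg.IsTightlyEmbedded K) {x : G} (hx : x ∈ K)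
    (hx1 : x ≠ 1) (hx2 : ∃ k, x ^ 2 ^ k = 1) {c : G} (hc : c * x = x * c) : c ∈ normalizer (K : Set G) := by
  by_contra hcn
  have hmem : x ∈ K ⊓ K.map (MulAut.conj c).toMonoidHom :=
    mem_inf.2 ⟨hx, x, hx, by show c * x * c⁻¹ = x; rw [hc]; group⟩
  have hodd : Odd (orderOf x) := (hK.2 c hcn).of_dvd_nat (by
    rw [← Subgroup.orderOf_mk x hmem]; exact orderOf_dvd_natCard _)
  obtain ⟨k, hk⟩ := hx2
  exact hx1 (orderOf_eq_one_iff.1 (Nat.eq_one_of_dvd_coprimes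
    ((Nat.coprime_two_left.2 hodd).pow_left k) (orderOf_dvd_of_pow_eq_one hk) dvd_rfl))

theorem tight_conj {K : Subgroup G} (hK : Cfsg.IsTightlyEmbedded K) (g : G) :
    Cfsg.IsTightlyEmbedded (K.map (MulAut.conj g).toMonoidHom) := by
  refine ⟨by rw [card_map_of_injective (MulAut.conj g).injective]; exact hK.1, fun h hh => ?_⟩
  have hh' : g⁻¹ * h * g ∉ normalizer (K : Set G) := fun hn => hh (by
    rw [← map_equiv_normalizer_eq K (MulAut.conj g)]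
    exact ⟨_, hn, by simp [mul_assoc]⟩)
  have h1 := hK.2 _ hh'
  rw [← card_map_of_injective (f := (MulAut.conj g).toMonoidHom) (MulAut.conj g).injective,
    Subgroup.map_inf _ _ _ (MulAut.conj g).injective] at h1
  convert h1 using 6
  ext y
  constructor
  · rintro ⟨_, ⟨k, hk, rfl⟩, rfl⟩
    exact ⟨_, ⟨k, hk, rfl⟩, by simp [mul_assoc]⟩
  · rintro ⟨_, ⟨k, hk, rfl⟩, rfl⟩
    exact ⟨_, ⟨k, hk, rfl⟩, by simp [mul_assoc]⟩

/-- A commuting pair `A`, `B` inside `P ⋊ A` gives an injective map of `A` into `B`, unless `P = B`. -/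
theorem exists_injective {P A B : Subgroup G} (hP : IsPGroup 2 P) (hA : IsPGroup 2 A) (hBP : B ≤ P)
    (hAP : A ≤ normalizer (P : Set G)) (hAB : ∀ a ∈ A, ∀ b ∈ B, a * b = b * a)
    (hfix : ∀ a ∈ A, a ≠ 1 → ∀ n ∈ P, n * a = a * n → n ∈ B) (hne : B ≠ P) :
    ∃ f : A →* B, Function.Injective f := by
  set N := P ⊓ normalizer (B : Set G)
  set W := N ⊔ A
  have hAN : A ≤ normalizer (B : Set G) := fun a ha => mem_normalizer_iff.2 fun b =>
    ⟨fun hb => by rwa [hAB a ha b hb, mul_inv_cancel_right], fun hb => by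
      have := hAB a⁻¹ (inv_mem ha) _ hb
      rwa [show b = a⁻¹ * (a * b * a⁻¹) * a by group, this, inv_mul_cancel_right]⟩
  have hANN : A ≤ normalizer (N : Set G) := le_normalizer_iff.2 fun a ha n hn => mem_inf.2
    ⟨(mem_normalizer_iff.1 (hAP ha) n).1 (mem_inf.1 hn).1,
      mul_mem (mul_mem (hAN ha) (mem_inf.1 hn).2) (inv_mem (hAN ha))⟩
  have hW : IsPGroup 2 W := (hP.to_le inf_le_left).to_sup_of_normal_left' hA hANN
  have hWB : W ≤ normalizer (B : Set G) := sup_le inf_le_right hAN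
  haveI : (B.subgroupOf W).Normal := normal_subgroupOf_of_le_normalizer hWB
  haveI : (N.subgroupOf W).Normal := normal_subgroupOf_of_le_normalizer (sup_le le_normalizer hANN)
  set π := QuotientGroup.mk' (B.subgroupOf W)
  haveI : ((N.subgroupOf W).map π).Normal := Normal.map inferInstance π (QuotientGroup.mk'_surjective _)
  obtain ⟨x, hxN, hxB⟩ : ∃ x ∈ N, x ∉ B := by
    haveI : Group.IsNilpotent P := hP.isNilpotent
    obtain ⟨x, hx, hxB⟩ := SetLike.exists_of_lt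
      (Group.normalizerCondition_of_isNilpotent (B.subgroupOf P)
        (lt_top_iff_ne_top.2 fun h => hne (le_antisymm hBP (subgroupOf_eq_top.1 h))))
    refine ⟨x, mem_inf.2 ⟨x.2, mem_normalizer_iff.2 fun b => ⟨fun hb => ?_, fun hb => ?_⟩⟩, hxB⟩
    · exact (mem_normalizer_iff.1 hx ⟨b, hBP hb⟩).1 hb
    · have hb' : b ∈ P := by
        have := mul_mem (mul_mem (inv_mem x.2) (hBP hb)) x.2
        simpa [mul_assoc] using this
      exact (mem_normalizer_iff.1 hx ⟨b, hb'⟩).2 hb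
  have hNne : (N.subgroupOf W).map π ≠ ⊥ := fun h => hxB <| by
    have h1 : π ⟨x, mem_sup_left hxN⟩ ∈ (⊥ : Subgroup _) := h ▸ mem_map_of_mem π hxN
    exact (QuotientGroup.eq_one_iff (⟨x, mem_sup_left hxN⟩ : W)).1 (mem_bot.1 h1)
  obtain ⟨z, hz, hzc, hzo⟩ := Cfsg.Lib.PGroups.exists_mem_center_of_normal_ne_bot
    (hW.to_quotient (B.subgroupOf W)) hNne
  obtain ⟨⟨n, hnW⟩, hn, rfl⟩ := hz
  have hnB : n ∉ B := fun h => by
    rw [show π ⟨n, hnW⟩ = 1 from (QuotientGroup.eq_one_iff _).2 h, orderOf_one] at hzo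
    exact absurd hzo (by norm_num)
  have hnN : n ∈ N := hn
  have hcm : ∀ a ∈ A, n * a * n⁻¹ * a⁻¹ ∈ B := fun a ha => by
    have h1 : π (⟨n, hnW⟩ * ⟨a, mem_sup_right ha⟩ * ⟨n, hnW⟩⁻¹ * ⟨a, mem_sup_right ha⟩⁻¹) = 1 := by
      rw [map_mul, map_mul, map_mul, map_inv, map_inv,
        ← mem_center_iff.1 hzc (π ⟨a, mem_sup_right ha⟩), mul_inv_cancel_right, mul_inv_cancel]
    let nn : W := ⟨n, hnW⟩
    let aw : W := ⟨a, mem_sup_right ha⟩
    exact (QuotientGroup.eq_one_iff (nn * aw * nn⁻¹ * aw⁻¹)).1 h1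
  refine ⟨MonoidHom.mk' (fun a => ⟨_, hcm a a.2⟩) fun a a' => Subtype.ext ?_, ?_⟩
  · have h1 := hAB _ a.2 _ (hcm a' a'.2)
    show n * ((a : G) * a') * n⁻¹ * ((a : G) * a')⁻¹ = (n * a * n⁻¹ * (a : G)⁻¹) * (n * a' * n⁻¹ * (a' : G)⁻¹)
    calc n * ((a : G) * a') * n⁻¹ * ((a : G) * a')⁻¹
        = n * a * n⁻¹ * (n * a' * n⁻¹ * (a' : G)⁻¹) * (a : G)⁻¹ := by group
      _ = n * a * n⁻¹ * (a : G)⁻¹ * ((a : G) * (n * a' * n⁻¹ * (a' : G)⁻¹)) * (a : G)⁻¹ := by group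
      _ = _ := by rw [h1]; group
  · refine (injective_iff_map_eq_one _).2 fun a ha => ?_
    by_contra hne1
    have h1 : n * (a : G) * n⁻¹ * (a : G)⁻¹ = 1 := congrArg Subtype.val ha
    exact hnB (hfix a a.2 (fun h => hne1 (Subtype.ext h)) n (mem_inf.1 hnN).1
      (mul_inv_eq_iff_eq_mul.1 (mul_inv_eq_one.1 h1)))

theorem inf_sylow_index {S K W : Subgroup G} (hKW : K ≤ W) (hWK : W ≤ normalizer (K : Set G))
    (_hSW : S ≤ W) (hS : ¬ 2 ∣ S.relIndex W) : ¬ 2 ∣ (S ⊓ K).relIndex K := by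
  haveI : (K.subgroupOf W).Normal := normal_subgroupOf_of_le_normalizer hWK
  intro hd
  refine hS (hd.trans ?_)
  have h := Cfsg.Lib.LocalIndex.relIndex_dvd_index (S.subgroupOf W) (K.subgroupOf W)
  rw [← show (S ⊓ K).subgroupOf W = S.subgroupOf W ⊓ K.subgroupOf W from comap_inf S K W.subtype,
    relIndex_subgroupOf hKW] at h
  exact h

theorem eq_of_index {A B K : Subgroup G} (hAB : A ≤ B) (hBK : B ≤ K) (hB : IsPGroup 2 B)
    (hA : ¬ 2 ∣ A.relIndex K) : A = B := by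
  refine le_antisymm hAB (relIndex_eq_one.1 ?_)
  obtain ⟨k, hk⟩ := IsPGroup.iff_card.1 hB
  refine Nat.eq_one_of_dvd_coprimes ?_ dvd_rfl ((relIndex_dvd_card A B).trans hk.dvd)
  refine (Nat.Prime.coprime_iff_not_dvd Nat.prime_two).2 ?_ |>.symm.pow_right k
  exact fun h => hA (h.trans (Dvd.intro _ (relIndex_mul_relIndex A B K hAB hBK)))

theorem tight_pair (Q : Subgroup G) (hQ : Cfsg.IsTightlyEmbedded Q) (g : G)
    (hg : g ∉ normalizer (Q : Set G)) (T : Subgroup G) (hT1 : T ≠ ⊥)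
    (hT : T ≤ Q.map (MulAut.conj g).toMonoidHom ⊓ normalizer (Q : Set G))
    (hTsyl : IsPGroup 2 T ∧ ¬ 2 ∣ T.relIndex (Q.map (MulAut.conj g).toMonoidHom ⊓ normalizer (Q : Set G)))
    (S : Subgroup G) (hTS : T ≤ S) (hS : S ≤ Q ⊔ T) (hSsyl : IsPGroup 2 S ∧ ¬ 2 ∣ S.relIndex (Q ⊔ T)) :
    T ⊓ Q = ⊥ ∧ T ⊓ (S ⊓ normalizer (T : Set G) ⊓ Q) = ⊥ ∧
      ⁅T, S ⊓ normalizer (T : Set G) ⊓ Q⁆ = ⊥ ∧
      T ⊔ (S ⊓ normalizer (T : Set G) ⊓ Q) = S ⊓ normalizer (T : Set G) ∧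
      Nonempty (↥(S ⊓ normalizer (T : Set G) ⊓ Q) ≃* T) := by
  obtain ⟨hT2, hTi⟩ := hTsyl
  obtain ⟨hS2, hSi⟩ := hSsyl
  set R := Q.map (MulAut.conj g).toMonoidHom with hR
  set U := S ⊓ normalizer (T : Set G) ⊓ Q with hU
  have hTR : T ≤ R := hT.trans inf_le_left
  have hTN : T ≤ normalizer (Q : Set G) := hT.trans inf_le_right
  have hTQ : T ⊓ Q = ⊥ := by
    have h1 : Odd (Nat.card ↥(T ⊓ Q)) := (hQ.2 g hg).of_dvd_nat
      (card_dvd_of_le (le_inf inf_le_right (inf_le_left.trans hTR)))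
    obtain ⟨k, hk⟩ := IsPGroup.iff_card.1 (hT2.to_le (inf_le_left : T ⊓ Q ≤ T))
    rcases Nat.eq_zero_or_pos k with rfl | hk0
    · exact card_eq_one.1 (by rw [hk, pow_zero])
    · rw [hk] at h1
      exact absurd h1 (Nat.not_odd_iff_even.2 (Nat.even_pow.2 ⟨even_two, hk0.ne'⟩))
  have hUm : ∀ x ∈ U, x ∈ S ∧ x ∈ normalizer (T : Set G) ∧ x ∈ Q := fun x hx =>
    ⟨(mem_inf.1 (mem_inf.1 hx).1).1, (mem_inf.1 (mem_inf.1 hx).1).2, (mem_inf.1 hx).2⟩
  have hcomm : ∀ t ∈ T, ∀ u ∈ U, t * u = u * t := fun t ht u hu => by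
    obtain ⟨-, huT, huQ⟩ := hUm u hu
    have h1 : t * u * t⁻¹ * u⁻¹ ∈ T ⊓ Q := mem_inf.2 ⟨by
      rw [show t * u * t⁻¹ * u⁻¹ = t * (u * t⁻¹ * u⁻¹) by group]
      exact mul_mem ht ((mem_normalizer_iff.1 huT _).1 (inv_mem ht)),
      mul_mem ((mem_normalizer_iff.1 (hTN ht) u).1 huQ) (inv_mem huQ)⟩
    rw [hTQ, mem_bot] at h1
    exact mul_inv_eq_iff_eq_mul.1 (mul_inv_eq_one.1 h1)
  have hsup : T ⊔ U = S ⊓ normalizer (T : Set G) := by
    refine le_antisymm (sup_le (le_inf hTS le_normalizer) inf_le_left) fun x hx => ?_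
    obtain ⟨hxS, hxN⟩ := mem_inf.1 hx
    obtain ⟨q, hq, t, ht, rfl⟩ := (Cfsg.Lib.Coprime.mem_sup_of_le_normalizer hTN).1 (hS hxS)
    refine mul_mem (mem_sup_right ?_) (mem_sup_left ht)
    refine mem_inf.2 ⟨mem_inf.2 ⟨?_, ?_⟩, hq⟩
    · simpa using mul_mem hxS (inv_mem (hTS ht))
    · simpa using mul_mem hxN (inv_mem (le_normalizer ht))
  refine ⟨hTQ, ?_, commutator_eq_bot_iff_le_centralizer.2 fun t ht u hu => (hcomm t ht u hu).symm, hsup, ?_⟩
  · exact eq_bot_iff.2 ((inf_le_inf_left T inf_le_right).trans hTQ.le)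
  -- the comparison of `U` and `T`
  have hRt := tight_conj hQ g
  have htwo : ∀ {K : Subgroup G}, IsPGroup 2 K → ∀ x ∈ K, ∃ k, x ^ 2 ^ k = 1 := fun {K} hK x hx =>
    let ⟨k, hk⟩ := hK ⟨x, hx⟩; ⟨k, congrArg Subtype.val hk⟩
  have hSN : S ≤ normalizer (Q : Set G) := hS.trans (sup_le le_normalizer hTN)
  have hSR : T = S ⊓ R :=
    eq_of_index (le_inf hTS hTR) (le_inf inf_le_right (inf_le_left.trans hSN)) (hS2.to_le inf_le_left) hTi
  set Q2 := S ⊓ Q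
  have hQ2i : ¬ 2 ∣ Q2.relIndex Q :=
    inf_sylow_index le_sup_left (sup_le le_normalizer hTN) hS hSi
  have hUQ2 : U ≤ Q2 := le_inf (inf_le_left.trans inf_le_left) inf_le_right
  have hfixT : ∀ t ∈ T, t ≠ 1 → ∀ n ∈ Q2, n * t = t * n → n ∈ U := by
    intro t ht ht1 n hn hnt
    have hnR := centralizer_le_of_tight hRt (hTR ht) ht1 (htwo hT2 t ht) hnt
    refine mem_inf.2 ⟨mem_inf.2 ⟨(mem_inf.1 hn).1, ?_⟩, (mem_inf.1 hn).2⟩
    rw [hSR]
    refine mem_normalizer_iff_map_conj_eq.2 (eq_of_le_of_card_ge ?_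
      (card_map_of_injective (MulAut.conj n).injective).ge)
    rintro _ ⟨s, hs, rfl⟩
    exact mem_inf.2 ⟨mul_mem (mul_mem (mem_inf.1 hn).1 (mem_inf.1 hs).1) (inv_mem (mem_inf.1 hn).1),
      (mem_normalizer_iff.1 hnR s).1 (mem_inf.1 hs).2⟩
  -- a Sylow subgroup of `R` normalized by `U`
  obtain ⟨t0, ht0, ht01⟩ : ∃ t ∈ T, t ≠ 1 := by
    by_contra h
    push Not at h
    exact hT1 (eq_bot_iff.2 fun x hx => mem_bot.2 (h x hx))
  have hUR : U ≤ normalizer (R : Set G) := fun u hu =>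
    centralizer_le_of_tight hRt (hTR ht0) ht01 (htwo hT2 t0 ht0) (hcomm t0 ht0 u hu).symm
  have hUT2 : IsPGroup 2 ↥(T ⊔ U : Subgroup G) := hS2.to_le (hsup ▸ inf_le_left)
  have hWle : T ⊔ U ≤ R ⊔ U := sup_le_sup_right hTR U
  obtain ⟨W, hW⟩ := (hUT2.comap_subtype (K := R ⊔ U)).exists_le_sylow
  set W' := (W : Subgroup ↥(R ⊔ U)).map (R ⊔ U).subtype
  have hW'2 : IsPGroup 2 W' := W.2.map _
  have hW'le : T ⊔ U ≤ W' := fun x hx => ⟨⟨x, hWle hx⟩, hW (x := ⟨x, hWle hx⟩) hx, rfl⟩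
  have hW'i : ¬ 2 ∣ W'.relIndex (R ⊔ U) := by
    rw [relIndex, subgroupOf, comap_map_eq_self_of_injective (R ⊔ U).subtype_injective]
    exact W.not_dvd_index
  set R2 := W' ⊓ R
  have hR2i : ¬ 2 ∣ R2.relIndex R :=
    inf_sylow_index le_sup_left (sup_le le_normalizer hUR) (map_subtype_le _) hW'i
  have hTR2 : T ≤ R2 := le_inf (le_sup_left.trans hW'le) hTR
  have hUn : U ≤ normalizer (R2 : Set G) := le_normalizer_iff.2 fun u hu r hr => mem_inf.2
    ⟨mul_mem (mul_mem (hW'le (mem_sup_right hu)) (mem_inf.1 hr).1) (inv_mem (hW'le (mem_sup_right hu))),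
      (mem_normalizer_iff.1 (hUR hu) r).1 (mem_inf.1 hr).2⟩
  have hTQ2 : T ≤ normalizer (Q2 : Set G) := le_normalizer_iff.2 fun t ht q hq => mem_inf.2
    ⟨mul_mem (mul_mem (hTS ht) (mem_inf.1 hq).1) (inv_mem (hTS ht)),
      (mem_normalizer_iff.1 (hTN ht) q).1 (mem_inf.1 hq).2⟩
  have hfixU : ∀ u ∈ U, u ≠ 1 → ∀ n ∈ R2, n * u = u * n → n ∈ T := by
    intro u hu hu1 n hn hnu
    have hnQ := centralizer_le_of_tight hQ (hUm u hu).2.2 hu1 (htwo hS2 u (hUm u hu).1) hnu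
    have := eq_of_index (A := T) (B := R2 ⊓ normalizer (Q : Set G)) (le_inf hTR2 hTN)
      (inf_le_inf_right _ inf_le_right) (hW'2.to_le (inf_le_left.trans inf_le_left)) hTi
    rw [this]
    exact mem_inf.2 ⟨hn, hnQ⟩
  -- the two Sylow subgroups are isomorphic
  set Q2g := Q2.map (MulAut.conj g).toMonoidHom
  have hQ2gR : Q2g ≤ R := map_mono inf_le_right
  have hQ2gi : ¬ 2 ∣ Q2g.relIndex R := by
    rw [relIndex_map_map_of_injective _ _ (MulAut.conj g).injective]; exact hQ2i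
  have hQ2p : IsPGroup 2 Q2 := hS2.to_le inf_le_left
  obtain ⟨e⟩ : Nonempty (↥Q2 ≃* ↥R2) := by
    set A : Sylow 2 R := ((hQ2p.map (MulAut.conj g).toMonoidHom).comap_subtype (K := R)).toSylow hQ2gi
    set B : Sylow 2 R := ((hW'2.to_le (inf_le_left : R2 ≤ W')).comap_subtype (K := R)).toSylow hR2i
    obtain ⟨r, hr⟩ := MulAction.exists_smul_eq R A B
    refine ⟨((Q2.equivMapOfInjective _ (MulAut.conj g).injective).trans
      (subgroupOfEquivOfLe hQ2gR).symm).trans ((MulEquiv.trans ?_ (subgroupOfEquivOfLe inf_le_right)))⟩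
    refine ((MulAut.conj r).subgroupMap (A : Subgroup R)).trans (MulEquiv.subgroupCongr ?_)
    exact congrArg (fun X : Sylow 2 R => (X : Subgroup R)) hr
  -- conclusion
  have hbij : ∀ {A B : Subgroup G} (f : A →* B), Function.Injective f → Nat.card B ≤ Nat.card A →
      Nonempty (A ≃* B) := fun {A B} f hf h => ⟨MulEquiv.ofBijective f
        (hf.bijective_of_nat_card_le h)⟩
  have hQR : Nat.card Q2 = Nat.card R2 := Nat.card_congr e.toEquiv
  by_cases hTe : T = R2 <;> by_cases hUe : U = Q2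
  · exact ⟨(MulEquiv.subgroupCongr hUe).trans (e.trans (MulEquiv.subgroupCongr hTe.symm))⟩
  · obtain ⟨f, hf⟩ := exists_injective hQ2p hT2 hUQ2 hTQ2 hcomm hfixT hUe
    obtain ⟨i⟩ := hbij f hf ((card_le_of_le hUQ2).trans (by rw [hQR, hTe]))
    exact ⟨i.symm⟩
  · obtain ⟨f, hf⟩ := exists_injective (hW'2.to_le inf_le_left) (hS2.to_le (hUQ2.trans inf_le_left)) hTR2
      hUn (fun a ha b hb => (hcomm b hb a ha).symm) hfixU hTe
    exact hbij f hf ((card_le_of_le hTR2).trans (by rw [← hQR, hUe]))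
  · obtain ⟨f, hf⟩ := exists_injective hQ2p hT2 hUQ2 hTQ2 hcomm hfixT hUe
    obtain ⟨f', hf'⟩ := exists_injective (hW'2.to_le inf_le_left) (hS2.to_le (hUQ2.trans inf_le_left)) hTR2
      hUn (fun a ha b hb => (hcomm b hb a ha).symm) hfixU hTe
    exact hbij f' hf' (Nat.card_le_card_of_injective f hf)

end Cfsg.Lib.Misc.TightPair
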