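import Mathlib
import Cfsg.Agent.Components.Local

/-!
The centralizer of a transvection over the field with two elements has characteristic two.
-/

set_option linter.style.haveILetI false
set_option linter.unusedSectionVars false

namespace Cfsg.Lib.TransvC

open Matrix

universe u

variable {G : Type u} [Group G] [Finite G]

/-- a self-centralizing normal `p`-subgroup -/
theorem genFitting_eq_of_selfCentral {p : ℕ} [Fact p.Prime] (U : Subgroup G) [U.Normal] (hU : IsPGroup p U)
    (hC : Subgroup.centralizer (U : Set G) ≤ U) :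
    Cfsg.generalizedFittingSubgroup G = Cfsg.pCore p G := by
  have hUO : U ≤ Cfsg.pCore p G := Cfsg.Lib.Components.le_pCore hU
  have hO : Cfsg.pPrimeCore p G = ⊥ := by
    have h1 : Cfsg.pPrimeCore p G ≤ Subgroup.centralizer (Cfsg.pCore p G : Set G) := by
      rw [← Subgroup.commutator_eq_bot_iff_le_centralizer]
      exact Cfsg.Lib.Components.pPrimeCore_commute_pCore
    have h2 : Cfsg.pPrimeCore p G ≤ Cfsg.pCore p G ⊓ Cfsg.pPrimeCore p G :=
      le_inf ((h1.trans (Subgroup.centralizer_le hUO)).trans (hC.trans hUO)) le_rfl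
    rwa [Cfsg.Lib.Components.coprime_pGroup_disjoint (Cfsg.Lib.Components.isPGroup_pCore p)
      (Cfsg.Lib.Components.coprime_card_pPrimeCore p), le_bot_iff] at h2
  refine Cfsg.Lib.Components.genFitting_eq_pCore_iff.mpr ⟨hO, ?_⟩
  have hl : Cfsg.layer G ≤ Cfsg.pCore p G := by
    refine ((Subgroup.commutator_eq_bot_iff_le_centralizer.mp Cfsg.Lib.Components.layer_commute_fitting).trans
      (Subgroup.centralizer_le ?_)).trans (hC.trans hUO)
    rw [Cfsg.Lib.Components.fitting_eq_pCore hO]
    exact hUO
  rw [← le_bot_iff]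
  refine sSup_le fun L hL => ?_
  haveI := ((Cfsg.Lib.Components.isPGroup_pCore p).to_le ((Cfsg.Lib.Components.comp_le_layer hL).trans hl)).isNilpotent
  exact (Cfsg.Lib.Components.comp_not_isSolvable hL inferInstance).elim

variable {n : Type} [Fintype n] [DecidableEq n] {F : Type u} [Field F]

theorem comm_entries {i j : n} {A : Matrix n n F} (h : transvection i j (1 : F) * A = A * transvection i j 1)
    (a b : n) : (if a = i then A j b else 0) = (if b = j then A a i else 0) := by
  simp only [transvection, add_mul, one_mul, mul_add, mul_one, add_right_inj] at h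
  have h2 := congrFun (congrFun h a) b
  simpa [Matrix.mul_apply, Matrix.single_apply, eq_comm, ite_and, Finset.sum_ite_eq'] using h2

/-- two elements -/
theorem eq_zero_or_one [Fintype F] (hF : Fintype.card F = 2) (x : F) : x = 0 ∨ x = 1 := by
  classical
  by_contra h
  push Not at h
  have h3 : ({0, 1, x} : Finset F).card = 3 := by
    rw [Finset.card_insert_of_notMem (by simp [Ne.symm h.1]),
      Finset.card_insert_of_notMem (by simp [Ne.symm h.2]), Finset.card_singleton]
  have := Finset.card_le_univ ({0, 1, x} : Finset F)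
  omega

theorem main [Fintype F] (hF : Fintype.card F = 2) {i j : n} (hij : i ≠ j)
    (t : SpecialLinearGroup n F) (ht : (t : Matrix n n F) = transvection i j 1) :
    Cfsg.generalizedFittingSubgroup ↥(Subgroup.centralizer ({t} : Set (SpecialLinearGroup n F))) =
      Cfsg.pCore 2 ↥(Subgroup.centralizer ({t} : Set (SpecialLinearGroup n F))) := by
  classical
  haveI : Fact (Nat.Prime 2) := ⟨Nat.prime_two⟩
  haveI : CharP F 2 := by
    obtain ⟨p, hp⟩ := CharP.exists F
    obtain ⟨k, hp', hk⟩ := FiniteField.card F p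
    rw [hF] at hk
    have : p = 2 := (Nat.prime_dvd_prime_iff_eq hp' Nat.prime_two).mp (hk ▸ dvd_pow_self p k.pos.ne')
    exact this ▸ hp
  set C := Subgroup.centralizer ({t} : Set (SpecialLinearGroup n F))
  set mat : C → Matrix n n F := fun g => ((g : SpecialLinearGroup n F) : Matrix n n F)
  have hmul : ∀ g h : C, mat (g * h) = mat g * mat h := fun g h => rfl
  have hone : mat 1 = 1 := rfl
  have hC : ∀ g : C, transvection i j (1 : F) * mat g = mat g * transvection i j 1 := fun g => by
    rw [← ht]
    exact congrArg (fun x : SpecialLinearGroup n F => (x : Matrix n n F))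
      (Subgroup.mem_centralizer_singleton_iff.mp g.2).symm
  have hci : ∀ (g : C) (a : n), a ≠ i → mat g a i = 0 := fun g a ha => by
    simpa [ha] using (comm_entries (hC g) a j).symm
  have hrj : ∀ (g : C) (b : n), b ≠ j → mat g j b = 0 := fun g b hb => by
    simpa [hb] using comm_entries (hC g) i b
  have hdiag : ∀ g : C, mat g j j = 1 ∧ mat g i i = 1 := fun g => by
    have h1 : mat g j j = mat g i i := by simpa using comm_entries (hC g) i j
    rcases eq_zero_or_one hF (mat g j j) with h0 | h0
    · exfalso
      have hz : ∀ b, mat g j b = 0 := fun b => by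
        by_cases hb : b = j
        · rw [hb, h0]
        · exact hrj g b hb
      exact one_ne_zero ((g : SpecialLinearGroup n F).2.symm.trans (Matrix.det_eq_zero_of_row_eq_zero j hz))
    · exact ⟨h0, h1 ▸ h0⟩
  let U : Subgroup C :=
    { carrier := {g | ∀ a b, a ≠ i → a ≠ j → b ≠ i → b ≠ j → mat g a b = (1 : Matrix n n F) a b}
      one_mem' := fun a b _ _ _ _ => by rw [hone]
      mul_mem' := fun {g h} hg hh a b ha1 ha2 hb1 hb2 => by
        rw [hmul, Matrix.mul_apply, Finset.sum_eq_single a]
        · rw [hg a a ha1 ha2 ha1 ha2, Matrix.one_apply_eq, one_mul, hh a b ha1 ha2 hb1 hb2]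
        · intro k _ hk
          by_cases hki : k = i
          · rw [hki, hci g a ha1, zero_mul]
          by_cases hkj : k = j
          · rw [hkj, hrj h b hb2, mul_zero]
          rw [hg a k ha1 ha2 hki hkj, Matrix.one_apply_ne (Ne.symm hk), zero_mul]
        · exact fun h => absurd (Finset.mem_univ a) h
      inv_mem' := fun {g} hg a b ha1 ha2 hb1 hb2 => by
        have h1 : mat (g * g⁻¹) a b = (1 : Matrix n n F) a b := by rw [mul_inv_cancel, hone]
        rw [hmul, Matrix.mul_apply, Finset.sum_eq_single a] at h1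
        · rwa [hg a a ha1 ha2 ha1 ha2, Matrix.one_apply_eq, one_mul] at h1
        · intro k _ hk
          by_cases hki : k = i
          · rw [hki, hci g a ha1, zero_mul]
          by_cases hkj : k = j
          · rw [hkj, hrj g⁻¹ b hb2, mul_zero]
          rw [hg a k ha1 ha2 hki hkj, Matrix.one_apply_ne (Ne.symm hk), zero_mul]
        · exact fun h => absurd (Finset.mem_univ a) h }
  -- the product seen outside `i, j`
  have hprod : ∀ (g h : C) a b, a ≠ i → b ≠ j →
      mat (g * h) a b = ∑ k ∈ (Finset.univ.filter fun k => k ≠ i ∧ k ≠ j), mat g a k * mat h k b := by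
    intro g h a b ha hb
    rw [hmul, Matrix.mul_apply, Finset.sum_filter]
    refine Finset.sum_congr rfl fun k _ => ?_
    by_cases hki : k = i
    · rw [if_neg (fun h => h.1 hki), hki, hci g a ha, zero_mul]
    by_cases hkj : k = j
    · rw [if_neg (fun h => h.2 hkj), hkj, hrj h b hb, mul_zero]
    rw [if_pos ⟨hki, hkj⟩]
  haveI : U.Normal := ⟨fun u hu g a b ha1 ha2 hb1 hb2 => by
    rw [← show mat (g * g⁻¹) a b = (1 : Matrix n n F) a b by rw [mul_inv_cancel, hone],
      hprod (g * u) g⁻¹ a b ha1 hb2, hprod g g⁻¹ a b ha1 hb2]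
    refine Finset.sum_congr rfl fun k hk => ?_
    simp only [Finset.mem_filter, Finset.mem_univ, true_and] at hk
    congr 1
    rw [hprod g u a k ha1 hk.2, Finset.sum_eq_single k]
    · rw [hu k k hk.1 hk.2 hk.1 hk.2, Matrix.one_apply_eq, mul_one]
    · intro l hl hlk
      simp only [Finset.mem_filter, Finset.mem_univ, true_and] at hl
      rw [hu l k hl.1 hl.2 hk.1 hk.2, Matrix.one_apply_ne hlk, mul_zero]
    · intro h
      exact absurd (Finset.mem_filter.mpr ⟨Finset.mem_univ k, hk⟩) h⟩
  have hU : IsPGroup 2 U := by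
    intro u
    refine ⟨2, Subtype.ext (Subtype.ext (Subtype.ext ?_))⟩
    set N : Matrix n n F := mat (u : C) - 1 with hN
    have hN0 : ∀ a b, N a b ≠ 0 → (a = i ∧ b ≠ i) ∨ (b = j ∧ a ≠ j) := by
      intro a b hab
      by_contra hcon
      push Not at hcon
      refine hab ?_
      rw [hN, Matrix.sub_apply, sub_eq_zero]
      by_cases hai : a = i
      · rw [hcon.1 hai, hai, (hdiag u).2, Matrix.one_apply_eq]
      by_cases hbj : b = j
      · rw [hcon.2 hbj, hbj, (hdiag u).1, Matrix.one_apply_eq]
      by_cases hbi : b = i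
      · rw [hbi, hci u a hai, Matrix.one_apply_ne hai]
      by_cases haj : a = j
      · rw [haj, hrj u b hbj, Matrix.one_apply_ne (Ne.symm hbj)]
      exact u.2 a b hai haj hbi hbj
    have hN3 : N * N * N = 0 := by
      ext a b
      rw [Matrix.mul_apply, Matrix.zero_apply]
      refine Finset.sum_eq_zero fun d _ => ?_
      rw [Matrix.mul_apply, Finset.sum_mul]
      refine Finset.sum_eq_zero fun c _ => ?_
      by_contra hne
      have h1 : N a c ≠ 0 := left_ne_zero_of_mul (left_ne_zero_of_mul hne)
      have h2 : N c d ≠ 0 := right_ne_zero_of_mul (left_ne_zero_of_mul hne)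
      have h3 : N d b ≠ 0 := right_ne_zero_of_mul hne
      rcases hN0 c d h2 with ⟨hc, hd⟩ | ⟨hd, hc⟩
      · rcases hN0 a c h1 with ⟨-, h⟩ | ⟨h, -⟩
        · exact h hc
        · exact hij (hc.symm.trans h)
      · rcases hN0 d b h3 with ⟨h, -⟩ | ⟨-, h⟩
        · exact hij (h.symm.trans hd)
        · exact h hd
    show (mat (u : C)) ^ (2 ^ 2) = 1
    have hu : mat (u : C) = 1 + N := by rw [hN]; abel
    have h2 : (1 + N) * (1 + N) = 1 + N * N := by
      have : N + N = 0 := by ext a b; exact CharTwo.add_self_eq_zero _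
      calc (1 + N) * (1 + N) = 1 + (N + N) + N * N := by noncomm_ring
        _ = _ := by rw [this, add_zero]
    have h4 : N * N * (N * N) = 0 := by rw [← mul_assoc, hN3, zero_mul]
    rw [hu, show (2 : ℕ) ^ 2 = 2 + 2 from rfl, pow_add, sq, h2]
    have : N * N + N * N = 0 := by ext a b; exact CharTwo.add_self_eq_zero _
    calc (1 + N * N) * (1 + N * N) = 1 + (N * N + N * N) + N * N * (N * N) := by noncomm_ring
      _ = 1 := by rw [this, h4, add_zero, add_zero]
  refine genFitting_eq_of_selfCentral U hU fun g hg a b ha1 ha2 hb1 hb2 => ?_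
  have hbj : b ≠ j := hb2
  let T : SpecialLinearGroup n F := ⟨transvection b j 1, det_transvection_of_ne b j hbj 1⟩
  have hTC : T ∈ C := by
    rw [Subgroup.mem_centralizer_singleton_iff]
    refine Subtype.ext ?_
    show transvection b j (1 : F) * (t : Matrix n n F) = (t : Matrix n n F) * transvection b j 1
    rw [ht]
    simp [transvection, add_mul, mul_add, Matrix.single_mul_single_of_ne, hij.symm, hb2.symm]
    abel
  have hTU : (⟨T, hTC⟩ : C) ∈ U := fun a' b' _ _ _ hb' => by
    show transvection b j (1 : F) a' b' = _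
    simp [transvection, Matrix.single_apply, Ne.symm hb']
  have h1 := congrArg mat (Subgroup.mem_centralizer_iff.mp hg _ hTU)
  rw [hmul, hmul] at h1
  have h2 := comm_entries (i := b) (j := j) h1 a j
  by_cases hab : a = b
  · subst hab
    rw [if_pos rfl, if_pos rfl, (hdiag g).1] at h2
    rw [← h2, Matrix.one_apply_eq]
  · rw [if_neg hab, if_pos rfl] at h2
    rw [← h2, Matrix.one_apply_ne hab]

end Cfsg.Lib.TransvC
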