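import Cfsg.Agent.SolvStruct.Huppert
import Cfsg.Agent.Supersolvable.Tower
import Cfsg.Agent.Transfer.Frobenius

/-!
A finite group is supersolvable if, for distinct primes `p`, `q`, no subgroup generated by two
conjugates of a `p`-element by a `q`-element has order divisible by `q²`.
-/

set_option autoImplicit false

open Subgroup
open scoped commutatorElement

namespace Cfsg.Lib.TwoConjSuper

universe u

variable {G : Type u} [Group G]

/-- `x` is a `p`-element -/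
def PEl (p : ℕ) (x : G) : Prop := ∃ a : ℕ, orderOf x = p ^ a

/-- the hypothesis -/
def Cond (G : Type u) [Group G] : Prop :=
  ∀ (p q : ℕ), p.Prime → q.Prime → p ≠ q → ∀ (x g : G), PEl p x → PEl q g →
    ¬ q ^ 2 ∣ Nat.card ↥(zpowers x ⊔ zpowers (g * x * g⁻¹))

theorem pel_pow [Finite G] {p : ℕ} [hp : Fact p.Prime] {x : G} (h : PEl p x) (n : ℕ) :
    PEl p (x ^ n) := by
  obtain ⟨a, ha⟩ := h
  obtain ⟨i, -, hi⟩ := (Nat.dvd_prime_pow hp.out).1 (ha ▸ orderOf_pow_dvd n)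
  exact ⟨i, hi⟩

theorem pel_of_pow_eq_one {p : ℕ} [hp : Fact p.Prime] {x : G} {k : ℕ} (h : x ^ p ^ k = 1) :
    PEl p x := by
  obtain ⟨i, -, hi⟩ := (Nat.dvd_prime_pow hp.out).1 (orderOf_dvd_of_pow_eq_one h)
  exact ⟨i, hi⟩

theorem pel_mul {p : ℕ} [hp : Fact p.Prime] {x y : G} (hx : PEl p x) (hy : PEl p y)
    (hxy : Commute x y) : PEl p (x * y) := by
  obtain ⟨a, ha⟩ := hx
  obtain ⟨b, hb⟩ := hy
  refine pel_of_pow_eq_one (k := a + b) ?_
  rw [hxy.mul_pow, orderOf_dvd_iff_pow_eq_one.mp (ha ▸ pow_dvd_pow p (Nat.le_add_right a b)),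
    orderOf_dvd_iff_pow_eq_one.mp (hb ▸ pow_dvd_pow p (Nat.le_add_left b a)), mul_one]

/-- a `p`-element of an image lifts to a `p`-element -/
theorem exists_lift [Finite G] {H : Type*} [Group H] (f : G →* H) (hf : Function.Surjective f)
    {p : ℕ} [hp : Fact p.Prime] {y : H} (hy : PEl p y) : ∃ x : G, f x = y ∧ PEl p x := by
  obtain ⟨g, rfl⟩ := hf y
  obtain ⟨a, b, ha, hb, hab, hpa, hcop⟩ := Cfsg.Lib.Transfer.exists_pPart p g
  refine ⟨a, ?_, hpa⟩
  obtain ⟨i, hi⟩ := mem_zpowers_iff.mp hb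
  obtain ⟨k, hk⟩ := hy
  have h1 : orderOf (f b) ∣ orderOf (f g) := by
    refine orderOf_dvd_of_pow_eq_one ?_
    rw [← hi, map_zpow, ← zpow_natCast, ← zpow_mul, mul_comm, zpow_mul, zpow_natCast,
      pow_orderOf_eq_one, one_zpow]
  have h2 : orderOf (f b) = 1 := by
    rw [hk] at h1
    exact Nat.eq_one_of_dvd_coprimes (Nat.Coprime.pow_right k hcop) (orderOf_map_dvd f b) h1
  conv_rhs => rw [← hab, map_mul, orderOf_eq_one_iff.mp h2, mul_one]

theorem cond_subgroup [Finite G] (h : Cond G) (H : Subgroup G) : Cond H := by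
  intro p q hp hq hpq x g hx hg hd
  refine h p q hp hq hpq (x : G) (g : G) ?_ ?_ ?_
  · obtain ⟨a, ha⟩ := hx; exact ⟨a, by rw [Subgroup.orderOf_coe, ha]⟩
  · obtain ⟨a, ha⟩ := hg; exact ⟨a, by rw [Subgroup.orderOf_coe, ha]⟩
  · have he : (zpowers x ⊔ zpowers (g * x * g⁻¹)).map H.subtype =
        zpowers (x : G) ⊔ zpowers ((g : G) * x * (g : G)⁻¹) := by
      rw [Subgroup.map_sup, MonoidHom.map_zpowers, MonoidHom.map_zpowers]
      rfl
    rwa [← he, card_map_of_injective H.subtype_injective]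

theorem cond_quotient [Finite G] (h : Cond G) (N : Subgroup G) [N.Normal] : Cond (G ⧸ N) := by
  intro p q hp hq hpq y k hy hk hd
  haveI := Fact.mk hp
  haveI := Fact.mk hq
  obtain ⟨x, rfl, hx⟩ := exists_lift (QuotientGroup.mk' N) (QuotientGroup.mk'_surjective N) hy
  obtain ⟨g, rfl, hg⟩ := exists_lift (QuotientGroup.mk' N) (QuotientGroup.mk'_surjective N) hk
  refine h p q hp hq hpq x g hx hg (hd.trans ?_)
  rw [← map_inv, ← map_mul, ← map_mul, ← MonoidHom.map_zpowers, ← MonoidHom.map_zpowers, ← Subgroup.map_sup]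
  exact Subgroup.card_map_dvd (H := zpowers x ⊔ zpowers (g * x * g⁻¹)) (QuotientGroup.mk' N)

/-- a supersolvable group has a normal complement for its smallest prime -/
theorem hasNormalPComplement_of_minFac {X : Type u} [Group X] [Finite X] {p : ℕ} [hp : Fact p.Prime]
    (hX : Cfsg.IsSupersolvable X) (hmin : ∀ r : ℕ, r.Prime → r ∣ Nat.card X → p ≤ r) :
    Cfsg.HasNormalPComplement p X := by
  obtain ⟨N, hN, h1, h2⟩ := Cfsg.Lib.Supersolvable.exists_normal_hall_ge hX (p + 1)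
  refine Cfsg.Lib.Transfer.hasNormalPComplement_iff.2 ⟨N, hN, ?_, ?_⟩
  · refine (hp.out.coprime_iff_not_dvd.2 fun hd => ?_).symm
    have := h1 p hp.out hd
    omega
  · refine ⟨N.index.primeFactorsList.length,
      Nat.eq_prime_pow_of_unique_prime_dvd Subgroup.index_ne_zero_of_finite fun {r} hr hrd => ?_⟩
    have a := h2 r hr hrd
    have b := hmin r hr (hrd.trans (Subgroup.index_dvd_card N))
    omega

theorem isSolvable_aux [Finite G]
    (hsub : ∀ H : Subgroup G, H ≠ ⊤ → Cfsg.IsSupersolvable H)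
    (hquot : ∀ (N : Subgroup G) [N.Normal], N ≠ ⊥ → Cfsg.IsSupersolvable (G ⧸ N)) :
    Group.IsSolvable G := by
  by_cases hN : ∃ N : Subgroup G, N.Normal ∧ N ≠ ⊥ ∧ N ≠ ⊤
  · obtain ⟨N, hNn, hN1, hN2⟩ := hN
    haveI := hNn
    haveI := Cfsg.Lib.SolvStruct.Huppert.isSolvable_of_isSupersolvable' (hsub N hN2)
    haveI := Cfsg.Lib.SolvStruct.Huppert.isSolvable_of_isSupersolvable' (hquot N hN1)
    exact Group.isSolvable_of_ker_le_range N.subtype (QuotientGroup.mk' N) (by simp)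
  push Not at hN
  by_cases h1 : Nat.card G = 1
  · haveI : Subsingleton G := Finite.card_le_one_iff_subsingleton.mp h1.le
    infer_instance
  set p := (Nat.card G).minFac
  have hp : p.Prime := Nat.minFac_prime h1
  haveI := Fact.mk hp
  have hsolv_p : IsPGroup p G → Group.IsSolvable G := fun h => by
    haveI := h.isNilpotent
    infer_instance
  have hcompl : Cfsg.HasNormalPComplement p G ∨ IsPGroup p G := by
    by_cases hall : ∀ Q : Subgroup G, IsPGroup p Q → Q ≠ ⊥ → normalizer (Q : Set G) ≠ ⊤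
    · refine Or.inl (Cfsg.Lib.Transfer.hasNormalPComplement_of_normalizers fun Q hQ hQ1 =>
        hasNormalPComplement_of_minFac (hsub _ (hall Q hQ hQ1)) fun r hr hrd => ?_)
      exact Nat.minFac_le_of_dvd hr.two_le (hrd.trans (card_subgroup_dvd_card _))
    · push Not at hall
      obtain ⟨Q, hQ, hQ1, hQt⟩ := hall
      have hQn : Q.Normal := normalizer_eq_top_iff.mp hQt
      have : Q = ⊤ := hN Q hQn hQ1
      subst this
      exact Or.inr (hQ.of_equiv Subgroup.topEquiv)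
  rcases hcompl with h | h
  · obtain ⟨K, hK, hc, k, hk⟩ := Cfsg.Lib.Transfer.hasNormalPComplement_iff.1 h
    by_cases hK1 : K = ⊥
    · refine hsolv_p (IsPGroup.of_card (n := k) ?_)
      rw [← hk, hK1, index_bot]
    · have := hN K hK hK1
      subst this
      rw [card_top] at hc
      exact absurd (Nat.minFac_dvd (Nat.card G)) (hp.coprime_iff_not_dvd.mp hc.symm)
  · exact hsolv_p h

section module

variable {N M : Subgroup G} {q : ℕ}

theorem pow_eq_pow_all [hq : Fact q.Prime] (hexp : ∀ x ∈ N, x ^ q = 1) {u : G} (hu : u ∈ N)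
    (hu1 : u ≠ 1) {a b : ℕ} (h : u ^ a = u ^ b) : ∀ n ∈ N, n ^ a = n ^ b := by
  intro n hn
  have ho : orderOf u = q := orderOf_eq_prime (hexp u hu) hu1
  rw [pow_eq_pow_iff_modEq, ho] at h
  exact pow_eq_pow_iff_modEq.mpr (h.of_dvd (orderOf_dvd_of_pow_eq_one (hexp n hn)))

theorem zpowers_inf_eq_bot [Finite G] [hq : Fact q.Prime] (hexp : ∀ x ∈ N, x ^ q = 1) {u v : G} (hv : v ∈ N)
    (hv' : v ∉ zpowers u) : zpowers v ⊓ zpowers u = ⊥ := by
  have hv1 : v ≠ 1 := fun h => hv' (h ▸ one_mem _)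
  have hc : Nat.card (zpowers v) = q := by rw [Nat.card_zpowers, orderOf_eq_prime (hexp v hv) hv1]
  rcases (Nat.dvd_prime hq.out).mp
    (hc ▸ card_dvd_of_le (inf_le_left : zpowers v ⊓ zpowers u ≤ zpowers v)) with h | h
  · exact Subgroup.card_eq_one.mp h
  · exfalso
    have he := Subgroup.eq_of_le_of_card_ge (inf_le_left : zpowers v ⊓ zpowers u ≤ zpowers v)
      (le_of_eq (hc.trans h.symm))
    exact hv' (he.ge (mem_zpowers v)).2

/-- an element fixing every line of `U` acts on `U` as a scalar -/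
theorem scalar_of_lines [Finite G] [hq : Fact q.Prime] (hcomm : ∀ a ∈ N, ∀ b ∈ N, Commute a b)
    (hexp : ∀ x ∈ N, x ^ q = 1) (U : Set G) (hUN : ∀ u ∈ U, u ∈ N)
    (hUm : ∀ u ∈ U, ∀ v ∈ U, u * v ∈ U) (x : G)
    (h : ∀ u ∈ U, x * u * x⁻¹ ∈ zpowers u) :
    ∃ a : ℕ, ∀ u ∈ U, x * u * x⁻¹ = u ^ a := by
  have hex : ∀ u ∈ U, ∃ b : ℕ, x * u * x⁻¹ = u ^ b := fun u hu => by
    obtain ⟨b, hb⟩ := mem_powers_iff_mem_zpowers.mpr (h u hu)
    exact ⟨b, hb.symm⟩
  by_cases h1 : ∀ u ∈ U, u = 1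
  · exact ⟨0, fun u hu => by rw [h1 u hu]; simp⟩
  push Not at h1
  obtain ⟨u, hu, hu1⟩ := h1
  obtain ⟨a, ha⟩ := hex u hu
  refine ⟨a, fun v hv => ?_⟩
  by_cases hvu : v ∈ zpowers u
  · obtain ⟨i, rfl⟩ := mem_zpowers_iff.mp hvu
    rw [← conj_zpow, ha, ← zpow_natCast, ← zpow_natCast, ← zpow_mul, ← zpow_mul, mul_comm]
  obtain ⟨b, hb⟩ := hex v hv
  obtain ⟨c, hc⟩ := hex _ (hUm u hu v hv)
  have h2 : x * (u * v) * x⁻¹ = (x * u * x⁻¹) * (x * v * x⁻¹) := by group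
  rw [ha, hb, hc, (hcomm u (hUN u hu) v (hUN v hv)).mul_pow] at h2
  have hkey : (u ^ a)⁻¹ * u ^ c = v ^ b * (v ^ c)⁻¹ := by
    rw [inv_mul_eq_iff_eq_mul, ← mul_assoc, eq_mul_inv_iff_mul_eq]
    exact h2
  have hmem : v ^ b * (v ^ c)⁻¹ ∈ zpowers v ⊓ zpowers u := by
    refine mem_inf.mpr ⟨mul_mem (pow_mem (mem_zpowers v) b) (inv_mem (pow_mem (mem_zpowers v) c)), ?_⟩
    rw [← hkey]
    exact mul_mem (inv_mem (pow_mem (mem_zpowers u) a)) (pow_mem (mem_zpowers u) c)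
  rw [zpowers_inf_eq_bot hexp (hUN v hv) hvu, mem_bot, mul_inv_eq_one] at hmem
  rw [hb, hmem]
  have h3 : (u ^ a)⁻¹ * u ^ c = 1 := by rw [hkey, hmem, mul_inv_cancel]
  exact pow_eq_pow_all hexp (hUN u hu) hu1 (inv_mul_eq_one.mp h3).symm v (hUN v hv)

/-- the commutator map `n ↦ [x,n]` -/
def der (x n : G) : G := n * (x * n * x⁻¹)⁻¹

theorem der_mem [N.Normal] (x : G) {n : G} (hn : n ∈ N) : der x n ∈ N :=
  mul_mem hn (inv_mem (Normal.conj_mem ‹N.Normal› n hn x))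

theorem der_mul [N.Normal] (hcomm : ∀ a ∈ N, ∀ b ∈ N, Commute a b) (x : G) {n m : G} (hn : n ∈ N)
    (hm : m ∈ N) : der x (n * m) = der x n * der x m := by
  have h1 := Normal.conj_mem ‹N.Normal› n hn x
  have h2 := Normal.conj_mem ‹N.Normal› m hm x
  have h3 : x * (n * m) * x⁻¹ = (x * n * x⁻¹) * (x * m * x⁻¹) := by group
  unfold der
  rw [h3, mul_inv_rev, (hcomm _ (inv_mem h2) _ (inv_mem h1)).eq,
    (hcomm m hm _ (inv_mem h1)).mul_mul_mul_comm]

theorem der_eq_one {x n : G} : der x n = 1 ↔ Commute x n := by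
  unfold der
  rw [mul_inv_eq_one]
  constructor
  · intro h
    exact (eq_mul_inv_iff_mul_eq.mp h).symm
  · intro h
    rw [h.eq, mul_inv_cancel_right]

/-- the consequence of the hypothesis: an element of order prime to `q` fixes every `[x,n]`-line -/
theorem der_line [Finite G] [hq : Fact q.Prime] [N.Normal] (hcond : Cond G)
    (hcomm : ∀ a ∈ N, ∀ b ∈ N, Commute a b) (hexp : ∀ x ∈ N, x ^ q = 1)
    {p : ℕ} [hp : Fact p.Prime] (hpq : p ≠ q) {x : G} (hx : PEl p x) {n : G} (hn : n ∈ N) :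
    x * der x n * x⁻¹ ∈ zpowers (der x n) := by
  set H := zpowers x ⊔ zpowers (n * x * n⁻¹) with hH
  have hxH : x ∈ H := (le_sup_left : zpowers x ≤ H) (mem_zpowers x)
  have huH : der x n ∈ H := by
    have : der x n = n * x * n⁻¹ * x⁻¹ := by unfold der; group
    rw [this]
    exact mul_mem ((le_sup_right : zpowers (n * x * n⁻¹) ≤ H) (mem_zpowers _)) (inv_mem hxH)
  by_contra hne
  set v := x * der x n * x⁻¹
  have hvH : v ∈ H := mul_mem (mul_mem hxH huH) (inv_mem hxH)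
  have huN := der_mem (N := N) x hn
  have hvN : v ∈ N := Normal.conj_mem ‹N.Normal› _ huN x
  have hv1 : v ≠ 1 := fun h => hne (h ▸ one_mem _)
  have hu1 : der x n ≠ 1 := fun h => hv1 (by simp [v, h])
  have hinf := zpowers_inf_eq_bot hexp hvN hne
  refine hcond p q hp.out hq.out hpq x n hx (pel_of_pow_eq_one (k := 1) (by rw [pow_one]; exact hexp n hn)) ?_
  have hle : zpowers v ⊔ zpowers (der x n) ≤ H := sup_le (zpowers_le.mpr hvH) (zpowers_le.mpr huH)
  refine dvd_trans ?_ (card_dvd_of_le hle)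
  set K := zpowers v ⊔ zpowers (der x n)
  have hKq : IsPGroup q K := fun k => ⟨1, Subtype.ext (by
    rw [pow_one, SubmonoidClass.coe_pow]
    exact hexp _ ((sup_le (zpowers_le.mpr hvN) (zpowers_le.mpr huN) : K ≤ N) k.2))⟩
  obtain ⟨k, hk⟩ := IsPGroup.iff_card.mp hKq
  rw [hk]
  refine pow_dvd_pow q (Nat.lt_of_not_le fun hk1 => hne ?_)
  have hcu : Nat.card (zpowers (der x n)) = q := by
    rw [Nat.card_zpowers, orderOf_eq_prime (hexp _ huN) hu1]
  have he : zpowers (der x n) = K := Subgroup.eq_of_le_of_card_ge le_sup_right (by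
    rw [hcu, hk]; exact (Nat.pow_le_pow_right hq.out.pos hk1).trans (pow_one q).le)
  exact he.ge ((le_sup_left : zpowers v ≤ K) (mem_zpowers v))

/-- an element of order prime to `q` is a scalar on `[N, x]` -/
theorem der_scalar [Finite G] [hq : Fact q.Prime] [N.Normal] (hcond : Cond G)
    (hcomm : ∀ a ∈ N, ∀ b ∈ N, Commute a b) (hexp : ∀ x ∈ N, x ^ q = 1)
    {p : ℕ} [hp : Fact p.Prime] (hpq : p ≠ q) {x : G} (hx : PEl p x) :
    ∃ a : ℕ, ∀ n ∈ N, x * der x n * x⁻¹ = der x n ^ a := by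
  obtain ⟨a, ha⟩ := scalar_of_lines hcomm hexp (der x '' (N : Set G))
    (by rintro _ ⟨n, hn, rfl⟩; exact der_mem x hn)
    (by rintro _ ⟨n, hn, rfl⟩ _ ⟨m, hm, rfl⟩; exact ⟨n * m, mul_mem hn hm, der_mul hcomm x hn hm⟩)
    x (by rintro _ ⟨n, hn, rfl⟩; exact der_line hcond hcomm hexp hpq hx hn)
  exact ⟨a, fun n hn => ha _ ⟨n, hn, rfl⟩⟩

/-- a scalar action -/
def Scalar (N : Subgroup G) (x : G) : Prop := ∀ n ∈ N, x * n * x⁻¹ ∈ zpowers n

/-- without fixed points an element of order prime to `q` is a scalar -/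
theorem scalar_of_fpf [Finite G] [hq : Fact q.Prime] [N.Normal] (hcond : Cond G)
    (hcomm : ∀ a ∈ N, ∀ b ∈ N, Commute a b) (hexp : ∀ x ∈ N, x ^ q = 1)
    {p : ℕ} [hp : Fact p.Prime] (hpq : p ≠ q) {x : G} (hx : PEl p x)
    (hfix : ∀ n ∈ N, Commute x n → n = 1) : Scalar N x := by
  obtain ⟨a, ha⟩ := der_scalar hcond hcomm hexp hpq hx
  intro n hn
  let f : N → N := fun m => ⟨der x m, der_mem x m.2⟩
  have hf : Function.Injective f := fun m m' h => by
    have h' : der x (m : G) = der x (m' : G) := congrArg Subtype.val h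
    have h2 : der x ((m : G) * (m' : G)⁻¹) = 1 := by
      have := der_mul hcomm x (mul_mem m.2 (inv_mem m'.2)) m'.2
      rw [inv_mul_cancel_right, h', right_eq_mul] at this
      exact this
    exact Subtype.ext (mul_inv_eq_one.mp (hfix _ (mul_mem m.2 (inv_mem m'.2)) (der_eq_one.mp h2)))
  obtain ⟨m, hm⟩ := (Finite.injective_iff_surjective.mp hf) ⟨n, hn⟩
  have hm' : der x (m : G) = n := congrArg Subtype.val hm
  rw [← hm', ha m m.2]
  exact pow_mem (mem_zpowers _) a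

theorem exists_scalar [Finite G] [hq : Fact q.Prime] (hcomm : ∀ a ∈ N, ∀ b ∈ N, Commute a b)
    (hexp : ∀ x ∈ N, x ^ q = 1) {x : G} (hx : Scalar N x) :
    ∃ a : ℕ, ∀ n ∈ N, x * n * x⁻¹ = n ^ a :=
  scalar_of_lines hcomm hexp (N : Set G) (fun _ h => h) (fun _ ha _ hb => mul_mem ha hb) x hx

theorem scalar_mul {x y : G} (hx : Scalar N x) (hy : Scalar N y) : Scalar N (x * y) := by
  intro n hn
  obtain ⟨i, hi⟩ := mem_zpowers_iff.mp (hy n hn)
  obtain ⟨j, hj⟩ := mem_zpowers_iff.mp (hx n hn)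
  rw [show x * y * n * (x * y)⁻¹ = x * (y * n * y⁻¹) * x⁻¹ by group, ← hi, ← conj_zpow, ← hj]
  exact zpow_mem (zpow_mem (mem_zpowers n) j) i

theorem scalar_one : Scalar N (1 : G) := fun n _ => by simp

theorem scalar_inv [Finite G] {x : G} (hx : Scalar N x) : Scalar N x⁻¹ := by
  obtain ⟨k, hk⟩ := mem_powers_iff_mem_zpowers.mpr (inv_mem (mem_zpowers x))
  rw [show x⁻¹ = x ^ k from hk.symm]
  clear hk
  induction k with
  | zero => rw [pow_zero]; exact scalar_one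
  | succ k ih => rw [pow_succ]; exact scalar_mul ih hx

/-- two commuting inversions: an element of `2`-power order exchanging the eigenspaces of an
involution is an involution -/
theorem swap_sq [Finite G] [hq : Fact q.Prime] [N.Normal] (hcond : Cond G)
    (hcomm : ∀ a ∈ N, ∀ b ∈ N, Commute a b) (hexp : ∀ x ∈ N, x ^ q = 1) (hq2 : q ≠ 2)
    {x z m : G} (hm : PEl 2 m) (hz : ∀ n ∈ N, z * n * z⁻¹ = n⁻¹)
    (hx2 : ∀ n ∈ N, x * (x * n * x⁻¹) * x⁻¹ = n)
    (h1 : m * x * m⁻¹ = x * z) (h2 : m⁻¹ * x * m = x * z) :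
    ∀ n ∈ N, Commute (m ^ 2) n := by
  haveI : Fact (2 : ℕ).Prime := ⟨Nat.prime_two⟩
  obtain ⟨a, ha⟩ := der_scalar hcond hcomm hexp (Ne.symm hq2) hm
  have hNc : ∀ {g n : G}, n ∈ N → g * n * g⁻¹ ∈ N := fun hn => Normal.conj_mem ‹N.Normal› _ hn _
  have hodd : ∀ n ∈ N, n ^ 2 = 1 → n = 1 := fun n hn h => by
    have := pow_gcd_eq_one.mpr ⟨hexp n hn, h⟩
    rwa [(Nat.coprime_primes hq.out Nat.prime_two).mpr hq2, pow_one] at this
  -- fixed points are mapped to inverted points and conversely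
  have e1 : ∀ n ∈ N, x * (m * n * m⁻¹) * x⁻¹ = (m * (x * n * x⁻¹) * m⁻¹)⁻¹ := by
    intro n hn
    have hh : x * m = m * (x * z) := by rw [← h2]; group
    calc x * (m * n * m⁻¹) * x⁻¹ = (x * m) * n * (x * m)⁻¹ := by group
      _ = (m * (x * z)) * n * (m * (x * z))⁻¹ := by rw [hh]
      _ = m * (x * (z * n * z⁻¹) * x⁻¹) * m⁻¹ := by group
      _ = (m * (x * n * x⁻¹) * m⁻¹)⁻¹ := by rw [hz n hn]; group
  have key : ∀ u ∈ N, ((x * u * x⁻¹ = u) ∨ (x * u * x⁻¹ = u⁻¹)) → m ^ 2 * u * (m ^ 2)⁻¹ = u := by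
    intro u hu hcase
    obtain ⟨v, hv⟩ : ∃ v, v = m * u * m⁻¹ := ⟨_, rfl⟩
    obtain ⟨w, hw⟩ : ∃ w, w = m * v * m⁻¹ := ⟨_, rfl⟩
    have hvN : v ∈ N := hv ▸ hNc hu
    have hwN : w ∈ N := hw ▸ hNc hvN
    -- the scalar equation
    have hd : v * w⁻¹ = u ^ a * (v ^ a)⁻¹ := by
      have h := ha u hu
      unfold der at h
      rw [← hv, (hcomm u hu _ (inv_mem hvN)).mul_pow, inv_pow] at h
      rw [← h, show m * (u * v⁻¹) * m⁻¹ = (m * u * m⁻¹) * (m * v * m⁻¹)⁻¹ by group, ← hv, ← hw]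
    have hd' : v ^ (a + 1) = u ^ a * w := by
      rw [pow_succ']
      calc v * v ^ a = v * w⁻¹ * (w * v ^ a) := by group
        _ = u ^ a * (v ^ a)⁻¹ * (v ^ a * w) := by rw [hd, (hcomm w hwN _ (pow_mem hvN a)).eq]
        _ = u ^ a * w := by group
    have hfin : v ^ (a + 1) = 1 := by
      refine hodd _ (pow_mem hvN _) ?_
      rw [pow_two]
      rcases hcase with h | h
      · have hxv : x * v * x⁻¹ = v⁻¹ := by rw [hv, e1 u hu, h]
        have hxw : x * w * x⁻¹ = w := by rw [hw, e1 v hvN, hxv]; group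
        have hA : x * v ^ (a + 1) * x⁻¹ = (v ^ (a + 1))⁻¹ := by rw [← conj_pow, hxv, inv_pow]
        have hB : x * v ^ (a + 1) * x⁻¹ = v ^ (a + 1) := by
          rw [hd', show x * (u ^ a * w) * x⁻¹ = (x * u ^ a * x⁻¹) * (x * w * x⁻¹) by group,
            ← conj_pow, h, hxw]
        exact eq_inv_iff_mul_eq_one.mp (hB.symm.trans hA)
      · have hxv : x * v * x⁻¹ = v := by rw [hv, e1 u hu, h]; group
        have hxw : x * w * x⁻¹ = w⁻¹ := by rw [hw, e1 v hvN, hxv]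
        have hA : x * v ^ (a + 1) * x⁻¹ = v ^ (a + 1) := by rw [← conj_pow, hxv]
        have hB : x * v ^ (a + 1) * x⁻¹ = (v ^ (a + 1))⁻¹ := by
          rw [hd', show x * (u ^ a * w) * x⁻¹ = (x * u ^ a * x⁻¹) * (x * w * x⁻¹) by group,
            ← conj_pow, h, hxw, inv_pow, mul_inv_rev,
            (hcomm _ (inv_mem (pow_mem hu a)) _ (inv_mem hwN)).eq]
        exact eq_inv_iff_mul_eq_one.mp (hA.symm.trans hB)
    have huf : u ^ (a + 1) = 1 := by
      have : m * u ^ (a + 1) * m⁻¹ = 1 := by rw [← conj_pow, ← hv, hfin]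
      rwa [mul_inv_eq_one, mul_eq_left] at this
    rw [hfin] at hd'
    have hw' : w = (u ^ a)⁻¹ := eq_inv_of_mul_eq_one_right hd'.symm
    rw [pow_succ] at huf
    rw [show m ^ 2 * u * (m ^ 2)⁻¹ = w by rw [hw, hv, pow_two]; group, hw',
      inv_eq_of_mul_eq_one_right huf]
  intro n hn
  obtain ⟨y, hy⟩ : ∃ y, y = x * n * x⁻¹ := ⟨_, rfl⟩
  have hyN : y ∈ N := hy ▸ hNc hn
  have hxy : x * y * x⁻¹ = n := hy ▸ hx2 n hn
  have hny : Commute n y := hcomm n hn y hyN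
  have hp : x * (n * y) * x⁻¹ = n * y := by
    rw [show x * (n * y) * x⁻¹ = (x * n * x⁻¹) * (x * y * x⁻¹) by group, ← hy, hxy, hny.eq]
  have hmn : x * (n * y⁻¹) * x⁻¹ = (n * y⁻¹)⁻¹ := by
    rw [show x * (n * y⁻¹) * x⁻¹ = (x * n * x⁻¹) * (x * y * x⁻¹)⁻¹ by group, ← hy, hxy, mul_inv_rev, inv_inv]
  have k1 := key _ (mul_mem hn hyN) (Or.inl hp)
  have k2 := key _ (mul_mem hn (inv_mem hyN)) (Or.inr hmn)
  have hsq : m ^ 2 * n ^ 2 * (m ^ 2)⁻¹ = n ^ 2 := by
    have e : n ^ 2 = (n * y) * (n * y⁻¹) := by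
      rw [pow_two, show n * y * (n * y⁻¹) = n * (y * n) * y⁻¹ by group, ← hny.eq]; group
    rw [e, show m ^ 2 * ((n * y) * (n * y⁻¹)) * (m ^ 2)⁻¹ =
      (m ^ 2 * (n * y) * (m ^ 2)⁻¹) * (m ^ 2 * (n * y⁻¹) * (m ^ 2)⁻¹) by group, k1, k2]
  rw [← conj_pow] at hsq
  refine mul_inv_eq_iff_eq_mul.mp ?_
  refine mul_inv_eq_one.mp (hodd _ (mul_mem (hNc hn) (inv_mem hn)) ?_)
  rw [(hcomm _ (hNc hn) _ (inv_mem hn)).mul_pow, hsq, inv_pow, mul_inv_cancel]

/-- the linear heart of the matter -/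
theorem false_of_irreducible [Finite G] [hq : Fact q.Prime] [N.Normal] (hcond : Cond G)
    (hcomm : ∀ a ∈ N, ∀ b ∈ N, Commute a b) (hexp : ∀ x ∈ N, x ^ q = 1) (hN1 : N ≠ ⊥)
    (hNq : Nat.card N ≠ q) (hM : Cfsg.IsSupersolvable M)
    (hfaith : ∀ m ∈ M, (∀ n ∈ N, Commute m n) → m = 1)
    (hirr : ∀ U : Subgroup G, U ≤ N → (∀ m ∈ M, ∀ u ∈ U, m * u * m⁻¹ ∈ U) → U = ⊥ ∨ U = N) :
    False := by
  have hNc : ∀ {g n : G}, n ∈ N → g * n * g⁻¹ ∈ N := fun hn => Normal.conj_mem ‹N.Normal› _ hn _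
  obtain ⟨n₀, hn₀, hn₀1⟩ : ∃ n ∈ N, n ≠ 1 := by
    by_contra! h
    exact hN1 ((eq_bot_iff_forall N).mpr h)
  let S : Subgroup ↥M :=
    { carrier := {m | Scalar N (m : G)}
      mul_mem' := fun ha hb => scalar_mul ha hb
      one_mem' := scalar_one
      inv_mem' := fun ha => scalar_inv ha }
  have hcent : ∀ c ∈ S, ∀ m : ↥M, Commute c m := by
    intro c hc m
    obtain ⟨a, ha⟩ := exists_scalar hcomm hexp (hc : Scalar N (c : G))
    refine commutatorElement_eq_one_iff_commute.mp (Subtype.ext (hfaith _ (⁅c, m⁆ : ↥M).2 fun n hn => ?_))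
    refine (eq_mul_inv_iff_mul_eq.mp (Eq.symm ?_)).symm
    show ⁅(c : G), (m : G)⁆ * n * ⁅(c : G), (m : G)⁆⁻¹ = n
    set k := (m : G)⁻¹ * ((c : G)⁻¹ * ((m : G) * ((m : G)⁻¹ * n * m) * (m : G)⁻¹) * c) * m with hk
    obtain ⟨b, hb, hbn⟩ : ∃ b ∈ N, n = (c : G) * b * (c : G)⁻¹ :=
      ⟨(c : G)⁻¹ * n * (c : G)⁻¹⁻¹, hNc hn, by group⟩
    have hbm : (m : G)⁻¹ * b * (m : G)⁻¹⁻¹ ∈ N := hNc hb
    calc ⁅(c : G), (m : G)⁆ * n * ⁅(c : G), (m : G)⁆⁻¹
        = (c : G) * ((m : G) * ((c : G)⁻¹ * ((m : G)⁻¹ * n * m) * c) * (m : G)⁻¹) * (c : G)⁻¹ := by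
          rw [commutatorElement_def]; group
      _ = (c : G) * b * (c : G)⁻¹ := by
          congr 2
          have e1 : (m : G)⁻¹ * n * m = (c : G) * ((m : G)⁻¹ * b * (m : G)⁻¹⁻¹) * (c : G)⁻¹ := by
            rw [ha _ hbm, conj_pow, ← ha _ hb, ← hbn, inv_inv]
          rw [e1]; group
      _ = n := hbn.symm
  haveI : S.Normal := ⟨fun c hc m => by rw [← (hcent c hc m).eq, mul_inv_cancel_right]; exact hc⟩
  have hStop : S ≠ ⊤ := by
    intro h
    have hU : ∀ m ∈ M, ∀ u ∈ zpowers n₀, m * u * m⁻¹ ∈ zpowers n₀ := fun m hm u hu =>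
      (zpowers_le.mpr hu) ((h.ge (mem_top (⟨m, hm⟩ : ↥M)) : Scalar N m) u ((zpowers_le.mpr hn₀) hu))
    rcases hirr (zpowers n₀) (zpowers_le.mpr hn₀) hU with e | e
    · exact hn₀1 (zpowers_eq_bot.mp e)
    · apply hNq
      rw [← e, Nat.card_zpowers, orderOf_eq_prime (hexp n₀ hn₀) hn₀1]
  haveI : Nontrivial (↥M ⧸ S) := QuotientGroup.nontrivial_iff.mpr hStop
  obtain ⟨C, hCn, hCs⟩ := Cfsg.Lib.Supersolvable.exists_normal_prime_card
    (Cfsg.Lib.Supersolvable.map_surjective hM (QuotientGroup.mk' S) (QuotientGroup.mk'_surjective S))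
  set π := QuotientGroup.mk' S
  set s := Nat.card C
  haveI := Fact.mk hCs
  obtain ⟨⟨y, hy⟩, hy'⟩ := exists_prime_orderOf_dvd_card' (G := C) s dvd_rfl
  rw [Subgroup.orderOf_mk] at hy'
  obtain ⟨x', hx'y, hx'p⟩ := exists_lift π (QuotientGroup.mk'_surjective S)
    (⟨1, by rw [pow_one]; exact hy'⟩ : PEl s y)
  have hxS : x' ∉ S := by
    intro h
    have : y = 1 := hx'y ▸ (QuotientGroup.eq_one_iff x').mpr h
    rw [this, orderOf_one] at hy'
    exact hCs.one_lt.ne hy'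
  have hxs : x' ^ s ∈ S := by
    rw [← QuotientGroup.eq_one_iff]
    show π (x' ^ s) = 1
    rw [map_pow, hx'y, ← hy', pow_orderOf_eq_one]
  have hzC : ∀ m : ↥M, ∃ i : ℕ, ∃ c ∈ S, m * x' * m⁻¹ = x' ^ i * c := by
    intro m
    have h1 : π (m * x' * m⁻¹) ∈ C := by
      rw [map_mul, map_mul, map_inv, hx'y]; exact hCn.conj_mem y hy (π m)
    have h2 : C = zpowers y := (Subgroup.eq_of_le_of_card_ge (zpowers_le.mpr hy)
      (by rw [Nat.card_zpowers, hy'])).symm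
    rw [h2, ← hx'y, ← mem_powers_iff_mem_zpowers] at h1
    obtain ⟨i, hi⟩ := h1
    refine ⟨i, (x' ^ i)⁻¹ * (m * x' * m⁻¹), ?_, by group⟩
    rw [← QuotientGroup.eq_one_iff]
    show π _ = 1
    rw [map_mul, map_inv, map_pow, inv_mul_eq_one]
    exact hi
  set x : G := (x' : G) with hxdef
  have hxp : PEl s x := by obtain ⟨a, ha⟩ := hx'p; exact ⟨a, by rw [hxdef, Subgroup.orderOf_coe, ha]⟩
  have hx1 : x ≠ 1 := fun h => hxS (by rw [show x' = 1 from Subtype.ext h]; exact one_mem S)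
  have hxns : ¬ Scalar N x := hxS
  -- fixed points of `x`
  set F := N ⊓ centralizer ({x} : Set G) with hF
  have hFN : F ≠ N := by
    intro h
    refine hx1 (hfaith x x'.2 fun n hn => ?_)
    exact (mem_centralizer_singleton_iff.mp (h.ge hn).2).symm
  by_cases hz : ∀ c ∈ S, c ^ s = 1 → c = 1
  · -- the group generated by `x` is normal in `M`
    have hxs1 : x' ^ s = 1 := by
      by_contra hne
      obtain ⟨k, hk⟩ := pel_pow hx'p s
      rcases Nat.eq_zero_or_pos k with rfl | hk0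
      · exact hne (orderOf_eq_one_iff.mp (by simpa using hk))
      have h2 := hz ((x' ^ s) ^ s ^ (k - 1)) (pow_mem hxs _) (by
        rw [← pow_mul, ← pow_succ, Nat.sub_add_cancel hk0, ← hk, pow_orderOf_eq_one])
      have := Nat.le_of_dvd (pow_pos hCs.pos _) (orderOf_dvd_of_pow_eq_one h2)
      rw [hk] at this
      exact absurd this (not_le.mpr (Nat.pow_lt_pow_right hCs.one_lt (by omega)))
    have hinv : ∀ m ∈ M, ∀ u ∈ F, m * u * m⁻¹ ∈ F := by
      intro m hm u hu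
      refine ⟨hNc hu.1, mem_centralizer_singleton_iff.mpr ?_⟩
      obtain ⟨i, c, hc, hi⟩ := hzC (⟨m, hm⟩⁻¹)
      have hc1 : c = 1 := by
        refine hz c hc ?_
        have h : (x' ^ i * c) ^ s = 1 := by rw [← hi, conj_pow, hxs1]; group
        rwa [((hcent c hc (x' ^ i)).symm).mul_pow, ← pow_mul, mul_comm, pow_mul, hxs1, one_pow,
          one_mul] at h
      rw [hc1, mul_one, inv_inv] at hi
      have hi' : m⁻¹ * x * m = x ^ i := congrArg Subtype.val hi
      have hux : Commute u x := (mem_centralizer_singleton_iff.mp hu.2)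
      have h3 : Commute u (m⁻¹ * x * m) := hi' ▸ hux.pow_right i
      calc m * u * m⁻¹ * x = m * (u * (m⁻¹ * x * m)) * m⁻¹ := by group
        _ = m * ((m⁻¹ * x * m) * u) * m⁻¹ := by rw [h3.eq]
        _ = x * (m * u * m⁻¹) := by group
    rcases hirr F inf_le_left hinv with e | e
    · by_cases hsq : s = q
      · -- a fixed point of a `q`-group
        have hqx : IsPGroup q (zpowers x) := IsPGroup.of_card (n := 1) (by
          rw [Nat.card_zpowers, pow_one, ← hsq]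
          exact orderOf_eq_prime (congrArg Subtype.val hxs1) hx1)
        letI : MulAction ↥(zpowers x) ↥N :=
          { smul := fun g n => ⟨(g : G) * n * (g : G)⁻¹, hNc n.2⟩
            one_smul := fun n => Subtype.ext (by show (1 : G) * n * (1 : G)⁻¹ = n; group)
            mul_smul := fun g k n => Subtype.ext (by
              show ((g : G) * k) * n * ((g : G) * k)⁻¹ = (g : G) * ((k : G) * n * (k : G)⁻¹) * (g : G)⁻¹
              group) }
        have hdvd : q ∣ Nat.card N :=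
          (orderOf_eq_prime (hexp n₀ hn₀) hn₀1) ▸ Subgroup.orderOf_dvd_natCard N hn₀
        have h1mem : (1 : ↥N) ∈ MulAction.fixedPoints ↥(zpowers x) ↥N := fun g => Subtype.ext (by
          show (g : G) * (1 : G) * (g : G)⁻¹ = 1; group)
        obtain ⟨b, hb, hb1⟩ := hqx.exists_fixed_point_of_prime_dvd_card_of_fixed_point _ hdvd h1mem
        apply hb1
        have hbF : (b : G) ∈ F := ⟨b.2, mem_centralizer_singleton_iff.mpr (by
          have h : x * (b : G) * x⁻¹ = b := congrArg Subtype.val (hb ⟨x, mem_zpowers x⟩)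
          exact (eq_mul_inv_iff_mul_eq.mp h.symm))⟩
        rw [e, mem_bot] at hbF
        exact Subtype.ext hbF.symm
      · refine hxns (scalar_of_fpf hcond hcomm hexp hsq hxp fun n hn hc => ?_)
        exact mem_bot.mp (e ▸ ⟨hn, mem_centralizer_singleton_iff.mpr hc.eq.symm⟩)
    · exact hFN e
  push Not at hz
  obtain ⟨z', hz'S, hz's, hz'1⟩ := hz
  set z : G := (z' : G) with hzdef
  have hzM : z ∈ M := z'.2
  have hzsc : Scalar N z := hz'S
  have hzS : z ^ s = 1 := congrArg Subtype.val hz's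
  have hz1 : z ≠ 1 := fun h => hz'1 (Subtype.ext h)
  obtain ⟨w, hw⟩ := exists_scalar hcomm hexp hzsc
  have hzfix : ∀ n ∈ N, n ≠ 1 → z * n * z⁻¹ ≠ n := by
    intro n hn hn1 h
    refine hz1 (hfaith z hzM fun k hk => ?_)
    have h' := pow_eq_pow_all hexp hn hn1 (a := w) (b := 1) (by rw [← hw n hn, pow_one, h]) k hk
    rw [← hw k hk, pow_one, mul_inv_eq_iff_eq_mul] at h'
    exact h'
  have hsq : s ≠ q := by
    intro h
    obtain ⟨k, hk⟩ : ∃ k, (fun n : G => z * n * z⁻¹) n₀ = n₀ ^ k := ⟨w, hw n₀ hn₀⟩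
    have hit : ∀ j : ℕ, z ^ j * n₀ * (z ^ j)⁻¹ = n₀ ^ w ^ j := by
      intro j
      induction j with
      | zero => simp
      | succ j ih =>
        rw [pow_succ', show z * z ^ j * n₀ * (z * z ^ j)⁻¹ = z * (z ^ j * n₀ * (z ^ j)⁻¹) * z⁻¹ by group,
          ih, ← conj_pow, hw n₀ hn₀, ← pow_mul, ← pow_succ']
    have h1 := hit s
    rw [hzS, one_mul, inv_one, mul_one] at h1
    apply hzfix n₀ hn₀ hn₀1
    rw [hw n₀ hn₀]
    have hwq : w ^ q ≡ w [MOD q] := by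
      rw [← ZMod.natCast_eq_natCast_iff, Nat.cast_pow, ZMod.pow_card]
    conv_rhs => rw [h1, h]
    rw [pow_eq_pow_iff_modEq, orderOf_eq_prime (hexp n₀ hn₀) hn₀1]
    exact hwq.symm
  -- `x` times powers of `z` have fixed points
  obtain ⟨a, ha⟩ := der_scalar hcond hcomm hexp hsq hxp
  have hcxz : Commute x z := congrArg Subtype.val (hcent z' hz'S x').symm.eq
  have hzp : PEl s z := pel_of_pow_eq_one (k := 1) (by rw [pow_one]; exact hzS)
  have hex : ∀ i : ℕ, z ^ i ≠ 1 → ∃ n ∈ N, n ≠ 1 ∧ x * n * x⁻¹ = z ^ i * n * (z ^ i)⁻¹ := by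
    intro i hi
    by_contra! hno
    have hzi : Scalar N (z ^ i)⁻¹ := scalar_inv ((S.pow_mem hz'S i :) : _)
    have hc : Commute x (z ^ i)⁻¹ := (hcxz.pow_right i).inv_right
    have hp' : PEl s ((z ^ i)⁻¹) := by
      obtain ⟨k, hk⟩ := pel_pow hzp i
      exact ⟨k, by rw [orderOf_inv, hk]⟩
    have hsc := scalar_of_fpf hcond hcomm hexp hsq (pel_mul hxp hp' hc) fun n hn hcm => ?_
    · apply hxns
      have h := scalar_mul hsc (scalar_inv hzi)
      rwa [inv_inv, inv_mul_cancel_right] at h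
    · by_contra hn1
      refine hno n hn hn1 ?_
      have h : (z ^ i)⁻¹ * x * n = n * ((z ^ i)⁻¹ * x) := by rw [← hc.eq]; exact hcm.eq
      calc x * n * x⁻¹ = z ^ i * ((z ^ i)⁻¹ * x * n) * x⁻¹ := by group
        _ = z ^ i * (n * ((z ^ i)⁻¹ * x)) * x⁻¹ := by rw [h]
        _ = z ^ i * n * (z ^ i)⁻¹ := by group
  have himg : ∀ i : ℕ, z ^ i ≠ 1 → ∃ n ∈ N, der x n ≠ 1 ∧
      x * der x n * x⁻¹ = z ^ i * der x n * (z ^ i)⁻¹ := by
    intro i hi
    obtain ⟨n, hn, hn1, hxn⟩ := hex i hi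
    refine ⟨n, hn, fun h => ?_, ?_⟩
    · rw [der_eq_one] at h
      rw [h.eq, mul_inv_cancel_right] at hxn
      -- `z ^ i` is a scalar fixing `n`
      refine hi (hfaith _ (pow_mem hzM i) fun k hk => ?_)
      have hzi : Scalar N (z ^ i) := (S.pow_mem hz'S i :)
      obtain ⟨b, hb⟩ := exists_scalar hcomm hexp hzi
      have h' := pow_eq_pow_all hexp hn hn1 (a := b) (b := 1) (by rw [← hb n hn, pow_one, ← hxn]) k hk
      rw [← hb k hk, pow_one, mul_inv_eq_iff_eq_mul] at h'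
      exact h'
    · have h2 : x * (x * n * x⁻¹) * x⁻¹ = z ^ i * (x * n * x⁻¹) * (z ^ i)⁻¹ := by
        conv_lhs => rw [hxn]
        rw [show x * (z ^ i * n * (z ^ i)⁻¹) * x⁻¹ = (x * z ^ i) * n * (x * z ^ i)⁻¹ by group,
          (hcxz.pow_right i).eq]
        group
      unfold der
      rw [show x * (n * (x * n * x⁻¹)⁻¹) * x⁻¹ = (x * n * x⁻¹) * (x * (x * n * x⁻¹) * x⁻¹)⁻¹ by group,
        h2, hxn]
      group
  -- so `x` acts as `z` on `[N,x]`
  have hxz : ∀ n ∈ N, x * der x n * x⁻¹ = z * der x n * z⁻¹ := by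
    obtain ⟨n, hn, hd, he⟩ := himg 1 (by rwa [pow_one])
    rw [pow_one, ha n hn, hw _ (der_mem x hn)] at he
    intro k hk
    rw [ha k hk, hw _ (der_mem x hk)]
    exact pow_eq_pow_all hexp (der_mem x hn) hd he _ (der_mem x hk)
  have hz2 : z ^ 2 = 1 := by
    by_contra h
    obtain ⟨n, hn, hd, he⟩ := himg 2 h
    rw [hxz n hn, pow_two] at he
    apply hzfix _ (der_mem x hn) hd
    have h' := congrArg (fun t => z⁻¹ * t * z) he
    simp only [mul_inv_rev] at h'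
    calc z * der x n * z⁻¹ = z⁻¹ * (z * z * der x n * (z⁻¹ * z⁻¹)) * z := by group
      _ = z⁻¹ * (z * der x n * z⁻¹) * z := h'.symm
      _ = der x n := by group
  have hs2 : s = 2 := by
    have := orderOf_eq_prime hzS hz1
    rw [← this]
    exact orderOf_eq_prime hz2 hz1
  have hq2 : q ≠ 2 := fun h => hsq (hs2.trans h.symm)
  have hzinv : ∀ n ∈ N, z * n * z⁻¹ = n⁻¹ := by
    intro n hn
    by_contra hne
    refine hzfix (n * (z * n * z⁻¹)) (mul_mem hn (hNc hn)) (fun h => hne (eq_inv_of_mul_eq_one_right h)) ?_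
    rw [show z * (n * (z * n * z⁻¹)) * z⁻¹ = (z * n * z⁻¹) * (z ^ 2 * n * (z ^ 2)⁻¹) by
      rw [pow_two]; group, hz2, one_mul, inv_one, mul_one]
    exact (hcomm _ (hNc hn) _ hn).eq
  have hx2 : ∀ n ∈ N, x * (x * n * x⁻¹) * x⁻¹ = n := by
    intro n hn
    have h := hxz n hn
    rw [hzinv _ (der_mem x hn)] at h
    rw [show x * der x n * x⁻¹ = (x * n * x⁻¹) * (x * (x * n * x⁻¹) * x⁻¹)⁻¹ by unfold der; group,
      show (der x n)⁻¹ = x * n * x⁻¹ * n⁻¹ by unfold der; group] at h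
    have h' := h
    exact inv_injective (mul_left_cancel h')
  have hx'2 : x' * x' = 1 := Subtype.ext (hfaith _ (x' * x').2 fun n hn => by
    show x * x * n = n * (x * x)
    rw [← mul_inv_eq_iff_eq_mul, show x * x * n * (x * x)⁻¹ = x * (x * n * x⁻¹) * x⁻¹ by group]
    exact hx2 n hn)
  -- the conjugates of `x`
  have hconjx : ∀ m ∈ M, m * x * m⁻¹ = x ∨ m * x * m⁻¹ = x * z := by
    intro m hm
    obtain ⟨i, c, hc, hi⟩ := hzC ⟨m, hm⟩
    have hnot : ¬ Even i := by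
      rintro ⟨j, rfl⟩
      rw [← two_mul, pow_mul, pow_two, hx'2, one_pow, one_mul] at hi
      apply hxS
      have e : x' = (⟨m, hm⟩ : ↥M)⁻¹ * c * (⟨m, hm⟩ : ↥M) := by rw [← hi]; group
      rw [e, mul_assoc, (hcent c hc ⟨m, hm⟩).eq, inv_mul_cancel_left]
      exact hc
    obtain ⟨j, rfl⟩ := Nat.not_even_iff_odd.mp hnot
    rw [pow_succ, pow_mul, pow_two, hx'2, one_pow, one_mul] at hi
    have hc2 : c * c = 1 := by
      have h : (x' * c) * (x' * c) = 1 := by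
        rw [← hi, show ∀ a : ↥M, a * x' * a⁻¹ * (a * x' * a⁻¹) = a * (x' * x') * a⁻¹ from
          fun a => by group, hx'2]; group
      rwa [(hcent c hc x').mul_mul_mul_comm, hx'2, one_mul] at h
    have hi' : m * x * m⁻¹ = x * (c : G) := congrArg Subtype.val hi
    rw [hi']
    by_cases hc1 : (c : G) = 1
    · exact Or.inl (by rw [hc1, mul_one])
    refine Or.inr (congrArg (x * ·) ?_)
    obtain ⟨b, hb⟩ := exists_scalar hcomm hexp (hc : Scalar N (c : G))
    have hcfix : ∀ n ∈ N, (c : G) * n * (c : G)⁻¹ = n⁻¹ := by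
      intro n hn
      by_contra hne
      obtain ⟨v, hvdef⟩ : ∃ v, v = n * ((c : G) * n * (c : G)⁻¹) := ⟨_, rfl⟩
      have hv : (c : G) * v * (c : G)⁻¹ = v := by
        rw [hvdef, show (c : G) * (n * ((c : G) * n * (c : G)⁻¹)) * (c : G)⁻¹ = ((c : G) * n * (c : G)⁻¹) *
          (((c : G) * c) * n * ((c : G) * c)⁻¹) by group,
          show (c : G) * c = 1 from congrArg Subtype.val hc2, one_mul, inv_one, mul_one]
        exact (hcomm _ (hNc hn) _ hn).eq
      have hv1 : v ≠ 1 := fun h => hne (eq_inv_of_mul_eq_one_right (hvdef ▸ h))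
      refine hc1 (hfaith _ c.2 fun k hk => ?_)
      have hvN : v ∈ N := hvdef ▸ mul_mem hn (hNc hn)
      have h' := pow_eq_pow_all hexp hvN hv1 (a := b) (b := 1)
        (by rw [← hb v hvN, pow_one, hv]) k hk
      rw [← hb k hk, pow_one, mul_inv_eq_iff_eq_mul] at h'
      exact h'
    refine mul_inv_eq_one.mp (hfaith _ (mul_mem c.2 (inv_mem hzM)) fun n hn => ?_)
    show (c : G) * z⁻¹ * n = n * ((c : G) * z⁻¹)
    rw [← mul_inv_eq_iff_eq_mul,
      show (c : G) * z⁻¹ * n * ((c : G) * z⁻¹)⁻¹ = (c : G) * (z⁻¹ * n * z⁻¹⁻¹) * (c : G)⁻¹ by group,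
      show z⁻¹ = z from inv_eq_of_mul_eq_one_right (by rw [← pow_two, hz2]), hzinv n hn,
      hcfix _ (inv_mem hn), inv_inv]
  by_cases hall : ∀ m ∈ M, m * x * m⁻¹ = x
  · rcases hirr F inf_le_left (fun m hm u hu => ⟨hNc hu.1, mem_centralizer_singleton_iff.mpr (by
        have hux : Commute u x := mem_centralizer_singleton_iff.mp hu.2
        have hmx : Commute m x := mul_inv_eq_iff_eq_mul.mp (hall m hm)
        exact ((hmx.mul_left hux).mul_left hmx.inv_left).eq)⟩) with e | e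
    · refine hxns (scalar_of_fpf hcond hcomm hexp hsq hxp fun n hn hc => ?_)
      exact mem_bot.mp (e ▸ ⟨hn, mem_centralizer_singleton_iff.mpr hc.eq.symm⟩)
    · exact hFN e
  push Not at hall
  obtain ⟨m₀, hm₀M, hm₀⟩ := hall
  have hm₀' := (hconjx m₀ hm₀M).resolve_left hm₀
  have hzz : z * z = 1 := by rw [← pow_two, hz2]
  have hzc : ∀ m ∈ M, Commute z m := fun m hm =>
    congrArg Subtype.val (hcent z' hz'S ⟨m, hm⟩).eq
  have hiter : ∀ k : ℕ, m₀ ^ k * x * (m₀ ^ k)⁻¹ = x * z ^ k := by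
    intro k
    induction k with
    | zero => simp
    | succ k ih =>
      rw [pow_succ', show m₀ * m₀ ^ k * x * (m₀ * m₀ ^ k)⁻¹ = m₀ * (m₀ ^ k * x * (m₀ ^ k)⁻¹) * m₀⁻¹ by
        group, ih, show m₀ * (x * z ^ k) * m₀⁻¹ = (m₀ * x * m₀⁻¹) * (m₀ * z ^ k * m₀⁻¹) by group,
        hm₀', ← ((hzc m₀ hm₀M).pow_left k).eq, mul_inv_cancel_right, mul_assoc, ← pow_succ']
  obtain ⟨e, k, hk, ho⟩ := Nat.exists_eq_pow_mul_and_not_dvd (orderOf_pos m₀).ne' 2 (by norm_num)
  set m := m₀ ^ k with hmdef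
  have hmM : m ∈ M := pow_mem hm₀M k
  have hmp : PEl 2 m := ⟨e, by
    rw [hmdef, orderOf_pow, Nat.gcd_eq_right ⟨2 ^ e, by rw [ho, mul_comm]⟩, ho,
      Nat.mul_div_cancel _ (Nat.pos_of_ne_zero (by rintro rfl; exact hk (dvd_zero 2)))]⟩
  haveI : Fact (2 : ℕ).Prime := ⟨Nat.prime_two⟩
  have hmx : m * x * m⁻¹ = x * z := by
    rw [hmdef, hiter k]
    obtain ⟨j, hj⟩ : Odd k := Nat.not_even_iff_odd.mp fun h => hk (even_iff_two_dvd.mp h)
    rw [hj, pow_succ, pow_mul, hz2, one_pow, one_mul]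
  have hback : ∀ g ∈ M, g * x * g⁻¹ = x * z → g⁻¹ * x * g = x * z := by
    intro g hg h
    calc g⁻¹ * x * g = g⁻¹ * (g * x * g⁻¹ * z) * g := by rw [h, mul_assoc x z z, hzz, mul_one]
      _ = x * g⁻¹ * (z * g) := by group
      _ = x * z := by rw [(hzc g hg).eq]; group
  have hm2 : m * m = 1 := by
    rw [← pow_two]
    exact hfaith _ (pow_mem hmM 2)
      (swap_sq hcond hcomm hexp hq2 hmp hzinv hx2 hmx (hback m hmM hmx))
  -- the same for `x * m`
  have hxM : x ∈ M := x'.2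
  have hxmM : x * m ∈ M := mul_mem hxM hmM
  have hxmx : x * m * x * (x * m)⁻¹ = x * z := by
    rw [show x * m * x * (x * m)⁻¹ = x * (m * x * m⁻¹) * x⁻¹ by group, hmx,
      show x * (x * z) * x⁻¹ = x * (x * z * x⁻¹) by group,
      show x * z * x⁻¹ = z by rw [hcxz.eq, mul_inv_cancel_right]]
  have hxx : x * x = 1 := congrArg Subtype.val hx'2
  have hsqz : (x * m) ^ 2 = z := by
    rw [pow_two, show x * m * (x * m) = x * (m * x * m⁻¹) * (m * m) by group, hmx, hm2, mul_one,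
      ← mul_assoc, hxx, one_mul]
  have hxm2 : (x * m) ^ 2 = 1 := by
    refine hfaith _ (pow_mem hxmM 2) (swap_sq hcond hcomm hexp hq2 ?_ hzinv hx2 hxmx (hback _ hxmM hxmx))
    refine pel_of_pow_eq_one (k := 2) ?_
    rw [pow_two 2, pow_mul, hsqz, hz2]
  exact hz1 (hsqz.symm.trans hxm2)

end module

theorem main : ∀ (n : ℕ) (G : Type u) [Group G] [Finite G], Nat.card G ≤ n → Cond G →
    Cfsg.IsSupersolvable G := by
  intro n
  induction n with
  | zero =>
    intro G _ _ hle _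
    exact absurd hle (not_le.mpr Nat.card_pos)
  | succ n ih =>
  intro G _ _ hle hcond
  have hsub : ∀ H : Subgroup G, H ≠ ⊤ → Cfsg.IsSupersolvable H := fun H hH =>
    ih H (by
      have h1 : Nat.card H < Nat.card G := lt_of_le_of_ne (card_le_card_group H) fun h =>
        hH (eq_top_of_card_eq _ h)
      omega) (cond_subgroup hcond H)
  have hquot : ∀ (N : Subgroup G) [N.Normal], N ≠ ⊥ → Cfsg.IsSupersolvable (G ⧸ N) := fun N _ hN =>
    ih (G ⧸ N) (by have := Cfsg.Lib.Coprime.card_quotient_lt hN; omega) (cond_quotient hcond N)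
  have hsolv := isSolvable_aux hsub hquot
  by_contra hns
  have h1 : (⊤ : Subgroup G) ≠ ⊥ := by
    intro h
    apply hns
    refine ⟨0, fun _ => ⊥, rfl, h.symm, fun _ => inferInstance, fun i => i.elim0⟩
  obtain ⟨N, -, hNn, hN1, hmin⟩ := Cfsg.Lib.Coprime.exists_minimal_normal (K := (⊤ : Subgroup G)) inferInstance h1
  haveI := hNn
  haveI := hsolv
  obtain ⟨hNc, q, hq, hNp, hexp⟩ := Cfsg.Lib.Coprime.minimal_normal_solvable (N := N) inferInstance hN1 hmin
  haveI := Fact.mk hq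
  have hcomm : ∀ a ∈ N, ∀ b ∈ N, Commute a b := fun a ha b hb =>
    congrArg Subtype.val (hNc.is_comm.comm ⟨a, ha⟩ ⟨b, hb⟩)
  have hNq : Nat.card N ≠ q := fun h => by
    haveI : IsCyclic N := isCyclic_of_prime_card h
    exact hns (Cfsg.Lib.SolvStruct.isSupersolvable_of_quotient N (hquot N hN1))
  have hidxq : ∀ (K : Subgroup G) [K.Normal], K ≠ ⊥ → ∀ M : Subgroup G, IsCoatom M → K ≤ M →
      M.index.Prime := by
    intro K _ hK M hM hKM
    have hsur := QuotientGroup.mk'_surjective K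
    have hcm : (M.map (QuotientGroup.mk' K)).comap (QuotientGroup.mk' K) = M := by
      rw [comap_map_eq, QuotientGroup.ker_mk', sup_eq_left.mpr hKM]
    have hidx : (M.map (QuotientGroup.mk' K)).index = M.index := by
      conv_rhs => rw [← hcm]
      rw [index_comap_of_surjective _ hsur]
    rw [← hidx]
    refine Cfsg.Lib.SolvStruct.Huppert.index_prime_of_isSupersolvable _ _ le_rfl (hquot K hK) _ ⟨?_, ?_⟩
    · intro h; exact hM.1 (by rw [← hcm, h, comap_top])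
    · intro U hU
      have := hM.2 (U.comap (QuotientGroup.mk' K)) (hcm ▸ (comap_lt_comap_of_surjective hsur).mpr hU)
      rw [← map_comap_eq_self_of_surjective hsur U, this, map_top_of_surjective _ hsur]
  obtain ⟨M, hM, hMi⟩ : ∃ M : Subgroup G, IsCoatom M ∧ ¬ M.index.Prime := by
    by_contra! h
    exact hns (Cfsg.Lib.SolvStruct.Huppert.huppert _ G le_rfl h)
  have hNM : ¬ N ≤ M := fun h => hMi (hidxq N hN1 M hM h)
  have htop : M ⊔ N = ⊤ := hM.2 _ (left_lt_sup.mpr hNM)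
  have hnormal : ∀ U : Subgroup G, (∀ m ∈ M, ∀ u ∈ U, m * u * m⁻¹ ∈ U) →
      (∀ n ∈ N, ∀ u ∈ U, n * u * n⁻¹ ∈ U) → U.Normal := by
    intro U hUM hUN
    rw [← normalizer_eq_top_iff, eq_top_iff, ← htop]
    refine sup_le ?_ ?_ <;> intro g hg <;> rw [mem_normalizer_iff] <;> intro u
    · refine ⟨fun hu => hUM g hg u hu, fun hu => ?_⟩
      have := hUM g⁻¹ (inv_mem hg) _ hu
      rwa [show g⁻¹ * (g * u * g⁻¹) * g⁻¹⁻¹ = u by group] at this
    · refine ⟨fun hu => hUN g hg u hu, fun hu => ?_⟩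
      have := hUN g⁻¹ (inv_mem hg) _ hu
      rwa [show g⁻¹ * (g * u * g⁻¹) * g⁻¹⁻¹ = u by group] at this
  have hNc' : ∀ {g n : G}, n ∈ N → g * n * g⁻¹ ∈ N := fun hn => hNn.conj_mem _ hn _
  have hirr : ∀ U : Subgroup G, U ≤ N → (∀ m ∈ M, ∀ u ∈ U, m * u * m⁻¹ ∈ U) → U = ⊥ ∨ U = N :=
    fun U hU hUM => hmin U (hnormal U hUM fun n hn u hu => by
      rw [(hcomm n hn u (hU hu)).eq, mul_inv_cancel_right]; exact hu) hU
  have hMN : M ⊓ N = ⊥ := by
    refine (hirr (M ⊓ N) inf_le_right fun m hm u hu =>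
      mem_inf.mpr ⟨mul_mem (mul_mem hm (mem_inf.mp hu).1) (inv_mem hm), hNc' (mem_inf.mp hu).2⟩).resolve_right fun h => ?_
    exact hNM (h.ge.trans inf_le_left)
  have hfaith : ∀ m ∈ M, (∀ n ∈ N, Commute m n) → m = 1 := by
    set K := M ⊓ centralizer (N : Set G) with hK
    suffices hKb : K = ⊥ by
      intro m hm hc
      exact mem_bot.mp (hKb ▸ ⟨hm, mem_centralizer_iff.mpr fun n hn => (hc n hn).eq.symm⟩)
    by_contra hKne
    haveI : K.Normal := by
      refine hnormal K (fun m hm u hu => mem_inf.mpr ⟨mul_mem (mul_mem hm (mem_inf.mp hu).1) (inv_mem hm), ?_⟩) fun n hn u hu => ?_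
      · exact (inferInstance : (centralizer (N : Set G)).Normal).conj_mem u hu.2 m
      · rw [mem_centralizer_iff.mp hu.2 n hn, mul_inv_cancel_right]; exact hu
    exact hMi (hidxq K hKne M hM inf_le_left)
  exact false_of_irreducible hcond hcomm hexp hN1 hNq (hsub M hM.1) hfaith hirr

end Cfsg.Lib.TwoConjSuper
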