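import Mathlib
import Cfsg.Prelude
import Cfsg.Agent.S4748
import Cfsg.Agent.Coprime.CyclicQuotient
import Cfsg.Agent.Components.Signalizer.Sft.Tools
import Cfsg.Agent.PGroups.Basic
import Cfsg.Agent.GaschutzYen.Basic
import Cfsg.Agent.HallHigman.Drop

/-!
A `p`-soluble group and two conjugates of a `p`-subgroup which is elementary abelian modulo `O_p`.
-/

namespace Cfsg.Lib.TwoConjugates

open Subgroup
open scoped commutatorElement

universe u

variable {p : ℕ} [hp : Fact p.Prime]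

/-- an element of order prime to `p` lies in a normalized subgroup of `p`-power index -/
theorem mem_of_coprime_order {G : Type*} [Group G] [Finite G] {D A : Subgroup G}
    (hAD : A ≤ normalizer (D : Set G)) (hA : IsPGroup p A) {g : G} (hg : g ∈ D ⊔ A) (ho : (orderOf g).Coprime p) :
    g ∈ D := by
  haveI : (D.subgroupOf (D ⊔ A)).Normal := normal_subgroupOf_of_le_normalizer (sup_le le_normalizer hAD)
  obtain ⟨k, hk⟩ := IsPGroup.iff_card.1 hA
  have h2 : g ^ p ^ k ∈ D := by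
    obtain ⟨d, hd, a, ha, rfl⟩ := (Cfsg.Lib.Coprime.mem_sup_of_le_normalizer hAD).1 hg
    set φ := QuotientGroup.mk' (D.subgroupOf (D ⊔ A))
    have h3 : φ ⟨d * a, hg⟩ = φ ⟨a, mem_sup_right ha⟩ := by
      rw [show (⟨d * a, hg⟩ : (D ⊔ A : Subgroup G)) = ⟨d, mem_sup_left hd⟩ * ⟨a, mem_sup_right ha⟩ from rfl,
        map_mul, show φ ⟨d, mem_sup_left hd⟩ = 1 from (QuotientGroup.eq_one_iff _).2 hd, one_mul]
    have ha1 : a ^ p ^ k = 1 := by
      have h4 := congrArg Subtype.val (pow_card_eq_one' (x := (⟨a, ha⟩ : A)))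
      rwa [hk] at h4
    have h5 : φ (⟨d * a, hg⟩ ^ p ^ k) = 1 := by
      rw [map_pow, h3, ← map_pow, show (⟨a, mem_sup_right ha⟩ : (D ⊔ A : Subgroup G)) ^ p ^ k = 1 from Subtype.ext ha1,
        map_one]
    exact (QuotientGroup.eq_one_iff (N := D.subgroupOf (D ⊔ A)) ((⟨d * a, hg⟩ : (D ⊔ A : Subgroup G)) ^ p ^ k)).1 h5
  obtain ⟨m, hm⟩ := exists_pow_eq_self_of_coprime (ho.symm.pow_left k)
  rw [← hm]
  exact pow_mem h2 m

/-- the data found in the quotient by `O_p` -/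
theorem exists_minimal {H : Type u} [Group H] [Finite H] (hsolv : Cfsg.IsPSolvable p H)
    (hO : Cfsg.pCore p H = ⊥) (A : Subgroup H) [IsMulCommutative A] (hA : IsPGroup p A)
    (hexp : ∀ a ∈ A, a ^ p = 1) (hne : A ≠ ⊥) :
    ∃ (X B : Subgroup H) (x : H), X ≤ Cfsg.pPrimeCore p H ∧ A ≤ normalizer (X : Set H) ∧ x ∈ X ∧
      B = A ⊓ centralizer (X : Set H) ∧ B.relIndex A = p ∧ X ≤ A ⊔ A.map (MulAut.conj x).toMonoidHom := by
  classical
  set N := Cfsg.pPrimeCore p H
  haveI : N.Normal := Cfsg.Lib.Components.pPrimeCore_normal' p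
  have hNcop : ∀ X : Subgroup H, X ≤ N → (Nat.card A).Coprime (Nat.card X) := by
    intro X hX
    obtain ⟨k, hk⟩ := IsPGroup.iff_card.1 hA
    rw [hk]
    exact (Nat.Coprime.coprime_dvd_left (card_dvd_of_le hX) (Cfsg.Lib.Components.coprime_card_pPrimeCore p)).symm.pow_left k
  have hN : ¬ A ≤ centralizer (N : Set H) := fun h => hne (by
    have h1 := h.trans (Cfsg.Agent.S4748.centralizer_pPrimeCore_le p hsolv hO)
    exact eq_bot_of_card_eq A (Nat.coprime_self _ |>.1 ((hNcop A h1))))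
  obtain ⟨X, ⟨hXN, hAX, hXc⟩, hmin⟩ := WellFounded.has_min (wellFounded_lt (α := Subgroup H))
    {K | K ≤ N ∧ A ≤ normalizer (K : Set H) ∧ ¬ A ≤ centralizer (K : Set H)}
    ⟨N, le_rfl, by rw [normalizer_eq_top_iff.2 inferInstance]; exact le_top, hN⟩
  have hmin' : ∀ K : Subgroup H, K ≤ X → A ≤ normalizer (K : Set H) → ¬ A ≤ centralizer (K : Set H) → K = X := by
    intro K hK hn hc
    by_contra hne'
    exact hmin K ⟨hK.trans hXN, hn, hc⟩ (lt_of_le_of_ne hK hne')
  set B := A ⊓ centralizer (X : Set H) with hB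
  obtain ⟨C, ⟨hCA, a, ha, hCa⟩, hC⟩ : ∃ C ∈ Cfsg.Lib.Coprime.cyclicQuot A,
      ¬ A ≤ centralizer ((X ⊓ centralizer (C : Set H) : Subgroup H) : Set H) := by
    by_contra hh
    push Not at hh
    have h1 := Cfsg.Lib.Coprime.le_join_cyclicQuot (A := A) _ ⊥ X le_rfl bot_le hAX (hNcop X hXN) bot_le
    refine hXc (le_centralizer_iff.1 (h1.trans (iSup₂_le fun C hC => ?_)))
    exact le_centralizer_iff.1 (hh C hC)
  have hCX : X ≤ centralizer (C : Set H) := by
    have h1 := hmin' _ inf_le_left (Cfsg.Lib.Coprime.le_normalizer_inf_centralizer hAX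
      (Cfsg.Lib.Coprime.le_normalizer_of_le_centralizer
        (Cfsg.Lib.Coprime.le_centralizer_of_abelian.trans (centralizer_le hCA)))) hC
    exact h1 ▸ inf_le_right
  have hCB : C ≤ B := le_inf hCA (le_centralizer_iff.1 hCX)
  have haB : a ∉ B := fun h => hXc (by
    rw [← hCa]
    exact sup_le (hCB.trans inf_le_right) (zpowers_le.2 h.2))
  have hap : orderOf a = p := orderOf_eq_prime (hexp a ha) (fun e => haB (e ▸ one_mem B))
  have hsup : B ⊔ zpowers a = A := le_antisymm (sup_le inf_le_left (zpowers_le.2 ha))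
    (hCa.symm.le.trans (sup_le_sup hCB le_rfl))
  have hrel : B.relIndex A = p := by
    have hBn : zpowers a ≤ normalizer (B : Set H) := (zpowers_le.2 ha).trans
      (Cfsg.Lib.Coprime.le_normalizer_of_le_centralizer
        (Cfsg.Lib.Coprime.le_centralizer_of_abelian.trans (centralizer_le (inf_le_left : B ≤ A))))
    have hinf : B ⊓ zpowers a = ⊥ := by
      rw [eq_bot_iff]
      intro z hz
      by_contra hz1
      refine haB ?_
      have h1 : zpowers z = zpowers a := by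
        refine eq_of_le_of_card_ge (zpowers_le.2 hz.2) ?_
        have h2 : Nat.card (zpowers z) ∣ p := by
          rw [← hap, ← Nat.card_zpowers a]
          exact card_dvd_of_le (zpowers_le.2 hz.2)
        rcases (Nat.dvd_prime hp.out).1 h2 with h3 | h3
        · exact absurd (zpowers_eq_bot.1 (eq_bot_of_card_eq _ h3)) hz1
        · rw [h3, Nat.card_zpowers, hap]
      exact (zpowers_le.2 hz.1) (h1 ▸ mem_zpowers a)
    have h1 : B.relIndex A * Nat.card B = Nat.card A := by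
      have h := relIndex_mul_relIndex (⊥ : Subgroup H) B A bot_le inf_le_left
      rw [relIndex_bot_left, relIndex_bot_left, mul_comm] at h
      exact h
    have h2 := Cfsg.Lib.Coprime.card_sup_of_inf_eq_bot hBn hinf
    rw [hsup, Nat.card_zpowers, hap] at h2
    rw [h2] at h1
    exact Nat.eq_of_mul_eq_mul_right Nat.card_pos (h1.trans (mul_comm _ _))
  obtain ⟨x, hx, hxa⟩ : ∃ x ∈ X, a * x ≠ x * a := by
    by_contra hh
    push Not at hh
    exact haB ⟨ha, mem_centralizer_iff.2 fun y hy => (hh y hy).symm⟩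
  refine ⟨X, B, x, hXN, hAX, hx, rfl, hrel, ?_⟩
  set L := A ⊔ A.map (MulAut.conj x).toMonoidHom
  set c := a * x * a⁻¹ * x⁻¹ with hc
  have hcY : c ∈ X ⊓ L := by
    refine ⟨mul_mem ((mem_normalizer_iff.1 (hAX ha) x).1 hx) (X.inv_mem hx), ?_⟩
    rw [hc, show a * x * a⁻¹ * x⁻¹ = a * (x * a⁻¹ * x⁻¹) by group]
    exact mul_mem (mem_sup_left ha) (mem_sup_right ⟨a⁻¹, A.inv_mem ha, by simp⟩)
  refine (hmin' (X ⊓ L) inf_le_left (Cfsg.Lib.Coprime.le_normalizer_inf hAX
    (le_sup_left.trans le_normalizer)) fun h => ?_).ge.trans inf_le_right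
  have hac : a * c = c * a := (mem_centralizer_iff.1 (h ha) c hcY).symm
  have hpow : ∀ n : ℕ, a ^ n * x * (a ^ n)⁻¹ = c ^ n * x := by
    intro n
    induction n with
    | zero => simp
    | succ n ih =>
      have hcn : a * c ^ n * a⁻¹ = c ^ n := by
        rw [(Commute.pow_right hac n).eq, mul_inv_cancel_right]
      calc a ^ (n + 1) * x * (a ^ (n + 1))⁻¹ = a * (a ^ n * x * (a ^ n)⁻¹) * a⁻¹ := by
            rw [pow_succ']; group
        _ = (a * c ^ n * a⁻¹) * (a * x * a⁻¹ * x⁻¹) * x := by rw [ih]; group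
        _ = c ^ (n + 1) * x := by rw [hcn, ← hc, pow_succ]
  have h3 := hpow p
  rw [hexp a ha, one_mul, inv_one, mul_one, eq_comm, mul_eq_right] at h3
  have hc1 : c = 1 := by
    refine orderOf_eq_one_iff.1 ?_
    have h4 : orderOf c ∣ p := orderOf_dvd_of_pow_eq_one h3
    have h5 : orderOf c ∣ Nat.card X := orderOf_dvd_natCard (⟨c, hcY.1⟩ : X) |> fun h => by rwa [Subgroup.orderOf_mk] at h
    have h6 : p ∣ Nat.card A := by rw [← hap]; exact orderOf_dvd_natCard (⟨a, ha⟩ : A) |> fun h => by rwa [Subgroup.orderOf_mk] at h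
    exact Nat.eq_one_of_dvd_coprimes (hNcop X hXN) (h4.trans h6) h5
  exact hxa (by rwa [hc, mul_inv_eq_one, mul_inv_eq_iff_eq_mul] at hc1)

theorem main {M : Type u} [Group M] [Finite M] (hM : Cfsg.IsPSolvable p M) (A : Subgroup M) (hA : IsPGroup p A)
    (hΦ : (frattini ↥A).map A.subtype ≤ Cfsg.pCore p M) (hnot : ¬ A ≤ Cfsg.pCore p M) :
    ∃ x : M, ∃ L : Subgroup M, L = A ⊔ A.map (MulAut.conj x).toMonoidHom ∧
      x ∈ (Cfsg.pPrimeCore p (M ⧸ Cfsg.pCore p M)).comap (QuotientGroup.mk' (Cfsg.pCore p M)) ∧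
      x ∈ (Cfsg.pResidual p L).map L.subtype ∧
      (Cfsg.pResidual p L).map L.subtype ≤
        (Cfsg.pPrimeCore p (M ⧸ Cfsg.pCore p M)).comap (QuotientGroup.mk' (Cfsg.pCore p M)) ∧
      ⁅(Cfsg.pResidual p L).map L.subtype, A⁆ = (Cfsg.pResidual p L).map L.subtype ∧
      (A ⊓ (Cfsg.pCore p L).map L.subtype).relIndex A = p ∧
      ⁅A ⊓ (Cfsg.pCore p L).map L.subtype, L⁆ ≤ Cfsg.pCore p M := by
  classical
  set O := Cfsg.pCore p M
  haveI : O.Normal := Cfsg.Lib.Components.pCore_normal' p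
  set π := QuotientGroup.mk' O
  set A₁ := A.map π with hA₁
  have hcomm : ∀ a ∈ A, ∀ b ∈ A, a * b * a⁻¹ * b⁻¹ ∈ O := by
    intro a ha b hb
    refine hΦ ⟨⁅(⟨a, ha⟩ : A), ⟨b, hb⟩⁆, ?_, rfl⟩
    exact Cfsg.Lib.PGroups.commutator_le_frattini hA (commutator_mem_commutator (mem_top _) (mem_top _))
  have hpow : ∀ a ∈ A, a ^ p ∈ O := fun a ha => hΦ ⟨(⟨a, ha⟩ : A) ^ p, Cfsg.Lib.PGroups.pow_mem_frattini hA _, rfl⟩
  haveI : IsMulCommutative A₁ := ⟨⟨by
    rintro ⟨_, a, ha, rfl⟩ ⟨_, b, hb, rfl⟩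
    refine Subtype.ext ?_
    show π a * π b = π b * π a
    rw [← mul_inv_eq_one, ← map_mul, ← map_mul, ← map_inv, ← map_mul, QuotientGroup.mk'_apply,
      QuotientGroup.eq_one_iff, show a * b * (b * a)⁻¹ = a * b * a⁻¹ * b⁻¹ by group]
    exact hcomm a ha b hb⟩⟩
  obtain ⟨X, B, x₀, hXN, hAX, hx₀, hB, hrel, hXle⟩ := exists_minimal
    (Cfsg.Lib.GaschutzYen.isPSolvable_quotient (p := p) O hM) Cfsg.Lib.HallHigman.pCore_quotient_pCore A₁ (hA.map π)
    (by rintro _ ⟨a, ha, rfl⟩; rw [← map_pow, QuotientGroup.mk'_apply, QuotientGroup.eq_one_iff]; exact hpow a ha)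
    (fun h => hnot fun a ha => (QuotientGroup.eq_one_iff a).1 (mem_bot.1 (h ▸ mem_map_of_mem π ha)))
  let L : M → Subgroup M := fun x => A ⊔ A.map (MulAut.conj x).toMonoidHom
  have hLπ : ∀ x, π x = x₀ → (L x).map π = X ⊔ A₁ := by
    intro x hx
    have h1 : (L x).map π = A₁ ⊔ A₁.map (MulAut.conj x₀).toMonoidHom := by
      show (A ⊔ _).map π = _
      rw [Subgroup.map_sup, hA₁, Subgroup.map_map, Subgroup.map_map]
      congr 2
      ext y
      simp [← hx]
    rw [h1]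
    refine le_antisymm (sup_le le_sup_right ?_) (sup_le hXle le_sup_left)
    rintro _ ⟨b, hb, rfl⟩
    exact mul_mem (mul_mem (mem_sup_left hx₀) (mem_sup_right hb)) (inv_mem (mem_sup_left hx₀))
  obtain ⟨x₁, hx₁, hmin⟩ := (wellFounded_lt (α := Subgroup M)).has_min {S | ∃ x, π x = x₀ ∧ S = L x}
    (by obtain ⟨x, hx⟩ := QuotientGroup.mk'_surjective O x₀; exact ⟨_, x, hx, rfl⟩)
  obtain ⟨x₁, hx₁, rfl⟩ := hx₁
  obtain ⟨x, hxR, hx⟩ : ∃ x ∈ (Cfsg.pResidual p (L x₁)).map (L x₁).subtype, π x = x₀ := by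
    obtain ⟨y, hy, hyx⟩ := (hLπ x₁ hx₁).ge (mem_sup_left hx₀)
    have hoy : (orderOf (π y)).Coprime p := by
      rw [hyx]
      refine Nat.Coprime.coprime_dvd_left ?_ (Cfsg.Lib.Components.coprime_card_pPrimeCore (G := M ⧸ O) p)
      exact orderOf_dvd_natCard (⟨x₀, hXN hx₀⟩ : Cfsg.pPrimeCore p (M ⧸ O)) |> fun h => by rwa [Subgroup.orderOf_mk] at h
    set k := (orderOf y).factorization p
    have hco : (p ^ k).Coprime (orderOf (π y)) := hoy.symm.pow_left k
    obtain ⟨m, hm⟩ := exists_pow_eq_self_of_coprime hco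
    have hy' : (orderOf (y ^ p ^ k)).Coprime p := by
      rw [orderOf_pow' y (pow_ne_zero _ hp.out.ne_zero), Nat.gcd_eq_right (Nat.ordProj_dvd _ p)]
      exact (Nat.coprime_ordCompl hp.out (orderOf_pos y).ne').symm
    refine ⟨(y ^ p ^ k) ^ m, ⟨(⟨y, hy⟩ ^ p ^ k) ^ m, ?_, rfl⟩, by rw [map_pow, map_pow, hm, hyx]⟩
    refine pow_mem (subset_closure ?_) m
    show (orderOf _).Coprime p
    rw [← Subgroup.orderOf_coe]
    exact hy'
  have hLe : L x = L x₁ := by
    by_contra hne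
    refine hmin (L x) ⟨x, hx, rfl⟩ (lt_of_le_of_ne (sup_le le_sup_left ?_) hne)
    rintro _ ⟨a, ha, rfl⟩
    have hxL : x ∈ L x₁ := map_subtype_le _ hxR
    exact mul_mem (mul_mem hxL (mem_sup_left ha)) (inv_mem hxL)
  rw [← hLe] at hxR
  refine ⟨x, L x, rfl, ?_⟩
  set R := (Cfsg.pResidual p (L x)).map (L x).subtype with hR
  have hmap := hLπ x hx
  have hAL : A ≤ L x := le_sup_left
  have hRle : R ≤ (Cfsg.pPrimeCore p (M ⧸ O)).comap π := by
    rw [hR, Cfsg.pResidual, MonoidHom.map_closure, closure_le]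
    rintro _ ⟨g, hg, rfl⟩
    refine hXN (mem_of_coprime_order hAX (hA.map π) (hmap.le (mem_map_of_mem π g.2)) ?_)
    refine Nat.Coprime.coprime_dvd_left ?_ (hg : (orderOf g).Coprime p)
    rw [← Subgroup.orderOf_coe]
    exact orderOf_map_dvd π _
  have hLR : L x ≤ normalizer (R : Set M) := by
    intro l hl
    refine Cfsg.Lib.Sft.mem_normalizer_of_conj ?_
    rintro _ ⟨g, hg, rfl⟩
    refine ⟨⟨l, hl⟩ * g * ⟨l, hl⟩⁻¹, ?_, rfl⟩
    have : (Cfsg.pResidual p (L x)).map (MulAut.conj (⟨l, hl⟩ : L x)).toMonoidHom ≤ Cfsg.pResidual p (L x) := by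
      rw [Cfsg.pResidual, MonoidHom.map_closure]
      refine closure_mono ?_
      rintro _ ⟨z, hz, rfl⟩
      show (orderOf _).Coprime p
      rw [MulEquiv.coe_toMonoidHom, MulEquiv.orderOf_eq]
      exact hz
    exact this ⟨g, hg, rfl⟩
  have hRA : ⁅R, A⁆ = R := by
    have hDR : ⁅R, A⁆ ≤ R := by
      exact Cfsg.Lib.Coprime.commutator_le_of_le_normalizer (hAL.trans hLR)
    refine le_antisymm hDR ?_
    set D := ⁅R, A⁆
    have hAD : A ≤ normalizer (D : Set M) := Cfsg.Lib.Coprime.le_normalizer_commutator_right A R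
    have hL : L x ≤ D ⊔ A := sup_le le_sup_right (by
      rintro _ ⟨a, ha, rfl⟩
      show x * a * x⁻¹ ∈ D ⊔ A
      rw [show x * a * x⁻¹ = ⁅x, a⁆ * a by rw [commutatorElement_def]; group]
      exact mul_mem_sup (commutator_mem_commutator hxR ha) ha)
    rw [hR, Cfsg.pResidual, MonoidHom.map_closure, closure_le]
    rintro _ ⟨g, hg, rfl⟩
    refine mem_of_coprime_order hAD hA (hL g.2) ?_
    show (orderOf ((g : L x) : M)).Coprime p
    rw [Subgroup.orderOf_coe]
    exact hg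
  have hBc : ∀ b ∈ B, ∀ z ∈ X ⊔ A₁, z * b = b * z := by
    intro b hb z hz
    rw [hB] at hb
    have h1 : X ⊔ A₁ ≤ centralizer ({b} : Set (M ⧸ O)) := sup_le
      (fun y hy => mem_centralizer_singleton_iff.2 (mem_centralizer_iff.1 hb.2 y hy))
      (fun y hy => mem_centralizer_singleton_iff.2 (mem_centralizer_iff.1 (Cfsg.Lib.Coprime.le_centralizer_of_abelian hb.1) y hy))
    exact mem_centralizer_singleton_iff.1 (h1 hz)
  have hcore : A ⊓ (Cfsg.pCore p (L x)).map (L x).subtype = B.comap π ⊓ A := by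
    show A ⊓ Cfsg.Lib.Sft.qcore p (L x) = _
    have hnq : L x ≤ normalizer (Cfsg.Lib.Sft.qcore p (L x) : Set M) := le_normalizer.trans Cfsg.Lib.Sft.le_normalizer_qcore
    refine le_antisymm (le_inf (fun z hz => ?_) inf_le_left) (le_inf inf_le_right ?_)
    · show π z ∈ B
      rw [hB]
      refine ⟨mem_map_of_mem π hz.1, mem_centralizer_iff.2 fun y hy => ?_⟩
      set Q := (Cfsg.Lib.Sft.qcore p (L x)).map π with hQ
      have hXQ : X ≤ normalizer (Q : Set (M ⧸ O)) :=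
        (le_sup_left : X ≤ X ⊔ A₁).trans (hmap.symm.le.trans ((map_mono hnq).trans (le_normalizer_map π)))
      have hQX : Q ≤ normalizer (X : Set (M ⧸ O)) :=
        ((map_mono Cfsg.Lib.Sft.qcore_le).trans hmap.le).trans (sup_le le_normalizer hAX)
      have hinf : X ⊓ Q = ⊥ := by
        refine Cfsg.Lib.Coprime.inf_eq_bot_of_coprime ?_
        obtain ⟨k, hk⟩ := IsPGroup.iff_card.1 (Cfsg.Lib.Sft.isPGroup_qcore.map π : IsPGroup p Q)
        rw [hk]
        exact (Nat.Coprime.coprime_dvd_left (card_dvd_of_le hXN) (Cfsg.Lib.Components.coprime_card_pPrimeCore p)).pow_right k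
      have hzQ : π z ∈ Q := mem_map_of_mem π hz.2
      have h1 : y * π z * y⁻¹ * (π z)⁻¹ ∈ X ⊓ Q := by
        refine ⟨?_, mul_mem ((mem_normalizer_iff.1 (hXQ hy) _).1 hzQ) (Q.inv_mem hzQ)⟩
        rw [show y * π z * y⁻¹ * (π z)⁻¹ = y * (π z * y⁻¹ * (π z)⁻¹) by group]
        exact mul_mem hy ((mem_normalizer_iff.1 (hQX hzQ) _).1 (inv_mem hy))
      rw [hinf, mem_bot, mul_inv_eq_one, mul_inv_eq_iff_eq_mul] at h1
      exact h1
    · refine le_trans (le_inf (inf_le_right.trans hAL) inf_le_left)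
        (Cfsg.Lib.Sft.le_qcore (q := p) (X := L x ⊓ B.comap π) inf_le_left ?_ ?_)
      · intro l hl
        refine Cfsg.Lib.Sft.mem_normalizer_of_conj fun y hy => ⟨mul_mem (mul_mem hl hy.1) ((L x).inv_mem hl), ?_⟩
        show π (l * y * l⁻¹) ∈ B
        rw [map_mul, map_mul, map_inv, hBc _ hy.2 _ (hmap.le (mem_map_of_mem π hl)), mul_inv_cancel_right]
        exact hy.2
      · exact ((hA.map π).to_le (hB.le.trans inf_le_left)).comap_of_ker_isPGroup π
          (by rw [QuotientGroup.ker_mk']; exact Cfsg.Lib.Components.isPGroup_pCore p) |>.to_le inf_le_right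
  refine ⟨show π x ∈ _ from hx ▸ hXN hx₀, hxR, hRle, hRA, ?_, ?_⟩
  · rw [hcore, Subgroup.inf_relIndex_right, Subgroup.relIndex_comap, ← hA₁, hrel]
  · rw [hcore, commutator_le]
    intro b hb l hl
    rw [← QuotientGroup.eq_one_iff, ← QuotientGroup.mk'_apply, map_commutatorElement, commutatorElement_eq_one_iff_mul_comm]
    exact (hBc _ hb.1 _ (hmap.le (mem_map_of_mem π hl))).symm

end Cfsg.Lib.TwoConjugates
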