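import Cfsg.Agent.Coprime.Generation
import Cfsg.Agent.Components.Cores
import Cfsg.Agent.Coprime.Action

/-!
A `p`-group under an elementary abelian group of order `q²` of which only two subgroups of order `q`
have nontrivial fixed points.
-/

set_option linter.style.haveILetI false
set_option linter.unusedSectionVars false

namespace Cfsg.Lib.Misc.TwoFixed

open Subgroup
open scoped commutatorElement

universe u

/-- only `X₁`, `X₂` have fixed points on `P` and they share none -/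
structure Two {S : Type u} [Group S] (P Q X₁ X₂ : Subgroup S) : Prop where
  norm : Q ≤ normalizer (P : Set S)
  le₁ : X₁ ≤ Q
  le₂ : X₂ ≤ Q
  gen : P ≤ (P ⊓ centralizer (X₁ : Set S)) ⊔ (P ⊓ centralizer (X₂ : Set S))
  disj : P ⊓ centralizer (X₁ : Set S) ⊓ centralizer (X₂ : Set S) = ⊥

theorem main : ∀ (n : ℕ) {S : Type u} [Group S] [Finite S] {p q : ℕ} [Fact p.Prime] [Fact q.Prime] (_ : p ≠ q)
    {P Q X₁ X₂ : Subgroup S} [IsMulCommutative Q] (_ : IsPGroup p P) (_ : IsPGroup q Q) (_ : ¬ IsCyclic Q)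
    (_ : Q ≤ normalizer (P : Set S)) (_ : X₁ ≤ Q) (_ : X₂ ≤ Q)
    (_ : ∀ x ∈ Q, x ≠ 1 → x ∉ X₁ → x ∉ X₂ → P ⊓ centralizer {x} = ⊥)
    (_ : P ⊓ centralizer (Q : Set S) = ⊥) (_ : X₁ ⊔ X₂ = Q) (_ : ∀ x ∈ X₁, x ≠ 1 → zpowers x = X₁)
    (_ : ∀ x ∈ X₂, x ≠ 1 → zpowers x = X₂), Nat.card P = n →
    ⁅P ⊓ centralizer (X₁ : Set S), P ⊓ centralizer (X₂ : Set S)⁆ = ⊥ ∧
      (P ⊓ centralizer (X₁ : Set S)) ⊔ (P ⊓ centralizer (X₂ : Set S)) = P := by
  intro n
  induction n using Nat.strong_induction_on with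
  | _ n ih =>
  intro S _ _ p q _ _ hpq P Q X₁ X₂ _ hP hQ hQc hQP hX₁ hX₂ honly hfpf hsup hgen₁ hgen₂ hcard
  have hcop : ∀ {A B : Subgroup S}, IsPGroup q A → IsPGroup p B → (Nat.card A).Coprime (Nat.card B) := by
    intro A B hA hB
    obtain ⟨i, hi⟩ := IsPGroup.iff_card.mp hA
    obtain ⟨j, hj⟩ := IsPGroup.iff_card.mp hB
    rw [hi, hj]
    exact ((Nat.coprime_primes Fact.out Fact.out).mpr hpq.symm).pow i j
  -- generation
  have hgenP : ∀ R : Subgroup S, R ≤ P → Q ≤ normalizer (R : Set S) →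
      R ≤ (R ⊓ centralizer (X₁ : Set S)) ⊔ (R ⊓ centralizer (X₂ : Set S)) := by
    intro R hRP hRn
    conv_lhs => rw [← Cfsg.Lib.Coprime.centralizerJoin_eq hQc hRn (hcop hQ (hP.to_le hRP))]
    refine iSup₂_le fun x hx => ?_
    obtain ⟨hxQ, hx1⟩ := hx
    by_cases h1 : x ∈ X₁
    · refine le_trans (le_of_eq ?_) le_sup_left
      rw [← hgen₁ x h1 hx1, Cfsg.Lib.Coprime.centralizer_zpowers]
    by_cases h2 : x ∈ X₂
    · refine le_trans (le_of_eq ?_) le_sup_right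
      rw [← hgen₂ x h2 hx1, Cfsg.Lib.Coprime.centralizer_zpowers]
    exact (le_of_eq_of_le rfl (inf_le_inf_right _ hRP)).trans ((honly x hxQ hx1 h1 h2).le.trans bot_le)
  set C₁ := P ⊓ centralizer (X₁ : Set S) with hC₁
  set C₂ := P ⊓ centralizer (X₂ : Set S) with hC₂
  refine ⟨?_, le_antisymm (sup_le inf_le_left inf_le_left) (hgenP P le_rfl hQP)⟩
  by_cases hPb : P = ⊥
  · rw [eq_bot_iff]
    exact (commutator_mono (inf_le_left.trans hPb.le) (inf_le_left.trans hPb.le)).trans (by simp)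
  haveI : Nontrivial P := (nontrivial_iff_ne_bot P).mpr hPb
  set Z := (center P).map P.subtype with hZ
  have hZP : Z ≤ P := map_subtype_le _
  have hZb : Z ≠ ⊥ := fun h => by
    haveI := hP.center_nontrivial
    exact (nontrivial_iff_ne_bot _).mp inferInstance ((map_eq_bot_iff_of_injective _ P.subtype_injective).mp h)
  have hZn : normalizer (P : Set S) ≤ normalizer (Z : Set S) := by
    have key : ∀ g ∈ normalizer (P : Set S), ∀ z ∈ Z, g * z * g⁻¹ ∈ Z := by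
      rintro g hg - ⟨z, hz, rfl⟩
      exact ⟨P.normalizerMonoidHom ⟨g, hg⟩ z,
        characteristic_iff_le_comap.mp (inferInstance : (center P).Characteristic) _ hz, rfl⟩
    exact fun g hg => Cfsg.Lib.Coprime.mem_normalizer_of_conj_mem (key g hg)
      fun z hz => by simpa using key g⁻¹ (inv_mem hg) z hz
  have hZc : ∀ a ∈ P, ∀ z ∈ Z, a * z = z * a := by
    rintro a ha _ ⟨z, hz, rfl⟩
    exact congrArg Subtype.val (mem_center_iff.mp hz ⟨a, ha⟩)
  -- pass to the quotient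
  set M := normalizer (P : Set S) with hM
  haveI : (Z.subgroupOf M).Normal := normal_subgroupOf_of_le_normalizer hZn
  set π := QuotientGroup.mk' (Z.subgroupOf M)
  set P' := (P.subgroupOf M).map π
  set Q' := (Q.subgroupOf M).map π
  have hZker : Z ≤ M := hZP.trans le_normalizer
  have hlt : Nat.card P' < n := by
    rw [← hcard]
    have h1 := (π.comp (P.subgroupOf M).subtype).ker.card_mul_index
    rw [index_ker, MonoidHom.range_comp, range_subtype, Nat.card_congr (subgroupOfEquivOfLe (le_normalizer : P ≤ M)).toEquiv] at h1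
    have h2 : 1 < Nat.card (π.comp (P.subgroupOf M).subtype).ker := by
      obtain ⟨z, hz, hz1⟩ := (Subgroup.bot_or_exists_ne_one Z).resolve_left hZb
      haveI : Nontrivial (π.comp (P.subgroupOf M).subtype).ker :=
        ⟨⟨⟨⟨⟨z, hZker hz⟩, mem_subgroupOf.mpr (hZP hz)⟩,
          (QuotientGroup.eq_one_iff _).mpr (mem_subgroupOf.mpr hz)⟩, 1, fun h => hz1
            (congrArg (fun w => (((w : (π.comp (P.subgroupOf M).subtype).ker) : P.subgroupOf M) : M).1) h)⟩⟩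
      exact Finite.one_lt_card
    calc Nat.card P' = 1 * Nat.card P' := (one_mul _).symm
      _ < _ := Nat.mul_lt_mul_of_pos_right h2 Nat.card_pos
      _ = Nat.card P := h1
  have hQp : IsPGroup q (Q.subgroupOf M) := hQ.comap_subtype
  have hlift : ∀ A : Subgroup S, A ≤ Q → ∀ v ∈ P', v ∈ centralizer (((A.subgroupOf M).map π : Subgroup _) : Set (M ⧸ Z.subgroupOf M)) →
      ∃ w ∈ P ⊓ centralizer (A : Set S), ∃ hw : w ∈ M, π ⟨w, hw⟩ = v := by
    rintro A hA _ ⟨⟨w, hwM⟩, hw, rfl⟩ hv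
    have hwP : w ∈ P := mem_subgroupOf.mp hw
    obtain ⟨z, hz, hfix⟩ := Cfsg.Lib.Coprime.exists_fixed_of_commutator_mem (A := A) (N := Z) (k := w)
      ((hA.trans hQP).trans hZn) (hcop (hQ.to_le hA) (hP.to_le hZP)) (Or.inr (have := (hP.to_le hZP).isNilpotent; inferInstance))
      (hZn hwM) fun a ha => by
        have haM : a ∈ M := hA.trans hQP ha
        have h1 := mem_centralizer_iff.mp hv _ (mem_map_of_mem π (mem_subgroupOf.mpr ha : (⟨a, haM⟩ : M) ∈ A.subgroupOf M))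
        have h2 : π ⁅(⟨a, haM⟩ : M), ⟨w, hwM⟩⁆ = 1 := by
          rw [map_commutatorElement, commutatorElement_eq_one_iff_mul_comm]; exact h1
        exact mem_subgroupOf.mp ((QuotientGroup.eq_one_iff _).mp h2)
    have hzM := hZker hz
    refine ⟨w * z, ⟨mul_mem hwP (hZP hz), hfix⟩, mul_mem hwM hzM, ?_⟩
    rw [show (⟨w * z, mul_mem hwM hzM⟩ : M) = ⟨w, hwM⟩ * ⟨z, hzM⟩ from rfl, map_mul,
      show π ⟨z, hzM⟩ = 1 from (QuotientGroup.eq_one_iff _).mpr (mem_subgroupOf.mpr hz), mul_one]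
  haveI : IsMulCommutative Q' := by
    constructor
    constructor
    rintro ⟨_, a, ha, rfl⟩ ⟨_, b, hb, rfl⟩
    refine Subtype.ext ?_
    show π a * π b = π b * π a
    rw [← map_mul, ← map_mul]
    congr 1
    exact Subtype.ext (show (a : S) * b = b * a from congrArg Subtype.val (mul_comm' (⟨a, mem_subgroupOf.mp ha⟩ : Q) ⟨b, mem_subgroupOf.mp hb⟩))
  have hinjQ : ∀ a ∈ Q.subgroupOf M, π a = 1 → a = 1 := fun a ha h => by
    refine Subtype.ext (Cfsg.Lib.Coprime.eq_one_of_coprime (N := Q) (H := Z) (hcop hQ (hP.to_le hZP))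
      (mem_subgroupOf.mp ha) (mem_subgroupOf.mp ((QuotientGroup.eq_one_iff a).mp h)))
  have heQ : Nonempty (Q ≃* Q') := ⟨(subgroupOfEquivOfLe hQP).symm.trans
    (MulEquiv.ofBijective (π.subgroupMap (Q.subgroupOf M))
      ⟨(injective_iff_map_eq_one _).mpr fun a ha => Subtype.ext (hinjQ a a.2 (congrArg Subtype.val ha)),
        π.subgroupMap_surjective _⟩)⟩
  obtain ⟨eQ⟩ := heQ
  have hgenmap : ∀ X : Subgroup S, X ≤ Q → (∀ x ∈ X, x ≠ 1 → zpowers x = X) →
      ∀ x ∈ (X.subgroupOf M).map π, x ≠ 1 → zpowers x = (X.subgroupOf M).map π := by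
    rintro X hX hg _ ⟨⟨x, hxM⟩, hx, rfl⟩ hx1
    rw [← MonoidHom.map_zpowers]
    congr 1
    apply map_injective M.subtype_injective
    rw [MonoidHom.map_zpowers, subgroupOf_map_subtype, inf_eq_left.mpr (hX.trans hQP)]
    exact hg x (mem_subgroupOf.mp hx) fun h => hx1 (by
      rw [show (⟨x, hxM⟩ : M) = 1 from Subtype.ext h, map_one])
  have hbotmap : ∀ A : Subgroup S, A ≤ Q → P ⊓ centralizer (A : Set S) = ⊥ →
      P' ⊓ centralizer (((A.subgroupOf M).map π : Subgroup _) : Set (M ⧸ Z.subgroupOf M)) = ⊥ := by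
    intro A hA hb
    rw [eq_bot_iff]
    rintro v ⟨hv, hvc⟩
    obtain ⟨w, hw, hwM, rfl⟩ := hlift A hA v hv hvc
    rw [hb, mem_bot] at hw
    subst hw
    exact mem_bot.mpr (map_one π)
  obtain ⟨hcomm, -⟩ := ih _ hlt (S := M ⧸ Z.subgroupOf M) hpq (P := P') (Q := Q')
    (X₁ := (X₁.subgroupOf M).map π) (X₂ := (X₂.subgroupOf M).map π)
    ((hP.comap_subtype).map π) (hQp.map π)
    (fun h => hQc (isCyclic_of_surjective eQ.symm.toMonoidHom eQ.symm.surjective))
    (by rintro _ ⟨a, -, rfl⟩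
        haveI : (P.subgroupOf M).Normal := normal_in_normalizer
        haveI : P'.Normal := Normal.map inferInstance π (QuotientGroup.mk'_surjective _)
        exact le_normalizer_of_normal (K := ⊤) (mem_top _))
    (map_mono (comap_mono hX₁)) (map_mono (comap_mono hX₂))
    (by
      rintro _ ⟨⟨x, hxM⟩, hx, rfl⟩ hx1 hn1 hn2
      have h := honly x (mem_subgroupOf.mp hx) (fun h => hx1 (by
        rw [show (⟨x, hxM⟩ : M) = 1 from Subtype.ext h, map_one]))
        (fun h => hn1 (mem_map_of_mem π (mem_subgroupOf.mpr h)))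
        (fun h => hn2 (mem_map_of_mem π (mem_subgroupOf.mpr h)))
      rw [← Cfsg.Lib.Coprime.centralizer_zpowers] at h ⊢
      rw [← MonoidHom.map_zpowers]
      have := hbotmap (zpowers x) (zpowers_le.mpr (mem_subgroupOf.mp hx)) h
      rwa [show (zpowers x).subgroupOf M = zpowers ⟨x, hxM⟩ from by
        apply map_injective M.subtype_injective
        rw [MonoidHom.map_zpowers, subgroupOf_map_subtype]
        exact inf_eq_left.mpr (zpowers_le.mpr hxM)] at this)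
    (hbotmap Q le_rfl hfpf)
    (by
      rw [← Subgroup.map_sup, ← subgroupOf_sup (hX₁.trans hQP) (hX₂.trans hQP), hsup])
    (hgenmap X₁ hX₁ hgen₁) (hgenmap X₂ hX₂ hgen₂) rfl
  have hD : ⁅C₁, C₂⁆ ≤ Z := by
    refine commutator_le.mpr fun a ha b hb => ?_
    have haM : a ∈ M := le_normalizer ha.1
    have hbM : b ∈ M := le_normalizer hb.1
    have hca : ∀ (A : Subgroup S) (w : S) (hw : w ∈ M), w ∈ P ⊓ centralizer (A : Set S) →
        π ⟨w, hw⟩ ∈ P' ⊓ centralizer (((A.subgroupOf M).map π : Subgroup _) : Set (M ⧸ Z.subgroupOf M)) := by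
      intro A w hw h
      refine ⟨mem_map_of_mem π (mem_subgroupOf.mpr h.1), mem_centralizer_iff.mpr ?_⟩
      rintro _ ⟨⟨c, hcM⟩, hc, rfl⟩
      rw [← map_mul, ← map_mul]
      exact congrArg π (Subtype.ext (mem_centralizer_iff.mp h.2 c (mem_subgroupOf.mp hc)))
    have h1 := commutator_mem_commutator (hca X₁ a haM ha) (hca X₂ b hbM hb)
    rw [hcomm, mem_bot, ← map_commutatorElement] at h1
    exact mem_subgroupOf.mp ((QuotientGroup.eq_one_iff _).mp h1)
  -- `[Z, X₁, X₂] = 1`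
  have hinv : ∀ R : Subgroup S, ∀ A : Subgroup S, A ≤ Q → Q ≤ normalizer (R : Set S) →
      ∀ x ∈ Q, ∀ w ∈ R ⊓ centralizer (A : Set S), x * w * x⁻¹ ∈ R ⊓ centralizer (A : Set S) := by
    intro R A hA hR x hx w hw
    refine ⟨(mem_normalizer_iff.mp (hR hx) w).mp hw.1, mem_centralizer_iff.mpr fun a ha => ?_⟩
    have hax : a * x = x * a := congrArg Subtype.val (mul_comm' (⟨a, hA ha⟩ : Q) ⟨x, hx⟩)
    have hxi : x⁻¹ * a = a * x⁻¹ := by
      rw [inv_mul_eq_iff_eq_mul, ← mul_assoc, ← hax, mul_inv_cancel_right]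
    calc a * (x * w * x⁻¹) = (a * x) * w * x⁻¹ := by group
      _ = x * (a * w) * x⁻¹ := by rw [hax]; group
      _ = x * (w * a) * x⁻¹ := by rw [mem_centralizer_iff.mp hw.2 a ha]
      _ = x * w * (a * x⁻¹) := by group
      _ = x * w * x⁻¹ * a := by rw [← hxi]; group
  have hQZ : Q ≤ normalizer (Z : Set S) := hQP.trans hZn
  have hkill : ∀ z ∈ Z, ∀ x ∈ X₁, ∀ y ∈ X₂,
      y * (x * z * x⁻¹ * z⁻¹) * y⁻¹ = x * z * x⁻¹ * z⁻¹ := by
    intro z hz x hx y hy
    obtain ⟨a, ha, b, hb, rfl⟩ := (Cfsg.Lib.Coprime.mem_sup_of_le_normalizer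
      (show Z ⊓ centralizer (X₂ : Set S) ≤ normalizer ((Z ⊓ centralizer (X₁ : Set S) : Subgroup S) : Set S) from
        fun g hg => centralizer_le_normalizer _ (mem_centralizer_iff.mpr fun w hw => hZc w (hZP hw.1) g hg.1))).mp
      (hgenP Z hZP hQZ hz)
    have h1 : x * a = a * x := mem_centralizer_iff.mp ha.2 x hx
    have h2 : x * (a * b) * x⁻¹ * (a * b)⁻¹ = a * (x * b * x⁻¹ * b⁻¹) * a⁻¹ := by
      calc x * (a * b) * x⁻¹ * (a * b)⁻¹ = (x * a) * b * x⁻¹ * b⁻¹ * a⁻¹ := by group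
        _ = _ := by rw [h1]; group
    have h3 : x * b * x⁻¹ * b⁻¹ ∈ Z ⊓ centralizer (X₂ : Set S) :=
      mul_mem (hinv Z X₂ hX₂ hQZ x (hX₁ hx) b hb) (inv_mem hb)
    rw [h2, hZc a (hZP ha.1) _ h3.1, mul_inv_cancel_right, mem_centralizer_iff.mp h3.2 y hy, mul_inv_cancel_right]
  have hcomm2 : ∀ (A X' : Subgroup S), A ≤ Q → X' ≤ Q →
      (P ⊓ centralizer (A : Set S)) ⊓ centralizer (X' : Set S) = ⊥ →
      P ⊓ centralizer (A : Set S) ≤ ⁅P ⊓ centralizer (A : Set S), X'⁆ := by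
    intro A X' hA hX' hbot
    set R := P ⊓ centralizer (A : Set S)
    have hn : X' ≤ normalizer (R : Set S) := fun x hx => by
      rw [mem_normalizer_iff]
      intro w
      refine ⟨fun hw => hinv P A hA hQP x (hX' hx) w hw, fun hw => ?_⟩
      have h := hinv P A hA hQP x⁻¹ (inv_mem (hX' hx)) _ hw
      exact by simpa [R, mul_assoc, mem_inf] using h
    have hRp : IsPGroup p R := hP.to_le inf_le_left
    have h := Cfsg.Lib.Coprime.commutator_sup_centralizer hn (hcop (hQ.to_le hX') hRp)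
      (Or.inr (have := hRp.isNilpotent; inferInstance))
    rw [hbot, sup_bot_eq] at h
    exact h.ge
  have hC₁d : C₁ ⊓ centralizer (X₂ : Set S) = ⊥ := by
    rw [eq_bot_iff]
    intro w hw
    rw [← hfpf]
    refine mem_inf.mpr ⟨hw.1.1, ?_⟩
    rw [← hsup, ← zpowers_le, le_centralizer_iff]
    refine sup_le ?_ ?_
    · rw [le_centralizer_iff, zpowers_le]; exact hw.1.2
    · rw [le_centralizer_iff, zpowers_le]; exact hw.2
  have hC₂d : C₂ ⊓ centralizer (X₁ : Set S) = ⊥ := by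
    rw [eq_bot_iff]
    intro w hw
    rw [← hfpf]
    refine mem_inf.mpr ⟨hw.1.1, ?_⟩
    rw [← hsup, ← zpowers_le, le_centralizer_iff]
    refine sup_le ?_ ?_
    · rw [le_centralizer_iff, zpowers_le]; exact hw.2
    · rw [le_centralizer_iff, zpowers_le]; exact hw.1.2
  -- bilinearity
  have hbilR : ∀ a ∈ C₁, ∀ b ∈ C₂, ∀ b' ∈ C₂, ⁅a, b * b'⁆ = ⁅a, b⁆ * ⁅a, b'⁆ := by
    intro a ha b hb b' hb'
    rw [show ⁅a, b * b'⁆ = ⁅a, b⁆ * (b * ⁅a, b'⁆ * b⁻¹) by simp only [commutatorElement_def]; group,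
      hZc b hb.1 _ (hD (commutator_mem_commutator ha hb')), mul_inv_cancel_right]
  have hbilL : ∀ a ∈ C₁, ∀ a' ∈ C₁, ∀ b ∈ C₂, ⁅a * a', b⁆ = ⁅a, b⁆ * ⁅a', b⁆ := by
    intro a ha a' ha' b hb
    rw [show ⁅a * a', b⁆ = a * ⁅a', b⁆ * a⁻¹ * ⁅a, b⁆ by simp only [commutatorElement_def]; group,
      hZc a ha.1 _ (hD (commutator_mem_commutator ha' hb)), mul_inv_cancel_right,
      hZc _ (hZP (hD (commutator_mem_commutator ha' hb))) _ (hD (commutator_mem_commutator ha hb))]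
  -- for fixed arguments moved by the two groups the bracket vanishes
  have hzero : ∀ a ∈ C₁, ∀ b ∈ C₂, ∀ x ∈ X₁, ∀ y ∈ X₂, ⁅y * a * y⁻¹ * a⁻¹, x * b * x⁻¹ * b⁻¹⁆ = 1 := by
    intro a ha b hb x hx y hy
    have hya : y * a * y⁻¹ ∈ C₁ := hinv P X₁ hX₁ hQP y (hX₂ hy) a ha
    have hxb : x * b * x⁻¹ ∈ C₂ := hinv P X₂ hX₂ hQP x (hX₁ hx) b hb
    have hdb : x * b * x⁻¹ * b⁻¹ ∈ C₂ := mul_mem hxb (inv_mem hb)
    set db := x * b * x⁻¹ * b⁻¹
    set β := ⁅a, b⁆
    have hβ : β ∈ Z := hD (commutator_mem_commutator ha hb)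
    have e1 : ⁅a, x * b * x⁻¹⁆ = x * β * x⁻¹ := by
      have h1 : x * a * x⁻¹ = a := by rw [mem_centralizer_iff.mp ha.2 x hx, mul_inv_cancel_right]
      calc ⁅a, x * b * x⁻¹⁆ = ⁅x * a * x⁻¹, x * b * x⁻¹⁆ := by rw [h1]
        _ = _ := by simp only [β, commutatorElement_def]; group
    have e2 : ⁅a, db⁆ = x * β * x⁻¹ * β⁻¹ := by
      have h2 := hbilR a ha db hdb b hb
      rw [show db * b = x * b * x⁻¹ by simp only [db]; group, e1] at h2
      exact eq_mul_inv_of_mul_eq h2.symm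
    have e3 : ⁅y * a * y⁻¹, db⁆ = y * ⁅a, db⁆ * y⁻¹ := by
      have h1 : y * db * y⁻¹ = db := by rw [mem_centralizer_iff.mp hdb.2 y hy, mul_inv_cancel_right]
      calc ⁅y * a * y⁻¹, db⁆ = ⁅y * a * y⁻¹, y * db * y⁻¹⁆ := by rw [h1]
        _ = _ := by simp only [commutatorElement_def]; group
    have h4 := hbilL (y * a * y⁻¹ * a⁻¹) (mul_mem hya (inv_mem ha)) a ha db hdb
    rw [show y * a * y⁻¹ * a⁻¹ * a = y * a * y⁻¹ by group, e3, e2, hkill β hβ x hx y hy] at h4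
    exact mul_right_cancel (h4.symm.trans (one_mul _).symm)
  rw [eq_bot_iff, commutator_le]
  intro a ha b hb
  have ha' := hcomm2 X₁ X₂ hX₁ hX₂ hC₁d ha
  have hb' := hcomm2 X₂ X₁ hX₂ hX₁ hC₂d hb
  rw [mem_bot, commutatorElement_eq_one_iff_mul_comm]
  have hgenA : ∀ (R X' : Subgroup S) (T : Subgroup S), (∀ r ∈ R, ∀ x ∈ X', x * r * x⁻¹ * r⁻¹ ∈ T) → ⁅R, X'⁆ ≤ T := by
    intro R X' T h
    rw [commutator_comm, commutator_le]
    exact fun x hx r hr => by rw [commutatorElement_def]; exact h r hr x hx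
  have h1 : ∀ a' ∈ C₁, ∀ y ∈ X₂, y * a' * y⁻¹ * a'⁻¹ ∈ centralizer (C₂ : Set S) := by
    intro a' ha'' y hy
    have h2 : ⁅C₂, X₁⁆ ≤ centralizer ({y * a' * y⁻¹ * a'⁻¹} : Set S) := hgenA C₂ X₁ _ fun r hr x hx =>
      mem_centralizer_singleton_iff.mpr (commutatorElement_eq_one_iff_mul_comm.mp (hzero a' ha'' r hr x hx y hy)).symm
    exact mem_centralizer_iff.mpr fun r hr => mem_centralizer_singleton_iff.mp (h2 (hcomm2 X₂ X₁ hX₂ hX₁ hC₂d hr))
  exact (mem_centralizer_iff.mp (hgenA C₁ X₂ _ h1 ha') b hb).symm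

end Cfsg.Lib.Misc.TwoFixed
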