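import Mathlib

/-!
`2`-groups with elementary abelian central derived subgroup.
-/

namespace Cfsg.Lib.Misc.OmegaFour

open Subgroup
open scoped commutatorElement

variable {X : Type*} [Group X]

theorem pow_four_closure (h2 : ∀ a b : X, ⁅a, b⁆ ^ 2 = 1) (hc : ∀ a b : X, ⁅a, b⁆ ∈ center X) :
    ∀ x ∈ closure {g : X | g ^ 4 = 1}, x ^ 4 = 1 := by
  have hsq : ∀ a y : X, y * (a * a) = (a * a) * y := fun a y => by
    refine (commutatorElement_eq_one_iff_mul_comm.mp ?_).symm
    rw [show ⁅a * a, y⁆ = a * ⁅a, y⁆ * a⁻¹ * ⁅a, y⁆ by simp only [commutatorElement_def]; group,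
      mem_center_iff.mp (hc a y) a, mul_inv_cancel_right, ← pow_two, h2]
  have hmul : ∀ a b : X, (a * b) ^ 4 = a ^ 4 * b ^ 4 := by
    intro a b
    set c := ⁅a⁻¹, b⁆
    have hcc : ∀ y, y * c = c * y := mem_center_iff.mp (hc a⁻¹ b)
    have e1 : a * b * (a * b) = (a * a) * (b * b) * c := by
      calc a * b * (a * b) = (a * a) * c * (b * b) := by simp only [c, commutatorElement_def]; group
        _ = (a * a) * (b * b) * c := by rw [mul_assoc, ← hcc, ← mul_assoc]
    have hcs : c * c = 1 := by rw [← pow_two]; exact h2 _ _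
    calc (a * b) ^ 4 = (a * b * (a * b)) * (a * b * (a * b)) := by
          rw [pow_succ, pow_succ, pow_succ, pow_one]; simp only [mul_assoc]
      _ = ((a * a) * (b * b) * c) * ((a * a) * (b * b) * c) := by rw [e1]
      _ = ((a * a) * (b * b)) * ((a * a) * (b * b)) * (c * c) := by
          rw [mul_assoc ((a * a) * (b * b)) c, ← mul_assoc c, ← hcc ((a * a) * (b * b))]
          group
      _ = (a * a) * ((b * b) * (a * a)) * (b * b) := by rw [hcs, mul_one]; group
      _ = (a * a) * ((a * a) * (b * b)) * (b * b) := by rw [hsq a (b * b)]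
      _ = a ^ 4 * b ^ 4 := by simp only [pow_succ, pow_zero, one_mul, mul_assoc]
  intro x hx
  induction hx using closure_induction with
  | mem g hg => exact hg
  | one => exact one_pow 4
  | mul a b _ _ ha hb => rw [hmul, ha, hb, one_mul]
  | inv a _ ha => rw [inv_pow, ha, inv_one]

theorem aut_pow_two [Finite X] (hX : IsPGroup 2 X) (h2 : ∀ a b : X, ⁅a, b⁆ ^ 2 = 1) (φ : MulAut X)
    (hfix : ∀ g : X, g ^ 4 = 1 → φ g = g) : ∃ k : ℕ, φ ^ (2 ^ k) = 1 := by
  obtain ⟨e, m, hm, hem⟩ := Nat.exists_eq_pow_mul_and_not_dvd (n := orderOf φ) (orderOf_pos φ).ne' 2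
    (by norm_num)
  refine ⟨e, ?_⟩
  set ψ := φ ^ (2 ^ e)
  have hψm : ψ ^ m = 1 := by rw [← pow_mul, ← hem, pow_orderOf_eq_one]
  have hfix' : ∀ g : X, g ^ 4 = 1 → ψ g = g := fun g hg => by
    have h : ∀ n : ℕ, (φ ^ n) g = g := fun n => by
      induction n with
      | zero => rfl
      | succ n ih => rw [pow_succ, MulAut.mul_apply, hfix g hg, ih]
    exact h _
  have key : ∀ k : ℕ, ∀ x : X, x ^ 2 ^ k = 1 → ψ x = x := by
    intro k
    induction k with
    | zero => intro x hx; rw [pow_zero, pow_one] at hx; rw [hx, map_one]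
    | succ k ih =>
      intro x hx
      have hx2 : ψ (x * x) = x * x := ih _ (by rw [← pow_two, ← pow_mul, ← pow_succ']; exact hx)
      set c := x⁻¹ * ψ x
      have hψx : ψ x = x * c := by simp only [c]; group
      have h1 : x⁻¹ * c * x = c⁻¹ := by
        rw [map_mul, hψx] at hx2
        refine eq_inv_of_mul_eq_one_left ?_
        calc x⁻¹ * c * x * c = (x * x)⁻¹ * (x * c * (x * c)) := by group
          _ = 1 := by rw [hx2, inv_mul_cancel]
      have hc2 : (c⁻¹ * c⁻¹) ^ 2 = 1 := by
        rw [show c⁻¹ * c⁻¹ = ⁅x⁻¹, c⁆ by rw [commutatorElement_def, inv_inv, h1]]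
        exact h2 _ _
      have hc4 : c ^ 4 = 1 := by
        rw [← pow_two, ← pow_mul, inv_pow, inv_eq_one] at hc2
        exact hc2
      have hψn : ∀ n : ℕ, (ψ ^ n) x = x * c ^ n := fun n => by
        induction n with
        | zero => simp
        | succ n ihn =>
          rw [pow_succ', MulAut.mul_apply, ihn, map_mul, map_pow, hfix' c hc4, hψx, mul_assoc, pow_succ']
      have hcm : c ^ m = 1 := by
        have h := hψn m
        rw [hψm, MulAut.one_apply] at h
        exact mul_left_cancel ((mul_one x).trans h) |>.symm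
      have hc1 : c = 1 := by
        rw [← orderOf_eq_one_iff]
        exact Nat.eq_one_of_dvd_coprimes (((Nat.prime_two.coprime_iff_not_dvd.mpr hm).symm).pow_right 2)
          (orderOf_dvd_of_pow_eq_one hcm) (orderOf_dvd_of_pow_eq_one (by rw [show 2 ^ 2 = 4 from rfl]; exact hc4))
      rw [hψx, hc1, mul_one]
  ext x
  obtain ⟨k, hk⟩ := hX x
  exact key k x hk

end Cfsg.Lib.Misc.OmegaFour
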