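import Mathlib
import Cfsg.Agent.Transfer.ThompsonTransfer
import Cfsg.Agent.SolvStruct.AlperinClassical

/-!
A group with Sylow 2-subgroup `Z₂ × D₈` has a subgroup of index two.
-/

set_option linter.style.haveILetI false
set_option linter.unusedSectionVars false

namespace Cfsg.Lib.Misc.TwoTimesDihedralEight

open Subgroup

abbrev H := Multiplicative (ZMod 2) × DihedralGroup 4

def zc : H := (1, .r 2)
def ac : H := (Multiplicative.ofAdd 1, .r 0)
def azc : H := (Multiplicative.ofAdd 1, .r 2)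

/-- representatives of the classes of involutions -/
def rep : Fin 7 → H :=
  ![ac, zc, azc, (1, .sr 0), (Multiplicative.ofAdd 1, .sr 0), (1, .sr 1), (Multiplicative.ofAdd 1, .sr 1)]

def bitsOf : Fin 7 → ZMod 2 × ZMod 2 × ZMod 2 :=
  ![(1, 0, 0), (0, 1, 0), (0, 0, 1), (1, 1, 0), (1, 0, 1), (0, 1, 1), (1, 1, 1)]

/-- the seven surjections onto a group of order two -/
def lam (l : Fin 7) (x : H) : ZMod 2 :=
  (bitsOf l).1 * Multiplicative.toAdd x.1 +
    (match x.2 with
      | .r i => (i.val : ZMod 2) * ((bitsOf l).2.1 + (bitsOf l).2.2)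
      | .sr i => (bitsOf l).2.1 + (i.val : ZMod 2) * ((bitsOf l).2.1 + (bitsOf l).2.2))

theorem lam_mul : ∀ l x y, lam l (x * y) = lam l x + lam l y := by decide +kernel

theorem lam_surj : ∀ l, ∃ x, lam l x = 1 := by decide +kernel

def lamHom (l : Fin 7) : H →* Multiplicative (ZMod 2) :=
  MonoidHom.mk' (fun x => Multiplicative.ofAdd (lam l x)) fun x y => by simp only [lam_mul, ofAdd_add]

theorem cover : ∀ w : H, w * w = 1 → w ≠ 1 → ∃ i : Fin 7, ∃ h : H, h * rep i * h⁻¹ = w := by decide +kernel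

theorem rep_inv : ∀ i, rep i * rep i = 1 ∧ rep i ≠ 1 := by decide +kernel

theorem sq_cases : ∀ x : H, x * x = 1 ∨ x * x = zc := by decide +kernel

theorem central_cases : ∀ w : H, w * w = 1 → w ≠ 1 → (∀ h, h * w = w * h) → ∃ i : Fin 7, i.val < 3 ∧ w = rep i := by
  decide +kernel

theorem central_rep : ∀ i : Fin 7, i.val < 3 → ∀ h, h * rep i = rep i * h := by decide +kernel

theorem conj_mul_zc : ∀ w : H, w * w = 1 → w ≠ 1 → (∃ h, h * w ≠ w * h) →
    ∃ h : H, h * w * h⁻¹ = w * zc := by decide +kernel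

theorem lam5 : ∀ i : Fin 7, lam 5 (rep i) = 0 → i.val < 3 := by decide +kernel

theorem key : ∀ v₀ v₁ v₂ v₃ : Fin 3,
    (∀ l i : Fin 7, lam l (rep i) = 1 → ∃ j : Fin 7, lam l (rep j) = 0 ∧
      (![0, 1, 2, v₀, v₁, v₂, v₃] : Fin 7 → Fin 3) i = (![0, 1, 2, v₀, v₁, v₂, v₃] : Fin 7 → Fin 3) j) →
    (v₀ ≠ 1 ∧ v₁ ≠ 1 ∧ v₂ ≠ 1 ∧ v₃ ≠ 1) ∧ (v₀ = 0 ∨ v₁ = 0 ∨ v₂ = 0 ∨ v₃ = 0) := by
  decide +kernel

theorem mult_two : ∀ c : Multiplicative (ZMod 2), c = 1 ∨ c = Multiplicative.ofAdd 1 := by decide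
theorem zmod_two : ∀ a : ZMod 2, a = 0 ∨ a = 1 := by decide
theorem zc_sq : zc = ((1, .r 1) : H) * ((1, .r 1) : H) := by decide
theorem zc_inv : zc * zc = 1 ∧ zc ≠ 1 := by decide
theorem ac_inv : ac * ac = 1 ∧ ac ≠ 1 := by decide
theorem azc_mul : azc * zc = ac ∧ ac * zc = azc ∧ ac ≠ zc := by decide
theorem lam_one : ∀ l, lam l 1 = 0 := by decide +kernel

variable {G : Type*} [Group G] [Finite G]

theorem exists_index_two (S : Sylow 2 G) (e : (S : Subgroup G) ≃* H) :
    ∃ K : Subgroup G, K.index = 2 := by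
  by_contra hno
  haveI : Fact (Nat.Prime 2) := ⟨Nat.prime_two⟩
  let ι : H →* G := (S : Subgroup G).subtype.comp e.symm.toMonoidHom
  have hιS : ∀ w, ι w ∈ (S : Subgroup G) := fun w => (e.symm w).2
  have hιinj : Function.Injective ι := fun x y h => e.symm.injective (Subtype.ext h)
  have hιsur : ∀ s, s ∈ (S : Subgroup G) → ∃ w, ι w = s := fun s hs => ⟨e ⟨s, hs⟩, by simp [ι]⟩
  let R : H → H → Prop := fun u v => ∃ g : G, g * ι u * g⁻¹ = ι v
  have Rsymm : ∀ {u v}, R u v → R v u := by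
    rintro u v ⟨g, hg⟩
    exact ⟨g⁻¹, by rw [← hg]; group⟩
  have Rtrans : ∀ {u v w}, R u v → R v w → R u w := by
    rintro u v w ⟨g, hg⟩ ⟨k, hk⟩
    exact ⟨k * g, by rw [← hk, ← hg]; group⟩
  have Rconj : ∀ h u : H, R u (h * u * h⁻¹) := fun h u => ⟨ι h, by simp⟩
  have Rinv : ∀ {u v}, R u v → u * u = 1 → u ≠ 1 → v * v = 1 ∧ v ≠ 1 := by
    rintro u v ⟨g, hg⟩ h2 h1
    refine ⟨hιinj ?_, fun hv => h1 (hιinj ?_)⟩
    · rw [map_mul, ← hg, map_one]
      calc g * ι u * g⁻¹ * (g * ι u * g⁻¹) = g * ι (u * u) * g⁻¹ := by rw [map_mul]; group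
        _ = 1 := by rw [h2, map_one]; group
    · rw [hv, map_one] at hg
      rw [map_one]
      calc ι u = g⁻¹ * (g * ι u * g⁻¹) * g := by group
        _ = 1 := by rw [hg]; group
  -- transfer
  have htr : ∀ l : Fin 7, ∀ u : H, u * u = 1 → u ≠ 1 → lam l u = 1 → ∃ v, lam l v = 0 ∧ R u v := by
    intro l u h2 h1 hlu
    by_contra hc
    push_neg at hc
    let f : (S : Subgroup G) →* Multiplicative (ZMod 2) := (lamHom l).comp e.toMonoidHom
    let Q : Subgroup G := f.ker.map (S : Subgroup G).subtype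
    have hf : Function.Surjective f := by
      intro c
      obtain ⟨x, hx⟩ := lam_surj l
      rcases mult_two c with rfl | rfl
      · exact ⟨1, map_one f⟩
      · exact ⟨e.symm x, by simp [f, lamHom, hx]⟩
    have hker : f.ker.index = 2 := by
      rw [Subgroup.index_ker, MonoidHom.range_eq_top.2 hf, Subgroup.card_top,
        Nat.card_eq_fintype_card, Fintype.card_multiplicative, ZMod.card]
    have hQ : Q.index = 2 * (S : Subgroup G).index := by
      rw [Subgroup.index_map_subtype, hker]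
    have hm : Odd (S : Subgroup G).index := by
      rcases Nat.even_or_odd (S : Subgroup G).index with h | h
      · exact absurd (even_iff_two_dvd.1 h) S.not_dvd_index
      · exact h
    have hord : orderOf (ι u) = 2 := by
      refine orderOf_eq_prime ?_ ?_
      · rw [pow_two, ← map_mul, h2, map_one]
      · rw [← map_one ι]
        exact fun h => h1 (hιinj h)
    obtain ⟨M, -, hM, -⟩ := Cfsg.Lib.Transfer.exists_index_two_not_mem Q hm hQ hord (fun g hg => by
      obtain ⟨s, hs, hsg⟩ := hg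
      obtain ⟨v, hv⟩ : ∃ v, e.symm v = s := ⟨e s, e.symm_apply_apply s⟩
      subst hv
      have hlv : lam l v = 0 := by
        have h := MonoidHom.mem_ker.1 hs
        simpa [f, lamHom] using h
      refine hc v hlv ⟨g⁻¹, ?_⟩
      rw [inv_inv]
      exact hsg.symm)
    exact hno ⟨M, hM⟩
  -- fusion of central elements
  have hz : ∀ n ∈ normalizer ((S : Subgroup G) : Set G), n * ι zc * n⁻¹ = ι zc := by
    intro n hn
    obtain ⟨w, hw⟩ := hιsur _ ((mem_normalizer_iff.1 hn (ι ((1, .r 1) : H))).1 (hιS _))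
    have hw2 : n * ι zc * n⁻¹ = ι (w * w) := by
      rw [map_mul, hw, zc_sq, map_mul]
      group
    rcases sq_cases w with h | h
    · exfalso
      rw [h, map_one] at hw2
      have : ι zc = 1 := by
        calc ι zc = n⁻¹ * (n * ι zc * n⁻¹) * n := by group
          _ = 1 := by rw [hw2]; group
      exact zc_inv.2 (hιinj (by rw [this, map_one]))
    · rwa [h] at hw2
  have hcentral : ∀ w : H, (∀ h, h * w = w * h) → ι w ∈ centralizer ((S : Subgroup G) : Set G) := by
    intro w hw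
    refine mem_centralizer_iff.2 fun s hs => ?_
    obtain ⟨h, rfl⟩ := hιsur s hs
    rw [← map_mul, hw h, map_mul]
  have hfix : ∀ n ∈ normalizer ((S : Subgroup G) : Set G), n * ι ac * n⁻¹ = ι ac := by
    intro n hn
    have hac := mem_centralizer_iff.1 (hcentral ac (central_rep 0 (by decide)))
    have himg : n * ι ac * n⁻¹ = ι ac ∨ n * ι ac * n⁻¹ = ι azc := by
      obtain ⟨w, hw⟩ := hιsur _ ((mem_normalizer_iff.1 hn (ι ac)).1 (hιS _))
      have hw' : R ac w := ⟨n, hw.symm⟩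
      obtain ⟨hw2, hw1⟩ := Rinv hw' ac_inv.1 ac_inv.2
      have hwc : ∀ h, h * w = w * h := by
        intro h
        apply hιinj
        obtain ⟨k, hk⟩ := hιsur _ ((mem_normalizer_iff.1 (inv_mem hn) (ι h)).1 (hιS _))
        have hk' : ι h = n * ι k * n⁻¹ := by rw [hk]; group
        rw [map_mul, map_mul, hk', hw]
        calc n * ι k * n⁻¹ * (n * ι ac * n⁻¹) = n * (ι k * ι ac) * n⁻¹ := by group
          _ = n * (ι ac * ι k) * n⁻¹ := by rw [hac _ (hιS k)]
          _ = _ := by group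
      obtain ⟨i, hi, rfl⟩ := central_cases w hw2 hw1 hwc
      rcases (show ∀ i : Fin 7, i.val < 3 → i = 0 ∨ i = 1 ∨ i = 2 by decide) i hi with rfl | rfl | rfl
      · exact Or.inl hw.symm
      · exfalso
        have hw1' : n * ι ac * n⁻¹ = ι zc := hw.symm
        have : ι ac = ι zc := by
          calc ι ac = n⁻¹ * (n * ι ac * n⁻¹) * n := by group
            _ = n⁻¹ * (n * ι zc * n⁻¹) * n := by rw [hw1', hz n hn]
            _ = ι zc := by group
        exact azc_mul.2.2 (hιinj this)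
      · exact Or.inr hw.symm
    rcases himg with h | h
    · exact h
    · -- the odd part
      have h2 : n * n * ι ac * (n * n)⁻¹ = ι ac := by
        calc n * n * ι ac * (n * n)⁻¹ = n * (n * ι ac * n⁻¹) * n⁻¹ := by group
          _ = n * ι (ac * zc) * n⁻¹ := by rw [h]; rfl
          _ = n * ι ac * n⁻¹ * (n * ι zc * n⁻¹) := by rw [map_mul]; group
          _ = ι (azc * zc) := by rw [h, hz n hn, map_mul]
          _ = ι ac := by rw [azc_mul.1]
      obtain ⟨t, k, hk, hord⟩ : ∃ t k : ℕ, Odd k ∧ orderOf n = 2 ^ t * k := by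
        obtain ⟨t, k, hk, hord⟩ := Nat.exists_eq_pow_mul_and_not_dvd (orderOf_pos n).ne' 2 (by norm_num)
        exact ⟨t, k, Nat.odd_iff.2 (by omega), hord⟩
      have hnk : n ^ k ∈ (S : Subgroup G) := by
        have hp : IsPGroup 2 (zpowers (n ^ k)) := IsPGroup.of_card (n := t) (by
          rw [Nat.card_zpowers, orderOf_pow_of_dvd (by rcases hk with ⟨j, rfl⟩; omega) ⟨2 ^ t, by rw [hord, mul_comm]⟩, hord,
            Nat.mul_div_cancel _ (by rcases hk with ⟨j, rfl⟩; omega)])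
        have hle : zpowers (n ^ k) ≤ normalizer ((S : Subgroup G) : Set G) := zpowers_le.2 (pow_mem hn k)
        have := S.3 (IsPGroup.to_sup_of_normal_right' hp S.2 hle) le_sup_right
        exact this.le (mem_sup_left (mem_zpowers _))
      obtain ⟨j, hj⟩ := hk
      have hc2 : n * n ∈ centralizer {ι ac} := mem_centralizer_singleton_iff.2 (mul_inv_eq_iff_eq_mul.1 h2)
      have hck : n ^ k ∈ centralizer {ι ac} := mem_centralizer_singleton_iff.2 (hac _ hnk)
      have hmem : n ∈ centralizer {ι ac} := by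
        have h3 : n = ((n * n) ^ j)⁻¹ * n ^ k := by
          rw [hj, eq_inv_mul_iff_mul_eq, ← pow_two, ← pow_mul, ← pow_succ]
        rw [h3]
        exact mul_mem (inv_mem (pow_mem hc2 j)) hck
      exact mul_inv_eq_iff_eq_mul.2 (mem_centralizer_singleton_iff.1 hmem)
  have hdist : ∀ i j : Fin 7, i.val < 3 → j.val < 3 → R (rep i) (rep j) → i = j := by
    intro i j hi hj ⟨g, hg⟩
    have h := S.conj_eq_normalizer_conj_of_mem_centralizer (ι (rep i)) g⁻¹
      (hcentral _ (central_rep i hi)) (by rw [inv_inv, hg]; exact hcentral _ (central_rep j hj))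
    obtain ⟨n, hn, hn'⟩ := h
    rw [inv_inv, hg] at hn'
    have hall : ∀ i : Fin 7, i.val < 3 → n⁻¹ * ι (rep i) * n = ι (rep i) := by
      intro i hi
      have ha := hfix _ (inv_mem hn)
      have hz' := hz _ (inv_mem hn)
      rw [inv_inv] at ha hz'
      rcases (show ∀ i : Fin 7, i.val < 3 → i = 0 ∨ i = 1 ∨ i = 2 by decide) i hi with rfl | rfl | rfl
      · exact ha
      · exact hz'
      · show n⁻¹ * ι azc * n = ι azc
        calc n⁻¹ * ι azc * n = n⁻¹ * ι (ac * zc) * n := rfl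
          _ = (n⁻¹ * ι ac * n) * (n⁻¹ * ι zc * n) := by rw [map_mul]; group
          _ = ι azc := by rw [ha, hz', ← map_mul]; rfl
    rw [hall i hi] at hn'
    exact (show ∀ i j : Fin 7, rep i = rep j → i = j by decide +kernel) i j (hιinj hn'.symm)
  -- every involution is fused to a central one
  have hex : ∀ i : Fin 7, ∃ c : Fin 3, R (rep i) (rep ⟨c.val, by omega⟩) := by
    intro i
    by_cases hi : i.val < 3
    · exact ⟨⟨i.val, hi⟩, 1, by simp⟩
    have h5 : lam 5 (rep i) = 1 := by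
      rcases zmod_two (lam 5 (rep i)) with h | h
      · exact absurd (lam5 i h) hi
      · exact h
    obtain ⟨v, hv, huv⟩ := htr 5 (rep i) (rep_inv i).1 (rep_inv i).2 h5
    obtain ⟨hv2, hv1⟩ := Rinv huv (rep_inv i).1 (rep_inv i).2
    obtain ⟨j, h, rfl⟩ := cover v hv2 hv1
    have hj : lam 5 (rep j) = 0 := by
      rw [lam_mul, lam_mul] at hv
      have h0 : lam 5 h + lam 5 h⁻¹ = 0 := by rw [← lam_mul, mul_inv_cancel]; exact lam_one 5
      linear_combination hv - h0
    exact ⟨⟨j.val, lam5 j hj⟩, Rtrans huv (Rsymm (Rconj h (rep j)))⟩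
  choose cl hcl using hex
  have huniq : ∀ i j, R (rep i) (rep j) → cl i = cl j := fun i j h =>
    Fin.ext (Fin.mk.inj_iff.1 (hdist _ _ (cl i).2 (cl j).2 (Rtrans (Rsymm (hcl i)) (Rtrans h (hcl j)))))
  have hcl0 : ∀ i : Fin 7, ∀ hi : i.val < 3, cl i = ⟨i.val, hi⟩ := fun i hi =>
    Fin.ext (by
      have := congrArg Fin.val (hdist i _ hi (cl i).2 (hcl i))
      exact this.symm)
  have hcl_eq : cl = ![0, 1, 2, cl 3, cl 4, cl 5, cl 6] := by
    funext i
    fin_cases i
    · exact hcl0 0 (by decide)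
    · exact hcl0 1 (by decide)
    · exact hcl0 2 (by decide)
    all_goals rfl
  obtain ⟨hne1, hex0⟩ := key (cl 3) (cl 4) (cl 5) (cl 6) (fun l i hli => by
    obtain ⟨v, hv, huv⟩ := htr l (rep i) (rep_inv i).1 (rep_inv i).2 hli
    obtain ⟨hv2, hv1⟩ := Rinv huv (rep_inv i).1 (rep_inv i).2
    obtain ⟨j, h, rfl⟩ := cover v hv2 hv1
    have hj : lam l (rep j) = 0 := by
      rw [lam_mul, lam_mul] at hv
      have h0 : lam l h + lam l h⁻¹ = 0 := by
        rw [← lam_mul, mul_inv_cancel]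
        exact lam_one l
      linear_combination hv - h0
    refine ⟨j, hj, ?_⟩
    have := huniq i j (Rtrans huv (Rsymm (Rconj h (rep j))))
    rw [hcl_eq] at this
    exact this)
  -- the class of `zc` meets `S` in `zc`
  have hzonly : ∀ w, R zc w → w = zc := by
    intro w hw
    obtain ⟨hw2, hw1⟩ := Rinv hw zc_inv.1 zc_inv.2
    obtain ⟨j, h, rfl⟩ := cover w hw2 hw1
    have hj : cl j = 1 := by
      rw [huniq j 1 (Rsymm (Rtrans (u := zc) hw (Rsymm (Rconj h (rep j))))), hcl0 1 (by decide)]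
      rfl
    have hj1 : j = 1 := by
      fin_cases j
      · rw [hcl0 _ (by decide)] at hj; exact absurd hj (by decide)
      · rfl
      · rw [hcl0 _ (by decide)] at hj; exact absurd hj (by decide)
      · exact absurd hj hne1.1
      · exact absurd hj hne1.2.1
      · exact absurd hj hne1.2.2.1
      · exact absurd hj hne1.2.2.2
    subst hj1
    show h * zc * h⁻¹ = zc
    rw [show h * zc = zc * h from central_rep 1 (by decide) h, mul_inv_cancel_right]
  obtain ⟨i, hi, hi0⟩ : ∃ i : Fin 7, ¬ i.val < 3 ∧ cl i = 0 := by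
    rcases hex0 with h | h | h | h
    · exact ⟨3, by decide, h⟩
    · exact ⟨4, by decide, h⟩
    · exact ⟨5, by decide, h⟩
    · exact ⟨6, by decide, h⟩
  obtain ⟨g, hg⟩ : R (rep i) ac := by
    have := hcl i
    rw [hi0] at this
    exact this
  -- move the centralizer of `x` into `S`
  let K : Subgroup H := centralizer {rep i}
  let L : Subgroup G := (K.map ι).map (MulAut.conj g).toMonoidHom
  have hL2 : IsPGroup 2 L := by
    refine IsPGroup.map ?_ _
    exact S.2.to_le (by rintro _ ⟨w, -, rfl⟩; exact hιS w)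
  have hLC : L ≤ centralizer {ι ac} := by
    rintro _ ⟨_, ⟨w, hw, rfl⟩, rfl⟩
    refine mem_centralizer_singleton_iff.2 ?_
    show g * ι w * g⁻¹ * ι ac = ι ac * (g * ι w * g⁻¹)
    rw [← hg]
    calc g * ι w * g⁻¹ * (g * ι (rep i) * g⁻¹) = g * ι (w * rep i) * g⁻¹ := by rw [map_mul]; group
      _ = g * ι (rep i * w) * g⁻¹ := by rw [mem_centralizer_singleton_iff.1 hw]
      _ = _ := by rw [map_mul]; group
  have hSC : (S : Subgroup G) ≤ centralizer {ι ac} := fun s hs =>
    mem_centralizer_singleton_iff.2 (mem_centralizer_iff.1 (hcentral ac (central_rep 0 (by decide))) s hs)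
  obtain ⟨c, hc, hcS⟩ := Cfsg.Lib.SolvStruct.Alperin.exists_conj_le hSC S.2
    (fun h => S.not_dvd_index (h.trans (relIndex_dvd_index_of_le hSC))) hLC hL2
  have himg : ∀ w ∈ K, ∃ w', c⁻¹ * g * ι w * (c⁻¹ * g)⁻¹ = ι w' := by
    intro w hw
    have h1 : c⁻¹ * (g * ι w * g⁻¹) * c ∈ (S : Subgroup G) := hcS ⟨_, ⟨_, ⟨w, hw, rfl⟩, rfl⟩, rfl⟩
    obtain ⟨w', hw'⟩ := hιsur _ h1
    exact ⟨w', by rw [hw']; group⟩
  have hxa : c⁻¹ * g * ι (rep i) * (c⁻¹ * g)⁻¹ = ι ac := by
    calc c⁻¹ * g * ι (rep i) * (c⁻¹ * g)⁻¹ = c⁻¹ * (g * ι (rep i) * g⁻¹) * c := by group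
      _ = ι ac := by rw [hg, mem_centralizer_singleton_iff.1 (inv_mem hc)]; group
  obtain ⟨z', hz'⟩ := himg zc (mem_centralizer_singleton_iff.2 (central_rep 1 (by decide) (rep i)).symm)
  have hz'' : z' = zc := hzonly z' ⟨_, hz'⟩
  subst hz''
  obtain ⟨y, hy⟩ := himg ac (mem_centralizer_singleton_iff.2 (central_rep 0 (by decide) (rep i)).symm)
  obtain ⟨hy2, hy1⟩ := Rinv ⟨_, hy⟩ ac_inv.1 ac_inv.2
  by_cases hyc : ∀ h, h * y = y * h
  · obtain ⟨j, hj, rfl⟩ := central_cases y hy2 hy1 hyc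
    have hj0 : (0 : Fin 7) = j := hdist 0 j (by decide) hj ⟨_, hy⟩
    subst hj0
    have : ι (rep i) = ι ac := by
      calc ι (rep i) = (c⁻¹ * g)⁻¹ * (c⁻¹ * g * ι (rep i) * (c⁻¹ * g)⁻¹) * (c⁻¹ * g) := by group
        _ = (c⁻¹ * g)⁻¹ * (c⁻¹ * g * ι ac * (c⁻¹ * g)⁻¹) * (c⁻¹ * g) := by rw [hxa, hy]; rfl
        _ = ι ac := by group
    have h0 : i = 0 := (show ∀ i : Fin 7, rep i = ac → i = 0 by decide +kernel) i (hιinj this)
    subst h0
    exact hi (by decide)
  · push_neg at hyc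
    obtain ⟨h, hh⟩ := conj_mul_zc y hy2 hy1 hyc
    have hayz : R azc (y * zc) := ⟨c⁻¹ * g, by
      calc c⁻¹ * g * ι azc * (c⁻¹ * g)⁻¹ = c⁻¹ * g * ι (ac * zc) * (c⁻¹ * g)⁻¹ := rfl
        _ = (c⁻¹ * g * ι ac * (c⁻¹ * g)⁻¹) * (c⁻¹ * g * ι zc * (c⁻¹ * g)⁻¹) := by rw [map_mul]; group
        _ = ι (y * zc) := by rw [hy, hz', map_mul]⟩
    have hyy : R (y * zc) y := by
      rw [← hh]
      exact Rsymm (Rconj h y)
    have : (2 : Fin 7) = 0 := hdist 2 0 (by decide) (by decide) (Rtrans hayz (Rtrans hyy (Rsymm ⟨_, hy⟩)))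
    exact absurd this (by decide)

end Cfsg.Lib.Misc.TwoTimesDihedralEight
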