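import Cfsg.Prelude.Def_Transfer
import Cfsg.Agent.Coprime.Generation
import Cfsg.Agent.RankOne.QuaternionAuto
import Cfsg.Agent.Frobenius.UniqueSubgroup
import Cfsg.Agent.PGroups.Basic
import Cfsg.Agent.PGroups.SpecialCoprime
import Mathlib.GroupTheory.SemidirectProduct

/-!
A noncyclic abelian group of odd order acting on a `2`-group in such a way that every nontrivial
element fixes at most one involution.
-/

set_option autoImplicit false
set_option linter.unusedSectionVars false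

open Subgroup
open scoped commutatorElement

namespace Cfsg.Lib.UniqueFixedInv

universe u

theorem quat_sq_sq : ∀ x : QuaternionGroup 2, x * x * (x * x) = 1 := by decide

theorem quat_not_central : ∀ x : QuaternionGroup 2, x * x ≠ 1 → ∃ y, x * y ≠ y * x := by decide

variable {X : Type u} [Group X] [Finite X]

/-- the fixed points of `e` -/
def C (W : Subgroup X) (e : X) : Subgroup X := W ⊓ centralizer {e}

theorem mem_C {W : Subgroup X} {e x : X} : x ∈ C W e ↔ x ∈ W ∧ Commute x e := by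
  rw [C, mem_inf, mem_centralizer_singleton_iff]
  rfl

/-- the setting -/
structure Setting (X : Type u) [Group X] where
  W : Subgroup X
  E : Subgroup X
  p : ℕ
  pprime : p.Prime
  podd : p ≠ 2
  hW : IsPGroup 2 W
  hE : IsPGroup p E
  norm : E ≤ normalizer (W : Set X)
  comm : ∀ e ∈ E, ∀ f ∈ E, Commute e f
  notcyc : ¬ IsCyclic E
  faith : ∀ e ∈ E, (∀ w ∈ W, Commute w e) → e = 1
  hfix : ∀ e ∈ E, e ≠ 1 → ∀ x ∈ W, ∀ y ∈ W, orderOf x = 2 → orderOf y = 2 →
    Commute x e → Commute y e → x = y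

variable (s : Setting X)

theorem conj_memW {e : X} (he : e ∈ s.E) {w : X} (hw : w ∈ s.W) : e * w * e⁻¹ ∈ s.W :=
  (mem_normalizer_iff.mp (s.norm he) w).mp hw

theorem conj_memC {e f : X} (he : e ∈ s.E) (hf : f ∈ s.E) {w : X} (hw : w ∈ C s.W e) :
    f * w * f⁻¹ ∈ C s.W e := by
  rw [mem_C] at hw ⊢
  exact ⟨conj_memW s hf hw.1, ((s.comm f hf e he).mul_left hw.2).mul_left (s.comm f hf e he).inv_left⟩

theorem commute_iff_fixed {f x : X} : Commute x f ↔ f * x * f⁻¹ = x := by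
  rw [mul_inv_eq_iff_eq_mul]
  exact ⟨fun h => h.eq.symm, fun h => h.symm⟩

theorem odd_card_E : Odd (Nat.card s.E) := by
  haveI := Fact.mk s.pprime
  obtain ⟨n, hn⟩ := IsPGroup.iff_card.mp s.hE
  rw [hn]
  exact ((s.pprime.eq_two_or_odd').resolve_left s.podd).pow

theorem coprime_card (U : Subgroup X) (hU : U ≤ s.W) : (Nat.card s.E).Coprime (Nat.card U) := by
  haveI : Fact (Nat.Prime 2) := ⟨Nat.prime_two⟩
  obtain ⟨m, hm⟩ := IsPGroup.iff_card.mp (s.hW.to_le hU)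
  rw [hm]
  exact (Nat.coprime_two_right.mpr (odd_card_E s)).pow_right m

theorem exists_ne : ∃ e ∈ s.E, e ≠ 1 := by
  by_contra! h
  apply s.notcyc
  rw [(eq_bot_iff_forall _).mpr h]
  infer_instance

/-- an invariant subgroup is generated by its fixed points -/
theorem gen {U : Subgroup X} (hU : U ≤ s.W) (hUE : ∀ e ∈ s.E, ∀ u ∈ U, e * u * e⁻¹ ∈ U) (T : Subgroup X)
    (hT : ∀ e ∈ s.E, e ≠ 1 → ∀ u ∈ U, Commute u e → u ∈ T) : U ≤ T := by
  haveI : Fact (Nat.Prime 2) := ⟨Nat.prime_two⟩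
  haveI : IsMulCommutative s.E := ⟨⟨fun a b => Subtype.ext (s.comm a a.2 b b.2).eq⟩⟩
  have hn : s.E ≤ normalizer (U : Set X) := by
    intro e he
    rw [mem_normalizer_iff]
    refine fun u => ⟨fun hu => hUE e he u hu, fun hu => ?_⟩
    have := hUE e⁻¹ (inv_mem he) _ hu
    rwa [show e⁻¹ * (e * u * e⁻¹) * e⁻¹⁻¹ = u by group] at this
  refine (Cfsg.Lib.Coprime.join_qgroup (A := s.E) (Q := U) s.notcyc hn (coprime_card s U hU)
    (q := 2) (s.hW.to_le hU)).trans (iSup₂_le fun e he => ?_)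
  intro u hu
  exact hT e he.1 he.2 u hu.1 (mem_centralizer_singleton_iff.mp hu.2)

/-- the central involution -/
theorem exists_z (hW1 : s.W ≠ ⊥) : ∃ z ∈ s.W, z ≠ 1 ∧ z * z = 1 ∧ (∀ w ∈ s.W, Commute w z) ∧
    (∀ e ∈ s.E, Commute z e) := by
  haveI : Fact (Nat.Prime 2) := ⟨Nat.prime_two⟩
  let V : Subgroup X :=
    { carrier := {x | x ∈ s.W ∧ x * x = 1 ∧ ∀ w ∈ s.W, Commute w x}
      one_mem' := ⟨one_mem _, one_mul 1, fun w _ => Commute.one_right w⟩
      mul_mem' := fun {a b} ha hb => ⟨mul_mem ha.1 hb.1,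
        by rw [((ha.2.2 b hb.1)).mul_mul_mul_comm, ha.2.1, hb.2.1, one_mul],
        fun w hw => (ha.2.2 w hw).mul_right (hb.2.2 w hw)⟩
      inv_mem' := fun {a} ha => ⟨inv_mem ha.1, by rw [← mul_inv_rev, ha.2.1, inv_one],
        fun w hw => (ha.2.2 w hw).inv_right⟩ }
  have hVE : ∀ e ∈ s.E, ∀ x ∈ V, e * x * e⁻¹ ∈ V := fun e he x hx =>
    ⟨conj_memW s he hx.1, by rw [show e * x * e⁻¹ * (e * x * e⁻¹) = e * (x * x) * e⁻¹ by group, hx.2.1]; group,
      fun w hw => by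
        have h := hx.2.2 _ (conj_memW s (inv_mem he) hw)
        calc w * (e * x * e⁻¹) = e * ((e⁻¹ * w * e⁻¹⁻¹) * x) * e⁻¹ := by group
          _ = e * (x * (e⁻¹ * w * e⁻¹⁻¹)) * e⁻¹ := by rw [h.eq]
          _ = (e * x * e⁻¹) * w := by group⟩
  -- the group `V` is nontrivial
  obtain ⟨c, hc, hc2⟩ : ∃ c : ↥s.W, c ∈ center ↥s.W ∧ orderOf c = 2 := by
    haveI : Nontrivial ↥s.W := (nontrivial_iff_ne_bot _).mpr hW1
    have hne := s.hW.center_nontrivial
    obtain ⟨k, hk⟩ := IsPGroup.iff_card.mp (s.hW.to_subgroup (center ↥s.W))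
    have hk0 : k ≠ 0 := fun h => by
      rw [h, pow_zero] at hk
      exact absurd hk (Finite.one_lt_card_iff_nontrivial.mpr hne).ne'
    obtain ⟨c, hc⟩ := exists_prime_orderOf_dvd_card' 2 (hk ▸ dvd_pow_self 2 hk0 : 2 ∣ Nat.card (center ↥s.W))
    exact ⟨c, c.2, by rw [Subgroup.orderOf_coe, hc]⟩
  have hcV : (c : X) ∈ V := ⟨c.2, by
    have h := pow_orderOf_eq_one c
    rw [hc2, pow_two] at h
    exact congrArg Subtype.val h, fun w hw => congrArg Subtype.val ((mem_center_iff.mp hc) ⟨w, hw⟩)⟩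
  by_contra! hno
  have hle : V ≤ ⊥ := gen s (U := V) (fun x hx => hx.1) hVE ⊥ fun e he he1 x hx hxe => by
    by_contra hx1
    obtain ⟨f, hf, hne⟩ := hno x hx.1 (fun h => hx1 (mem_bot.mpr h)) hx.2.1 hx.2.2
    apply hne
    rw [commute_iff_fixed]
    have ho : orderOf x = 2 := orderOf_eq_prime (by rw [pow_two]; exact hx.2.1) (fun h => hx1 (mem_bot.mpr h))
    refine s.hfix e he he1 _ (conj_memW s hf hx.1) x hx.1 ?_ ho ?_ hxe
    · rw [← MulAut.conj_apply, MulEquiv.orderOf_eq, ho]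
    · exact ((s.comm f hf e he).mul_left hxe).mul_left (s.comm f hf e he).inv_left
  have := hle hcV
  rw [mem_bot] at this
  rw [← Subgroup.orderOf_coe, this, orderOf_one] at hc2
  omega

section withz

variable {z : X} (hz : z ∈ s.W ∧ z ≠ 1 ∧ z * z = 1 ∧ (∀ w ∈ s.W, Commute w z) ∧ (∀ e ∈ s.E, Commute z e))

include hz

theorem invol_eq {e : X} (he : e ∈ s.E) (he1 : e ≠ 1) {x : X} (hx : x ∈ C s.W e) (hx2 : x * x = 1)
    (hx1 : x ≠ 1) : x = z :=
  s.hfix e he he1 x (mem_C.mp hx).1 z hz.1 (orderOf_eq_prime (by rw [pow_two]; exact hx2) hx1)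
    (orderOf_eq_prime (by rw [pow_two]; exact hz.2.2.1) hz.2.1) (mem_C.mp hx).2 (hz.2.2.2.2 e he)

/-- the action of `f` on the fixed points of `e` -/
noncomputable def act (e : X) (he : e ∈ s.E) (f : X) (hf : f ∈ s.E) : MulAut ↥(C s.W e) :=
  MulEquiv.ofBijective (MonoidHom.mk' (fun w => ⟨f * w * f⁻¹, conj_memC s he hf w.2⟩)
    (fun a b => Subtype.ext (by simp [mul_assoc]))) (Finite.injective_iff_bijective.mp fun a b h => Subtype.ext (by
      have h' : f * (a : X) * f⁻¹ = f * (b : X) * f⁻¹ := congrArg Subtype.val h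
      simpa using h'))

omit hz in
theorem act_apply {e f : X} (he : e ∈ s.E) (hf : f ∈ s.E) (w : ↥(C s.W e)) :
    ((act s e he f hf w : ↥(C s.W e)) : X) = f * w * f⁻¹ := rfl

theorem act_odd {e f : X} (he : e ∈ s.E) (hf : f ∈ s.E) : Odd (orderOf (act s e he f hf)) := by
  refine (odd_card_E s).of_dvd_nat (dvd_trans ?_ (Subgroup.orderOf_dvd_natCard s.E hf))
  refine orderOf_dvd_of_pow_eq_one (MulEquiv.ext fun w => Subtype.ext ?_)
  have hit : ∀ n : ℕ, (((act s e he f hf) ^ n) w : X) = f ^ n * w * (f ^ n)⁻¹ := by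
    intro n
    induction n with
    | zero => simp
    | succ n ih => rw [pow_succ', MulAut.mul_apply, act_apply, ih, pow_succ']; group
  rw [hit, pow_orderOf_eq_one]
  simp

/-- `e` has a fixed point group on which `E` acts nontrivially -/
def IsQ (e : X) : Prop := ∃ f ∈ s.E, ∃ q ∈ C s.W e, ¬ Commute q f

omit hz

theorem notQ {e : X} (h : ¬ IsQ s e) {q : X} (hq : q ∈ C s.W e) {f : X} (hf : f ∈ s.E) : Commute q f := by
  by_contra hne
  exact h ⟨f, hf, q, hq, hne⟩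

include hz

theorem q_data {e : X} (he : e ∈ s.E) (he1 : e ≠ 1) (hQ : IsQ s e) :
    Nonempty (↥(C s.W e) ≃* QuaternionGroup 2) ∧
      (∀ f ∈ s.E, ∀ q ∈ C s.W e, Commute q (f ^ 3)) := by
  classical
  haveI : Fact (Nat.Prime 2) := ⟨Nat.prime_two⟩
  have hp2 : IsPGroup 2 ↥(C s.W e) := s.hW.to_le inf_le_left
  have hc : IsCyclic ↥(C s.W e) ∨ ∃ n : ℕ, Nonempty (↥(C s.W e) ≃* QuaternionGroup (2 ^ n)) := by
    have key : ∀ w : ↥(C s.W e), orderOf w = 2 → (w : X) = z := fun w hw => by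
      refine invol_eq s hz he he1 w.2 ?_ ?_
      · have h := pow_orderOf_eq_one w
        rw [hw, pow_two] at h
        exact congrArg Subtype.val h
      · intro h
        rw [show w = 1 from Subtype.ext h, orderOf_one] at hw
        omega
    rcases Cfsg.Lib.UniqueSub.isCyclic_or_quaternion hp2 (fun x y hx hy => by
      rw [Subtype.ext ((key y hy).trans (key x hx).symm)]
      exact mem_zpowers x) with h | ⟨-, h⟩
    · exact Or.inl h
    · exact Or.inr h
  obtain ⟨f, hf, q, hq, hne⟩ := hQ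
  have hφne : act s e he f hf ≠ 1 := fun h => hne (commute_iff_fixed.mpr
    (congrArg Subtype.val (DFunLike.congr_fun h (⟨q, hq⟩ : ↥(C s.W e)))))
  obtain ⟨hiso, -⟩ := Cfsg.Lib.RankOne.odd_auto_quaternion hp2 hc _ (act_odd s hz he hf) hφne
  refine ⟨hiso, fun g hg r hr => ?_⟩
  have h3 : act s e he g hg ^ 3 = 1 := by
    by_cases h : act s e he g hg = 1
    · rw [h, one_pow]
    · exact (Cfsg.Lib.RankOne.odd_auto_quaternion hp2 hc _ (act_odd s hz he hg) h).2
  have h := congrArg Subtype.val (DFunLike.congr_fun h3 (⟨r, hr⟩ : ↥(C s.W e)))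
  rw [pow_succ', pow_two, MulAut.mul_apply, MulAut.mul_apply, act_apply, act_apply, act_apply] at h
  rw [commute_iff_fixed]
  calc g ^ 3 * r * (g ^ 3)⁻¹ = g * (g * (g * r * g⁻¹) * g⁻¹) * g⁻¹ := by
        rw [pow_succ', pow_two]; group
    _ = r := h

theorem q_card {e : X} (he : e ∈ s.E) (he1 : e ≠ 1) (hQ : IsQ s e) : Nat.card ↥(C s.W e) = 8 := by
  obtain ⟨⟨eq⟩, -⟩ := q_data s hz he he1 hQ
  rw [Nat.card_congr eq.toEquiv, Nat.card_eq_fintype_card, QuaternionGroup.card]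

theorem q_sq {e : X} (he : e ∈ s.E) (he1 : e ≠ 1) (hQ : IsQ s e) {q : X} (hq : q ∈ C s.W e)
    (hq1 : q ≠ 1) (hqz : q ≠ z) : q * q = z := by
  obtain ⟨⟨eq⟩, -⟩ := q_data s hz he he1 hQ
  have h2 : q * q ≠ 1 := fun h => hqz (invol_eq s hz he he1 hq h hq1)
  refine invol_eq s hz he he1 (mul_mem hq hq) ?_ h2
  have h := quat_sq_sq (eq ⟨q, hq⟩)
  rw [← map_mul, ← map_mul, MulEquiv.map_eq_one_iff] at h
  exact congrArg Subtype.val h

theorem q_not_central {e : X} (he : e ∈ s.E) (he1 : e ≠ 1) (hQ : IsQ s e) {q : X} (hq : q ∈ C s.W e)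
    (hq1 : q ≠ 1) (hqz : q ≠ z) : ∃ r ∈ C s.W e, ¬ Commute q r := by
  obtain ⟨⟨eq⟩, -⟩ := q_data s hz he he1 hQ
  obtain ⟨y, hy⟩ := quat_not_central (eq ⟨q, hq⟩) fun h => by
    rw [← map_mul, MulEquiv.map_eq_one_iff] at h
    exact hqz (invol_eq s hz he he1 hq (congrArg Subtype.val h) hq1)
  obtain ⟨r, rfl⟩ := eq.surjective y
  refine ⟨r, r.2, fun h => hy ?_⟩
  rw [← map_mul, ← map_mul]
  exact congrArg eq (Subtype.ext h.eq)

omit hz in
theorem inv_fixed {f q : X} (h : f * q * f⁻¹ = q⁻¹) (h3 : Commute q (f ^ 3)) : f * q * f⁻¹ = q := by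
  have e := commute_iff_fixed.mp h3
  rw [show f ^ 3 * q * (f ^ 3)⁻¹ = f * (f * (f * q * f⁻¹) * f⁻¹) * f⁻¹ by rw [pow_succ', pow_two]; group,
    h] at e
  have e1 : ∀ y : X, f * y⁻¹ * f⁻¹ = (f * y * f⁻¹)⁻¹ := fun y => by group
  rw [e1, h, inv_inv, h] at e
  rw [h, e]

/-- a fixed point outside the centre forces trivial action -/
theorem fix_all {e f : X} (he : e ∈ s.E) (he1 : e ≠ 1) (hQ : IsQ s e) (hf : f ∈ s.E) {q : X}
    (hq : q ∈ C s.W e) (hq1 : q ≠ 1) (hqz : q ≠ z) (hc : Commute q f) :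
    ∀ r ∈ C s.W e, Commute r f := by
  haveI : Fact (Nat.Prime 2) := ⟨Nat.prime_two⟩
  set M : Subgroup ↥(C s.W e) := zpowers (⟨q, hq⟩ : ↥(C s.W e))
  have ho : orderOf (⟨q, hq⟩ : ↥(C s.W e)) = 2 ^ 2 := by
    rw [Subgroup.orderOf_mk]
    refine orderOf_eq_prime_pow ?_ ?_
    · rw [pow_one, pow_two, q_sq s hz he he1 hQ hq hq1 hqz]; exact hz.2.1
    · rw [show (2 : ℕ) ^ (1 + 1) = 2 * 2 from rfl, pow_mul, pow_two q, q_sq s hz he he1 hQ hq hq1 hqz,
        pow_two]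
      exact hz.2.2.1
  have hMc : Nat.card M = 2 ^ 2 := by rw [Nat.card_zpowers, ho]
  have hidx : M.index = 2 := by
    have h := M.card_mul_index
    rw [hMc, q_card s hz he he1 hQ] at h
    omega
  have h1 := Cfsg.Lib.RankOne.odd_auto_trivial M hMc hidx (act s e he f hf) (act_odd s hz he hf)
    (fun m hm => by
      obtain ⟨i, rfl⟩ := mem_zpowers_iff.mp hm
      rw [map_zpow, show act s e he f hf ⟨q, hq⟩ = ⟨q, hq⟩ from Subtype.ext (commute_iff_fixed.mp hc)]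
      exact zpow_mem (mem_zpowers _) i)
  intro r hr
  exact commute_iff_fixed.mpr (congrArg Subtype.val (DFunLike.congr_fun h1 (⟨r, hr⟩ : ↥(C s.W e))))

/-- irreducibility -/
theorem q_irred {e : X} (he : e ∈ s.E) (he1 : e ≠ 1) (hQ : IsQ s e) (U : Subgroup X)
    (hU : ∀ f ∈ s.E, ∀ u ∈ U, f * u * f⁻¹ ∈ U) {q : X} (hq : q ∈ C s.W e) (hqU : q ∈ U) (hq1 : q ≠ 1)
    (hqz : q ≠ z) : C s.W e ≤ U := by
  haveI : Fact (Nat.Prime 2) := ⟨Nat.prime_two⟩
  obtain ⟨f, hf, r, hr, hne⟩ := hQ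
  have hQ' : IsQ s e := ⟨f, hf, r, hr, hne⟩
  by_contra hle
  set Y := C s.W e ⊓ U
  have hY8 : Nat.card Y ≠ 8 := fun h => hle ((Subgroup.eq_of_le_of_card_ge (inf_le_left : Y ≤ _)
    (by rw [h, q_card s hz he he1 hQ'])).ge.trans inf_le_right)
  have hzY : zpowers q ≤ Y := zpowers_le.mpr (mem_inf.mpr ⟨hq, hqU⟩)
  have ho : orderOf q = 4 := by
    show orderOf q = 2 ^ (1 + 1)
    refine orderOf_eq_prime_pow ?_ ?_
    · rw [pow_one, pow_two, q_sq s hz he he1 hQ' hq hq1 hqz]; exact hz.2.1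
    · rw [show (2 : ℕ) ^ (1 + 1) = 2 * 2 from rfl, pow_mul, pow_two q, q_sq s hz he he1 hQ' hq hq1 hqz,
        pow_two]
      exact hz.2.2.1
  have hYd : Nat.card Y ∣ 8 := q_card s hz he he1 hQ' ▸ card_dvd_of_le inf_le_left
  have h4 : 4 ∣ Nat.card Y := by
    rw [← ho, ← Nat.card_zpowers]; exact card_dvd_of_le hzY
  have hY4 : Nat.card Y = 4 := by
    obtain ⟨k, hk⟩ := h4
    have := Nat.le_of_dvd (by norm_num) hYd
    have : 0 < Nat.card Y := Nat.card_pos
    omega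
  have hYeq : zpowers q = Y := Subgroup.eq_of_le_of_card_ge hzY (by rw [hY4, Nat.card_zpowers, ho])
  have hfq : f * q * f⁻¹ ∈ zpowers q := by
    rw [hYeq]; exact mem_inf.mpr ⟨conj_memC s he hf hq, hU f hf q hqU⟩
  obtain ⟨i, hi⟩ := mem_powers_iff_mem_zpowers.mpr hfq
  have hi' : f * q * f⁻¹ = q ^ (i % 4) := by rw [← ho, pow_mod_orderOf]; exact hi.symm
  have hqq := q_sq s hz he he1 hQ' hq hq1 hqz
  have hq4 : q ^ 4 = 1 := by rw [← ho, pow_orderOf_eq_one]
  have h3 := (q_data s hz he he1 hQ').2 f hf q hq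
  refine hne (fix_all s hz he he1 hQ' hf hq hq1 hqz (commute_iff_fixed.mpr ?_) r hr)
  have : i % 4 < 4 := Nat.mod_lt _ (by norm_num)
  rcases (show i % 4 = 0 ∨ i % 4 = 1 ∨ i % 4 = 2 ∨ i % 4 = 3 by omega) with h | h | h | h <;> rw [h] at hi'
  · rw [pow_zero, mul_inv_eq_one, mul_eq_left] at hi'; exact absurd hi' hq1
  · rwa [pow_one] at hi'
  · exfalso
    rw [pow_two, hqq, mul_inv_eq_iff_eq_mul, (hz.2.2.2.2 f hf).eq] at hi'
    exact hqz (mul_left_cancel hi')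
  · refine inv_fixed (hi'.trans ?_) h3
    exact eq_inv_of_mul_eq_one_left (by rw [← pow_succ, hq4])

theorem q_ne_le {e : X} (he : e ∈ s.E) (he1 : e ≠ 1) (hQ : IsQ s e) :
    ∃ q ∈ C s.W e, q ≠ 1 ∧ q ≠ z := by
  obtain ⟨f, hf, q, hq, hne⟩ := hQ
  exact ⟨q, hq, fun h => hne (h ▸ Commute.one_left f), fun h => hne (h ▸ hz.2.2.2.2 f hf)⟩

/-- elements commuting with all of `E` -/
theorem fixed_le (hex : ∃ e ∈ s.E, e ≠ 1 ∧ IsQ s e) {x : X} (hx : x ∈ s.W)
    (hxE : ∀ f ∈ s.E, Commute x f) : x ∈ zpowers z := by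
  obtain ⟨e, he, he1, hQ⟩ := hex
  by_contra hne
  obtain ⟨f, hf, q, hq, hn⟩ := hQ
  exact hn (fix_all s hz he he1 ⟨f, hf, q, hq, hn⟩ hf (mem_C.mpr ⟨hx, hxE e he⟩)
    (fun h => hne (h ▸ one_mem _)) (fun h => hne (h ▸ mem_zpowers z)) (hxE f hf) q hq)

theorem exists_Q : ∃ e ∈ s.E, e ≠ 1 ∧ IsQ s e := by
  by_contra! hno
  obtain ⟨e, he, he1⟩ := exists_ne s
  refine he1 (s.faith e he fun w hw => ?_)
  have hle : s.W ≤ centralizer ({e} : Set X) :=
    gen s le_rfl (fun f hf u hu => conj_memW s hf hu) _ fun f hf hf1 u hu huf =>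
      mem_centralizer_singleton_iff.mpr (notQ s (hno f hf hf1) (mem_C.mpr ⟨hu, huf⟩) he).eq
  exact mem_centralizer_singleton_iff.mp (hle hw)

theorem cube {f : X} (hf : f ∈ s.E) : f ^ 3 = 1 := by
  refine s.faith _ (pow_mem hf 3) fun w hw => ?_
  have hle : s.W ≤ centralizer ({f ^ 3} : Set X) :=
    gen s le_rfl (fun g hg u hu => conj_memW s hg hu) _ fun g hg hg1 u hu hug => by
      refine mem_centralizer_singleton_iff.mpr ?_
      by_cases hQ : IsQ s g
      · exact ((q_data s hz hg hg1 hQ).2 f hf u (mem_C.mpr ⟨hu, hug⟩)).eq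
      · exact ((notQ s hQ (mem_C.mpr ⟨hu, hug⟩) hf).pow_right 3).eq
  exact mem_centralizer_singleton_iff.mp (hle hw)

/-- kernel of the action on a quaternion fixed point group -/
noncomputable def ker (e : X) : Subgroup X := s.E ⊓ centralizer ((C s.W e : Subgroup X) : Set X)

omit hz in
theorem mem_ker {e f : X} : f ∈ ker s e ↔ f ∈ s.E ∧ ∀ q ∈ C s.W e, Commute q f := by
  rw [ker, mem_inf, mem_centralizer_iff]
  rfl

omit hz in
theorem self_mem_ker {e : X} (he : e ∈ s.E) : e ∈ ker s e :=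
  (mem_ker s).mpr ⟨he, fun _ hq => (mem_C.mp hq).2⟩

theorem ker_inter {e g f : X} (he : e ∈ s.E) (he1 : e ≠ 1) (hg : g ∈ s.E) (hg1 : g ≠ 1)
    (hQe : IsQ s e) (hQg : IsQ s g) (hne : C s.W e ≠ C s.W g) (hfe : f ∈ ker s e) (hfg : f ∈ ker s g) :
    f = 1 := by
  by_contra hf1
  obtain ⟨hfE, hfe'⟩ := (mem_ker s).mp hfe
  obtain ⟨-, hfg'⟩ := (mem_ker s).mp hfg
  have h1 : C s.W e ≤ C s.W f := fun q hq => mem_C.mpr ⟨(mem_C.mp hq).1, hfe' q hq⟩
  have h2 : C s.W g ≤ C s.W f := fun q hq => mem_C.mpr ⟨(mem_C.mp hq).1, hfg' q hq⟩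
  have hQf : IsQ s f := by
    obtain ⟨a, ha, q, hq, hn⟩ := hQe
    exact ⟨a, ha, q, h1 hq, hn⟩
  exact hne ((Subgroup.eq_of_le_of_card_ge h1 (by rw [q_card s hz hfE hf1 hQf, q_card s hz he he1 hQe])).trans
    (Subgroup.eq_of_le_of_card_ge h2 (by rw [q_card s hz hfE hf1 hQf, q_card s hz hg hg1 hQg])).symm)

theorem ker_index {e : X} (he : e ∈ s.E) (he1 : e ≠ 1) (hQ : IsQ s e) :
    Nat.card s.E ≤ 3 * Nat.card (ker s e) := by
  classical
  haveI : Fact (Nat.Prime 2) := ⟨Nat.prime_two⟩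
  obtain ⟨q, hq, hq1, hqz⟩ := q_ne_le s hz he he1 hQ
  set K := C s.W e
  set Zs : Subgroup ↥K := (zpowers z).subgroupOf K
  haveI : Zs.Normal := ⟨fun a ha b => by
    have ha' : (a : X) ∈ zpowers z := ha
    obtain ⟨i, hi⟩ := mem_zpowers_iff.mp ha'
    show (b : X) * a * (b : X)⁻¹ ∈ zpowers z
    have hb : Commute (b : X) (a : X) := hi ▸ (hz.2.2.2.1 b (mem_C.mp b.2).1).zpow_right i
    rw [hb.eq, mul_inv_cancel_right]; exact ha'⟩
  have hZ2 : Nat.card Zs = 2 := by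
    rw [Nat.card_congr (Subgroup.subgroupOfEquivOfLe (zpowers_le.mpr (mem_C.mpr ⟨hz.1, hz.2.2.2.2 e he⟩))).toEquiv,
      Nat.card_zpowers, orderOf_eq_prime (by rw [pow_two]; exact hz.2.2.1) hz.2.1]
  have h4 : Nat.card (↥K ⧸ Zs) = 4 := by
    have := card_eq_card_quotient_mul_card_subgroup Zs
    rw [q_card s hz he he1 hQ, hZ2] at this
    omega
  let Φ : ↥s.E ⧸ (ker s e).subgroupOf s.E → ↥K ⧸ Zs := fun t =>
    QuotientGroup.mk (⟨(t.out : X) * q * (t.out : X)⁻¹, conj_memC s he t.out.2 hq⟩ : ↥K)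
  have hzz : ∀ x ∈ zpowers z, x = 1 ∨ x = z := by
    intro x hx
    have hb : zpowers z = closure {z} := (zpowers_eq_closure z)
    obtain ⟨i, rfl⟩ := mem_powers_iff_mem_zpowers.mpr hx
    rcases Nat.even_or_odd i with ⟨j, rfl⟩ | ⟨j, rfl⟩
    · left
      show z ^ (j + j) = 1
      rw [← two_mul, pow_mul, pow_two, hz.2.2.1, one_pow]
    · right
      show z ^ (2 * j + 1) = z
      rw [pow_succ, pow_mul, pow_two, hz.2.2.1, one_pow, one_mul]
  have hΦ : Function.Injective Φ := by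
    intro a b hab
    rw [← QuotientGroup.out_eq' a, ← QuotientGroup.out_eq' b, QuotientGroup.eq]
    obtain ⟨f, hfdef⟩ : ∃ f, f = (a.out : X) := ⟨_, rfl⟩
    obtain ⟨g, hgdef⟩ : ∃ g, g = (b.out : X) := ⟨_, rfl⟩
    have hfE : f ∈ s.E := hfdef ▸ a.out.2
    have hgE : g ∈ s.E := hgdef ▸ b.out.2
    have h : (f * q * f⁻¹)⁻¹ * (g * q * g⁻¹) ∈ zpowers z := by
      have h' := QuotientGroup.eq.mp hab
      rw [hfdef, hgdef]
      exact h'
    show (a.out : X)⁻¹ * (b.out : X) ∈ ker s e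
    rw [← hfdef, ← hgdef, mem_ker]
    have hE : f⁻¹ * g ∈ s.E := mul_mem (inv_mem hfE) hgE
    refine ⟨hE, fix_all s hz he he1 hQ hE hq hq1 hqz (commute_iff_fixed.mpr ?_)⟩
    have hq2 : f⁻¹ * g * q * (f⁻¹ * g)⁻¹ = q * (f⁻¹ * ((f * q * f⁻¹)⁻¹ * (g * q * g⁻¹)) * f) := by group
    rcases hzz _ h with h0 | h0 <;> rw [h0] at hq2
    · rw [hq2]; group
    · have hzf : f⁻¹ * z * f = z := by
        rw [mul_assoc, (hz.2.2.2.2 f hfE).eq, inv_mul_cancel_left]
      rw [hzf] at hq2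
      refine inv_fixed (hq2.trans ?_) ?_
      · rw [← q_sq s hz he he1 hQ hq hq1 hqz]
        refine eq_inv_of_mul_eq_one_left ?_
        rw [show q * (q * q) * q = (q * q) * (q * q) by group, q_sq s hz he he1 hQ hq hq1 hqz, hz.2.2.1]
      · rw [cube s hz hE]; exact Commute.one_right q
  have h5 := Nat.card_le_card_of_injective Φ hΦ
  rw [h4] at h5
  have h6 := card_eq_card_quotient_mul_card_subgroup ((ker s e).subgroupOf s.E)
  rw [Nat.card_congr (Subgroup.subgroupOfEquivOfLe (show ker s e ≤ s.E from inf_le_left)).toEquiv] at h6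
  -- the index is odd
  have hodd := odd_card_E s
  rw [h6] at hodd ⊢
  have h7 : Nat.card (↥s.E ⧸ (ker s e).subgroupOf s.E) ≤ 3 := by
    rcases Nat.lt_or_ge (Nat.card (↥s.E ⧸ (ker s e).subgroupOf s.E)) 4 with h | h
    · omega
    · exfalso
      rw [show Nat.card (↥s.E ⧸ (ker s e).subgroupOf s.E) = 4 by omega] at hodd
      rw [Nat.odd_mul] at hodd
      exact absurd hodd.1 (by decide)
  exact Nat.mul_le_mul_right _ h7

/-- two distinct quaternion fixed point groups -/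
theorem two_Q : ∃ e ∈ s.E, e ≠ 1 ∧ IsQ s e ∧ ∃ g ∈ s.E, g ≠ 1 ∧ IsQ s g ∧ C s.W e ≠ C s.W g := by
  obtain ⟨e, he, he1, hQ⟩ := exists_Q s hz
  refine ⟨e, he, he1, hQ, ?_⟩
  by_contra! hno
  refine he1 (s.faith e he fun w hw => ?_)
  have hle : s.W ≤ centralizer ({e} : Set X) :=
    gen s le_rfl (fun g hg u hu => conj_memW s hg hu) _ fun g hg hg1 u hu hug => by
      refine mem_centralizer_singleton_iff.mpr ?_
      by_cases hQg : IsQ s g
      · have hu' : u ∈ C s.W g := mem_C.mpr ⟨hu, hug⟩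
        rw [← hno g hg hg1 hQg] at hu'
        exact (mem_C.mp hu').2.eq
      · exact (notQ s hQg (mem_C.mpr ⟨hu, hug⟩) he).eq
  exact mem_centralizer_singleton_iff.mp (hle hw)

theorem card_ker {e : X} (he : e ∈ s.E) (he1 : e ≠ 1) (hQ : IsQ s e) :
    Nat.card (ker s e) = 3 ∧ Nat.card s.E = 9 := by
  haveI := Fact.mk s.pprime
  -- `p = 3`
  have he3 := cube s hz he
  have ho : orderOf e = 3 := orderOf_eq_prime he3 he1
  have hp3 : s.p = 3 := by
    obtain ⟨k, hk⟩ := IsPGroup.iff_orderOf.mp s.hE ⟨e, he⟩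
    rw [Subgroup.orderOf_mk, ho] at hk
    rcases Nat.eq_zero_or_pos k with rfl | hk0
    · simp at hk
    · exact ((Nat.prime_dvd_prime_iff_eq s.pprime Nat.prime_three).mp (hk ▸ dvd_pow_self _ hk0.ne'))
  obtain ⟨m, hm⟩ := IsPGroup.iff_card.mp s.hE
  rw [hp3] at hm
  have hm2 : 2 ≤ m := by
    by_contra h
    apply s.notcyc
    rcases (show m = 0 ∨ m = 1 by omega) with rfl | rfl
    · rw [pow_zero] at hm
      haveI : Subsingleton s.E := (Nat.card_eq_one_iff_unique.mp hm).1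
      infer_instance
    · haveI : Fact (Nat.Prime 3) := ⟨Nat.prime_three⟩
      exact isCyclic_of_prime_card (by rw [hm, pow_one])
  obtain ⟨a, ha, ha1, hQa, b, hb, hb1, hQb, hab⟩ := two_Q s hz
  have key : ∀ {c d : X}, c ∈ s.E → c ≠ 1 → IsQ s c → d ∈ s.E → d ≠ 1 → IsQ s d → C s.W c ≠ C s.W d →
      Nat.card (ker s c) ≤ 3 := by
    intro c d hc hc1 hQc hd hd1 hQd hcd
    have h1 := ker_index s hz hd hd1 hQd
    have hmul : Nat.card (ker s c) * Nat.card (ker s d) ≤ Nat.card s.E := by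
      rw [← Nat.card_prod]
      refine Nat.card_le_card_of_injective (fun t : ↥(ker s c) × ↥(ker s d) =>
        (⟨(t.1 : X) * t.2, mul_mem ((mem_ker s).mp t.1.2).1 ((mem_ker s).mp t.2.2).1⟩ : ↥s.E)) ?_
      intro t t' h
      have h' : (t.1 : X) * t.2 = t'.1 * t'.2 := congrArg Subtype.val h
      have h2 : (t'.1 : X)⁻¹ * t.1 = t'.2 * (t.2 : X)⁻¹ := by
        rw [inv_mul_eq_iff_eq_mul, ← mul_assoc, eq_mul_inv_iff_mul_eq, h']
      have h3 := ker_inter s hz hc hc1 hd hd1 hQc hQd hcd (f := (t'.1 : X)⁻¹ * t.1)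
        (mul_mem (inv_mem t'.1.2) t.1.2) (h2 ▸ mul_mem t'.2.2 (inv_mem t.2.2))
      have h4 : (t.1 : X) = t'.1 := (inv_mul_eq_one.mp h3).symm
      exact Prod.ext (Subtype.ext h4) (Subtype.ext (mul_left_cancel (h4 ▸ h')))
    have hpos : 0 < Nat.card (ker s d) := Nat.card_pos
    exact Nat.le_of_mul_le_mul_right (hmul.trans h1) hpos
  have hE9 : Nat.card s.E = 9 := by
    have h1 := ker_index s hz ha ha1 hQa
    have h2 := key ha ha1 hQa hb hb1 hQb hab
    have : (3 : ℕ) ^ 2 ≤ 3 ^ m := Nat.pow_le_pow_right (by norm_num) hm2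
    omega
  refine ⟨le_antisymm ?_ ?_, hE9⟩
  · by_cases h : C s.W e = C s.W a
    · exact key he he1 hQ hb hb1 hQb (h ▸ hab)
    · exact key he he1 hQ ha ha1 hQa h
  · have := ker_index s hz he he1 hQ
    omega

/-- distinct quaternion fixed point groups commute -/
theorem commute_aux : ∀ n : ℕ, ∀ U : Subgroup X, Nat.card U ≤ n → U ≤ s.W →
    (∀ f ∈ s.E, ∀ u ∈ U, f * u * f⁻¹ ∈ U) → z ∈ U →
    ∀ a b : X, a ∈ s.E → a ≠ 1 → IsQ s a → b ∈ s.E → b ≠ 1 → IsQ s b → C s.W a ≠ C s.W b →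
      C s.W a ≤ U → C s.W b ≤ U → ∀ x ∈ C s.W a, ∀ y ∈ C s.W b, Commute x y := by
  intro n
  induction n with
  | zero => intro U hU; exact absurd hU (not_le.mpr Nat.card_pos)
  | succ n ih =>
  intro U hn hUW hUE hzU a b ha ha1 hQa hb hb1 hQb hab haU hbU
  haveI : Fact (Nat.Prime 2) := ⟨Nat.prime_two⟩
  have hcz : ∀ i ∈ zpowers z, ∀ w ∈ s.W, Commute w i := fun i hi w hw => by
    obtain ⟨k, rfl⟩ := mem_zpowers_iff.mp hi
    exact (hz.2.2.2.1 w hw).zpow_right k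
  set Zu : Subgroup ↥U := (zpowers z).subgroupOf U
  haveI : Zu.Normal := ⟨fun c hc d => by
    show (d : X) * c * (d : X)⁻¹ ∈ zpowers z
    rw [(hcz (c : X) hc d (hUW d.2)).eq, mul_inv_cancel_right]; exact hc⟩
  set D : Subgroup X := ((center (↥U ⧸ Zu)).comap (QuotientGroup.mk' Zu)).map U.subtype with hD
  have hmemD : ∀ x, x ∈ D ↔ x ∈ U ∧ ∀ u ∈ U, ⁅x, u⁆ ∈ zpowers z := by
    intro x
    constructor
    · rintro ⟨c, hc, rfl⟩
      refine ⟨c.2, fun u hu => ?_⟩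
      have h := mem_center_iff.mp (mem_comap.mp hc) (QuotientGroup.mk' Zu ⟨u, hu⟩)
      have h2 : QuotientGroup.mk' Zu ⁅c, (⟨u, hu⟩ : ↥U)⁆ = 1 := by
        rw [map_commutatorElement, commutatorElement_eq_one_iff_mul_comm]; exact h.symm
      exact (QuotientGroup.eq_one_iff (N := Zu) _).mp h2
    · rintro ⟨hx, h⟩
      refine ⟨⟨x, hx⟩, mem_comap.mpr (mem_center_iff.mpr fun t => ?_), rfl⟩
      obtain ⟨u, rfl⟩ := QuotientGroup.mk'_surjective Zu t
      have h2 : QuotientGroup.mk' Zu ⁅(⟨x, hx⟩ : ↥U), u⁆ = 1 := (QuotientGroup.eq_one_iff _).mpr (h u u.2)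
      rw [map_commutatorElement, commutatorElement_eq_one_iff_mul_comm] at h2
      exact h2.symm
  have hDE : ∀ f ∈ s.E, ∀ x ∈ D, f * x * f⁻¹ ∈ D := by
    intro f hf x hx
    rw [hmemD] at hx ⊢
    refine ⟨hUE f hf x hx.1, fun u hu => ?_⟩
    have h := hx.2 _ (hUE f⁻¹ (inv_mem hf) u hu)
    obtain ⟨i, hi⟩ := mem_zpowers_iff.mp h
    have e : ⁅f * x * f⁻¹, u⁆ = f * ⁅x, f⁻¹ * u * f⁻¹⁻¹⁆ * f⁻¹ := by
      simp only [commutatorElement_def]; group
    rw [e, ← hi, ← conj_zpow, show f * z * f⁻¹ = z from commute_iff_fixed.mp (hz.2.2.2.2 f hf)]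
    exact zpow_mem (mem_zpowers z) i
  -- a quaternion group in `D`
  obtain ⟨c, hc, hc1, hQc, hcD⟩ : ∃ c ∈ s.E, c ≠ 1 ∧ IsQ s c ∧ C s.W c ≤ D := by
    by_contra! hno
    have hDz : D ≤ zpowers z := by
      refine gen s (fun x hx => hUW ((hmemD x).mp hx).1) hDE _ fun g hg hg1 x hx hxg => ?_
      by_cases hQg : IsQ s g
      · by_contra hxz
        exact hno g hg hg1 hQg (q_irred s hz hg hg1 hQg D hDE (mem_C.mpr ⟨hUW ((hmemD x).mp hx).1, hxg⟩) hx
          (fun h => hxz (h ▸ one_mem _)) (fun h => hxz (h ▸ mem_zpowers z)))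
      · exact fixed_le s hz (exists_Q s hz) (hUW ((hmemD x).mp hx).1)
          fun f hf => notQ s hQg (mem_C.mpr ⟨hUW ((hmemD x).mp hx).1, hxg⟩) hf
    -- the centre of `U / ⟨z⟩` is nontrivial
    have hUne : Zu ≠ ⊤ := by
      intro h
      obtain ⟨q, hq, hq1, hqz⟩ := q_ne_le s hz ha ha1 hQa
      have hmem : q ∈ zpowers z := (h.ge (mem_top (⟨q, haU hq⟩ : ↥U)) :)
      obtain ⟨i, hi⟩ := mem_powers_iff_mem_zpowers.mpr hmem
      rcases Nat.even_or_odd i with ⟨j, rfl⟩ | ⟨j, rfl⟩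
      · apply hq1
        rw [← hi]; show z ^ (j + j) = 1
        rw [← two_mul, pow_mul, pow_two, hz.2.2.1, one_pow]
      · apply hqz
        rw [← hi]; show z ^ (2 * j + 1) = z
        rw [pow_succ, pow_mul, pow_two, hz.2.2.1, one_pow, one_mul]
    haveI : Nontrivial (↥U ⧸ Zu) := QuotientGroup.nontrivial_iff.mpr hUne
    haveI := ((s.hW.to_le hUW).to_quotient Zu).center_nontrivial
    obtain ⟨⟨t, ht⟩, ht1⟩ := _root_.exists_ne (1 : center (↥U ⧸ Zu))
    obtain ⟨u, rfl⟩ := QuotientGroup.mk'_surjective Zu t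
    refine ht1 (Subtype.ext ((QuotientGroup.eq_one_iff u).mpr ?_))
    exact hDz ⟨u, mem_comap.mpr ht, rfl⟩
  have hcU : C s.W c ≤ U := fun x hx => ((hmemD x).mp (hcD hx)).1
  -- it commutes with every other one
  have hcom : ∀ g, g ∈ s.E → g ≠ 1 → IsQ s g → C s.W g ≤ U → C s.W g ≠ C s.W c →
      ∀ x ∈ C s.W c, ∀ y ∈ C s.W g, Commute x y := by
    intro g hg hg1 hQg hgU hgc
    set K := C s.W g ⊓ centralizer ((C s.W c : Subgroup X) : Set X)
    have hKE : ∀ f ∈ s.E, ∀ k ∈ K, f * k * f⁻¹ ∈ K := by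
      intro f hf k hk
      refine mem_inf.mpr ⟨conj_memC s hg hf (mem_inf.mp hk).1, mem_centralizer_iff.mpr fun x hx => ?_⟩
      have h1 := mem_centralizer_iff.mp (mem_inf.mp hk).2 _ (conj_memC s hc (inv_mem hf) hx)
      calc x * (f * k * f⁻¹) = f * ((f⁻¹ * x * f⁻¹⁻¹) * k) * f⁻¹ := by group
        _ = f * (k * (f⁻¹ * x * f⁻¹⁻¹)) * f⁻¹ := by rw [h1]
        _ = (f * k * f⁻¹) * x := by group
    -- it contains all `[y, c]`
    have hmemK : ∀ y ∈ C s.W g, y⁻¹ * (c * y * c⁻¹) ∈ K := by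
      intro y hy
      refine mem_inf.mpr ⟨mul_mem (inv_mem hy) (conj_memC s hg hc hy), mem_centralizer_iff.mpr fun x hx => ?_⟩
      have hxy := ((hmemD x).mp (hcD hx)).2 y (hgU hy)
      have hxW := (mem_C.mp hx).1
      have hyW := (mem_C.mp hy).1
      have hfixc : ⁅x, c * y * c⁻¹⁆ = ⁅x, y⁆ := by
        have e : ⁅x, c * y * c⁻¹⁆ = c * ⁅c⁻¹ * x * c, y⁆ * c⁻¹ := by simp only [commutatorElement_def]; group
        rw [e, show c⁻¹ * x * c = x by rw [mul_assoc, (mem_C.mp hx).2.eq, inv_mul_cancel_left]]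
        obtain ⟨i, hi⟩ := mem_zpowers_iff.mp hxy
        rw [← hi, ← conj_zpow, commute_iff_fixed.mp (hz.2.2.2.2 c hc)]
      have hcW : c * y * c⁻¹ ∈ s.W := conj_memW s hc hyW
      have e2 : ⁅x, y⁻¹ * (c * y * c⁻¹)⁆ = y⁻¹ * (⁅x, y⁆⁻¹ * ⁅x, c * y * c⁻¹⁆) * y := by
        simp only [commutatorElement_def]; group
      rw [hfixc, inv_mul_cancel, mul_one, inv_mul_cancel] at e2
      exact commutatorElement_eq_one_iff_mul_comm.mp e2
    intro x hx y hy
    by_contra hne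
    -- `K` is central, so `c` centralizes `C(g)`
    have hKz : K ≤ zpowers z := by
      intro k hk
      by_contra hkz
      apply hne
      have := q_irred s hz hg hg1 hQg K hKE (mem_inf.mp hk).1 hk (fun h => hkz (h ▸ one_mem _))
        (fun h => hkz (h ▸ mem_zpowers z)) hy
      exact mem_centralizer_iff.mp (mem_inf.mp this).2 x hx
    have hall : ∀ y ∈ C s.W g, Commute y c := by
      intro y hy
      rw [commute_iff_fixed]
      obtain ⟨i, hi⟩ := mem_zpowers_iff.mp (hKz (hmemK y hy))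
      have h1 : c * y * c⁻¹ = y * z ^ i := by rw [hi]; group
      have hzi : z ^ i = 1 ∨ z ^ i = z := by
        rcases Int.even_or_odd i with ⟨j, rfl⟩ | ⟨j, rfl⟩
        · left; rw [← two_mul, zpow_mul, zpow_two, hz.2.2.1, one_zpow]
        · right; rw [zpow_add, zpow_mul, zpow_two, hz.2.2.1, one_zpow, one_mul, zpow_one]
      rcases hzi with h | h <;> rw [h] at h1
      · rw [h1, mul_one]
      · by_cases hy1 : y = 1
        · rw [hy1]; group
        by_cases hyz : y = z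
        · rw [hyz]; exact commute_iff_fixed.mp (hz.2.2.2.2 c hc)
        refine inv_fixed (h1.trans ?_) ((q_data s hz hg hg1 hQg).2 c hc y hy)
        rw [← q_sq s hz hg hg1 hQg hy hy1 hyz]
        refine eq_inv_of_mul_eq_one_left ?_
        rw [show y * (y * y) * y = (y * y) * (y * y) by group, q_sq s hz hg hg1 hQg hy hy1 hyz, hz.2.2.1]
    exact hgc (Subgroup.eq_of_le_of_card_ge
      (fun y hy => mem_C.mpr ⟨(mem_C.mp hy).1, hall y hy⟩ : C s.W g ≤ C s.W c)
      (by rw [q_card s hz hg hg1 hQg, q_card s hz hc hc1 hQc]))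
  by_cases hac : C s.W a = C s.W c
  · intro x hx y hy
    exact hcom b hb hb1 hQb hbU (fun h => hab (hac.trans h.symm)) x (hac ▸ hx) y hy
  by_cases hbc : C s.W b = C s.W c
  · intro x hx y hy
    exact (hcom a ha ha1 hQa haU hac y (hbc ▸ hy) x hx).symm
  set U' := U ⊓ centralizer ((C s.W c : Subgroup X) : Set X)
  have hU'E : ∀ f ∈ s.E, ∀ u ∈ U', f * u * f⁻¹ ∈ U' := by
    intro f hf u hu
    refine mem_inf.mpr ⟨hUE f hf u (mem_inf.mp hu).1, mem_centralizer_iff.mpr fun x hx => ?_⟩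
    have h1 := mem_centralizer_iff.mp (mem_inf.mp hu).2 _ (conj_memC s hc (inv_mem hf) hx)
    calc x * (f * u * f⁻¹) = f * ((f⁻¹ * x * f⁻¹⁻¹) * u) * f⁻¹ := by group
      _ = f * (u * (f⁻¹ * x * f⁻¹⁻¹)) * f⁻¹ := by rw [h1]
      _ = (f * u * f⁻¹) * x := by group
  have hlt : Nat.card U' < Nat.card U := by
    refine lt_of_le_of_ne (card_le_of_le inf_le_left) fun h => ?_
    have he := Subgroup.eq_of_le_of_card_ge (inf_le_left : U' ≤ U) h.ge
    obtain ⟨q, hq, hq1, hqz⟩ := q_ne_le s hz hc hc1 hQc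
    obtain ⟨r, hr, hqr⟩ := q_not_central s hz hc hc1 hQc hq hq1 hqz
    exact hqr (mem_centralizer_iff.mp (mem_inf.mp (he.ge (hcU hr))).2 q hq)
  refine ih U' (by omega) (inf_le_left.trans hUW) hU'E
    (mem_inf.mpr ⟨hzU, mem_centralizer_iff.mpr fun x hx => (hz.2.2.2.1 x (mem_C.mp hx).1).eq⟩)
    a b ha ha1 hQa hb hb1 hQb hab ?_ ?_
  · intro x hx
    exact mem_inf.mpr ⟨haU hx, mem_centralizer_iff.mpr fun y hy => (hcom a ha ha1 hQa haU hac y hy x hx).eq⟩
  · intro x hx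
    exact mem_inf.mpr ⟨hbU hx, mem_centralizer_iff.mpr fun y hy => (hcom b hb hb1 hQb hbU hbc y hy x hx).eq⟩

theorem commute_Q {a b : X} (ha : a ∈ s.E) (ha1 : a ≠ 1) (hQa : IsQ s a) (hb : b ∈ s.E) (hb1 : b ≠ 1)
    (hQb : IsQ s b) (hab : C s.W a ≠ C s.W b) : ∀ x ∈ C s.W a, ∀ y ∈ C s.W b, Commute x y :=
  commute_aux s hz _ s.W le_rfl le_rfl (fun f hf u hu => conj_memW s hf hu) hz.1 a b ha ha1 hQa hb hb1 hQb hab
    inf_le_left inf_le_left

/-- the conclusion -/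
theorem main : Nat.card s.E = 9 ∧ Cfsg.IsExtraspecial 2 ↥s.W ∧
    (Nat.card s.W = 2 ^ 5 ∨ Nat.card s.W = 2 ^ 7 ∨ Nat.card s.W = 2 ^ 9) ∧
    (∀ x : X, x ∈ s.W → ((∀ f ∈ s.E, Commute x f) ↔ ∀ w ∈ s.W, Commute w x)) := by
  classical
  haveI : Fact (Nat.Prime 2) := ⟨Nat.prime_two⟩
  obtain ⟨e₀, he₀, he₀1, hQ₀, g₀, hg₀, hg₀1, hQg₀, hne₀⟩ := two_Q s hz
  have h9 := (card_ker s hz he₀ he₀1 hQ₀).2
  -- generation of `W`
  have hgenW : ∀ T : Subgroup X, z ∈ T → (∀ e ∈ s.E, e ≠ 1 → IsQ s e → C s.W e ≤ T) → s.W ≤ T := by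
    intro T hzT hT
    refine gen s le_rfl (fun f hf u hu => conj_memW s hf hu) _ fun g hg hg1 u hu hug => ?_
    by_cases hQg : IsQ s g
    · exact hT g hg hg1 hQg (mem_C.mpr ⟨hu, hug⟩)
    · exact (zpowers_le.mpr hzT) (fixed_le s hz (exists_Q s hz) hu fun f hf => notQ s hQg (mem_C.mpr ⟨hu, hug⟩) hf)
  -- the centre
  have hcen : ∀ x : X, x ∈ s.W → (∀ w ∈ s.W, Commute w x) → x ∈ zpowers z := by
    let Zw : Subgroup X := s.W ⊓ centralizer (s.W : Set X)
    have hle : Zw ≤ zpowers z := by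
      refine gen s inf_le_left (fun f hf x hx => ?_) _ fun g hg hg1 x hx hxg => ?_
      · refine mem_inf.mpr ⟨conj_memW s hf (mem_inf.mp hx).1, mem_centralizer_iff.mpr fun w hw => ?_⟩
        have h1 := mem_centralizer_iff.mp (mem_inf.mp hx).2 _ (conj_memW s (inv_mem hf) hw)
        calc w * (f * x * f⁻¹) = f * ((f⁻¹ * w * f⁻¹⁻¹) * x) * f⁻¹ := by group
          _ = f * (x * (f⁻¹ * w * f⁻¹⁻¹)) * f⁻¹ := by rw [h1]
          _ = (f * x * f⁻¹) * w := by group
      · by_cases hQg : IsQ s g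
        · by_contra hxz
          obtain ⟨r, hr, hn⟩ := q_not_central s hz hg hg1 hQg (mem_C.mpr ⟨(mem_inf.mp hx).1, hxg⟩)
            (fun h => hxz (h ▸ one_mem _)) (fun h => hxz (h ▸ mem_zpowers z))
          exact hn (mem_centralizer_iff.mp (mem_inf.mp hx).2 r (mem_C.mp hr).1).symm
        · exact fixed_le s hz (exists_Q s hz) (mem_inf.mp hx).1
            fun f hf => notQ s hQg (mem_C.mpr ⟨(mem_inf.mp hx).1, hxg⟩) hf
    exact fun x hx hc => hle (mem_inf.mpr ⟨hx, mem_centralizer_iff.mpr fun w hw => (hc w hw).eq⟩)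
  have hzpow : ∀ x ∈ zpowers z, ∀ w ∈ s.W, Commute w x := fun x hx w hw => by
    obtain ⟨i, rfl⟩ := mem_zpowers_iff.mp hx; exact (hz.2.2.2.1 w hw).zpow_right i
  have hcenter : center ↥s.W = (zpowers z).subgroupOf s.W := by
    ext x
    rw [mem_center_iff, mem_subgroupOf]
    exact ⟨fun h => hcen x x.2 fun w hw => congrArg Subtype.val (h ⟨w, hw⟩),
      fun h w => Subtype.ext (hzpow _ h w w.2).eq⟩
  have hzW : zpowers z ≤ s.W := zpowers_le.mpr hz.1
  have hz2 : Nat.card (zpowers z) = 2 := by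
    rw [Nat.card_zpowers, orderOf_eq_prime (by rw [pow_two]; exact hz.2.2.1) hz.2.1]
  have hcard2 : Nat.card (center ↥s.W) = 2 := by
    rw [hcenter, Nat.card_congr (Subgroup.subgroupOfEquivOfLe hzW).toEquiv, hz2]
  -- commutators and squares
  set Zw : Subgroup ↥s.W := (zpowers z).subgroupOf s.W
  haveI : Zw.Normal := hcenter ▸ inferInstance
  set π := QuotientGroup.mk' Zw
  have hsqcomm : (∀ x y : ↥s.W, Commute (π x) (π y)) ∧ ∀ x : ↥s.W, π x * π x = 1 := by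
    have hgen : ∀ (P : ↥s.W → Prop), P ⟨z, hz.1⟩ →
        (∀ e ∈ s.E, e ≠ 1 → IsQ s e → ∀ (x : X) (hx : x ∈ C s.W e), P ⟨x, (mem_C.mp hx).1⟩) →
        P 1 → (∀ a b, P a → P b → P (a * b)) → ∀ x, P x := by
      intro P hPz hPQ hP1 hPm x
      let M : Submonoid X :=
        { carrier := {y | ∃ h : y ∈ s.W, P ⟨y, h⟩}
          one_mem' := ⟨one_mem _, hP1⟩
          mul_mem' := fun {a b} ⟨ha, hPa⟩ ⟨hb, hPb⟩ => ⟨mul_mem ha hb, hPm ⟨a, ha⟩ ⟨b, hb⟩ hPa hPb⟩ }
      let T : Subgroup X :=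
        { M with
          inv_mem' := fun {a} ha => by
            obtain ⟨k, hk⟩ := mem_powers_iff_mem_zpowers.mpr (inv_mem (mem_zpowers a))
            show a⁻¹ ∈ M
            rw [← hk]
            exact pow_mem (show a ∈ M from ha) k }
      have hTW : s.W ≤ T := hgenW T ⟨hz.1, hPz⟩
        fun e he he1 hQe y hy => ⟨(mem_C.mp hy).1, hPQ e he he1 hQe y hy⟩
      obtain ⟨h, hP⟩ := hTW x.2
      exact hP
    have hcomm : ∀ x y : ↥s.W, Commute (π x) (π y) := by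
      have hQQ : ∀ a, a ∈ s.E → a ≠ 1 → IsQ s a → ∀ b, b ∈ s.E → b ≠ 1 → IsQ s b →
          ∀ (x : X) (hx : x ∈ C s.W a) (y : X) (hy : y ∈ C s.W b),
            Commute (π ⟨x, (mem_C.mp hx).1⟩) (π ⟨y, (mem_C.mp hy).1⟩) := by
        intro a ha ha1 hQa b hb hb1 hQb x hx y hy
        show _ * _ = _ * _
        rw [← commutatorElement_eq_one_iff_mul_comm, ← map_commutatorElement]
        refine (QuotientGroup.eq_one_iff _).mpr ?_
        show ⁅x, y⁆ ∈ zpowers z
        by_cases hab : C s.W a = C s.W b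
        · rw [← hab] at hy
          by_cases h1 : x = 1 ∨ x = z ∨ y = 1 ∨ y = z
          · rw [show ⁅x, y⁆ = 1 from commutatorElement_eq_one_iff_mul_comm.mpr ?_]; · exact one_mem _
            rcases h1 with h | h | h | h <;> rw [h]
            · simp
            · exact (hz.2.2.2.1 y (mem_C.mp hy).1).eq.symm
            · simp
            · exact (hz.2.2.2.1 x (mem_C.mp hx).1).eq
          push Not at h1
          have hx2 := q_sq s hz ha ha1 hQa hx h1.1 h1.2.1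
          have hy2 := q_sq s hz ha ha1 hQa hy h1.2.2.1 h1.2.2.2
          have hxy2 : x * y * (x * y) ∈ zpowers z := by
            by_cases he : x * y = 1 ∨ x * y = z
            · rcases he with h | h <;> rw [h]
              · simp
              · rw [hz.2.2.1]; exact one_mem _
            · push Not at he
              rw [q_sq s hz ha ha1 hQa (mul_mem hx hy) he.1 he.2]; exact mem_zpowers z
          -- `[x,y] = (xy)² (y⁻¹ x⁻²  y⁻¹)`
          have e : ⁅x, y⁆ = (x * y * (x * y)) * (y⁻¹ * (x * x)⁻¹ * y⁻¹) := by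
            simp only [commutatorElement_def]; group
          rw [e, hx2]
          refine mul_mem hxy2 ?_
          have hzi : z⁻¹ = z := inv_eq_of_mul_eq_one_right hz.2.2.1
          rw [hzi, (hz.2.2.2.1 _ (inv_mem (mem_C.mp hy).1)).eq, mul_assoc, ← mul_inv_rev, hy2, hzi, hz.2.2.1]
          exact one_mem _
        · rw [show ⁅x, y⁆ = 1 from commutatorElement_eq_one_iff_mul_comm.mpr
            (commute_Q s hz ha ha1 hQa hb hb1 hQb hab x hx y hy).eq]
          exact one_mem _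
      have hz1' : π ⟨z, hz.1⟩ = 1 := (QuotientGroup.eq_one_iff _).mpr (mem_zpowers z)
      intro x y
      refine hgen (fun x => ∀ y, Commute (π x) (π y)) ?_ ?_ ?_ ?_ x y
      · intro y; rw [hz1']; exact Commute.one_left _
      · intro a ha ha1 hQa x hx
        refine hgen (fun y => Commute (π ⟨x, (mem_C.mp hx).1⟩) (π y)) ?_ ?_ ?_ ?_
        · rw [hz1']; exact Commute.one_right _
        · intro b hb hb1 hQb y hy; exact hQQ a ha ha1 hQa b hb hb1 hQb x hx y hy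
        · rw [map_one]; exact Commute.one_right _
        · intro c d hc hd; rw [map_mul]; exact hc.mul_right hd
      · intro y; rw [map_one]; exact Commute.one_left _
      · intro c d hc hd y; rw [map_mul]; exact (hc y).mul_left (hd y)
    refine ⟨hcomm, hgen (fun x => π x * π x = 1) ?_ ?_ ?_ ?_⟩
    · rw [← map_mul]; refine (QuotientGroup.eq_one_iff _).mpr ?_
      show z * z ∈ zpowers z
      exact mul_mem (mem_zpowers z) (mem_zpowers z)
    · intro e he he1 hQe x hx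
      rw [← map_mul]; refine (QuotientGroup.eq_one_iff _).mpr ?_
      show x * x ∈ zpowers z
      by_cases h1 : x = 1
      · rw [h1, one_mul]; exact one_mem _
      by_cases hxz : x = z
      · rw [hxz]; exact mul_mem (mem_zpowers z) (mem_zpowers z)
      rw [q_sq s hz he he1 hQe hx h1 hxz]; exact mem_zpowers z
    · rw [map_one, one_mul]
    · intro a b ha hb
      rw [map_mul, (hcomm b a).mul_mul_mul_comm, ha, hb, one_mul]
  have hcommle : commutator ↥s.W ≤ Zw := by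
    rw [commutator_def, Subgroup.commutator_le]
    intro a _ b _
    rw [← QuotientGroup.eq_one_iff]
    show π ⁅a, b⁆ = 1
    rw [map_commutatorElement, commutatorElement_eq_one_iff_mul_comm]
    exact (hsqcomm.1 a b).eq
  have hcommeq : commutator ↥s.W = Zw := by
    refine Subgroup.eq_of_le_of_card_ge hcommle ?_
    rw [Nat.card_congr (Subgroup.subgroupOfEquivOfLe hzW).toEquiv, hz2]
    refine Finite.one_lt_card_iff_nontrivial.mpr ((nontrivial_iff_ne_bot _).mpr fun h => ?_)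
    obtain ⟨q, hq, hq1, hqz⟩ := q_ne_le s hz he₀ he₀1 hQ₀
    obtain ⟨r, hr, hn⟩ := q_not_central s hz he₀ he₀1 hQ₀ hq hq1 hqz
    apply hn
    have h1 := Subgroup.commutator_mem_commutator (H₁ := (⊤ : Subgroup ↥s.W)) (H₂ := ⊤)
      (mem_top (⟨q, (mem_C.mp hq).1⟩ : ↥s.W)) (mem_top (⟨r, (mem_C.mp hr).1⟩ : ↥s.W))
    rw [← commutator_def, h, mem_bot, commutatorElement_eq_one_iff_mul_comm] at h1
    exact congrArg Subtype.val h1
  have hfrat : frattini ↥s.W = Zw := by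
    haveI := s.hW.isNilpotent
    refine le_antisymm (Cfsg.Lib.PGroups.SpecialCoprime.frattini_le_of_elementary (p := 2) Zw
      (fun a => ?_) hcommle) (hcommeq.ge.trans (Cfsg.Lib.PGroups.commutator_le_frattini s.hW))
    rw [← QuotientGroup.eq_one_iff, pow_two]
    exact hsqcomm.2 a
  have hspec : Cfsg.IsExtraspecial 2 ↥s.W :=
    ⟨⟨s.hW, by rw [hfrat, hcenter], by rw [hcommeq, hcenter]⟩, hcard2⟩
  -- the order of `W`
  let 𝒬 : Finset (Subgroup X) := (Set.toFinite {K : Subgroup X | ∃ e ∈ s.E, e ≠ 1 ∧ IsQ s e ∧ C s.W e = K}).toFinset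
  have hmem𝒬 : ∀ K, K ∈ 𝒬 ↔ ∃ e ∈ s.E, e ≠ 1 ∧ IsQ s e ∧ C s.W e = K := fun K => by simp [𝒬]
  have hcount : ∀ t : Finset (Subgroup X), t ⊆ 𝒬 →
      Nat.card ↥(zpowers z ⊔ t.sup id : Subgroup X) = 2 * 4 ^ t.card := by
    intro t
    induction t using Finset.induction with
    | empty => intro _; simp [hz2]
    | @insert K t hK ih =>
      intro hsub
      obtain ⟨e, he, he1, hQe, rfl⟩ := (hmem𝒬 K).mp (hsub (Finset.mem_insert_self _ _))
      have ih' := ih fun L hL => hsub (Finset.mem_insert_of_mem hL)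
      set R : Subgroup X := zpowers z ⊔ t.sup id
      have hRC : R ≤ centralizer ((C s.W e : Subgroup X) : Set X) := by
        refine sup_le (fun x hx => mem_centralizer_iff.mpr fun y hy => (hzpow x hx y (mem_C.mp hy).1).eq)
          (Finset.sup_le fun L hL x hx => ?_)
        obtain ⟨g, hg, hg1, hQg, rfl⟩ := (hmem𝒬 L).mp (hsub (Finset.mem_insert_of_mem hL))
        refine mem_centralizer_iff.mpr fun y hy => ?_
        exact (commute_Q s hz he he1 hQe hg hg1 hQg (fun h => hK (h ▸ hL)) y hy x hx).eq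
      have hinf : C s.W e ⊓ R = zpowers z := by
        refine le_antisymm (fun x hx => ?_) (le_inf (zpowers_le.mpr (mem_C.mpr ⟨hz.1, hz.2.2.2.2 e he⟩)) le_sup_left)
        by_contra hxz
        obtain ⟨r, hr, hn⟩ := q_not_central s hz he he1 hQe (mem_inf.mp hx).1
          (fun h => hxz (h ▸ one_mem _)) (fun h => hxz (h ▸ mem_zpowers z))
        exact hn (mem_centralizer_iff.mp (hRC (mem_inf.mp hx).2) r hr).symm
      have hsup : zpowers z ⊔ (insert (C s.W e) t).sup id = R ⊔ C s.W e := by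
        rw [Finset.sup_insert, id_eq, ← sup_assoc, sup_comm (zpowers z), sup_assoc, sup_comm]
      have hnorm : R ≤ normalizer ((C s.W e : Subgroup X) : Set X) := hRC.trans (centralizer_le_normalizer _)
      rw [hsup, Finset.card_insert_of_notMem hK, pow_succ]
      have h1 := Cfsg.Lib.Coprime.card_sup_mul_card_inf hnorm
      rw [sup_comm (C s.W e), hinf, hz2, ih', q_card s hz he he1 hQe] at h1
      omega
  have hWeq : s.W = zpowers z ⊔ 𝒬.sup id := by
    refine le_antisymm (hgenW _ (mem_sup_left (mem_zpowers z)) fun e he he1 hQe => le_sup_of_le_right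
      (Finset.le_sup (f := id) ((hmem𝒬 _).mpr ⟨e, he, he1, hQe, rfl⟩))) (sup_le hzW (Finset.sup_le fun L hL => ?_))
    obtain ⟨g, hg, hg1, hQg, rfl⟩ := (hmem𝒬 L).mp hL
    exact inf_le_left
  have hlow : 2 ≤ 𝒬.card := by
    rw [← Nat.lt_iff_add_one_le, Finset.one_lt_card]
    exact ⟨_, (hmem𝒬 _).mpr ⟨e₀, he₀, he₀1, hQ₀, rfl⟩, _, (hmem𝒬 _).mpr ⟨g₀, hg₀, hg₀1, hQg₀, rfl⟩, hne₀⟩
  have hup : 𝒬.card ≤ 4 := by
    haveI := Fintype.ofFinite X
    -- disjoint pairs of nontrivial kernel elements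
    have hch : ∀ K : 𝒬, ∃ e ∈ s.E, e ≠ 1 ∧ IsQ s e ∧ C s.W e = (K : Subgroup X) := fun K => (hmem𝒬 K).mp K.2
    choose g hgE hg1 hgQ hgC using hch
    let F : 𝒬 × Fin 2 → {x : ↥s.E // x ≠ 1} := fun t =>
      ⟨⟨g t.1 ^ (t.2.val + 1), pow_mem (hgE t.1) _⟩, fun h => by
        have h' : g t.1 ^ (t.2.val + 1) = 1 := congrArg Subtype.val h
        have ho : orderOf (g t.1) = 3 := orderOf_eq_prime (cube s hz (hgE t.1)) (hg1 t.1)
        have := Nat.le_of_dvd (by omega) (orderOf_dvd_of_pow_eq_one h')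
        omega⟩
    have hF : Function.Injective F := by
      rintro ⟨K, i⟩ ⟨L, j⟩ h
      have h' : g K ^ (i.val + 1) = g L ^ (j.val + 1) := congrArg (fun x => ((x.1 : ↥s.E) : X)) h
      have ho : orderOf (g K) = 3 := orderOf_eq_prime (cube s hz (hgE K)) (hg1 K)
      have hKL : K = L := by
        by_contra hne
        have h1 := ker_inter s hz (hgE K) (hg1 K) (hgE L) (hg1 L) (hgQ K) (hgQ L)
          (fun hh => hne (Subtype.ext (by rw [← hgC K, ← hgC L, hh])))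
          (pow_mem (self_mem_ker s (hgE K)) (i.val + 1)) (h' ▸ pow_mem (self_mem_ker s (hgE L)) (j.val + 1))
        have := Nat.le_of_dvd (by omega) (orderOf_dvd_of_pow_eq_one h1)
        omega
      subst hKL
      rw [pow_eq_pow_iff_modEq, ho] at h'
      have hij : i.val = j.val := by
        have h2 : (i.val + 1) % 3 = (j.val + 1) % 3 := h'
        omega
      rw [Fin.ext hij]
    have h1 := Nat.card_le_card_of_injective F hF
    rw [Nat.card_prod, Nat.card_fin, Nat.card_eq_fintype_card, Fintype.card_coe,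
      Nat.card_eq_fintype_card, Fintype.card_subtype_compl, Fintype.card_subtype_eq,
      ← Nat.card_eq_fintype_card, h9] at h1
    omega
  refine ⟨h9, hspec, ?_, fun x hx => ⟨fun h => hzpow x (fixed_le s hz ⟨e₀, he₀, he₀1, hQ₀⟩ hx h),
    fun h f hf => ?_⟩⟩
  · rw [hWeq, hcount 𝒬 (Finset.Subset.refl _)]
    rcases (show 𝒬.card = 2 ∨ 𝒬.card = 3 ∨ 𝒬.card = 4 by omega) with h | h | h <;> rw [h] <;> norm_num
  · obtain ⟨i, hi⟩ := mem_zpowers_iff.mp (hcen x hx h)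
    rw [← hi]; exact (hz.2.2.2.2 f hf).zpow_left i

end withz

end Cfsg.Lib.UniqueFixedInv
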