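import Cfsg.Agent.InvolCalc.Dihedral

/-! An involution fixing exactly one point whose commuting-conjugate products do the same is 2-central. -/

set_option autoImplicit false
set_option linter.unusedSectionVars false
set_option linter.style.haveILetI false

open Subgroup

namespace Cfsg.Lib.UniquePoint

universe u

variable {G : Type u} [Group G] [Finite G]

structure Hyp (z : G) (H : Subgroup G) : Prop where
  ord : orderOf z = 2
  proper : H ≠ ⊤
  mem : z ∈ H
  pt : ∀ g : G, g⁻¹ * z * g ∈ H → g ∈ H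
  prod : ∀ t : G, IsConj z t → t ≠ z → Commute t z → ∀ g : G, g⁻¹ * (z * t) * g ∈ H → g ∈ H

theorem orderOf_conj (c z : G) : orderOf (c * z * c⁻¹) = orderOf z := by
  rw [show c * z * c⁻¹ = MulAut.conj c z from rfl, MulEquiv.orderOf_eq]

theorem Hyp.cent {z : G} {H : Subgroup G} (h : Hyp z H) :
    centralizer ({z} : Set G) ≤ H := fun g hg => by
  refine h.pt g ?_
  rw [mul_assoc, ← mem_centralizer_singleton_iff.1 hg, inv_mul_cancel_left]
  exact h.mem

theorem Hyp.conj_mem {z : G} {H : Subgroup G} (h : Hyp z H) {c : G} (hc : c * z * c⁻¹ ∈ H) :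
    c ∈ H := by
  have := h.pt c⁻¹ (by rwa [inv_inv])
  simpa using H.inv_mem this

theorem Hyp.move {z : G} {H : Subgroup G} (h : Hyp z H) {c : G} (hc : c ∈ H) :
    Hyp (c * z * c⁻¹) H := by
  refine ⟨by rw [orderOf_conj, h.ord], h.proper, H.mul_mem (H.mul_mem hc h.mem) (H.inv_mem hc),
    fun g hg => ?_, fun t ht htne htc g hg => ?_⟩
  · have := h.pt (c⁻¹ * g) (by convert hg using 1; group)
    simpa using H.mul_mem hc this
  · have := h.prod (c⁻¹ * t * c) ((isConj_iff.2 ⟨c, rfl⟩).trans (ht.trans (isConj_iff.2 ⟨c⁻¹, by group⟩)))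
      (fun e => htne (by rw [← e]; group)) (by
        show c⁻¹ * t * c * z = z * (c⁻¹ * t * c)
        calc c⁻¹ * t * c * z = c⁻¹ * (t * (c * z * c⁻¹)) * c := by group
          _ = c⁻¹ * ((c * z * c⁻¹) * t) * c := by rw [htc.eq]
          _ = z * (c⁻¹ * t * c) := by group)
      (c⁻¹ * g) (by convert hg using 1; group)
    simpa using H.mul_mem hc this

open Cfsg.Lib.InvolCalc in
/-- both parities -/
theorem central_mul (a b : G) (ha : orderOf a = 2) (hb : orderOf b = 2)
    (hev : Even (orderOf (a * b))) :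
    (Even (orderOf (a * b) / 2) → IsConj a ((a * b) ^ (orderOf (a * b) / 2) * a)) ∧
      (Odd (orderOf (a * b) / 2) → IsConj b ((a * b) ^ (orderOf (a * b) / 2) * a) ∧
        IsConj a ((a * b) ^ (orderOf (a * b) / 2) * b)) := by
  set k := orderOf (a * b) / 2
  refine ⟨fun ⟨i, hi⟩ => isConj_iff.2 ⟨(a * b) ^ (i : ℤ), ?_⟩, fun ⟨i, hi⟩ =>
    ⟨isConj_iff.2 ⟨(a * b) ^ ((i : ℤ) + 1), ?_⟩, isConj_iff.2 ⟨(a * b) ^ (i : ℤ), ?_⟩⟩⟩
  · rw [conj_rot ha hb, hi, ← zpow_natCast]
    congr 2
    push_cast; ring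
  · have key : ∀ (R : G) (j : ℤ),
        R ^ j * (R ^ (-1 : ℤ) * a) * (R ^ j)⁻¹ = R ^ (-1 : ℤ) * (R ^ j * a * (R ^ j)⁻¹) := by
      intro R j; group
    conv_lhs => enter [1, 2]; rw [snd_eq' ha hb]
    rw [key, conj_rot ha hb, ← mul_assoc, ← zpow_add, hi, ← zpow_natCast]
    congr 2
    push_cast; ring
  · rw [conj_rot ha hb]
    conv_rhs => enter [2]; rw [snd_eq' ha hb]
    rw [← mul_assoc, ← zpow_natCast (a * b) k, ← zpow_add, hi]
    congr 2
    push_cast; ring

theorem Hyp.odd_prod {z : G} {H : Subgroup G} (h : Hyp z H) {s : G} (hs : IsConj z s) (hsH : s ∉ H) :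
    Odd (orderOf (z * s)) := by
  have hso : orderOf s = 2 := by
    obtain ⟨c, rfl⟩ := isConj_iff.1 hs
    rw [orderOf_conj, h.ord]
  by_contra hodd
  rw [Nat.not_odd_iff_even] at hodd
  obtain ⟨h2, hcz, hcs⟩ := Cfsg.Lib.InvolCalc.central_spec h.ord hso hodd
  obtain ⟨he, ho⟩ := central_mul z s h.ord hso hodd
  set u := (z * s) ^ (orderOf (z * s) / 2)
  have hconj : IsConj z (u * z) := (Nat.even_or_odd _).elim he fun ho' => hs.trans (ho ho').1
  have hne : u * z ≠ z := fun e => Cfsg.Lib.InvolCalc.ne_one_of_order_two h2 (mul_eq_right.1 e)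
  refine hsH (h.prod _ hconj hne (hcz.mul_left (Commute.refl z)) s ?_)
  have e : z * (u * z) = u := by
    rw [← mul_assoc, ← hcz.eq, mul_assoc, Cfsg.Lib.InvolCalc.sq_of_order_two h.ord, mul_one]
  rw [e, mul_assoc, hcs.eq, inv_mul_cancel_left]
  exact h.cent (mem_centralizer_singleton_iff.2 hcz.eq)

theorem Hyp.exists_outside {z : G} {H : Subgroup G} (h : Hyp z H) : ∃ c : G, c * z * c⁻¹ ∉ H := by
  by_contra hc
  push Not at hc
  exact h.proper (eq_top_iff.2 fun g _ => h.conj_mem (hc g))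

/-- restriction to a subgroup -/
theorem Hyp.sub {z : G} {H : Subgroup G} (h : Hyp z H) (L : Subgroup G) (hz : z ∈ L) {l : G}
    (hl : l ∈ L) (hlH : l ∉ H) : Hyp (⟨z, hz⟩ : L) (H.subgroupOf L) := by
  refine ⟨by rw [← h.ord, ← Subgroup.orderOf_coe], fun e => hlH ?_, h.mem, fun g hg => h.pt g hg,
    fun t ht htne htc g hg => h.prod t ?_ (fun e => htne (Subtype.ext e))
      (congrArg Subtype.val htc.eq) g hg⟩
  · exact (Subgroup.subgroupOf_eq_top.1 e) hl
  · obtain ⟨c, hc⟩ := isConj_iff.1 ht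
    exact isConj_iff.2 ⟨c, congrArg Subtype.val hc⟩

theorem index_of_sub {z : G} (L : Subgroup G) (hz : z ∈ L) (P : Sylow 2 G) (hP : (P : Subgroup G) ≤ L)
    (h : Odd (centralizer ({(⟨z, hz⟩ : L)} : Set L)).index) :
    Odd (centralizer ({z} : Set G)).index := by
  have e : centralizer ({(⟨z, hz⟩ : L)} : Set L) = (centralizer ({z} : Set G)).subgroupOf L := by
    ext x
    rw [mem_centralizer_singleton_iff, mem_subgroupOf, mem_centralizer_singleton_iff, Subtype.ext_iff]
    rfl
  rw [e] at h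
  have hL : Odd L.index := by
    rw [← Nat.not_even_iff_odd, even_iff_two_dvd]
    exact fun hd => P.not_dvd_index (hd.trans (Subgroup.index_dvd_of_le hP))
  have h2 : Odd (centralizer ({z} : Set G) ⊓ L).index := by
    rw [← Subgroup.relIndex_mul_index (inf_le_right : centralizer ({z} : Set G) ⊓ L ≤ L),
      Subgroup.inf_relIndex_right]
    exact h.mul hL
  exact h2.of_dvd_nat (Subgroup.index_dvd_of_le inf_le_left)

theorem odd_index_of_sylow {z x : G} (hc : IsConj z x) (P : Sylow 2 G)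
    (hP : (P : Subgroup G) ≤ centralizer ({x} : Set G)) : Odd (centralizer ({z} : Set G)).index := by
  obtain ⟨c, rfl⟩ := isConj_iff.1 hc
  rw [← Nat.not_even_iff_odd, even_iff_two_dvd]
  refine fun hd => (c⁻¹ • P).not_dvd_index (hd.trans (Subgroup.index_dvd_of_le ?_))
  rintro _ ⟨p, hp, rfl⟩
  have hp' := mem_centralizer_singleton_iff.1 (hP hp)
  rw [mem_centralizer_singleton_iff]
  show c⁻¹ * p * c⁻¹⁻¹ * z = z * (c⁻¹ * p * c⁻¹⁻¹)
  calc c⁻¹ * p * c⁻¹⁻¹ * z = c⁻¹ * (p * (c * z * c⁻¹)) * c := by group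
    _ = c⁻¹ * ((c * z * c⁻¹) * p) * c := by rw [hp']
    _ = z * (c⁻¹ * p * c⁻¹⁻¹) := by group

/-- A Sylow 2-subgroup inside `H` and containing `z`. -/
theorem Hyp.exists_sylow {z : G} {H : Subgroup G} (h : Hyp z H) :
    ∃ P : Sylow 2 G, z ∈ (P : Subgroup G) ∧ (P : Subgroup G) ≤ H := by
  have hz2 : IsPGroup 2 (zpowers (⟨z, h.mem⟩ : H)) :=
    IsPGroup.of_card (n := 1) (by rw [Nat.card_zpowers, ← Subgroup.orderOf_coe, h.ord, pow_one])
  obtain ⟨S, hS⟩ := hz2.exists_le_sylow
  set T : Subgroup G := (S : Subgroup H).map H.subtype with hT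
  have hzT : z ∈ T := ⟨_, hS (mem_zpowers _), rfl⟩
  have hTH : T ≤ H := map_subtype_le _
  obtain ⟨P, hP⟩ := (S.isPGroup'.map H.subtype).exists_le_sylow
  refine ⟨P, hP hzT, ?_⟩
  by_contra hPH
  haveI : Group.IsNilpotent (P : Subgroup G) := P.isPGroup'.isNilpotent
  have hlt : T.subgroupOf (P : Subgroup G) < ⊤ :=
    lt_top_iff_ne_top.2 fun e => hPH ((Subgroup.subgroupOf_eq_top.1 e).trans hTH)
  obtain ⟨x, hxN, hxT⟩ := SetLike.exists_of_lt (Group.normalizerCondition_of_isNilpotent _ hlt)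
  have hzP : z ∈ (P : Subgroup G) := hP hzT
  have h1 := (Subgroup.mem_normalizer_iff.1 hxN ⟨z, hzP⟩).1 hzT
  have hxH : (x : G) ∈ H := h.conj_mem (hTH h1)
  have hsup : IsPGroup 2 ((P : Subgroup G).subgroupOf H) :=
    P.isPGroup'.comap_of_injective H.subtype (Subgroup.subtype_injective H)
  have hSle : (S : Subgroup H) ≤ (P : Subgroup G).subgroupOf H := fun s hs => hP ⟨s, hs, rfl⟩
  have := S.is_maximal' hsup hSle
  exact hxT ⟨⟨x, hxH⟩, this ▸ x.2, rfl⟩

open Classical in
theorem odd_iff_fixed {α : Type*} [Fintype α] (f : α → α) (hf : ∀ a, f (f a) = a) :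
    (Odd (Fintype.card α) ↔ Odd (Finset.univ.filter fun a => f a = a).card) := by
  have h0 : ∑ _a ∈ Finset.univ.filter (fun a => f a ≠ a), (1 : ZMod 2) = 0 := by
    refine Finset.sum_involution (fun a _ => f a) (fun a _ => by decide) (fun a ha _ => ?_)
      (fun a ha => ?_) (fun a _ => hf a)
    · exact (Finset.mem_filter.1 ha).2
    · rw [Finset.mem_filter] at ha ⊢
      exact ⟨Finset.mem_univ _, fun e => ha.2 (by rw [hf] at e; exact e.symm)⟩
  rw [Finset.sum_const, nsmul_one, ZMod.natCast_eq_zero_iff_even] at h0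
  have h1 := Finset.card_filter_add_card_filter_not (s := (Finset.univ : Finset α)) (fun a => f a = a)
  rw [Finset.card_univ] at h1
  rw [← h1, Nat.odd_add]
  exact ⟨fun h => h.2 h0, fun h => ⟨fun _ => h0, fun _ => h⟩⟩

theorem main_aux : ∀ n, ∀ {G : Type u} [Group G] [Finite G], Nat.card G = n →
    ∀ {z : G} {H : Subgroup G}, Hyp z H → Odd (centralizer ({z} : Set G)).index := by
  intro n
  induction n using Nat.strong_induction_on with
  | _ n ih =>
  intro G _ _ hn z H h
  haveI : Fact (Nat.Prime 2) := ⟨Nat.prime_two⟩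
  obtain ⟨P, hzP, hPH⟩ := h.exists_sylow
  haveI : Nontrivial (P : Subgroup G) :=
    ⟨⟨⟨z, hzP⟩, 1, fun e => Cfsg.Lib.InvolCalc.ne_one_of_order_two h.ord (congrArg Subtype.val e)⟩⟩
  haveI := P.isPGroup'.center_nontrivial
  obtain ⟨k, hk1, hk⟩ := (P.isPGroup'.to_subgroup (Subgroup.center ↥(P : Subgroup G))).nontrivial_iff_card.1
    inferInstance
  obtain ⟨y0, hy0⟩ := exists_prime_orderOf_dvd_card' (G := Subgroup.center ↥(P : Subgroup G)) 2
    (by rw [hk]; exact dvd_pow_self 2 (by omega))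
  set y : G := ((y0 : (P : Subgroup G)) : G) with hy
  have hyo : orderOf y = 2 := by rw [hy, Subgroup.orderOf_coe, Subgroup.orderOf_coe, hy0]
  have hPy : (P : Subgroup G) ≤ centralizer ({y} : Set G) := fun p hp =>
    mem_centralizer_singleton_iff.2 (congrArg Subtype.val (Subgroup.mem_center_iff.1 y0.2 ⟨p, hp⟩))
  have hyH : y ∈ H := hPH (y0 : (P : Subgroup G)).2
  by_cases hzy : IsConj z y
  · exact odd_index_of_sylow hzy P hPy
  by_cases hy1 : y ∈ Subgroup.center G
  · -- pass to the quotient by ⟨y⟩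
    haveI : (zpowers y).Normal := ⟨fun a ha g => by
      have : a ∈ Subgroup.center G := zpowers_le.2 hy1 ha
      rwa [Subgroup.mem_center_iff.1 this g, mul_inv_cancel_right]⟩
    have hker : ∀ a ∈ zpowers y, a = 1 ∨ a = y := by
      rintro _ ⟨i, rfl⟩
      show y ^ i = 1 ∨ y ^ i = y
      rcases Int.even_or_odd' i with ⟨j, rfl | rfl⟩
      · left; rw [zpow_mul, zpow_two, Cfsg.Lib.InvolCalc.sq_of_order_two hyo, one_zpow]
      · right; rw [zpow_add, zpow_mul, zpow_two, Cfsg.Lib.InvolCalc.sq_of_order_two hyo, one_zpow,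
          one_mul, zpow_one]
    have hKH : zpowers y ≤ H := zpowers_le.2 hyH
    set q := QuotientGroup.mk' (zpowers y) with hq
    have hqs : Function.Surjective q := QuotientGroup.mk'_surjective _
    have hcomap : ∀ g : G, q g ∈ H.map q → g ∈ H := by
      intro g hg
      have : g ∈ (H.map q).comap q := hg
      rwa [Subgroup.comap_map_eq_self (by rw [hq, QuotientGroup.ker_mk']; exact hKH)] at this
    have hq1 : ∀ g, q g = 1 → g = 1 ∨ g = y := fun g hg => hker g ((QuotientGroup.eq_one_iff g).1 hg)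
    have hzne : q z ≠ 1 := fun e => (hq1 z e).elim (Cfsg.Lib.InvolCalc.ne_one_of_order_two h.ord)
      fun e => hzy (e ▸ IsConj.refl z)
    have hyz : ∀ c : G, c * z * c⁻¹ ≠ z * y := by
      intro c hc
      apply h.proper
      rw [eq_top_iff]
      intro g _
      refine h.prod (z * y) (isConj_iff.2 ⟨c, hc⟩) (fun e => ?_) ?_ g ?_
      · exact Cfsg.Lib.InvolCalc.ne_one_of_order_two hyo (mul_eq_left.1 e)
      · exact (Commute.refl z).mul_left (Subgroup.mem_center_iff.1 hy1 z).symm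
      · have e : g⁻¹ * (z * (z * y)) * g = y := by
          rw [← mul_assoc z z y, Cfsg.Lib.InvolCalc.sq_of_order_two h.ord, one_mul,
            Subgroup.mem_center_iff.1 hy1 g⁻¹, inv_mul_cancel_right]
        rw [e]
        exact hyH
    have hlift : ∀ a b : G, q a = q b → a = b ∨ a = b * y := by
      intro a b hab
      rcases hq1 (b⁻¹ * a) (by rw [map_mul, map_inv, hab, inv_mul_cancel]) with e | e
      · exact Or.inl (inv_mul_eq_one.1 e).symm
      · exact Or.inr (inv_mul_eq_iff_eq_mul.1 e)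
    have hqc : ∀ g : G, Commute (q g) (q z) → Commute g z := by
      intro g hg
      rcases hlift (g * z * g⁻¹) z (by
        rw [map_mul, map_mul, map_inv, hg.eq, mul_inv_cancel_right]) with e | e
      · exact mul_inv_eq_iff_eq_mul.1 e
      · exact absurd e (hyz g)
    have hQ : Hyp (q z) (H.map q) := by
      refine ⟨orderOf_eq_prime (by rw [← map_pow, ← h.ord, pow_orderOf_eq_one, map_one]) hzne,
        fun e => h.proper (eq_top_iff.2 fun g _ => hcomap g (e ▸ Subgroup.mem_top _)),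
        Subgroup.mem_map_of_mem q h.mem, fun g hg => ?_, fun t ht htne htc g hg => ?_⟩
      · obtain ⟨g, rfl⟩ := hqs g
        rw [← map_inv, ← map_mul, ← map_mul] at hg
        exact Subgroup.mem_map_of_mem q (h.pt g (hcomap _ hg))
      · obtain ⟨g, rfl⟩ := hqs g
        obtain ⟨c, hc⟩ := isConj_iff.1 ht
        obtain ⟨c, rfl⟩ := hqs c
        rw [← map_inv, ← map_mul, ← map_mul] at hc
        subst hc
        rw [← map_inv, ← map_mul, ← map_mul, ← map_mul] at hg
        exact Subgroup.mem_map_of_mem q (h.prod _ (isConj_iff.2 ⟨c, rfl⟩)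
          (fun e => htne (by rw [e])) (hqc _ htc) g (hcomap _ hg))
    have hlt : Nat.card (G ⧸ zpowers y) < n := by
      rw [← hn, Subgroup.card_eq_card_quotient_mul_card_subgroup (zpowers y), Nat.card_zpowers, hyo]
      have : 0 < Nat.card (G ⧸ zpowers y) := Nat.card_pos
      omega
    have hodd := ih _ hlt rfl hQ
    have e : (centralizer ({q z} : Set (G ⧸ zpowers y))).comap q = centralizer ({z} : Set G) := by
      ext g
      rw [Subgroup.mem_comap, mem_centralizer_singleton_iff, mem_centralizer_singleton_iff]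
      exact ⟨fun e => (hqc g e).eq, fun e => by rw [← map_mul, e, map_mul]⟩
    rw [← e, Subgroup.index_comap_of_surjective _ hqs]
    exact hodd
  by_cases hLH : centralizer ({y} : Set G) ≤ H
  swap
  · obtain ⟨l, hl, hlH⟩ := SetLike.not_le_iff_exists.1 hLH
    have hlt : Nat.card (centralizer ({y} : Set G)) < n := by
      rw [← hn]
      refine lt_of_le_of_ne (Subgroup.card_le_card_group _) fun e => hy1 ?_
      rw [Subgroup.mem_center_iff]
      intro g
      exact mem_centralizer_singleton_iff.1 ((Subgroup.eq_top_of_card_eq _ e).ge (Subgroup.mem_top g))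
    exact index_of_sub _ (hPy hzP) P hPy (ih _ hlt rfl (h.sub _ (hPy hzP) hl hlH))
  -- the case `C(y) ≤ H`
  obtain ⟨c, hs⟩ := h.exists_outside
  set s := c * z * c⁻¹ with hsdef
  have hso : orderOf s = 2 := by rw [hsdef, orderOf_conj, h.ord]
  have hev : Even (orderOf (s * y)) := by
    rw [← Nat.not_odd_iff_even]
    intro hodd
    obtain ⟨d, -, hd⟩ := Cfsg.Lib.InvolCalc.conj_of_odd hso hyo hodd
    exact hzy ((isConj_iff.2 ⟨c, rfl⟩).trans (isConj_iff.2 ⟨d, hd⟩))
  obtain ⟨hu2, hus, huy⟩ := Cfsg.Lib.InvolCalc.central_spec hso hyo hev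
  obtain ⟨he, ho⟩ := central_mul s y hso hyo hev
  set u := (s * y) ^ (orderOf (s * y) / 2)
  have huH : u ∈ H := hLH (mem_centralizer_singleton_iff.2 huy.eq)
  have hodd : Odd (orderOf (s * y) / 2) := by
    rw [← Nat.not_even_iff_odd]
    intro hev'
    have hcu : c⁻¹ * u * c = z * (c⁻¹ * (u * s) * c) := by
      calc c⁻¹ * u * c = c⁻¹ * (s * (s * u)) * c := by
            rw [← mul_assoc s s u, Cfsg.Lib.InvolCalc.sq_of_order_two hso, one_mul]
        _ = z * (c⁻¹ * (u * s) * c) := by rw [← hus.eq, hsdef]; group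
    have hcm : c⁻¹ ∈ H := by
      refine h.prod (c⁻¹ * (u * s) * c) ?_ ?_ ?_ c⁻¹ ?_
      · exact (isConj_iff.2 ⟨c, rfl⟩).trans ((he hev').trans (isConj_iff.2 ⟨c⁻¹, by group⟩))
      · intro e
        apply Cfsg.Lib.InvolCalc.ne_one_of_order_two hu2
        have : u * s = s :=
          calc u * s = c * (c⁻¹ * (u * s) * c) * c⁻¹ := by group
            _ = s := by rw [e]
        exact mul_eq_right.1 this
      · have hcomm : Commute (u * s) s := hus.mul_left (Commute.refl s)
        show c⁻¹ * (u * s) * c * z = z * (c⁻¹ * (u * s) * c)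
        calc c⁻¹ * (u * s) * c * z = c⁻¹ * ((u * s) * s) * c := by rw [hsdef]; group
          _ = c⁻¹ * (s * (u * s)) * c := by rw [hcomm.eq]
          _ = z * (c⁻¹ * (u * s) * c) := by rw [hsdef]; group
      · rw [← hcu, inv_inv]
        convert huH using 1
        group
    have hcH : c ∈ H := by simpa using H.inv_mem hcm
    exact hs (H.mul_mem (H.mul_mem hcH h.mem) (H.inv_mem hcH))
  -- the new base point
  have hz'c : IsConj z (u * y) := (isConj_iff.2 ⟨c, rfl⟩).trans (ho hodd).2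
  obtain ⟨d, hd⟩ := isConj_iff.1 hz'c
  have hz'H : u * y ∈ H := H.mul_mem huH hyH
  have hdH : d ∈ H := h.conj_mem (hd ▸ hz'H)
  have h' : Hyp (u * y) H := hd ▸ h.move hdH
  set x := u * y with hx
  have hxy : Commute x y := huy.mul_left (Commute.refl y)
  have hux : Commute u x := (Commute.refl u).mul_right huy
  have hyu : y = u * x := by
    rw [hx, ← mul_assoc, Cfsg.Lib.InvolCalc.sq_of_order_two hu2, one_mul]
  have hzx : IsConj z x := hz'c
  by_cases hu1 : u ∈ Subgroup.center G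
  · refine odd_index_of_sylow hzx P fun p hp => mem_centralizer_singleton_iff.2 ?_
    have h1 : Commute p y := mem_centralizer_singleton_iff.1 (hPy hp)
    exact ((show Commute p u from Subgroup.mem_center_iff.1 hu1 p).mul_right h1).eq
  set L := centralizer ({u} : Set G) with hL
  have hxL : x ∈ L := mem_centralizer_singleton_iff.2 hux.eq.symm
  have hsL : s ∈ L := mem_centralizer_singleton_iff.2 hus.eq.symm
  have hLlt : Nat.card L < n := by
    rw [← hn]
    refine lt_of_le_of_ne (Subgroup.card_le_card_group _) fun e => hu1 ?_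
    rw [Subgroup.mem_center_iff]
    intro g
    exact mem_centralizer_singleton_iff.1 ((Subgroup.eq_top_of_card_eq _ e).ge (Subgroup.mem_top g))
  have hLodd := ih _ hLlt rfl (h'.sub L hxL hsL hs)
  classical
  letI := Fintype.ofFinite G
  -- the set of conjugates in `H` commuting with `u` is a single orbit of odd size
  have hSL : Odd (Fintype.card {a : G // IsConj x a ∧ a ∈ H ∧ Commute a u}) := by
    let K : Subgroup G := L ⊓ H
    letI : MulAction K G := MulAction.compHom G (ConjAct.toConjAct.toMonoidHom.comp K.subtype)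
    have hsmul : ∀ (k : K) (a : G), k • a = (k : G) * a * (k : G)⁻¹ := fun k a =>
      ConjAct.toConjAct_smul (k : G) a
    have horb : ∀ a : G, (IsConj x a ∧ a ∈ H ∧ Commute a u) ↔ a ∈ MulAction.orbit K x := by
      intro a
      constructor
      · rintro ⟨hca, haH, hau⟩
        have conjL : ∀ {b : G}, IsConj x b → b ∈ H → b ∈ L → Hyp b H →
            ∃ l ∈ L, l * b * l⁻¹ = s := by
          intro b hb _ hbL hbH
          have hbs : IsConj b s :=
            hb.symm.trans (hzx.symm.trans (isConj_iff.2 ⟨c, rfl⟩))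
          obtain ⟨l, hl, hls⟩ := Cfsg.Lib.InvolCalc.conj_of_odd hbH.ord hso (hbH.odd_prod hbs hs)
          refine ⟨l, (Subgroup.closure_le L).2 ?_ hl, hls⟩
          rintro w (rfl | rfl)
          · exact hbL
          · exact hsL
        obtain ⟨e, he'⟩ := isConj_iff.1 hca
        have haHyp : Hyp a H := he' ▸ h'.move (h'.conj_mem (he' ▸ haH))
        have haL : a ∈ L := mem_centralizer_singleton_iff.2 hau.eq
        obtain ⟨l1, hl1, e1⟩ := conjL (IsConj.refl x) hz'H hxL h'
        obtain ⟨l2, hl2, e2⟩ := conjL hca haH haL haHyp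
        have hla : (l2⁻¹ * l1) * x * (l2⁻¹ * l1)⁻¹ = a := by
          calc (l2⁻¹ * l1) * x * (l2⁻¹ * l1)⁻¹ = l2⁻¹ * (l1 * x * l1⁻¹) * l2 := by group
            _ = l2⁻¹ * (l2 * a * l2⁻¹) * l2 := by rw [e1, e2]
            _ = a := by group
        exact ⟨⟨l2⁻¹ * l1, L.mul_mem (L.inv_mem hl2) hl1, h'.conj_mem (hla.symm ▸ haH)⟩,
          (hsmul _ x).trans hla⟩
      · rintro ⟨⟨k, hkL, hkH⟩, rfl⟩
        show IsConj x ((⟨k, hkL, hkH⟩ : K) • x) ∧ _
        simp only [hsmul]
        refine ⟨isConj_iff.2 ⟨k, rfl⟩, H.mul_mem (H.mul_mem hkH hz'H) (H.inv_mem hkH), ?_⟩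
        exact mem_centralizer_singleton_iff.1 (L.mul_mem (L.mul_mem hkL hxL) (L.inv_mem hkL))
    rw [← Nat.card_eq_fintype_card, Nat.card_congr (Equiv.subtypeEquivRight horb)]
    rw [show Nat.card {a // a ∈ MulAction.orbit K x} = (MulAction.stabilizer K x).index from
      (MulAction.index_stabilizer K x).symm]
    have estab : MulAction.stabilizer K x = (centralizer ({x} : Set G)).subgroupOf K := by
      ext k
      rw [MulAction.mem_stabilizer_iff, hsmul, mem_subgroupOf, mem_centralizer_singleton_iff,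
        mul_inv_eq_iff_eq_mul]
    rw [estab]
    refine Odd.of_dvd_nat ?_ (?_ : _ ∣ ((centralizer ({x} : Set G)).relIndex L))
    · convert hLodd using 1
      show ((centralizer ({x} : Set G)).subgroupOf L).index = _
      congr 1
      ext w
      rw [mem_centralizer_singleton_iff, mem_subgroupOf, mem_centralizer_singleton_iff, Subtype.ext_iff]
      rfl
    · show (centralizer ({x} : Set G)).relIndex K ∣ _
      have hCH := h'.cent
      have e1 : (centralizer ({x} : Set G)).relIndex K = (centralizer ({x} : Set G) ⊓ L).relIndex K := by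
        rw [← Subgroup.inf_relIndex_right (centralizer ({x} : Set G)) K,
          ← Subgroup.inf_relIndex_right (centralizer ({x} : Set G) ⊓ L) K]
        congr 1
        rw [inf_assoc, inf_eq_right.2 (inf_le_left : K ≤ L)]
      rw [e1, ← Subgroup.inf_relIndex_right (centralizer ({x} : Set G)) L,
        ← Subgroup.relIndex_mul_relIndex _ K L (le_inf inf_le_right (inf_le_left.trans hCH)) inf_le_left]
      exact dvd_mul_right _ _
  -- descend to `C(x) ∩ C(y)` and climb to `C(y)`
  let f : G → G → G := fun v a => v * a * v⁻¹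
  have hmov : ∀ v ∈ H, ∀ a, IsConj x a ∧ a ∈ H → IsConj x (f v a) ∧ f v a ∈ H := fun v hv a ha =>
    ⟨ha.1.trans (isConj_iff.2 ⟨v, rfl⟩), H.mul_mem (H.mul_mem hv ha.2) (H.inv_mem hv)⟩
  have hcomm : ∀ {v w a : G}, Commute v w → Commute a w → Commute (f v a) w := fun h1 h2 =>
    (h1.mul_left h2).mul_left h1.inv_left
  have hinv : ∀ {v : G}, orderOf v = 2 → ∀ a, f v (f v a) = a := fun {v} hv a => by
    show v * (v * a * v⁻¹) * v⁻¹ = a
    calc v * (v * a * v⁻¹) * v⁻¹ = (v * v) * a * (v * v)⁻¹ := by group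
      _ = a := by rw [Cfsg.Lib.InvolCalc.sq_of_order_two hv, one_mul, inv_one, mul_one]
  have hA : Odd (Fintype.card {a : G // IsConj x a ∧ a ∈ H ∧ Commute a u ∧ Commute a y}) := by
    have := (odd_iff_fixed (α := {a : G // IsConj x a ∧ a ∈ H ∧ Commute a u})
      (fun a => ⟨f y a, (hmov y hyH a ⟨a.2.1, a.2.2.1⟩).1, (hmov y hyH a ⟨a.2.1, a.2.2.1⟩).2,
        hcomm huy.symm a.2.2.2⟩) (fun a => Subtype.ext (hinv hyo _))).1 hSL
    convert this using 1
    rw [← Fintype.card_subtype]
    refine Fintype.card_congr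
      { toFun := fun a => ⟨⟨a, a.2.1, a.2.2.1, a.2.2.2.1⟩, Subtype.ext
          (mul_inv_eq_iff_eq_mul.2 a.2.2.2.2.eq.symm)⟩
        invFun := fun a => ⟨a.1, a.1.2.1, a.1.2.2.1, a.1.2.2.2,
          (mul_inv_eq_iff_eq_mul.1 (congrArg Subtype.val a.2) : y * (a.1 : G) = _).symm⟩
        left_inv := fun a => rfl
        right_inv := fun a => rfl }
  have hS0 : Odd (Fintype.card {a : G // IsConj x a ∧ a ∈ H ∧ Commute a y}) := by
    refine (odd_iff_fixed (α := {a : G // IsConj x a ∧ a ∈ H ∧ Commute a y})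
      (fun a => ⟨f x a, (hmov x hz'H a ⟨a.2.1, a.2.2.1⟩).1, (hmov x hz'H a ⟨a.2.1, a.2.2.1⟩).2,
        hcomm hxy a.2.2.2⟩) (fun a => Subtype.ext (hinv h'.ord _))).2 ?_
    convert hA using 1
    rw [← Fintype.card_subtype]
    refine Fintype.card_congr
      { toFun := fun a => ⟨a.1, a.1.2.1, a.1.2.2.1, ?_, a.1.2.2.2⟩
        invFun := fun a => ⟨⟨a, a.2.1, a.2.2.1, a.2.2.2.2⟩, Subtype.ext ?_⟩
        left_inv := fun a => rfl
        right_inv := fun a => rfl }
    · have h1 : Commute (a.1 : G) x :=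
        (mul_inv_eq_iff_eq_mul.1 (congrArg Subtype.val a.2) : x * (a.1 : G) = _).symm
      have e : u = x * y := by
        rw [hx, mul_assoc, Cfsg.Lib.InvolCalc.sq_of_order_two hyo, mul_one]
      rw [e]
      exact h1.mul_right a.1.2.2.2
    · refine mul_inv_eq_iff_eq_mul.2 ?_
      exact (a.2.2.2.1.mul_right a.2.2.2.2).eq.symm
  letI : MulAction (P : Subgroup G) {a : G // IsConj x a ∧ a ∈ H ∧ Commute a y} :=
    { smul := fun p a => ⟨f p a, (hmov p (hPH p.2) a ⟨a.2.1, a.2.2.1⟩).1,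
        (hmov p (hPH p.2) a ⟨a.2.1, a.2.2.1⟩).2,
        hcomm (mem_centralizer_singleton_iff.1 (hPy p.2)) a.2.2.2⟩
      one_smul := fun a => Subtype.ext (show (1 : G) * (a : G) * (1 : G)⁻¹ = a by group)
      mul_smul := fun p q a => Subtype.ext (show ((p : G) * q) * (a : G) * ((p : G) * q)⁻¹
        = (p : G) * ((q : G) * a * (q : G)⁻¹) * (p : G)⁻¹ by group) }
  obtain ⟨a, ha⟩ := P.isPGroup'.nonempty_fixed_point_of_prime_not_dvd_card
    {a : G // IsConj x a ∧ a ∈ H ∧ Commute a y}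
    (by rw [Nat.card_eq_fintype_card, ← even_iff_two_dvd, Nat.not_even_iff_odd]; exact hS0)
  refine odd_index_of_sylow (hzx.trans a.2.1) P fun p hp => mem_centralizer_singleton_iff.2 ?_
  exact mul_inv_eq_iff_eq_mul.1 (congrArg Subtype.val (ha ⟨p, hp⟩))

theorem mem_map_conj_iff {H : Subgroup G} {g x : G} :
    x ∈ H.map (MulAut.conj g).toMonoidHom ↔ g⁻¹ * x * g ∈ H := by
  constructor
  · rintro ⟨a, ha, rfl⟩
    show g⁻¹ * (g * a * g⁻¹) * g ∈ H
    rw [show g⁻¹ * (g * a * g⁻¹) * g = a by group]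
    exact ha
  · exact fun h => ⟨_, h, by show g * (g⁻¹ * x * g) * g⁻¹ = x; group⟩

theorem result (z : G) (hz : orderOf z = 2) (H : Subgroup G) (hH : H ≠ ⊤)
    (h0 : ∀ g : G, z ∈ H.map (MulAut.conj g).toMonoidHom ↔ g ∈ H) :
    (∀ t : G, IsConj z t → t ≠ z → t * z = z * t → ∀ g : G,
        z * t ∈ H.map (MulAut.conj g).toMonoidHom ↔ g ∈ H) ↔
      ((∃ P : Sylow 2 G, z ∈ (Subgroup.center ↥(P : Subgroup G)).map (P : Subgroup G).subtype) ∧
        ∀ t : G, IsConj z t → t ≠ z → t * z = z * t → Subgroup.centralizer ({z * t} : Set G) ≤ H) := by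
  haveI : Fact (Nat.Prime 2) := ⟨Nat.prime_two⟩
  have hzH : z ∈ H := by
    have := mem_map_conj_iff.1 ((h0 1).2 (one_mem H))
    simpa using this
  have hpt : ∀ g : G, g⁻¹ * z * g ∈ H → g ∈ H := fun g hg => (h0 g).1 (mem_map_conj_iff.2 hg)
  have hcentz : centralizer ({z} : Set G) ≤ H := fun g hg => hpt g (by
    rw [mul_assoc, ← mem_centralizer_singleton_iff.1 hg, inv_mul_cancel_left]; exact hzH)
  have htH : ∀ t : G, t * z = z * t → z * t ∈ H := fun t ht =>
    H.mul_mem hzH (hcentz (mem_centralizer_singleton_iff.2 ht))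
  constructor
  · intro h1
    have h : Hyp z H := ⟨hz, hH, hzH, hpt,
      fun t ht htne htc g hg => (h1 t ht htne htc.eq g).1 (mem_map_conj_iff.2 hg)⟩
    refine ⟨?_, fun t ht htne htc g hg => h.prod t ht htne htc g ?_⟩
    · have hodd := main_aux _ rfl h
      obtain ⟨S⟩ : Nonempty (Sylow 2 (centralizer ({z} : Set G))) := inferInstance
      have hT : IsPGroup 2 ((S : Subgroup (centralizer ({z} : Set G))).map (centralizer _).subtype) :=
        S.isPGroup'.map _
      have hi : ¬ 2 ∣ ((S : Subgroup (centralizer ({z} : Set G))).map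
          (centralizer ({z} : Set G)).subtype).index := by
        rw [Subgroup.index_map_subtype, Nat.prime_two.dvd_mul]
        rintro (h2 | h2)
        · exact S.not_dvd_index h2
        · exact (Nat.not_even_iff_odd.2 hodd) (even_iff_two_dvd.2 h2)
      let P := hT.toSylow hi
      have hPC : (P : Subgroup G) ≤ centralizer ({z} : Set G) := map_subtype_le _
      have hzP : z ∈ (P : Subgroup G) := by
        have hzC : z ∈ centralizer ({z} : Set G) := mem_centralizer_singleton_iff.2 rfl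
        have hzn : (zpowers (⟨z, hzC⟩ : centralizer ({z} : Set G))).Normal := by
          refine ⟨fun a ha g => ?_⟩
          obtain ⟨i, rfl⟩ := ha
          have : Commute g (⟨z, hzC⟩ : centralizer ({z} : Set G)) :=
            Subtype.ext (mem_centralizer_singleton_iff.1 g.2)
          rw [(this.zpow_right i).eq, mul_inv_cancel_right]
          exact ⟨i, rfl⟩
        have h2 : IsPGroup 2 (zpowers (⟨z, hzC⟩ : centralizer ({z} : Set G))) :=
          IsPGroup.of_card (n := 1) (by rw [Nat.card_zpowers, ← Subgroup.orderOf_coe, hz, pow_one])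
        obtain ⟨R, hR⟩ := h2.exists_le_sylow
        obtain ⟨g, rfl⟩ := MulAction.exists_smul_eq (centralizer ({z} : Set G)) R S
        have : (⟨z, hzC⟩ : centralizer ({z} : Set G)) ∈ ((g • R : Sylow 2 _) : Subgroup _) := by
          refine ⟨_, hR (hzn.conj_mem _ (mem_zpowers _) g⁻¹), ?_⟩
          show g * (g⁻¹ * ⟨z, hzC⟩ * g⁻¹⁻¹) * g⁻¹ = _
          group
        exact ⟨_, this, rfl⟩
      refine ⟨P, ⟨⟨z, hzP⟩, Subgroup.mem_center_iff.2 fun p => ?_, rfl⟩⟩
      exact Subtype.ext (mem_centralizer_singleton_iff.1 (hPC p.2))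
    · rw [mul_assoc, ← mem_centralizer_singleton_iff.1 hg, inv_mul_cancel_left]
      exact htH t htc
  · rintro ⟨⟨P, ⟨⟨_, hzP⟩, hzc, rfl⟩⟩, h2⟩ t ht htne htc g
    refine ⟨fun hg => ?_, fun hg => mem_map_conj_iff.2
      (H.mul_mem (H.mul_mem (H.inv_mem hg) (htH t htc)) hg)⟩
    rw [mem_map_conj_iff] at hg
    have hPC : (P : Subgroup G) ≤ centralizer ({(P : Subgroup G).subtype ⟨_, hzP⟩} : Set G) := fun p hp =>
      mem_centralizer_singleton_iff.2 (congrArg Subtype.val (Subgroup.mem_center_iff.1 hzc ⟨p, hp⟩))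
    set z' := (P : Subgroup G).subtype ⟨_, hzP⟩
    set w := z' * t with hw
    -- an odd class in `H` on which the conjugate of `w` acts
    set C := centralizer ({z'} : Set G) with hC
    have hCodd : ¬ 2 ∣ C.relIndex H := fun h2' => P.not_dvd_index
      (h2'.trans ((Subgroup.relIndex_dvd_index_of_le hcentz).trans (Subgroup.index_dvd_of_le hPC)))
    have hto : orderOf t = 2 := by
      obtain ⟨e, rfl⟩ := isConj_iff.1 ht
      rw [orderOf_conj, hz]
    have hwo : w * w = 1 := by
      rw [hw, mul_assoc, ← mul_assoc t, htc, mul_assoc z' t, Cfsg.Lib.InvolCalc.sq_of_order_two hto,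
        mul_one, Cfsg.Lib.InvolCalc.sq_of_order_two hz]
    set v : H := ⟨g⁻¹ * w * g, hg⟩
    have hvv : IsPGroup 2 (zpowers v) := by
      have hv2 : v ^ 2 = 1 := Subtype.ext (by
        show (g⁻¹ * w * g) ^ 2 = 1
        rw [sq, show g⁻¹ * w * g * (g⁻¹ * w * g) = g⁻¹ * (w * w) * g by group, hwo, mul_one,
          inv_mul_cancel])
      rintro ⟨_, i, rfl⟩
      refine ⟨1, Subtype.ext ?_⟩
      show (v ^ i) ^ (2 ^ 1) = 1
      rw [pow_one, ← zpow_natCast, ← zpow_mul, mul_comm, zpow_mul, zpow_natCast, hv2, one_zpow]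
    obtain ⟨q, hq⟩ := hvv.nonempty_fixed_point_of_prime_not_dvd_card (H ⧸ C.subgroupOf H)
      (by rw [← Subgroup.index_eq_card]; exact hCodd)
    induction q using QuotientGroup.induction_on with
    | H e =>
    have hfix : ((v * e : H) : H ⧸ C.subgroupOf H) = (e : H ⧸ C.subgroupOf H) := hq ⟨v, mem_zpowers v⟩
    rw [QuotientGroup.eq, mem_subgroupOf, Subgroup.coe_mul, Subgroup.coe_inv, Subgroup.coe_mul,
      mul_inv_rev] at hfix
    have hcz : Commute ((e : G)⁻¹ * (g⁻¹ * w * g)⁻¹ * (e : G)) z' :=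
      mem_centralizer_singleton_iff.1 hfix
    have hgez : Commute ((g * e) * z' * (g * e)⁻¹) w := by
      have h3 : Commute ((g * e) * z' * (g * e)⁻¹) w⁻¹ := by
        show _ * _ = _ * _
        calc (g * e) * z' * (g * e)⁻¹ * w⁻¹
            = (g * e) * (z' * ((e : G)⁻¹ * (g⁻¹ * w * g)⁻¹ * e)) * (g * e)⁻¹ := by group
          _ = (g * e) * (((e : G)⁻¹ * (g⁻¹ * w * g)⁻¹ * e) * z') * (g * e)⁻¹ := by rw [hcz.eq]
          _ = w⁻¹ * ((g * e) * z' * (g * e)⁻¹) := by group
      simpa using h3.inv_right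
    have hin := h2 t ht htne htc (mem_centralizer_singleton_iff.2 hgez.eq)
    have hge : g * e ∈ H := by
      have := hpt (g * e)⁻¹ (by rwa [inv_inv])
      simpa using H.inv_mem this
    simpa using H.mul_mem hge (H.inv_mem e.2)

end Cfsg.Lib.UniquePoint
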