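import Cfsg.Agent.Components.Misc.Large
import Cfsg.Agent.Transfer.Basic

/-! Weakly closed subgroups and the centralizer of `O_p(L)`. -/

set_option linter.style.haveILetI false
set_option linter.unusedSectionVars false

namespace Cfsg.Lib.Misc.WCCore

open Subgroup
open scoped commutatorElement Pointwise

universe u

variable {G : Type u} [Group G] [Finite G] {p : ℕ} [hp : Fact p.Prime]

/-- The elements stabilizing `A` and `B` and centralizing `A` modulo `B`. -/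
def Stab (A B : Subgroup G) : Subgroup G where
  carrier := {k | (k ∈ normalizer (A : Set G) ∧ k ∈ normalizer (B : Set G)) ∧ ∀ t ∈ A, k * t * k⁻¹ * t⁻¹ ∈ B}
  one_mem' := ⟨⟨one_mem _, one_mem _⟩, fun t _ => by simp⟩
  mul_mem' := fun {u v} hu hv => ⟨⟨mul_mem hu.1.1 hv.1.1, mul_mem hu.1.2 hv.1.2⟩, fun t ht => by
    rw [show u * v * t * (u * v)⁻¹ * t⁻¹ =
      u * (v * t * v⁻¹) * u⁻¹ * (v * t * v⁻¹)⁻¹ * (v * t * v⁻¹ * t⁻¹) by group]
    exact mul_mem (hu.2 _ ((mem_normalizer_iff.1 hv.1.1 t).1 ht)) (hv.2 t ht)⟩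
  inv_mem' := fun {u} hu => ⟨⟨inv_mem hu.1.1, inv_mem hu.1.2⟩, fun t ht => by
    have h1 := hu.2 (u⁻¹ * t * u) (by simpa using (mem_normalizer_iff.1 (inv_mem hu.1.1) t).1 ht)
    have h2 := inv_mem h1
    convert h2 using 1
    group⟩

theorem conj_mem_stab {A B : Subgroup G} {g k : G} (hA : g ∈ normalizer (A : Set G))
    (hB : g ∈ normalizer (B : Set G)) (hk : k ∈ Stab A B) : g * k * g⁻¹ ∈ Stab A B := by
  refine ⟨⟨mul_mem (mul_mem hA hk.1.1) (inv_mem hA), mul_mem (mul_mem hB hk.1.2) (inv_mem hB)⟩,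
    fun t ht => ?_⟩
  have h1 := hk.2 (g⁻¹ * t * g) (by simpa using (mem_normalizer_iff.1 (inv_mem hA) t).1 ht)
  have h2 := (mem_normalizer_iff.1 hB _).1 h1
  convert h2 using 1
  group

/-- A weakly closed subgroup in one Sylow subgroup is the only conjugate of itself in any `p`-group. -/
theorem mem_normalizer_of_wc {Q : Subgroup G} (hwc : Cfsg.IsWeaklyClosedSubgroup p Q) {R : Subgroup G}
    (hR : IsPGroup p R) (hQR : Q ≤ R) {g : G} (hg : ∀ q ∈ Q, g * q * g⁻¹ ∈ R) :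
    g ∈ normalizer (Q : Set G) := by
  obtain ⟨T, hQT, hT⟩ := hwc
  obtain ⟨T', hT'⟩ := hR.exists_le_sylow
  obtain ⟨a, rfl⟩ := MulAction.exists_smul_eq G T T'
  have hmem : ∀ r ∈ R, a⁻¹ * r * a ∈ (T : Subgroup G) := fun r hr => by
    obtain ⟨t, ht, hte⟩ := hT' hr
    rw [← hte]
    show a⁻¹ * (a * t * a⁻¹) * a ∈ (T : Subgroup G)
    rw [show a⁻¹ * (a * t * a⁻¹) * a = t by group]
    exact ht
  have h1 : a⁻¹ ∈ normalizer (Q : Set G) := mem_normalizer_iff_map_conj_eq.2 (hT _ (by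
    rintro _ ⟨q, hq, rfl⟩
    simpa using hmem q (hQR hq)))
  have h2 : a⁻¹ * g ∈ normalizer (Q : Set G) := mem_normalizer_iff_map_conj_eq.2 (hT _ (by
    rintro _ ⟨q, hq, rfl⟩
    simpa [mul_assoc] using hmem _ (hg q hq)))
  simpa using mul_mem (inv_mem h1) h2

theorem main (Q : Subgroup G) (hQp : IsPGroup p Q) (hwc : Cfsg.IsWeaklyClosedSubgroup p Q)
    (hCQ : centralizer (Q : Set G) ≤ Q) (L : Subgroup G) (hQL : Q ≤ L) (H0 U : Subgroup G)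
    (hUp : IsPGroup p U) (_hUH : U ≤ H0) (hHU : H0 ≤ normalizer (U : Set G))
    (hchar : ∀ h ∈ H0, h ∈ centralizer (U : Set G) → h ∈ U) (hQH : Q ≤ H0)
    (hCH : centralizer ((Cfsg.pCoreOf p L : Subgroup G) : Set G) ≤ H0) :
    ⁅Q, centralizer ((Cfsg.pCoreOf p L : Subgroup G) : Set G)⁆ ≤ Q ⊓ Cfsg.pCoreOf p L ∧
      IsPGroup p ↥(centralizer ((Cfsg.pCoreOf p L : Subgroup G) : Set G)) ∧
      centralizer (Cfsg.pCore p L : Set L) ≤ Cfsg.pCore p L := by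
  set P := Cfsg.pCoreOf p L with hP
  set C := centralizer ((P : Subgroup G) : Set G) with hC
  have hLP : L ≤ normalizer (P : Set G) := le_normalizer.trans (Cfsg.Lib.Large.normalizer_pCoreOf_le L)
  have hLC : L ≤ normalizer (C : Set G) := hLP.trans (Cfsg.Lib.Large.normalizer_centralizer_le P)
  -- `U` normalizes `Q`
  have hQU : IsPGroup p ↥(U ⊔ Q : Subgroup G) := hUp.to_sup_of_normal_left' hQp (hQH.trans hHU)
  have hUQ : U ≤ normalizer (Q : Set G) := fun u hu =>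
    mem_normalizer_of_wc hwc hQU le_sup_right fun q hq =>
      mul_mem (mul_mem (mem_sup_left hu) (mem_sup_right hq)) (inv_mem (mem_sup_left hu))
  -- `C ∩ L`'s `p`-core lies in `P`
  set V := U ⊓ C
  have hCL : ∀ N : Subgroup G, N ≤ C ⊓ L → IsPGroup p N → C ⊓ L ≤ normalizer (N : Set G) → N ≤ P := by
    intro N hN hNp hNn
    have h1 : N ≤ Cfsg.pCoreOf p (C ⊓ L) := Cfsg.Lib.Large.le_pCoreOf hN hNp hNn
    refine h1.trans (Cfsg.Lib.Large.le_pCoreOf ((map_subtype_le _).trans inf_le_right)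
      ((Cfsg.Lib.Components.isPGroup_pCore p).map _) ?_)
    intro l hl
    refine Cfsg.Lib.Large.normalizer_pCoreOf_le (C ⊓ L) (Cfsg.Lib.Large.mem_normalizer_of_le _ fun z hz =>
      mem_inf.2 ⟨(mem_normalizer_iff.1 (hLC hl) z).1 (mem_inf.1 hz).1, mul_mem (mul_mem hl (mem_inf.1 hz).2) (inv_mem hl)⟩)
  have hVC : C ≤ normalizer (V : Set G) := fun c hc => Cfsg.Lib.Large.mem_normalizer_of_le _ fun z hz =>
    mem_inf.2 ⟨(mem_normalizer_iff.1 (hHU (hCH hc)) z).1 (mem_inf.1 hz).1,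
      mul_mem (mul_mem hc (mem_inf.1 hz).2) (inv_mem hc)⟩
  have hVQP : V ⊓ Q ≤ P := by
    have h1 : V ⊓ L ≤ P := hCL _ (le_inf (inf_le_left.trans inf_le_right) inf_le_right)
      (hUp.to_le (inf_le_left.trans inf_le_left)) fun c hc =>
        Cfsg.Lib.Large.mem_normalizer_of_le _ fun z hz =>
          mem_inf.2 ⟨(mem_normalizer_iff.1 (hVC (mem_inf.1 hc).1) z).1 (mem_inf.1 hz).1,
            mul_mem (mul_mem (mem_inf.1 hc).2 (mem_inf.1 hz).2) (inv_mem (mem_inf.1 hc).2)⟩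
    exact (inf_le_inf_left V hQL).trans h1
  set D := (U ⊓ Q) ⊔ V
  -- the stabilizer of the series
  set K := H0 ⊓ Stab (V ⊓ Q) ⊥ ⊓ Stab V (V ⊓ Q) ⊓ Stab D V ⊓ Stab U D with hK
  have hnC : ∀ g : G, g ∈ H0 → g ∈ normalizer (C : Set G) → g ∈ normalizer (V : Set G) :=
    fun g h1 h2 => Cfsg.Lib.Large.mem_normalizer_of_le _ fun z hz =>
      mem_inf.2 ⟨(mem_normalizer_iff.1 (hHU h1) z).1 (mem_inf.1 hz).1,
        (mem_normalizer_iff.1 h2 z).1 (mem_inf.1 hz).2⟩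
  have hxfix : ∀ x ∈ C, ∀ t ∈ V ⊓ Q, x * t * x⁻¹ = t := fun x hx t ht =>
    mul_inv_eq_iff_eq_mul.2 (hx t (hVQP ht)).symm
  have hDN : D ≤ normalizer (C : Set G) :=
    sup_le ((inf_le_right.trans hQL).trans hLC) (inf_le_right.trans le_normalizer)
  have hDU : D ≤ U := sup_le inf_le_left inf_le_left
  have hxD : ∀ x ∈ C, ∀ t ∈ D, x * t * x⁻¹ * t⁻¹ ∈ V := fun x hx t ht => mem_inf.2
    ⟨mul_mem ((mem_normalizer_iff.1 (hHU (hCH hx)) t).1 (hDU ht)) (inv_mem (hDU ht)), by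
      rw [show x * t * x⁻¹ * t⁻¹ = x * (t * x⁻¹ * t⁻¹) by group]
      exact mul_mem hx ((mem_normalizer_iff.1 (hDN ht) _).1 (inv_mem hx))⟩
  have hxn : ∀ x ∈ C, x ∈ normalizer (U : Set G) ∧ x ∈ normalizer (V : Set G) ∧
      x ∈ normalizer ((V ⊓ Q : Subgroup G) : Set G) ∧ x ∈ normalizer (D : Set G) := fun x hx =>
    ⟨hHU (hCH hx), hVC hx, Cfsg.Lib.Large.mem_normalizer_of_le _ fun t ht => by rwa [hxfix x hx t ht],
      Cfsg.Lib.Large.mem_normalizer_of_le _ fun t ht => by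
        rw [show x * t * x⁻¹ = (x * t * x⁻¹ * t⁻¹) * t by group]
        exact mul_mem (mem_sup_right (hxD x hx t ht)) ht⟩
  have hqn : ∀ q ∈ Q, q ∈ normalizer (U : Set G) ∧ q ∈ normalizer (V : Set G) ∧
      q ∈ normalizer ((V ⊓ Q : Subgroup G) : Set G) ∧ q ∈ normalizer (D : Set G) := by
    intro q hq
    have hqV := hnC q (hQH hq) (hLC (hQL hq))
    refine ⟨hHU (hQH hq), hqV, Cfsg.Lib.Large.mem_normalizer_of_le _ fun t ht =>
      mem_inf.2 ⟨(mem_normalizer_iff.1 hqV t).1 (mem_inf.1 ht).1,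
        mul_mem (mul_mem hq (mem_inf.1 ht).2) (inv_mem hq)⟩,
      Cfsg.Lib.Large.mem_normalizer_of_le _ fun t ht => ?_⟩
    have hle : D.map (MulAut.conj q).toMonoidHom ≤ D := by
      rw [Subgroup.map_sup]
      refine sup_le (le_trans ?_ le_sup_left) (le_trans ?_ le_sup_right)
      · rintro _ ⟨s, hs, rfl⟩
        exact mem_inf.2 ⟨(mem_normalizer_iff.1 (hHU (hQH hq)) s).1 (mem_inf.1 hs).1,
          mul_mem (mul_mem hq (mem_inf.1 hs).2) (inv_mem hq)⟩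
      · rintro _ ⟨s, hs, rfl⟩
        exact (mem_normalizer_iff.1 hqV s).1 hs
    exact hle ⟨t, ht, rfl⟩
  have hqUQ : ∀ q ∈ Q, ∀ t ∈ U, q * t * q⁻¹ * t⁻¹ ∈ U ⊓ Q := fun q hq t ht => mem_inf.2
    ⟨mul_mem ((mem_normalizer_iff.1 (hHU (hQH hq)) t).1 ht) (inv_mem ht), by
      rw [show q * t * q⁻¹ * t⁻¹ = q * (t * q⁻¹ * t⁻¹) by group]
      exact mul_mem hq ((mem_normalizer_iff.1 (hUQ ht) _).1 (inv_mem hq))⟩
  have hcomm : ∀ x ∈ C, ∀ q ∈ Q, x * q * x⁻¹ * q⁻¹ ∈ K := by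
    intro x hx q hq
    obtain ⟨x1, x2, x3, x4⟩ := hxn x hx
    obtain ⟨q1, q2, q3, q4⟩ := hqn q hq
    have hbot : ∀ g : G, g ∈ normalizer ((⊥ : Subgroup G) : Set G) := fun g =>
      Cfsg.Lib.Large.mem_normalizer_of_le _ fun t ht => by rw [mem_bot.1 ht]; simp
    refine mem_inf.2 ⟨mem_inf.2 ⟨mem_inf.2 ⟨mem_inf.2 ⟨?_, ?_⟩, ?_⟩, ?_⟩, ?_⟩
    · exact mul_mem (mul_mem (mul_mem (hCH hx) (hQH hq)) (inv_mem (hCH hx))) (inv_mem (hQH hq))
    · have h1 : x ∈ Stab (V ⊓ Q) ⊥ := ⟨⟨x3, hbot x⟩, fun t ht => by simp [hxfix x hx t ht]⟩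
      rw [show x * q * x⁻¹ * q⁻¹ = x * (q * x⁻¹ * q⁻¹) by group]
      exact mul_mem h1 (conj_mem_stab q3 (hbot q) (inv_mem h1))
    · have h1 : q ∈ Stab V (V ⊓ Q) := ⟨⟨q2, q3⟩, fun t ht => mem_inf.2
        ⟨mul_mem ((mem_normalizer_iff.1 q2 t).1 ht) (inv_mem ht), (mem_inf.1 (hqUQ q hq t (mem_inf.1 ht).1)).2⟩⟩
      exact mul_mem (conj_mem_stab x2 x3 h1) (inv_mem h1)
    · have h1 : x ∈ Stab D V := ⟨⟨x4, x2⟩, hxD x hx⟩
      rw [show x * q * x⁻¹ * q⁻¹ = x * (q * x⁻¹ * q⁻¹) by group]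
      exact mul_mem h1 (conj_mem_stab q4 q2 (inv_mem h1))
    · have h1 : q ∈ Stab U D := ⟨⟨q1, q4⟩, fun t ht => mem_sup_left (hqUQ q hq t ht)⟩
      exact mul_mem (conj_mem_stab x1 x4 h1) (inv_mem h1)
  have hKp : IsPGroup p K := by
    refine Cfsg.Lib.Easy.isPGroup_of_coprime_trivial K fun k hk hco => ?_
    obtain ⟨⟨⟨⟨k0, k1⟩, k2⟩, k3⟩, k4⟩ : (((k ∈ H0 ∧ k ∈ Stab (V ⊓ Q) ⊥) ∧ k ∈ Stab V (V ⊓ Q)) ∧
        k ∈ Stab D V) ∧ k ∈ Stab U D := by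
      simpa [hK, mem_inf] using hk
    have step : ∀ A B : Subgroup G, k ∈ Stab A B → B ≤ U → (∀ t ∈ B, k * t * k⁻¹ = t) →
        ∀ t ∈ A, k * t * k⁻¹ = t := by
      intro A B hAB hBU hB t ht
      obtain ⟨j, hj⟩ := hUp ⟨_, hBU (hAB.2 t ht)⟩
      exact Cfsg.Lib.SmallOrder.fixed_of_shift (by group) (hB _ (hAB.2 t ht))
        ((hco.pow_right j).coprime_dvd_right (orderOf_dvd_of_pow_eq_one (congrArg Subtype.val hj)))
    have h1 : ∀ t ∈ V ⊓ Q, k * t * k⁻¹ = t :=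
      step _ _ k1 bot_le fun t ht => by rw [mem_bot.1 ht]; simp
    have h4 := step _ _ k4 hDU (step _ _ k3 inf_le_left (step _ _ k2 (inf_le_left.trans inf_le_left) h1))
    have hkU : k ∈ U := hchar k k0 fun t ht => (mul_inv_eq_iff_eq_mul.1 (h4 t ht)).symm
    obtain ⟨j, hj⟩ := hUp ⟨k, hkU⟩
    exact orderOf_eq_one_iff.1 (Nat.eq_one_of_dvd_coprimes (hco.pow_right j) dvd_rfl
      (orderOf_dvd_of_pow_eq_one (congrArg Subtype.val hj)))
  have hQK : Q ≤ normalizer (K : Set G) := by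
    intro q hq
    obtain ⟨q1, q2, q3, q4⟩ := hqn q hq
    refine Cfsg.Lib.Large.mem_normalizer_of_le _ fun k hk => ?_
    obtain ⟨⟨⟨⟨k0, k1⟩, k2⟩, k3⟩, k4⟩ : (((k ∈ H0 ∧ k ∈ Stab (V ⊓ Q) ⊥) ∧ k ∈ Stab V (V ⊓ Q)) ∧
        k ∈ Stab D V) ∧ k ∈ Stab U D := by
      simpa [hK, mem_inf] using hk
    exact mem_inf.2 ⟨mem_inf.2 ⟨mem_inf.2 ⟨mem_inf.2 ⟨mul_mem (mul_mem (hQH hq) k0) (inv_mem (hQH hq)),
      conj_mem_stab q3 (Cfsg.Lib.Large.mem_normalizer_of_le _ fun t ht => by rw [mem_bot.1 ht]; simp) k1⟩,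
      conj_mem_stab q2 q3 k2⟩, conj_mem_stab q4 q2 k3⟩, conj_mem_stab q1 q4 k4⟩
  have hCQn : C ≤ normalizer (Q : Set G) := fun x hx =>
    mem_normalizer_of_wc hwc (hKp.to_sup_of_normal_left' hQp hQK) le_sup_right fun q hq => by
      rw [show x * q * x⁻¹ = (x * q * x⁻¹ * q⁻¹) * q by group]
      exact mul_mem (mem_sup_left (hcomm x hx q hq)) (mem_sup_right hq)
  have hQC : Q ⊓ C ≤ P := hCL _ (le_inf inf_le_right (inf_le_left.trans hQL)) (hQp.to_le inf_le_left)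
    fun c hc => Cfsg.Lib.Large.mem_normalizer_of_le _ fun z hz =>
      mem_inf.2 ⟨(mem_normalizer_iff.1 (hCQn (mem_inf.1 hc).1) z).1 (mem_inf.1 hz).1,
        mul_mem (mul_mem (mem_inf.1 hc).1 (mem_inf.1 hz).2) (inv_mem (mem_inf.1 hc).1)⟩
  have hcm : ∀ q ∈ Q, ∀ c ∈ C, q * c * q⁻¹ * c⁻¹ ∈ Q ⊓ C := fun q hq c hc => mem_inf.2 ⟨by
      rw [show q * c * q⁻¹ * c⁻¹ = q * (c * q⁻¹ * c⁻¹) by group]
      exact mul_mem hq ((mem_normalizer_iff.1 (hCQn hc) _).1 (inv_mem hq)),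
    mul_mem ((mem_normalizer_iff.1 (hLC (hQL hq)) c).1 hc) (inv_mem hc)⟩
  have hCp : IsPGroup p C := by
    refine Cfsg.Lib.Easy.isPGroup_of_coprime_trivial C fun x hx hco => ?_
    have hxQ : x ∈ Q := hCQ fun q hq => by
      have ht : x * q * x⁻¹ * q⁻¹ ∈ Q ⊓ C := by
        have := inv_mem (hcm q hq x hx)
        simpa [mul_assoc] using this
      obtain ⟨j, hj⟩ := hQp ⟨_, (mem_inf.1 ht).1⟩
      exact (mul_inv_eq_iff_eq_mul.1 (Cfsg.Lib.SmallOrder.fixed_of_shift (by group)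
        (mul_inv_eq_iff_eq_mul.2 (hx _ (hQC ht)).symm)
        ((hco.pow_right j).coprime_dvd_right (orderOf_dvd_of_pow_eq_one (congrArg Subtype.val hj))))).symm
    obtain ⟨j, hj⟩ := hQp ⟨x, hxQ⟩
    exact orderOf_eq_one_iff.1 (Nat.eq_one_of_dvd_coprimes (hco.pow_right j) dvd_rfl
      (orderOf_dvd_of_pow_eq_one (congrArg Subtype.val hj)))
  refine ⟨commutator_le.2 fun q hq c hc => mem_inf.2 ⟨(mem_inf.1 (hcm q hq c hc)).1, hQC (hcm q hq c hc)⟩,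
    hCp, fun x hx => ?_⟩
  have h2 : C ⊓ L ≤ P := hCL _ le_rfl (hCp.to_le inf_le_left) le_normalizer
  obtain ⟨z, hz, hzx⟩ := h2 (mem_inf.2 ⟨(show (x : G) ∈ C from by
    rintro _ ⟨w, hw, rfl⟩
    exact congrArg Subtype.val (hx w hw)), x.2⟩)
  rwa [← L.subtype_injective hzx]

theorem of_hyp (Q : Subgroup G) (hQp : IsPGroup p Q) (hwc : Cfsg.IsWeaklyClosedSubgroup p Q)
    (hCQ : centralizer (Q : Set G) ≤ Q) (L : Subgroup G) (hQL : Q ≤ L)
    (hyp : centralizer (Cfsg.pCore p G : Set G) ≤ Cfsg.pCore p G ∨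
      ∃ y : G, y ≠ 1 ∧ y ∈ (Cfsg.pCoreOf p L) ⊓ centralizer ((Q : Subgroup G) : Set G) ∧
        centralizer (Cfsg.pCore p ↥(centralizer ({y} : Set G)) : Set ↥(centralizer ({y} : Set G))) ≤
          Cfsg.pCore p ↥(centralizer ({y} : Set G))) :
    ⁅Q, centralizer ((Cfsg.pCoreOf p L : Subgroup G) : Set G)⁆ ≤ Q ⊓ Cfsg.pCoreOf p L ∧
      IsPGroup p ↥(centralizer ((Cfsg.pCoreOf p L : Subgroup G) : Set G)) ∧
      centralizer (Cfsg.pCore p L : Set L) ≤ Cfsg.pCore p L := by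
  rcases hyp with h | ⟨y, -, hy, hchar⟩
  · haveI : (Cfsg.pCore p G).Normal := Cfsg.Lib.Components.pCore_normal' p
    exact main Q hQp hwc hCQ L hQL ⊤ (Cfsg.pCore p G) (Cfsg.Lib.Components.isPGroup_pCore p) le_top
      le_normalizer_of_normal (fun g _ hg => h hg) le_top le_top
  · set H0 := centralizer ({y} : Set G)
    refine main Q hQp hwc hCQ L hQL H0 (Cfsg.pCoreOf p H0) ((Cfsg.Lib.Components.isPGroup_pCore p).map _)
      (map_subtype_le _) (le_normalizer.trans (Cfsg.Lib.Large.normalizer_pCoreOf_le H0)) ?_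
      (fun q hq => mem_centralizer_singleton_iff.2 ((mem_inf.1 hy).2 q hq))
      (fun c hc => mem_centralizer_singleton_iff.2 (hc y (mem_inf.1 hy).1).symm)
    intro g hg hgc
    exact ⟨⟨g, hg⟩, hchar (fun w hw => Subtype.ext (hgc (w : G) ⟨w, hw, rfl⟩)), rfl⟩

end Cfsg.Lib.Misc.WCCore
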