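import Cfsg.Agent.Components.Misc.WreathTransfer
import Cfsg.Prelude.Def_LocalStructure

/-!
Transfer into the normalizer of a weakly closed subgroup.
-/

set_option linter.style.haveILetI false
set_option linter.unusedSectionVars false

namespace Cfsg.Lib.Misc.WreathTransfer

open Subgroup MulAction
open scoped commutatorElement

universe u

theorem prime_index_coatom {X : Type u} [Group X] [Finite X] {K : Subgroup X} {p : ℕ} (hp : p.Prime)
    (hK : K.index = p) : IsCoatom K := by
  refine ⟨fun e => hp.ne_one (by rw [← hK, e, index_top]), fun L hL => ?_⟩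
  have h := relIndex_mul_index hL.le
  rw [hK] at h
  rcases (Nat.dvd_prime hp).mp (Dvd.intro_left _ h : L.index ∣ p) with h1 | h1
  · exact index_eq_one.mp h1
  · rw [h1] at h
    have : K.relIndex L = 1 := Nat.eq_of_mul_eq_mul_right hp.pos (h.trans (one_mul p).symm)
    exact absurd (relIndex_eq_one.mp this) (not_le_of_gt hL)

variable {G : Type u} [Group G] [Finite G] {p : ℕ} [hp : Fact p.Prime]

/-- the step map `y ↦ [y, z]` -/
def step (z y : G) : G := y⁻¹ * z⁻¹ * y * z

theorem witness {X : Type u} [Group X] [Finite X] (hX : IsPGroup p X) {T W : Subgroup X}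
    (hWn : W.Normal) (hT : T ≠ ⊤) (hTW : T ⊔ W = ⊤) [Fintype (X ⧸ T)]
    (θ : T →* Multiplicative (ZMod p)) (s : X)
    (hmin : ∀ (x : X) (k : ℕ), 1 < k → k ∣ orderOf s → ext' θ (x⁻¹ * s ^ k * x) = 1)
    (hprod : ∏ q : X ⧸ T, ext' θ (q.out⁻¹ * s * q.out) ≠ 1) :
    ∃ z ∈ W, ∃ (W0 : Subgroup W) (χ : W0 →* Multiplicative (ZMod p)) (y : W0),
      IsCoatom W0 ∧ χ y ≠ 1 ∧ ((y : W) : X) = (step z)^[p - 1] s := by
  classical
  obtain ⟨M, hM, hTM⟩ := (eq_top_or_exists_le_coatom T).resolve_left hT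
  obtain ⟨hMn, hMi⟩ := Cfsg.Lib.PGroups.coatom_normal_index hX hM
  haveI := hMn
  haveI : Fintype (X ⧸ M) := Fintype.ofFinite _
  set T' := T.subgroupOf M with hT'
  haveI : Fintype (M ⧸ T') := Fintype.ofFinite _
  set θ' : T' →* Multiplicative (ZMod p) := θ.comp (subgroupOfEquivOfLe hTM).toMonoidHom with hθ'
  set φ := MonoidHom.transfer θ' with hφ
  have hext : ∀ y : M, ext' θ' y = ext' θ (y : X) := fun y => by
    by_cases h : (y : X) ∈ T
    · rw [ext'_of_mem θ h, ext'_of_mem θ' (show y ∈ T' from h)]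
      rfl
    · rw [ext'_of_not_mem θ h, ext'_of_not_mem θ' (show y ∉ T' from h)]
  have hsM : s ∈ M := by
    by_contra hs
    refine hprod (Finset.prod_eq_one fun q _ => ext'_of_not_mem θ fun h => hs ?_)
    have := hMn.conj_mem _ (hTM h) q.out
    simpa [mul_assoc] using this
  have hblock : ∀ g : X, φ (MulAut.conjNormal g⁻¹ ⟨s, hsM⟩) =
      ∏ m : M ⧸ T', ext' θ ((m.out : X)⁻¹ * (g⁻¹ * s * g) * (m.out : X)) := by
    intro g
    rw [hφ, transfer_eq_prod θ' _ ?_]
    · refine Finset.prod_congr rfl fun m _ => ?_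
      rw [hext]
      simp [mul_assoc]
    · intro m k hk hd
      have ho : orderOf (MulAut.conjNormal g⁻¹ (⟨s, hsM⟩ : M)) = orderOf s := by
        rw [← Subgroup.orderOf_coe, MulAut.conjNormal_apply, inv_inv]
        exact orderOf_injective (MulAut.conj g⁻¹).toMonoidHom (MulAut.conj g⁻¹).injective s |>.symm.trans
          (by simp) |>.symm
      rw [ho] at hd
      rw [hext]
      have := hmin (g * m) k hk hd
      rw [← this]
      congr 1
      simp only [Subgroup.coe_mul, Subgroup.coe_inv, SubmonoidClass.coe_pow, MulAut.conjNormal_apply,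
        inv_inv]
      rw [show g⁻¹ * s * g = g⁻¹ * s * g⁻¹⁻¹ by rw [inv_inv], conj_pow]
      group
  -- the element `z` outside `M`
  obtain ⟨z, hzW, hzM⟩ : ∃ z ∈ W, z ∉ M := SetLike.not_le_iff_exists.mp fun hle =>
    hM.1 (top_le_iff.mp (hTW.ge.trans (sup_le hTM hle)))
  have hinv : ∀ (g : X), g ∈ M → ∀ w : M, φ (MulAut.conjNormal g w) = φ w := fun g hg w => by
    have : MulAut.conjNormal g w = (⟨g, hg⟩ : M) * w * (⟨g, hg⟩ : M)⁻¹ := Subtype.ext (by simp)
    rw [this, map_mul, map_mul, map_inv, mul_comm, ← mul_assoc, inv_mul_cancel, one_mul]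
  let c : ℕ → (M →* Multiplicative (ZMod p)) := fun n =>
    φ.comp (MulAut.conjNormal (z ^ n)⁻¹).toMonoidHom
  have hxp : z ^ p ∈ M := hMi ▸ M.pow_index_mem z
  have hc : ∀ n w, c (n % p) w = c n w := by
    intro n w
    have hn : (z ^ (p * (n / p)))⁻¹ ∈ M := by rw [pow_mul]; exact inv_mem (pow_mem hxp _)
    show φ (MulAut.conjNormal (z ^ (n % p))⁻¹ w) = φ (MulAut.conjNormal (z ^ n)⁻¹ w)
    conv_rhs => rw [← Nat.mod_add_div n p, pow_add, mul_inv_rev, map_mul, MulAut.mul_apply]
    rw [hinv _ hn]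
  have hbij : Function.Bijective (fun i : ZMod p => (QuotientGroup.mk (z ^ i.val) : X ⧸ M)) := by
    have hcard : Fintype.card (X ⧸ M) = p := by
      rw [← Nat.card_eq_fintype_card, ← Subgroup.index_eq_card, hMi]
    refine (Fintype.bijective_iff_injective_and_card _).mpr ⟨fun i j hij => ?_, by rw [hcard, ZMod.card]⟩
    have hxo : orderOf (QuotientGroup.mk z : X ⧸ M) = p :=
      orderOf_eq_prime (by rw [← QuotientGroup.mk_pow]; exact (QuotientGroup.eq_one_iff _).mpr hxp)
        fun h => hzM ((QuotientGroup.eq_one_iff _).mp h)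
    have hij' : (QuotientGroup.mk z : X ⧸ M) ^ i.val = (QuotientGroup.mk z : X ⧸ M) ^ j.val := by
      simpa [QuotientGroup.mk_pow] using hij
    rw [pow_inj_mod, hxo, Nat.mod_eq_of_lt (ZMod.val_lt i), Nat.mod_eq_of_lt (ZMod.val_lt j)] at hij'
    exact ZMod.val_injective p hij'
  have hsum : ∏ q : X ⧸ T, ext' θ (q.out⁻¹ * s * q.out) =
      ∏ i : ZMod p, c i.val ⟨s, hsM⟩ := by
    set e := quotientEquivProdOfLE' hTM (fun a : X ⧸ M => a.out) (fun a => QuotientGroup.out_eq' a) with he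
    rw [← e.symm.prod_comp, Fintype.prod_prod_type]
    have hterm : ∀ a : X ⧸ M, (∏ m : M ⧸ T', ext' θ ((e.symm (a, m)).out⁻¹ * s * (e.symm (a, m)).out)) =
        φ (MulAut.conjNormal a.out⁻¹ ⟨s, hsM⟩) := by
      intro a
      rw [hblock]
      refine Finset.prod_congr rfl fun m _ => ?_
      have h1 : e.symm (a, m) = QuotientGroup.mk (a.out * (m.out : X)) := by
        conv_lhs => rw [← QuotientGroup.out_eq' m]
        rfl
      rw [h1, ext'_rep]
      congr 1
      group
    rw [Finset.prod_congr rfl fun a _ => hterm a]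
    refine (Fintype.prod_bijective _ hbij _ _ fun i => ?_).symm
    obtain ⟨t, ht⟩ := QuotientGroup.mk_out_eq_mul M (z ^ i.val)
    show φ (MulAut.conjNormal (z ^ i.val)⁻¹ ⟨s, hsM⟩) = _
    rw [ht, mul_inv_rev, map_mul, MulAut.mul_apply, hinv _ (inv_mem t.2)]
  -- iterated commutators in `M`
  let stM : M → M := fun y => y⁻¹ * MulAut.conjNormal z⁻¹ y
  have hsemi : Function.Semiconj (fun y : M => (y : X)) stM (step z) := fun y => by
    simp [stM, step, mul_assoc]
  set y := stM^[p - 1] ⟨s, hsM⟩ with hy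
  have hyX : (y : X) = (step z)^[p - 1] s := hsemi.iterate_right (p - 1) ⟨s, hsM⟩
  let V : ℕ → ZMod p → ZMod p := fun k i => Multiplicative.toAdd (c i.val (stM^[k] ⟨s, hsM⟩))
  let σ : Module.End (ZMod p) (ZMod p → ZMod p) :=
    LinearMap.funLeft (ZMod p) (ZMod p) (fun i => i + 1)
  have hV : ∀ k, V k = ((σ - 1) ^ k) (V 0) := by
    intro k
    induction k with
    | zero => simp
    | succ k ih =>
      rw [pow_succ', Module.End.mul_apply, ← ih]
      funext i
      show Multiplicative.toAdd (c i.val (stM^[k + 1] ⟨s, hsM⟩)) = V k (i + 1) - V k i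
      rw [Function.iterate_succ_apply']
      set w := stM^[k] (⟨s, hsM⟩ : M) with hw
      have h1 : c i.val (MulAut.conjNormal z⁻¹ w) = c (i.val + 1) w := by
        show φ (MulAut.conjNormal (z ^ i.val)⁻¹ (MulAut.conjNormal z⁻¹ w)) =
          φ (MulAut.conjNormal (z ^ (i.val + 1))⁻¹ w)
        rw [pow_succ', mul_inv_rev, map_mul, MulAut.mul_apply]
      show Multiplicative.toAdd (c i.val (w⁻¹ * MulAut.conjNormal z⁻¹ w)) = _
      rw [map_mul, map_inv, h1, ← hc (i.val + 1), toAdd_mul, toAdd_inv, neg_add_eq_sub]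
      show _ = Multiplicative.toAdd (c (i + 1).val w) - Multiplicative.toAdd (c i.val w)
      rw [ZMod.val_add, ZMod.val_one]
  have hφy : φ y ≠ 1 := by
    intro h1
    apply hprod
    rw [hsum]
    apply Multiplicative.toAdd.injective
    rw [toAdd_prod, toAdd_one]
    have hσ : ∀ (j : ℕ) (w : ZMod p → ZMod p) (i : ZMod p), (σ ^ j) w i = w (i + (j : ZMod p)) := by
      intro j
      induction j with
      | zero => intro w i; simp
      | succ j ih =>
        intro w i
        rw [pow_succ, Module.End.mul_apply, ih]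
        show w (i + (j : ZMod p) + 1) = _
        rw [Nat.cast_succ, add_assoc]
    have hpoly : (Polynomial.X - 1 : Polynomial (ZMod p)) ^ (p - 1) =
        ∑ j ∈ Finset.range p, Polynomial.X ^ j := by
      have hne : (Polynomial.X - 1 : Polynomial (ZMod p)) ≠ 0 := by
        rw [← Polynomial.C_1]; exact Polynomial.X_sub_C_ne_zero 1
      apply mul_left_cancel₀ hne
      rw [← pow_succ', Nat.sub_add_cancel hp.out.one_le, mul_comm (Polynomial.X - 1) _, geom_sum_mul,
        sub_pow_char, one_pow]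
    have hTsum : (σ - 1) ^ (p - 1) = ∑ j ∈ Finset.range p, σ ^ j := by
      have := congrArg (Polynomial.aeval σ) hpoly
      simpa [map_sum, map_pow, map_sub] using this
    have h2 : V (p - 1) 0 = ∑ i, V 0 i := by
      rw [hV, hTsum, LinearMap.sum_apply, Finset.sum_apply]
      simp only [hσ, zero_add]
      refine Finset.sum_bij' (fun j _ => (j : ZMod p)) (fun a _ => a.val)
        (fun _ _ => Finset.mem_univ _) (fun a _ => Finset.mem_range.mpr (ZMod.val_lt _))
        (fun j hj => by rw [ZMod.val_natCast, Nat.mod_eq_of_lt (Finset.mem_range.mp hj)])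
        (fun a _ => ZMod.natCast_zmod_val a) (fun j _ => rfl)
    refine h2.symm.trans ?_
    show Multiplicative.toAdd (φ (MulAut.conjNormal (z ^ (0 : ZMod p).val)⁻¹ y)) = 0
    rw [ZMod.val_zero, pow_zero, inv_one, map_one, MulAut.one_apply, h1, toAdd_one]
  have hyW : ∀ k, 1 ≤ k → (step z)^[k] s ∈ W := by
    intro k hk
    obtain ⟨j, rfl⟩ : ∃ j, k = j + 1 := ⟨k - 1, by omega⟩
    rw [Function.iterate_succ_apply']
    exact mul_mem (by simpa using hWn.conj_mem _ (inv_mem hzW) ((step z)^[j] s)⁻¹) hzW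
  have hyW' : (y : X) ∈ W := hyX ▸ hyW (p - 1) (by have := hp.out.two_le; omega)
  let W0 : Subgroup W := M.subgroupOf W
  let ι : W0 →* M :=
    MonoidHom.codRestrict (W.subtype.comp W0.subtype) M fun w => w.2
  refine ⟨z, hzW, W0, φ.comp ι, ⟨⟨(y : X), hyW'⟩, y.2⟩, prime_index_coatom hp.out ?_, ?_, hyX⟩
  · show M.relIndex W = p
    have hd : M.relIndex W ∣ p := hMi ▸ relIndex_dvd_index_of_normal M W
    exact ((Nat.dvd_prime hp.out).mp hd).resolve_left fun h => hzM (relIndex_eq_one.mp h hzW)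
  · exact hφy

theorem mem_frattini_kernel {W0 : Type u} [Group W0] [Finite W0] (χ : W0 →* Multiplicative (ZMod p))
    {y : W0} (hy : χ y ≠ 1) : y ∉ frattini W0 := by
  intro hmem
  have hi : χ.ker.index = p := by
    rw [index_ker]
    have hd : Nat.card χ.range ∣ p := by
      have := χ.range.card_subgroup_dvd_card
      rwa [Nat.card_congr Multiplicative.toAdd, Nat.card_zmod] at this
    refine ((Nat.dvd_prime hp.out).mp hd).resolve_left fun h => hy ?_
    have hb : χ.range = ⊥ := Subgroup.card_eq_one.mp h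
    exact (mem_bot.mp (hb ▸ ⟨y, rfl⟩ : χ y ∈ (⊥ : Subgroup _)))
  exact hy (frattini_le_coatom (prime_index_coatom hp.out hi) hmem)

theorem weakly_closed_transfer (S : Sylow p G) (W : Subgroup G)
    (hW : Cfsg.IsWeaklyClosed W (S : Subgroup G))
    (h : (S : Subgroup G) ⊓ commutator G ≠
      (S : Subgroup G) ⊓ ⁅normalizer (W : Set G), normalizer (W : Set G)⁆) :
    ∃ x ∈ (S : Subgroup G), ∃ z ∈ W, ∃ W₀ : Subgroup ↥W, IsCoatom W₀ ∧
      (fun y : G => y⁻¹ * z⁻¹ * y * z)^[p - 1] x ∈ W₀.map W.subtype ∧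
      (fun y : G => y⁻¹ * z⁻¹ * y * z)^[p - 1] x ∉ ((frattini ↥W₀).map W₀.subtype).map W.subtype := by
  classical
  set S0 : Subgroup G := (S : Subgroup G) with hS0
  set N := normalizer (W : Set G) with hN
  have hSN : S0 ≤ N := fun t ht => by
    have := hW.2 t (by
      rintro _ ⟨w, hw, rfl⟩
      exact mul_mem (mul_mem ht (hW.1 hw)) (inv_mem ht))
    rw [hN, mem_normalizer_iff]
    intro w
    constructor
    · intro hw
      rw [← this]
      exact ⟨w, hw, rfl⟩
    · intro hw
      rw [← this] at hw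
      obtain ⟨w', hw', e⟩ := hw
      rwa [show w' = w from (MulAut.conj t).injective e] at hw'
  haveI : Fintype (G ⧸ N) := Fintype.ofFinite _
  haveI : Finite (Abelianization N) := Finite.of_surjective _ (QuotientGroup.mk_surjective)
  let Θ : N →* Abelianization N := Abelianization.of
  set τ := MonoidHom.transfer Θ with hτ
  set SN : Subgroup N := S0.subgroupOf N with hSNd
  have hSNi : ¬ p ∣ SN.index := by
    have := (S.subtype hSN).not_dvd_index
    rwa [Sylow.coe_subtype] at this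
  set V := SN.map Θ with hV
  have hVp : IsPGroup p V := (S.2.comap_subtype).map _
  have hΘ : Function.Surjective Θ := QuotientGroup.mk_surjective
  have hVi : ¬ p ∣ V.index := fun hd => hSNi (hd.trans (SN.index_map_dvd hΘ))
  set U := S0.map τ with hU
  have hUp : IsPGroup p U := S.2.map _
  have hlt : Nat.card U < Nat.card V := by
    by_contra hge
    apply h
    have e1 : ((Θ.comp (inclusion hSN))).ker = (⁅N, N⁆).subgroupOf S0 := by
      ext w
      rw [MonoidHom.mem_ker, mem_subgroupOf, ← map_subtype_commutator]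
      constructor
      · intro hw
        exact ⟨⟨w, hSN w.2⟩, (QuotientGroup.eq_one_iff _).mp hw, rfl⟩
      · rintro ⟨v, hv, he⟩
        have : inclusion hSN w = v := Subtype.ext he.symm
        show Θ (inclusion hSN w) = 1
        rw [this]
        exact (QuotientGroup.eq_one_iff _).mpr hv
    have e2 : V = (Θ.comp (inclusion hSN)).range := by
      rw [MonoidHom.range_comp, Subgroup.inclusion_range]
    have h1 : (commutator G).subgroupOf S0 ≤ (τ.comp S0.subtype).ker := fun w hw =>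
      Abelianization.commutator_subset_ker τ hw
    have h2 : (⁅N, N⁆).subgroupOf S0 ≤ (commutator G).subgroupOf S0 := fun w hw =>
      (commutator_mono le_top le_top : ⁅N, N⁆ ≤ ⁅(⊤ : Subgroup G), ⊤⁆) hw
    have h3 : ((commutator G).subgroupOf S0).index ≥ (⁅N, N⁆.subgroupOf S0).index := by
      calc (⁅N, N⁆.subgroupOf S0).index = Nat.card V := by rw [← e1, index_ker, ← e2]
        _ ≤ Nat.card U := not_lt.mp hge
        _ = (τ.comp S0.subtype).ker.index := by rw [index_ker, MonoidHom.range_comp, range_subtype]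
        _ ≤ _ := Nat.le_of_dvd (Nat.pos_of_ne_zero index_ne_zero_of_finite) (index_dvd_of_le h1)
    have h4 : (⁅N, N⁆).subgroupOf S0 = (commutator G).subgroupOf S0 := by
      by_contra hne
      exact absurd (index_strictAnti (lt_of_le_of_ne h2 hne)) (not_lt.mpr h3)
    have := congrArg (Subgroup.map S0.subtype) h4
    rw [subgroupOf_map_subtype, subgroupOf_map_subtype, inf_comm, inf_comm (commutator G)] at this
    exact this.symm
  obtain ⟨ψ, hψU, a, haV, hψa⟩ := exists_separating hVp hVi hUp hlt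
  set θ := ψ.comp Θ with hθ
  obtain ⟨a', ha', rfl⟩ := haV
  haveI : Nonempty {y : G // y ∈ S0 ∧ ext' θ y ≠ 1} :=
    ⟨⟨(a' : G), ha', by rw [ext'_of_mem θ a'.2]; exact hψa⟩⟩
  obtain ⟨⟨s, hs1, hs2⟩, hsmin⟩ := Finite.exists_min
    (fun y : {y : G // y ∈ S0 ∧ ext' θ y ≠ 1} => orderOf (y : G))
  have hsmall : ∀ (g : G) (k : ℕ), 1 < k → k ∣ orderOf s → ext' θ (g⁻¹ * s ^ k * g) = 1 := by
    intro g k hk hd
    by_contra hne
    set u := g⁻¹ * s ^ k * g with hu
    have hmem : u ∈ N := by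
      by_contra hm; exact hne (ext'_of_not_mem θ hm)
    obtain ⟨i, hi⟩ := S.2 ⟨s ^ k, pow_mem hs1 k⟩
    have hi' : u ^ p ^ i = 1 := by
      have h' : (s ^ k) ^ p ^ i = 1 := congrArg Subtype.val hi
      rw [hu, show g⁻¹ * s ^ k * g = g⁻¹ * s ^ k * g⁻¹⁻¹ by rw [inv_inv], conj_pow, h', mul_one,
        mul_inv_cancel]
    have hpz : IsPGroup p (zpowers (⟨u, hmem⟩ : N)) := by
      obtain ⟨j, -, hj⟩ := (Nat.dvd_prime_pow hp.out).mp (orderOf_dvd_of_pow_eq_one
        (show (⟨u, hmem⟩ : N) ^ p ^ i = 1 from Subtype.ext hi'))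
      exact IsPGroup.of_card (n := j) (by rw [Nat.card_zpowers, hj])
    obtain ⟨Q, hQ⟩ := hpz.exists_le_sylow
    obtain ⟨n, hn⟩ := MulAction.exists_smul_eq N Q (S.subtype hSN)
    have h1 : MulAut.conj n (⟨u, hmem⟩ : N) ∈ ((n • Q : Sylow p N) : Subgroup N) :=
      ⟨_, hQ (mem_zpowers _), rfl⟩
    rw [hn, Sylow.coe_subtype] at h1
    set u' : G := (n : G) * u * (n : G)⁻¹ with hu'
    have hu'S : u' ∈ S0 := h1
    have heu : ext' θ u' = ext' θ u := by
      rw [hu', ← ext'_conj θ ((n : G) * u * (n : G)⁻¹) n.2]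
      congr 1
      group
    have hle := hsmin ⟨u', hu'S, by rwa [heu]⟩
    have ho : orderOf u' = orderOf (s ^ k) := by
      rw [← orderOf_injective (MulAut.conj ((n : G) * g⁻¹)).toMonoidHom
        (MulAut.conj ((n : G) * g⁻¹)).injective (s ^ k)]
      simp [hu', hu, mul_assoc]
    rw [show ((⟨u', hu'S, by rwa [heu]⟩ : {y : G // y ∈ S0 ∧ ext' θ y ≠ 1}) : G) = u' from rfl, ho,
      orderOf_pow' _ (by omega), Nat.gcd_eq_right hd] at hle
    exact absurd hle (not_le.mpr (Nat.div_lt_self (orderOf_pos s) hk))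
  let F : G ⧸ N → Multiplicative (ZMod p) := fun q => ext' θ (q.out⁻¹ * s * q.out)
  have hF : ∏ q, F q = 1 := by
    show ∏ q : G ⧸ N, ext' θ (q.out⁻¹ * s * q.out) = 1
    rw [← transfer_eq_prod θ s hsmall]
    have hcomp : MonoidHom.transfer θ s = ψ (τ s) := by
      simp [hτ, hθ, MonoidHom.transfer_def _ (default : N.LeftTransversal),
        Subgroup.leftTransversals.diff, map_prod]
    rw [hcomp]
    exact hψU _ (mem_map_of_mem _ hs1)
  let o : G ⧸ N → Quotient (orbitRel S0 (G ⧸ N)) := Quotient.mk''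
  haveI : Fintype (Quotient (orbitRel S0 (G ⧸ N))) := Fintype.ofFinite _
  set q1 : G ⧸ N := QuotientGroup.mk 1 with hq1
  have hfix1 : ∀ w : S0, w • q1 = q1 := fun w => by
    show (QuotientGroup.mk ((w : G) * 1) : G ⧸ N) = QuotientGroup.mk 1
    rw [QuotientGroup.eq, mul_one, mul_one]
    exact inv_mem (hSN w.2)
  have hfib1 : ∏ q with o q = o q1, F q = ext' θ s := by
    rw [Finset.prod_eq_single q1]
    · show ext' θ ((QuotientGroup.mk 1 : G ⧸ N).out⁻¹ * s * (QuotientGroup.mk 1 : G ⧸ N).out) = _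
      rw [ext'_rep, inv_one, one_mul, mul_one]
    · intro q hq hne
      have : q ∈ orbit S0 q1 := Quotient.eq''.mp (Finset.mem_filter.mp hq).2
      obtain ⟨w, hw⟩ := this
      exact absurd (hw.symm.trans (hfix1 w)) hne
    · simp
  obtain ⟨ω, hω1, hω⟩ : ∃ ω, ω ≠ o q1 ∧ ∏ q with o q = ω, F q ≠ 1 := by
    by_contra hno
    rw [← Finset.prod_fiberwise Finset.univ o F, Finset.prod_eq_single (o q1)
      (fun ω _ hne => not_not.mp fun hh => hno ⟨ω, hne, hh⟩) (fun hh => absurd (Finset.mem_univ _) hh),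
      hfib1] at hF
    exact hs2 hF
  obtain ⟨q, rfl⟩ := Quotient.mk''_surjective ω
  set g := q.out with hg
  set T := stabilizer S0 q with hT
  have hmemT : ∀ w : S0, w ∈ T ↔ g⁻¹ * w * g ∈ N := fun w => by
    rw [hT, mem_stabilizer_iff]
    conv_lhs => rw [← QuotientGroup.out_eq' q]
    show (QuotientGroup.mk ((w : G) * g) : G ⧸ N) = QuotientGroup.mk g ↔ _
    rw [QuotientGroup.eq, mul_inv_rev]
    constructor
    · intro hh
      have := inv_mem hh
      simpa [mul_assoc] using this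
    · intro hh
      have := inv_mem hh
      simpa [mul_assoc] using this
  set W' := W.subgroupOf S0 with hW'
  haveI hW'n : W'.Normal := ⟨fun w hw t => by
    show (t : G) * w * (t : G)⁻¹ ∈ W
    exact (mem_normalizer_iff.mp (hSN t.2) w).mp hw⟩
  have hWT : ¬ W' ≤ T := by
    intro hle
    apply hω1
    have hsub : W.map (MulAut.conj g⁻¹).toMonoidHom ≤ N := by
      rintro _ ⟨w, hw, rfl⟩
      have := (hmemT ⟨w, hW.1 hw⟩).mp (hle hw)
      simpa using this
    obtain ⟨Q, hQ⟩ := (((S.2.to_le hW.1).map (MulAut.conj g⁻¹).toMonoidHom).of_equiv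
      (subgroupOfEquivOfLe hsub).symm : IsPGroup p _).exists_le_sylow
    obtain ⟨n, hn⟩ := MulAction.exists_smul_eq N Q (S.subtype hSN)
    have hle' : W.map (MulAut.conj ((n : G) * g⁻¹)).toMonoidHom ≤ S0 := by
      rintro _ ⟨w, hw, rfl⟩
      have h1 : MulAut.conj n (⟨_, hsub (mem_map_of_mem _ hw)⟩ : N) ∈
          ((n • Q : Sylow p N) : Subgroup N) := ⟨_, hQ (mem_map_of_mem _ hw), rfl⟩
      rw [hn, Sylow.coe_subtype, mem_subgroupOf] at h1
      simpa [mul_assoc] using h1
    have heq := hW.2 _ hle'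
    have hgN' : (n : G) * g⁻¹ ∈ N := by
      refine mem_normalizer_iff.mpr fun w => ?_
      constructor
      · intro hw
        rw [← heq]
        exact ⟨w, hw, rfl⟩
      · intro hw
        rw [← heq] at hw
        obtain ⟨w', hw', e⟩ := hw
        rwa [show w' = w from (MulAut.conj ((n : G) * g⁻¹)).injective e] at hw'
    have hgN : g⁻¹ ∈ N := by
      have := mul_mem (inv_mem n.2) hgN'
      rwa [inv_mul_cancel_left] at this
    show o q = o q1
    congr 1
    rw [← QuotientGroup.out_eq' q, hq1, QuotientGroup.eq, mul_one]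
    exact hgN
  let c : T →* N := MonoidHom.codRestrict
    ((MulAut.conj g⁻¹).toMonoidHom.comp (S0.subtype.comp T.subtype)) N fun w => by
      simpa using (hmemT w).mp w.2
  set θ1 := θ.comp c with hθ1
  have hext : ∀ w : S0, ext' θ1 w = ext' θ (g⁻¹ * w * g) := fun w => by
    by_cases hw : w ∈ T
    · rw [ext'_of_mem θ1 hw, ext'_of_mem θ ((hmemT w).mp hw), hθ1, MonoidHom.comp_apply]
      congr 1
      exact Subtype.ext (by simp [c])
    · rw [ext'_of_not_mem θ1 hw, ext'_of_not_mem θ fun h' => hw ((hmemT w).mpr h')]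
  haveI : Fintype (S0 ⧸ T) := Fintype.ofFinite _
  have hprodS : ∏ w : S0 ⧸ T, ext' θ1 (w.out⁻¹ * ⟨s, hs1⟩ * w.out) ≠ 1 := by
    intro h1
    apply hω
    let e : (S0 ⧸ T) ≃ {r : G ⧸ N // o r = o q} :=
      (orbitEquivQuotientStabilizer S0 q).symm.trans
        (Equiv.subtypeEquivRight fun r => ⟨fun hr => Quotient.eq''.mpr hr, fun hr => Quotient.eq''.mp hr⟩)
    rw [Finset.prod_subtype (p := fun r => o r = o q) _ (by simp [o]) F, ← e.prod_comp, ← h1]
    refine Finset.prod_congr rfl fun w _ => ?_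
    have he : ((e w) : G ⧸ N) = QuotientGroup.mk ((w.out : G) * g) := by
      conv_lhs => rw [← QuotientGroup.out_eq' w]
      show (((orbitEquivQuotientStabilizer S0 q).symm (w.out : S0 ⧸ T)) : G ⧸ N) = _
      rw [orbitEquivQuotientStabilizer_symm_apply]
      conv_lhs => rw [← QuotientGroup.out_eq' q]
      rfl
    show ext' θ ((e w : G ⧸ N).out⁻¹ * s * (e w : G ⧸ N).out) = _
    rw [he, ext'_rep, hext]
    congr 1
    simp [mul_assoc]
  -- pass to `L = T W`
  set L := T ⊔ W' with hL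
  have hTL : T ≤ L := le_sup_left
  haveI : Fintype (S0 ⧸ L) := Fintype.ofFinite _
  set T1 := T.subgroupOf L with hT1
  haveI : Fintype (L ⧸ T1) := Fintype.ofFinite _
  set θ2 : T1 →* Multiplicative (ZMod p) := θ1.comp (subgroupOfEquivOfLe hTL).toMonoidHom with hθ2
  have hext2 : ∀ y : L, ext' θ2 y = ext' θ1 (y : S0) := fun y => by
    by_cases h : (y : S0) ∈ T
    · rw [ext'_of_mem θ1 h, ext'_of_mem θ2 (show y ∈ T1 from h)]
      rfl
    · rw [ext'_of_not_mem θ1 h, ext'_of_not_mem θ2 (show y ∉ T1 from h)]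
  set e2 := quotientEquivProdOfLE' hTL (fun a : S0 ⧸ L => a.out) (fun a => QuotientGroup.out_eq' a)
  have hne : ∃ a : S0 ⧸ L, ∏ m : L ⧸ T1,
      ext' θ1 ((m.out : S0)⁻¹ * (a.out⁻¹ * ⟨s, hs1⟩ * a.out) * (m.out : S0)) ≠ 1 := by
    by_contra hno
    apply hprodS
    rw [← e2.symm.prod_comp, Fintype.prod_prod_type]
    refine Finset.prod_eq_one fun a _ => ?_
    refine Eq.trans (Finset.prod_congr rfl fun m _ => ?_) (not_not.mp fun hh => hno ⟨a, hh⟩)
    have h1 : e2.symm (a, m) = QuotientGroup.mk (a.out * (m.out : S0)) := by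
      conv_lhs => rw [← QuotientGroup.out_eq' m]
      rfl
    rw [h1, ext'_rep]
    congr 1
    group
  obtain ⟨a, ha⟩ := hne
  set s' := a.out⁻¹ * (⟨s, hs1⟩ : S0) * a.out with hs'
  have hs'L : s' ∈ L := by
    by_contra hn
    refine ha (Finset.prod_eq_one fun m _ => ext'_of_not_mem θ1 fun hm => hn ?_)
    have := mul_mem (mul_mem m.out.2 (hTL hm)) (inv_mem m.out.2)
    simpa [mul_assoc] using this
  have hT1ne : T1 ≠ ⊤ := fun e => hWT ((le_sup_right : W' ≤ L).trans (subgroupOf_eq_top.mp e))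
  have hmin' : ∀ (x : L) (k : ℕ), 1 < k → k ∣ orderOf (⟨s', hs'L⟩ : L) →
      ext' θ2 (x⁻¹ * ⟨s', hs'L⟩ ^ k * x) = 1 := by
    intro x k hk hd
    have ho : orderOf (⟨s', hs'L⟩ : L) = orderOf s := by
      rw [Subgroup.orderOf_mk, hs', ← Subgroup.orderOf_coe]
      exact ((orderOf_injective (MulAut.conj ((a.out : S0) : G)⁻¹).toMonoidHom
        (MulAut.conj _).injective s).symm.trans (by simp)).symm
    rw [ho] at hd
    rw [hext2, hext, ← hsmall ((a.out : G) * ((x : S0) : G) * g) k hk hd]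
    congr 1
    simp only [Subgroup.coe_mul, Subgroup.coe_inv, SubmonoidClass.coe_pow, hs']
    rw [show (((a.out : S0) : G))⁻¹ * s * (a.out : G) =
      ((a.out : S0) : G)⁻¹ * s * (((a.out : S0) : G)⁻¹)⁻¹ by rw [inv_inv], conj_pow]
    group
  have hprod' : ∏ m : L ⧸ T1, ext' θ2 (m.out⁻¹ * ⟨s', hs'L⟩ * m.out) ≠ 1 := by
    intro h1
    apply ha
    rw [← h1]
    exact Finset.prod_congr rfl fun m _ => by rw [hext2]; rfl
  have hTW : T1 ⊔ W'.subgroupOf L = ⊤ := by
    rw [hT1, ← subgroupOf_sup hTL le_sup_right, subgroupOf_self]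
  obtain ⟨z, hz, W0, χ, y, hW0, hχ, hy⟩ := witness ((S.2.to_subgroup L)) (W := W'.subgroupOf L)
    inferInstance hT1ne hTW θ2 ⟨s', hs'L⟩ hmin' hprod'
  let f : L →* G := S0.subtype.comp L.subtype
  have hzW : f z ∈ W := hz
  let eW : W'.subgroupOf L ≃* W := (subgroupOfEquivOfLe le_sup_right).trans (subgroupOfEquivOfLe hW.1)
  refine ⟨(s' : G), s'.2, f z, hzW, W0.map eW.toMonoidHom, ?_, ?_, ?_⟩
  · exact prime_index_coatom hp.out (by
      rw [Subgroup.index_map_of_bijective (f := eW.toMonoidHom) eW.bijective]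
      exact (Cfsg.Lib.PGroups.coatom_normal_index ((S.2.to_subgroup L).to_subgroup _) hW0).2)
  · have hiter : f ((step z)^[p - 1] ⟨s', hs'L⟩) = (step (f z))^[p - 1] (s' : G) :=
      Function.Semiconj.iterate_right (f := f) (ga := step z) (gb := step (f z))
        (fun y => by simp [step]) (p - 1) ⟨s', hs'L⟩
    rw [← hy] at hiter
    exact ⟨eW (y : W'.subgroupOf L), ⟨(y : W'.subgroupOf L), y.2, rfl⟩, hiter⟩
  · have hiter : f ((step z)^[p - 1] ⟨s', hs'L⟩) = (step (f z))^[p - 1] (s' : G) :=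
      Function.Semiconj.iterate_right (f := f) (ga := step z) (gb := step (f z))
        (fun y => by simp [step]) (p - 1) ⟨s', hs'L⟩
    rw [← hy] at hiter
    rintro ⟨w, ⟨v, hv, rfl⟩, hwe⟩
    let E : W0 ≃* W0.map eW.toMonoidHom := W0.equivMapOfInjective eW.toMonoidHom eW.injective
    have hvy : v = E y := Subtype.ext (Subtype.ext (hwe.trans hiter.symm))
    refine mem_frattini_kernel (χ.comp E.symm.toMonoidHom) (y := E y) ?_ (hvy ▸ hv)
    show χ (E.symm (E y)) ≠ 1
    rw [E.symm_apply_apply]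
    exact hχ

end Cfsg.Lib.Misc.WreathTransfer
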