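import Cfsg.Prelude.Def_Transfer
import Mathlib

/-! A `p`-group with an elementary abelian subgroup of index `p` and a nontrivial norm maps onto the
Sylow subgroup of the symmetric group of degree `p²`. -/

set_option linter.style.haveILetI false
set_option linter.unusedSectionVars false

namespace Cfsg.Lib.Misc.WreathImage

variable {p : ℕ} [hp : Fact p.Prime]

theorem sub_one_pow_pred {R : Type*} [Ring R] [Algebra (ZMod p) R] (s : R) :
    (s - 1) ^ (p - 1) = ∑ i ∈ Finset.range p, s ^ i := by
  open Polynomial in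
  have h : ((X : (ZMod p)[X]) - 1) ^ (p - 1) = ∑ i ∈ Finset.range p, X ^ i := by
    have hne : (X : (ZMod p)[X]) - 1 ≠ 0 := by rw [← C_1]; exact X_sub_C_ne_zero 1
    refine mul_right_cancel₀ hne ?_
    rw [← pow_succ, Nat.sub_add_cancel hp.out.one_le, geom_sum_mul, sub_pow_char, one_pow]
  have h2 := congrArg (Polynomial.aeval s) h
  simpa using h2

/-- The layers `Δ⁻ʲ W` of a unipotent map. -/
theorem card_layers {M : Type*} [AddCommGroup M] [Module (ZMod p) M] [Finite M]
    (s : Module.End (ZMod p) M) (hs : s ^ p = 1) (W : Submodule (ZMod p) M)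
    (hW : ∀ w ∈ W, s w ∈ W) (x : M) (hx : (∑ i ∈ Finset.range p, s ^ i) x ∉ W) :
    p ^ p * Nat.card W ≤ Nat.card M := by
  set d := s - 1
  have hd : d ^ p = 0 := by
    have h1 : d ^ (p - 1) * d = 0 := by
      rw [sub_one_pow_pred, geom_sum_mul, hs, sub_self]
    rwa [← pow_succ, Nat.sub_add_cancel hp.out.one_le] at h1
  have hdW : ∀ w ∈ W, d w ∈ W := fun w hw => by
    show s w - w ∈ W
    exact sub_mem (hW w hw) hw
  let D : ℕ → Submodule (ZMod p) M := fun j => W.comap (d ^ j)
  have hmono : ∀ j, D j ≤ D (j + 1) := fun j m hm => by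
    show (d ^ (j + 1)) m ∈ W
    rw [pow_succ']
    exact hdW _ hm
  have hlt : ∀ j < p, D j < D (j + 1) := by
    intro j hj
    refine lt_of_le_of_ne (hmono j) fun e => ?_
    have h1 : (d ^ (p - 1 - j)) x ∈ D (j + 1) := by
      show (d ^ (j + 1)) ((d ^ (p - 1 - j)) x) ∈ W
      rw [← Module.End.mul_apply, ← pow_add, show j + 1 + (p - 1 - j) = p by omega, hd]
      exact zero_mem _
    rw [← e] at h1
    refine hx ?_
    rw [← sub_one_pow_pred s]
    have h2 : (d ^ j) ((d ^ (p - 1 - j)) x) ∈ W := h1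
    rwa [← Module.End.mul_apply, ← pow_add, show j + (p - 1 - j) = p - 1 by omega] at h2
  have hcard : ∀ j ≤ p, p ^ j * Nat.card W ≤ Nat.card (D j) := by
    intro j
    induction j with
    | zero => intro; simp [D, Submodule.comap_id, Module.End.one_eq_id]
    | succ j ihj =>
      intro hj
      have h1 := ihj (by omega)
      have hltj := hlt j (by omega)
      have hlt' : (D j).toAddSubgroup < (D (j + 1)).toAddSubgroup := hltj
      have h3 : Nat.card (D j).toAddSubgroup * p ≤ Nat.card (D (j + 1)).toAddSubgroup := by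
        obtain ⟨t, ht⟩ := AddSubgroup.card_dvd_of_le hlt'.le
        have ht1 : t ≠ 1 := fun h => hlt'.ne (AddSubgroup.eq_of_le_of_card_ge hlt'.le (by rw [ht, h, mul_one]))
        obtain ⟨q, hq, hqt⟩ := Nat.exists_prime_and_dvd ht1
        have hM : ∀ m : M, p • m = 0 := fun m => by
          rw [← Nat.cast_smul_eq_nsmul (ZMod p), ZMod.natCast_self, zero_smul]
        haveI := Fact.mk hq
        obtain ⟨a, ha⟩ := exists_prime_addOrderOf_dvd_card' (G := (D (j + 1)).toAddSubgroup) q
          (ht ▸ hqt.mul_left _)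
        have hqp : q = p := by
          refine ((Nat.prime_dvd_prime_iff_eq hq hp.out).1 ?_)
          rw [← ha]
          exact addOrderOf_dvd_of_nsmul_eq_zero (Subtype.ext (hM a))
        have ht0 : t ≠ 0 := fun h => by
          rw [h, mul_zero] at ht
          exact (Nat.card_pos (α := (D (j + 1)).toAddSubgroup)).ne' ht
        rw [ht]
        exact Nat.mul_le_mul_left _ (hqp ▸ Nat.le_of_dvd (Nat.pos_of_ne_zero ht0) hqt)
      calc p ^ (j + 1) * Nat.card W = p ^ j * Nat.card W * p := by ring
        _ ≤ Nat.card (D j) * p := Nat.mul_le_mul_right _ h1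
        _ ≤ _ := h3
  refine (hcard p le_rfl).trans ?_
  exact Nat.card_le_card_of_injective Subtype.val Subtype.val_injective

theorem card_layers_addSubgroup {M : Type*} [AddCommGroup M] [Finite M] (hM : ∀ m : M, p • m = 0)
    (f : M →+ M) (hf : ∀ m, f^[p] m = m) (x : M) :
    ((∑ i ∈ Finset.range p, f^[i] x) ≠ 0 → ∃ l : M →+ ZMod p, Function.Surjective l ∧
      l (∑ i ∈ Finset.range p, f^[i] x) ≠ 0) ∧
    ∀ W : AddSubgroup M, (∀ w ∈ W, f w ∈ W) → (∑ i ∈ Finset.range p, f^[i] x) ∉ W →
      p ^ p * Nat.card W ≤ Nat.card M := by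
  letI : Module (ZMod p) M := AddCommGroup.zmodModule (n := p) (G := M) hM
  have key : ∀ (i : ℕ) (a : M),
      ((f.toZModLinearMap p : Module.End (ZMod p) M) ^ i) a = f^[i] a := by
    intro i a
    rw [Module.End.coe_pow]
    rfl
  refine ⟨fun hn => ?_, fun W hW hn => ?_⟩
  · obtain ⟨l, hl⟩ : ∃ l : Module.Dual (ZMod p) M, l (∑ i ∈ Finset.range p, f^[i] x) ≠ 0 := by
      by_contra h
      push Not at h
      exact hn ((Module.forall_dual_apply_eq_zero_iff (ZMod p) _).1 h)
    refine ⟨l.toAddMonoidHom, fun z =>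
      ⟨(z * (l (∑ i ∈ Finset.range p, f^[i] x))⁻¹) • (∑ i ∈ Finset.range p, f^[i] x), ?_⟩, hl⟩
    show l _ = z
    rw [map_smul, smul_eq_mul, inv_mul_cancel_right₀ hl]
  · refine card_layers (f.toZModLinearMap p : Module.End (ZMod p) M) ?_
      (AddSubgroup.toZModSubmodule p W) hW x ?_
    · exact LinearMap.ext fun a => (key p a).trans (hf a)
    · rw [LinearMap.sum_apply]
      simp only [key]
      exact hn

theorem exists_surjective {P : Type*} [Group P] [Finite P] (hP : IsPGroup p P) (A : Subgroup P) [A.Normal]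
    (hA : Cfsg.IsElementaryAbelian p A) (hidx : A.index = p) (x y : P) (hx : x ∈ A)
    (hprod : ((List.range p).map (fun i => (y ^ i)⁻¹ * x * y ^ i)).prod ≠ 1) :
    ∃ (Q : Sylow p (Equiv.Perm (Fin (p ^ 2))))
      (f : P →* ↥(Q : Subgroup (Equiv.Perm (Fin (p ^ 2))))), Function.Surjective f := by
  classical
  obtain ⟨hcomm, hexp⟩ := hA
  letI : CommGroup A := { mul_comm := fun a b => hcomm.is_comm.comm a b }
  have hM : ∀ a : Additive A, p • a = 0 := fun a => Additive.toMul.injective
    (Subtype.ext (hexp _ (Additive.toMul a).2))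
  let φ : P → (A →* A) := fun g =>
    { toFun := fun a => ⟨g⁻¹ * a * g, by simpa using (inferInstance : A.Normal).conj_mem a a.2 g⁻¹⟩
      map_one' := Subtype.ext (by simp)
      map_mul' := fun a b => Subtype.ext (by simp [mul_assoc]) }
  let f : Additive A →+ Additive A := MonoidHom.toAdditive (φ y)
  have hspow : ∀ (i : ℕ) (a : Additive A),
      ((Additive.toMul (f^[i] a) : A) : P) = (y ^ i)⁻¹ * ((Additive.toMul a : A) : P) * y ^ i := by
    intro i
    induction i with
    | zero => intro a; simp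
    | succ i ih =>
      intro a
      rw [Function.iterate_succ_apply', pow_succ]
      show y⁻¹ * ((Additive.toMul (f^[i] a) : A) : P) * y = _
      rw [ih a]
      group
  have hyp : y ^ p ∈ A := hidx ▸ Subgroup.pow_index_mem A y
  have hs : ∀ a, f^[p] a = a := fun a => Additive.toMul.injective (Subtype.ext (by
    have h1 : ((Additive.toMul a : A) : P) * y ^ p = y ^ p * ((Additive.toMul a : A) : P) :=
      congrArg Subtype.val (mul_comm (Additive.toMul a : A) ⟨y ^ p, hyp⟩)
    rw [hspow, mul_assoc, h1, inv_mul_cancel_left]))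
  -- the norm of `x`
  set n : Additive A := ∑ i ∈ Finset.range p, f^[i] (Additive.ofMul ⟨x, hx⟩) with hn
  have hnval : ∀ k : ℕ, ((Additive.toMul (∑ i ∈ Finset.range k, f^[i] (Additive.ofMul ⟨x, hx⟩)) : A) : P) =
      ((List.range k).map (fun i => (y ^ i)⁻¹ * x * y ^ i)).prod := by
    intro k
    induction k with
    | zero => simp
    | succ k ih =>
      rw [Finset.sum_range_succ, toMul_add, Subgroup.coe_mul, ih, hspow,
        List.range_succ, List.map_append, List.prod_append]
      simp
  have hn0 : n ≠ 0 := fun h => hprod (by rw [← hnval p, ← hn, h]; rfl)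
  obtain ⟨hdual, hlayers⟩ := card_layers_addSubgroup hM f hs (Additive.ofMul ⟨x, hx⟩)
  obtain ⟨l, hls, hl⟩ := hdual hn0
  let L : A →* Multiplicative (ZMod p) := AddMonoidHom.toMultiplicativeRight l
  have hLs : Function.Surjective L := fun z => by
    obtain ⟨m, hm⟩ := hls (Multiplicative.toAdd z)
    exact ⟨Additive.toMul m, Multiplicative.toAdd.injective hm⟩
  set K : Subgroup P := L.ker.map A.subtype
  have hKidx : K.index = p ^ 2 := by
    rw [Subgroup.index_map_subtype, Subgroup.index_ker, MonoidHom.range_eq_top.2 hLs,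
      Subgroup.card_top, Nat.card_congr Multiplicative.toAdd, Nat.card_zmod, hidx, sq]
  have hcard : Nat.card (P ⧸ K) = p ^ 2 := by rw [← Subgroup.index_eq_card, hKidx]
  let e : P ⧸ K ≃ Fin (p ^ 2) := Finite.equivFinOfCardEq hcard
  let f0 : P →* Equiv.Perm (Fin (p ^ 2)) :=
    e.permCongrHom.toMonoidHom.comp (MulAction.toPermHom P (P ⧸ K))
  have hker : f0.ker = K.normalCore := by
    rw [Subgroup.normalCore_eq_ker]
    ext g
    simp [f0, MonoidHom.mem_ker]
  set Kc := K.normalCore
  have hKcA : Kc ≤ A := (Subgroup.normalCore_le K).trans (Subgroup.map_subtype_le _)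
  -- the core as a submodule
  let W : AddSubgroup (Additive A) := Subgroup.toAddSubgroup (Kc.subgroupOf A)
  have hW : ∀ w ∈ W, f w ∈ W := fun w hw => by
    show ((φ y (Additive.toMul w) : A) : P) ∈ Kc
    simpa [φ] using (Subgroup.normalCore_normal K).conj_mem _ hw y⁻¹
  have hxW : n ∉ W := fun h => hl (by
    obtain ⟨a, ha, hae⟩ := Subgroup.normalCore_le K (show ((Additive.toMul n : A) : P) ∈ Kc from h)
    obtain rfl : a = Additive.toMul n := Subtype.ext hae
    exact congrArg Multiplicative.toAdd (MonoidHom.mem_ker.1 ha))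
  have hbound := hlayers W hW hxW
  have hWc : Nat.card W = Nat.card Kc :=
    (Nat.card_congr (Equiv.refl _ : W ≃ (Kc.subgroupOf A : Subgroup A))).trans
      (Nat.card_congr (Subgroup.subgroupOfEquivOfLe hKcA).toEquiv)
  rw [hWc, show Nat.card (Additive A) = Nat.card A from Nat.card_congr Additive.toMul] at hbound
  -- the image is a Sylow subgroup
  have hrp : IsPGroup p f0.range := hP.of_surjective f0.rangeRestrict f0.rangeRestrict_surjective
  obtain ⟨Q, hQ⟩ := hrp.exists_le_sylow
  refine ⟨Q, f0.codRestrict _ fun g => hQ ⟨g, rfl⟩, fun q => ?_⟩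
  have hQc : Nat.card Q = p ^ (p + 1) := by
    rw [Q.card_eq_multiplicity, Nat.card_perm, Nat.card_fin, Nat.factorization_def _ hp.out, sq,
      padicValNat_factorial_mul, show p.factorial = (p * 1).factorial by rw [mul_one],
      padicValNat_factorial_mul]
    simp [add_comm]
  have heq : f0.range = (Q : Subgroup (Equiv.Perm (Fin (p ^ 2)))) := by
    refine Subgroup.eq_of_le_of_card_ge hQ ?_
    rw [hQc]
    have h1 : Nat.card f0.range * Nat.card Kc = p * Nat.card A := by
      rw [← hker, ← Subgroup.index_ker, mul_comm, Subgroup.card_mul_index,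
        ← Subgroup.card_mul_index A, hidx, mul_comm]
    refine Nat.le_of_mul_le_mul_right ?_ (Nat.card_pos (α := Kc))
    rw [h1, pow_succ', mul_assoc]
    exact Nat.mul_le_mul_left p hbound
  obtain ⟨g, hg⟩ := heq.ge q.2
  exact ⟨g, Subtype.ext hg⟩

end Cfsg.Lib.Misc.WreathImage
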