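import Cfsg.Agent.PGroups.Basic
import Mathlib

/-!
Transfer into a Sylow normalizer and the wreath product of two groups of order `p`.
-/

set_option linter.style.haveILetI false
set_option linter.unusedSectionVars false

namespace Cfsg.Lib.Misc.WreathTransfer

open Subgroup MulAction
open scoped commutatorElement

universe u v

variable {G : Type u} [Group G] [Finite G]

open Classical in
/-- extension by `1` of a homomorphism defined on a subgroup -/
noncomputable def ext' {A : Type v} [CommGroup A] {H : Subgroup G} (θ : H →* A) (y : G) : A :=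
  if h : y ∈ H then θ ⟨y, h⟩ else 1

theorem ext'_of_mem {A : Type v} [CommGroup A] {H : Subgroup G} (θ : H →* A) {y : G} (h : y ∈ H) :
    ext' θ y = θ ⟨y, h⟩ := dif_pos h

theorem ext'_of_not_mem {A : Type v} [CommGroup A] {H : Subgroup G} (θ : H →* A) {y : G}
    (h : y ∉ H) : ext' θ y = 1 := dif_neg h

theorem ext'_conj {A : Type v} [CommGroup A] {H : Subgroup G} (θ : H →* A) (y : G) {t : G}
    (ht : t ∈ H) : ext' θ (t⁻¹ * y * t) = ext' θ y := by
  by_cases h : y ∈ H
  · have h' : t⁻¹ * y * t ∈ H := mul_mem (mul_mem (inv_mem ht) h) ht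
    rw [ext'_of_mem θ h, ext'_of_mem θ h']
    have : (⟨_, h'⟩ : H) = ⟨t, ht⟩⁻¹ * ⟨y, h⟩ * ⟨t, ht⟩ := rfl
    rw [this, map_mul, map_mul, map_inv, mul_comm, ← mul_assoc, mul_inv_cancel, one_mul]
  · have h' : t⁻¹ * y * t ∉ H := fun h' => h (by
      have := mul_mem (mul_mem ht h') (inv_mem ht)
      simpa [mul_assoc] using this)
    rw [ext'_of_not_mem θ h, ext'_of_not_mem θ h']

theorem ext'_rep {A : Type v} [CommGroup A] {H : Subgroup G} (θ : H →* A) (y g : G) :
    ext' θ ((QuotientGroup.mk g : G ⧸ H).out⁻¹ * y * (QuotientGroup.mk g : G ⧸ H).out) =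
      ext' θ (g⁻¹ * y * g) := by
  obtain ⟨t, ht⟩ := QuotientGroup.mk_out_eq_mul H g
  rw [ht, mul_inv_rev]
  have : (t : G)⁻¹ * g⁻¹ * y * (g * t) = (t : G)⁻¹ * (g⁻¹ * y * g) * t := by group
  rw [this, ext'_conj θ _ t.2]

/-- the transfer at an element whose proper powers contribute nothing -/
theorem transfer_eq_prod {A : Type v} [CommGroup A] {H : Subgroup G} (θ : H →* A)
    [Fintype (G ⧸ H)] (y : G)
    (hmin : ∀ (g : G) (k : ℕ), 1 < k → k ∣ orderOf y → ext' θ (g⁻¹ * y ^ k * g) = 1) :
    MonoidHom.transfer θ y = ∏ q : G ⧸ H, ext' θ (q.out⁻¹ * y * q.out) := by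
  classical
  haveI : Fintype (Quotient (orbitRel (zpowers y) (G ⧸ H))) := Fintype.ofFinite _
  rw [MonoidHom.transfer_eq_prod_quotient_orbitRel_zpowers_quot θ y]
  have hper : ∀ ω : Quotient (orbitRel (zpowers y) (G ⧸ H)),
      Function.minimalPeriod (y • ·) ω.out = 1 ∨
        θ ⟨ω.out.out⁻¹ * y ^ Function.minimalPeriod (y • ·) ω.out * ω.out.out,
          QuotientGroup.out_conj_pow_minimalPeriod_mem H y ω.out⟩ = 1 := by
    intro ω
    set k := Function.minimalPeriod (y • ·) ω.out with hk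
    rcases Nat.lt_trichotomy k 1 with h | h | h
    · exfalso
      have hpt : Function.IsPeriodicPt (y • ·) (orderOf y) ω.out := by
        rw [Function.IsPeriodicPt, Function.IsFixedPt, smul_iterate_apply, pow_orderOf_eq_one, one_smul]
      have := hpt.minimalPeriod_pos (orderOf_pos y)
      omega
    · exact Or.inl h
    · right
      have hd : k ∣ orderOf y := by
        apply Function.IsPeriodicPt.minimalPeriod_dvd
        rw [Function.IsPeriodicPt, Function.IsFixedPt, smul_iterate_apply, pow_orderOf_eq_one, one_smul]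
      have := hmin ω.out.out k h hd
      rwa [ext'_of_mem θ (QuotientGroup.out_conj_pow_minimalPeriod_mem H y ω.out)] at this
  refine Finset.prod_bij_ne_one (fun ω _ _ => ω.out) (fun _ _ _ => Finset.mem_univ _)
    (fun a _ _ b _ _ h => Quotient.out_injective h) (fun q _ hq => ?_) (fun ω _ hω => ?_)
  · have hm : q.out⁻¹ * y * q.out ∈ H := by
      by_contra h
      exact hq (ext'_of_not_mem θ h)
    have hfix : y • q = q := by
      conv_lhs => rw [← QuotientGroup.out_eq' q]
      conv_rhs => rw [← QuotientGroup.out_eq' q]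
      rw [MulAction.Quotient.smul_mk, QuotientGroup.eq, smul_eq_mul, mul_inv_rev]
      have := inv_mem hm
      simpa [mul_assoc] using this
    have hfix' : ∀ z : zpowers y, z • q = q := fun z => by
      have : zpowers y ≤ stabilizer G q := zpowers_le.mpr hfix
      exact this z.2
    set ω : Quotient (orbitRel (zpowers y) (G ⧸ H)) := Quotient.mk'' q with hω
    have hout : ω.out = q := by
      have h1 : ω.out ∈ orbit (zpowers y) q :=
        Quotient.eq''.mp (Quotient.out_eq' ω)
      obtain ⟨z, hz⟩ := h1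
      exact hz.symm.trans (hfix' z)
    have hk : Function.minimalPeriod (y • ·) ω.out = 1 := by
      rw [hout]
      exact Function.minimalPeriod_eq_one_iff_isFixedPt.mpr hfix
    refine ⟨ω, Finset.mem_univ _, ?_, hout⟩
    have e : ω.out.out⁻¹ * y ^ Function.minimalPeriod (y • ·) ω.out * ω.out.out
        = q.out⁻¹ * y * q.out := by rw [hk, pow_one, hout]
    rw [ext'_of_mem θ hm] at hq
    convert hq using 3
  · have hk := (hper ω).resolve_right hω
    have e : ω.out.out⁻¹ * y ^ Function.minimalPeriod (y • ·) ω.out * ω.out.out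
        = ω.out.out⁻¹ * y * ω.out.out := by rw [hk, pow_one]
    rw [← e, ext'_of_mem θ (QuotientGroup.out_conj_pow_minimalPeriod_mem H y ω.out)]

variable {p : ℕ} [hp : Fact p.Prime]

/-- a shift invariant space of functions containing one of nonzero sum is everything -/
theorem submodule_eq_top (W : Submodule (ZMod p) (ZMod p → ZMod p))
    (hW : ∀ w ∈ W, (fun i => w (i + 1)) ∈ W) {v : ZMod p → ZMod p} (hv : v ∈ W)
    (hs : ∑ i, v i ≠ 0) : W = ⊤ := by
  classical
  let σ : Module.End (ZMod p) (ZMod p → ZMod p) :=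
    LinearMap.funLeft (ZMod p) (ZMod p) (fun i => i + 1)
  have hσ : ∀ (j : ℕ) (w : ZMod p → ZMod p) (i : ZMod p), (σ ^ j) w i = w (i + (j : ZMod p)) := by
    intro j
    induction j with
    | zero => intro w i; simp
    | succ j ih =>
      intro w i
      rw [pow_succ, Module.End.mul_apply, ih]
      show w (i + (j : ZMod p) + 1) = _
      rw [Nat.cast_succ, add_assoc]
  have hpoly : (Polynomial.X - 1 : Polynomial (ZMod p)) ^ (p - 1) =
      ∑ j ∈ Finset.range p, Polynomial.X ^ j := by
    have hne : (Polynomial.X - 1 : Polynomial (ZMod p)) ≠ 0 := by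
      rw [← Polynomial.C_1]; exact Polynomial.X_sub_C_ne_zero 1
    apply mul_left_cancel₀ hne
    rw [← pow_succ', Nat.sub_add_cancel hp.out.one_le, mul_comm (Polynomial.X - 1) _, geom_sum_mul,
      sub_pow_char, one_pow]
  set T : Module.End (ZMod p) (ZMod p → ZMod p) := σ - 1 with hT
  have hTsum : T ^ (p - 1) = ∑ j ∈ Finset.range p, σ ^ j := by
    have := congrArg (Polynomial.aeval σ) hpoly
    simpa [map_sum, map_pow, map_sub, hT] using this
  set c := ∑ i, v i with hc
  have hu : (T ^ (p - 1)) v = fun _ => c := by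
    funext i
    rw [hTsum, LinearMap.sum_apply, Finset.sum_apply]
    simp only [hσ]
    refine Finset.sum_bij' (fun j _ => i + (j : ZMod p)) (fun a _ => (a - i).val)
      (fun _ _ => Finset.mem_univ _) (fun a _ => Finset.mem_range.mpr (ZMod.val_lt _))
      (fun j hj => ?_) (fun a _ => ?_) (fun j _ => rfl)
    · rw [add_sub_cancel_left, ZMod.val_natCast, Nat.mod_eq_of_lt (Finset.mem_range.mp hj)]
    · rw [ZMod.natCast_zmod_val, add_sub_cancel]
  have hzero : (T ^ p) v = 0 := by
    have h1 : T ^ p = T * T ^ (p - 1) := by rw [← pow_succ', Nat.sub_add_cancel hp.out.one_le]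
    rw [h1, Module.End.mul_apply, hu]
    funext i
    show (σ - 1) (fun _ => c) i = 0
    rw [LinearMap.sub_apply, Pi.sub_apply, Module.End.one_apply]
    show c - c = 0
    rw [sub_self]
  have hmem : ∀ k : ℕ, (T ^ k) v ∈ W := by
    intro k
    induction k with
    | zero => simpa using hv
    | succ k ih =>
      rw [pow_succ', Module.End.mul_apply]
      show σ ((T ^ k) v) - (T ^ k) v ∈ W
      exact W.sub_mem (hW _ ih) ih
  have hge : ∀ m, p ≤ m → (T ^ m) v = 0 := fun m hm => by
    rw [← Nat.sub_add_cancel hm, pow_add, Module.End.mul_apply, hzero, map_zero]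
  have hind : LinearIndependent (ZMod p) (fun k : Fin p => (T ^ (k : ℕ)) v) := by
    rw [Fintype.linearIndependent_iff]
    intro g hg
    suffices ∀ (n : ℕ) (k : Fin p), (k : ℕ) = n → g k = 0 from fun k => this k k rfl
    intro n
    induction n using Nat.strong_induction_on with
    | _ n ih =>
    intro k hk
    have h := congrArg (T ^ (p - 1 - n)) hg
    rw [map_sum, map_zero, Finset.sum_eq_single k] at h
    · rw [map_smul, ← Module.End.mul_apply, ← pow_add, hk,
        Nat.sub_add_cancel (by have := k.2; omega), hu] at h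
      have h' := congrFun h 0
      simp only [Pi.smul_apply, smul_eq_mul, Pi.zero_apply] at h'
      exact (mul_eq_zero.mp h').resolve_right hs
    · intro j _ hjk
      rcases Nat.lt_or_gt_of_ne (fun e : (j : ℕ) = n => hjk (Fin.ext (e.trans hk.symm))) with h' | h'
      · rw [ih j h' j rfl, zero_smul, map_zero]
      · rw [map_smul, ← Module.End.mul_apply, ← pow_add, hge _ (by omega), smul_zero]
    · exact fun h' => absurd (Finset.mem_univ k) h'
  haveI : Nonempty (Fin p) := ⟨⟨0, hp.out.pos⟩⟩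
  have hspan := hind.span_eq_top_of_card_eq_finrank (by simp)
  rw [eq_top_iff, ← hspan, Submodule.span_le]
  rintro _ ⟨k, rfl⟩
  exact hmem k

theorem sylow_perm_card (P : Sylow p (Equiv.Perm (Fin (p ^ 2)))) :
    Nat.card (P : Subgroup (Equiv.Perm (Fin (p ^ 2)))) = p ^ (p + 1) := by
  rw [Sylow.card_eq_multiplicity, Nat.card_eq_fintype_card, Fintype.card_perm, Fintype.card_fin,
    Nat.factorization_def _ hp.out, pow_two, padicValNat_factorial_mul]
  have h1 : padicValNat p p.factorial = 1 := by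
    have := padicValNat_factorial_mul (p := p) 1
    simpa using this
  rw [h1, add_comm]

theorem wreath {X : Type u} [Group X] [Finite X] (hX : IsPGroup p X) {T : Subgroup X} (hT : T ≠ ⊤)
    [Fintype (X ⧸ T)] (θ : T →* Multiplicative (ZMod p)) (s : X)
    (hmin : ∀ (x : X) (k : ℕ), 1 < k → k ∣ orderOf s → ext' θ (x⁻¹ * s ^ k * x) = 1)
    (hprod : ∏ q : X ⧸ T, ext' θ (q.out⁻¹ * s * q.out) ≠ 1) :
    ∃ (P : Sylow p (Equiv.Perm (Fin (p ^ 2)))) (f : X →* ↥(P : Subgroup (Equiv.Perm (Fin (p ^ 2))))),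
      Function.Surjective f := by
  classical
  obtain ⟨M, hM, hTM⟩ := (eq_top_or_exists_le_coatom T).resolve_left hT
  obtain ⟨hMn, hMi⟩ := Cfsg.Lib.PGroups.coatom_normal_index hX hM
  haveI := hMn
  haveI : Fintype (X ⧸ M) := Fintype.ofFinite _
  set T' := T.subgroupOf M with hT'
  haveI : Fintype (M ⧸ T') := Fintype.ofFinite _
  set θ' : T' →* Multiplicative (ZMod p) := θ.comp (subgroupOfEquivOfLe hTM).toMonoidHom with hθ'
  set φ := MonoidHom.transfer θ' with hφ
  have hext : ∀ y : M, ext' θ' y = ext' θ (y : X) := fun y => by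
    by_cases h : (y : X) ∈ T
    · rw [ext'_of_mem θ h, ext'_of_mem θ' (show y ∈ T' from h)]
      rfl
    · rw [ext'_of_not_mem θ h, ext'_of_not_mem θ' (show y ∉ T' from h)]
  have hsM : s ∈ M := by
    by_contra hs
    refine hprod (Finset.prod_eq_one fun q _ => ext'_of_not_mem θ fun h => hs ?_)
    have := hMn.conj_mem _ (hTM h) q.out
    simpa [mul_assoc] using this
  have hblock : ∀ g : X, φ (MulAut.conjNormal g⁻¹ ⟨s, hsM⟩) =
      ∏ m : M ⧸ T', ext' θ ((m.out : X)⁻¹ * (g⁻¹ * s * g) * (m.out : X)) := by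
    intro g
    rw [hφ, transfer_eq_prod θ' _ ?_]
    · refine Finset.prod_congr rfl fun m _ => ?_
      rw [hext]
      simp [MulAut.conjNormal_apply, mul_assoc]
    · intro m k hk hd
      have ho : orderOf (MulAut.conjNormal g⁻¹ (⟨s, hsM⟩ : M)) = orderOf s := by
        rw [← Subgroup.orderOf_coe, MulAut.conjNormal_apply, inv_inv]
        exact orderOf_injective (MulAut.conj g⁻¹).toMonoidHom (MulAut.conj g⁻¹).injective s |>.symm.trans
          (by simp) |>.symm
      rw [ho] at hd
      rw [hext]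
      have := hmin (g * m) k hk hd
      rw [← this]
      congr 1
      simp only [Subgroup.coe_mul, Subgroup.coe_inv, SubmonoidClass.coe_pow, MulAut.conjNormal_apply,
        inv_inv]
      rw [show g⁻¹ * s * g = g⁻¹ * s * g⁻¹⁻¹ by rw [inv_inv], conj_pow]
      group
  -- conjugates by the powers of `x`
  obtain ⟨x, -, hx⟩ := SetLike.exists_of_lt (lt_top_iff_ne_top.mpr hM.1)
  have hinv : ∀ (g : X), g ∈ M → ∀ z : M, φ (MulAut.conjNormal g z) = φ z := fun g hg z => by
    have : MulAut.conjNormal g z = (⟨g, hg⟩ : M) * z * (⟨g, hg⟩ : M)⁻¹ := Subtype.ext (by simp)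
    rw [this, map_mul, map_mul, map_inv, mul_comm, ← mul_assoc, inv_mul_cancel, one_mul]
  let c : ℕ → (M →* Multiplicative (ZMod p)) := fun n =>
    φ.comp (MulAut.conjNormal (x ^ n)⁻¹).toMonoidHom
  have hxp : x ^ p ∈ M := hMi ▸ M.pow_index_mem x
  have hc : ∀ n z, c (n % p) z = c n z := by
    intro n z
    have hn : (x ^ (p * (n / p)))⁻¹ ∈ M := by rw [pow_mul]; exact inv_mem (pow_mem hxp _)
    show φ (MulAut.conjNormal (x ^ (n % p))⁻¹ z) = φ (MulAut.conjNormal (x ^ n)⁻¹ z)
    conv_rhs => rw [← Nat.mod_add_div n p, pow_add, mul_inv_rev, map_mul, MulAut.mul_apply]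
    rw [hinv _ hn]
  let Φ : M →* Multiplicative (ZMod p → ZMod p) :=
    { toFun := fun z => Multiplicative.ofAdd fun i => Multiplicative.toAdd (c i.val z)
      map_one' := by rw [← ofAdd_zero]; congr 1; funext i; simp
      map_mul' := fun a b => by rw [← ofAdd_add]; congr 1; funext i; simp }
  let W : Submodule (ZMod p) (ZMod p → ZMod p) :=
    { carrier := {w | ∃ z : M, Φ z = Multiplicative.ofAdd w}
      zero_mem' := ⟨1, by simp⟩
      add_mem' := fun {a b} ⟨z, hz⟩ ⟨z', hz'⟩ => ⟨z * z', by rw [map_mul, hz, hz']; rfl⟩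
      smul_mem' := fun r a ⟨z, hz⟩ => ⟨z ^ r.val, by
        rw [map_pow, hz, ← ofAdd_nsmul]
        congr 1
        funext i
        simp⟩ }
  have hW : ∀ w ∈ W, (fun i => w (i + 1)) ∈ W := by
    rintro w ⟨z, hz⟩
    refine ⟨MulAut.conjNormal x⁻¹ z, ?_⟩
    show Multiplicative.ofAdd (fun i : ZMod p => Multiplicative.toAdd (c i.val (MulAut.conjNormal x⁻¹ z))) = _
    congr 1
    funext i
    have hwi : w (i + 1) = Multiplicative.toAdd (c (i + 1).val z) := by
      have : (fun i : ZMod p => Multiplicative.toAdd (c i.val z)) = w := congrArg Multiplicative.toAdd hz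
      rw [← this]
    rw [hwi]
    congr 1
    have h1 : c i.val (MulAut.conjNormal x⁻¹ z) = c (i.val + 1) z := by
      show φ (MulAut.conjNormal (x ^ i.val)⁻¹ (MulAut.conjNormal x⁻¹ z)) =
        φ (MulAut.conjNormal (x ^ (i.val + 1))⁻¹ z)
      rw [pow_succ', mul_inv_rev, map_mul, MulAut.mul_apply]
    rw [h1, ← hc, ZMod.val_add, ZMod.val_one]
  set v : ZMod p → ZMod p := fun i => Multiplicative.toAdd (c i.val ⟨s, hsM⟩) with hv
  have hvW : v ∈ W := ⟨⟨s, hsM⟩, rfl⟩
  -- the sum is the transfer at `s`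
  have hbij : Function.Bijective (fun i : ZMod p => (QuotientGroup.mk (x ^ i.val) : X ⧸ M)) := by
    have hcard : Fintype.card (X ⧸ M) = p := by
      rw [← Nat.card_eq_fintype_card, ← Subgroup.index_eq_card, hMi]
    refine (Fintype.bijective_iff_injective_and_card _).mpr ⟨fun i j hij => ?_, by rw [hcard, ZMod.card]⟩
    have hxo : orderOf (QuotientGroup.mk x : X ⧸ M) = p :=
      orderOf_eq_prime (by rw [← QuotientGroup.mk_pow]; exact (QuotientGroup.eq_one_iff _).mpr hxp)
        fun h => hx ((QuotientGroup.eq_one_iff _).mp h)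
    have hij' : (QuotientGroup.mk x : X ⧸ M) ^ i.val = (QuotientGroup.mk x : X ⧸ M) ^ j.val := by
      simpa [QuotientGroup.mk_pow] using hij
    rw [pow_inj_mod, hxo, Nat.mod_eq_of_lt (ZMod.val_lt i), Nat.mod_eq_of_lt (ZMod.val_lt j)] at hij'
    exact ZMod.val_injective p hij'
  have hsum : ∏ q : X ⧸ T, ext' θ (q.out⁻¹ * s * q.out) =
      ∏ i : ZMod p, c i.val ⟨s, hsM⟩ := by
    set e := quotientEquivProdOfLE' hTM (fun a : X ⧸ M => a.out) (fun a => QuotientGroup.out_eq' a) with he
    rw [← e.symm.prod_comp, Fintype.prod_prod_type]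
    have hterm : ∀ a : X ⧸ M, (∏ m : M ⧸ T', ext' θ ((e.symm (a, m)).out⁻¹ * s * (e.symm (a, m)).out)) =
        φ (MulAut.conjNormal a.out⁻¹ ⟨s, hsM⟩) := by
      intro a
      rw [hblock]
      refine Finset.prod_congr rfl fun m _ => ?_
      have h1 : e.symm (a, m) = QuotientGroup.mk (a.out * (m.out : X)) := by
        conv_lhs => rw [← QuotientGroup.out_eq' m]
        rfl
      rw [h1, ext'_rep]
      congr 1
      group
    rw [Finset.prod_congr rfl fun a _ => hterm a]
    refine (Fintype.prod_bijective _ hbij _ _ fun i => ?_).symm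
    obtain ⟨t, ht⟩ := QuotientGroup.mk_out_eq_mul M (x ^ i.val)
    show φ (MulAut.conjNormal (x ^ i.val)⁻¹ ⟨s, hsM⟩) = _
    rw [ht, mul_inv_rev, map_mul, MulAut.mul_apply, hinv _ (inv_mem t.2)]
  have hvsum : ∑ i, v i ≠ 0 := by
    intro h
    apply hprod
    rw [hsum]
    apply Multiplicative.toAdd.injective
    rw [toAdd_prod, toAdd_one]
    exact h
  have hWtop := submodule_eq_top W hW hvW hvsum
  have hΦ : Function.Surjective Φ := fun w => by
    have : Multiplicative.toAdd w ∈ W := hWtop ▸ Submodule.mem_top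
    exact this
  -- the action on the cosets of the kernel
  set K' := (c 0).ker.map M.subtype with hK'
  have hc0 : Function.Surjective (c 0) := fun a => by
    obtain ⟨z, hz⟩ := hΦ (Multiplicative.ofAdd fun _ => Multiplicative.toAdd a)
    have := congrFun (congrArg Multiplicative.toAdd hz) 0
    refine ⟨z, Multiplicative.toAdd.injective ?_⟩
    simpa [Φ] using this
  have hKi : K'.index = p ^ 2 := by
    rw [hK', Subgroup.index_map_subtype, index_ker, MonoidHom.range_eq_top.mpr hc0, card_top,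
      Nat.card_congr Multiplicative.toAdd, Nat.card_zmod, hMi, sq]
  let e : (X ⧸ K') ≃ Fin (p ^ 2) :=
    (Finite.equivFinOfCardEq (by rw [← Subgroup.index_eq_card, hKi]))
  set f : X →* Equiv.Perm (Fin (p ^ 2)) :=
    e.permCongrHom.toMonoidHom.comp (MulAction.toPermHom X (X ⧸ K')) with hf
  have hker : f.ker = K'.normalCore := by
    rw [hf, normalCore_eq_ker]
    ext y
    exact map_eq_one_iff _ e.permCongrHom.injective
  have hcore : K'.normalCore ≤ Φ.ker.map M.subtype := by
    intro y hy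
    have hyM : y ∈ M := map_subtype_le _ (normalCore_le _ hy)
    refine ⟨⟨y, hyM⟩, ?_, rfl⟩
    rw [SetLike.mem_coe, MonoidHom.mem_ker]
    show Multiplicative.ofAdd (fun i : ZMod p => Multiplicative.toAdd (c i.val ⟨y, hyM⟩)) = _
    rw [← ofAdd_zero]
    congr 1
    funext i
    obtain ⟨w, hw, he⟩ : (x ^ i.val)⁻¹ * y * (x ^ i.val)⁻¹⁻¹ ∈ K' := hy (x ^ i.val)⁻¹
    have hw' : w = MulAut.conjNormal (x ^ i.val)⁻¹ ⟨y, hyM⟩ :=
      Subtype.ext (by rw [MulAut.conjNormal_apply]; exact he)
    have hw0 : φ (MulAut.conjNormal (x ^ 0)⁻¹ w) = 1 := hw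
    rw [pow_zero, inv_one, map_one, MulAut.one_apply, hw'] at hw0
    show Multiplicative.toAdd (φ (MulAut.conjNormal (x ^ i.val)⁻¹ ⟨y, hyM⟩)) = 0
    rw [hw0, toAdd_one]
  have hindex : (Φ.ker.map M.subtype).index = p ^ (p + 1) := by
    rw [Subgroup.index_map_subtype, index_ker, MonoidHom.range_eq_top.mpr hΦ, card_top,
      Nat.card_congr Multiplicative.toAdd, Nat.card_fun, Nat.card_zmod, hMi, pow_succ]
  have hle : p ^ (p + 1) ≤ Nat.card f.range := by
    rw [← index_ker, hker, ← hindex]
    exact Nat.le_of_dvd (Nat.pos_of_ne_zero index_ne_zero_of_finite) (index_dvd_of_le hcore)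
  obtain ⟨P, hP⟩ := (show IsPGroup p f.range from
    (hX.of_surjective f.rangeRestrict f.rangeRestrict_surjective)).exists_le_sylow
  have heq : f.range = (P : Subgroup (Equiv.Perm (Fin (p ^ 2)))) :=
    eq_of_le_of_card_ge hP (by rw [sylow_perm_card]; exact hle)
  refine ⟨P, (MulEquiv.subgroupCongr heq).toMonoidHom.comp f.rangeRestrict,
    (MulEquiv.subgroupCongr heq).surjective.comp f.rangeRestrict_surjective⟩

/-- a homomorphism to `Z_p` killing a proper subgroup of the Sylow part -/
theorem exists_separating {A : Type u} [CommGroup A] [Finite A] {V U : Subgroup A} (hV : IsPGroup p V)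
    (hVi : ¬ p ∣ V.index) (hU : IsPGroup p U) (hcard : Nat.card U < Nat.card V) :
    ∃ ψ : A →* Multiplicative (ZMod p), (∀ a ∈ U, ψ a = 1) ∧ ∃ a ∈ V, ψ a ≠ 1 := by
  set m := V.index with hm
  have hcop : ∀ {a : A} {k : ℕ}, a ^ p ^ k = 1 → ∀ {B : Subgroup A}, a ^ m ∈ B → a ∈ B := by
    intro a k hk B hB
    have hco : Nat.Coprime (orderOf a) m :=
      ((hp.out.coprime_iff_not_dvd.mpr hVi).pow_left k).coprime_dvd_left (orderOf_dvd_of_pow_eq_one hk)
    obtain ⟨i, hi⟩ := exists_pow_eq_self_of_coprime hco.symm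
    exact hi ▸ pow_mem hB i
  have hUV : U ≤ V := fun a ha => by
    obtain ⟨k, hk⟩ := hU ⟨a, ha⟩
    exact hcop (congrArg Subtype.val hk) (V.pow_index_mem a)
  have hne : U.subgroupOf V ≠ ⊤ := fun e => by
    rw [subgroupOf_eq_top] at e
    exact absurd (card_le_of_le e) (not_le.mpr hcard)
  obtain ⟨B, hB, hUB⟩ := (eq_top_or_exists_le_coatom (U.subgroupOf V)).resolve_left hne
  obtain ⟨hBn, hBi⟩ := Cfsg.Lib.PGroups.coatom_normal_index hV hB
  haveI := hBn
  haveI : IsCyclic (V ⧸ B) := isCyclic_of_prime_card (p := p) (by rw [← Subgroup.index_eq_card, hBi])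
  let e : V ⧸ B ≃* Multiplicative (ZMod p) :=
    mulEquivOfCyclicCardEq (by rw [← Subgroup.index_eq_card, hBi, Nat.card_congr Multiplicative.toAdd, Nat.card_zmod])
  let μ : A →* V := (powMonoidHom m).codRestrict V fun a => V.pow_index_mem a
  refine ⟨e.toMonoidHom.comp ((QuotientGroup.mk' B).comp μ), fun a ha => ?_, ?_⟩
  · have : μ a ∈ B := hUB (show a ^ m ∈ U from pow_mem ha m)
    show e (QuotientGroup.mk (μ a)) = 1
    rw [(QuotientGroup.eq_one_iff _).mpr this, map_one]
  · obtain ⟨b, -, hb⟩ := SetLike.exists_of_lt (lt_top_iff_ne_top.mpr hB.1)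
    refine ⟨b, b.2, fun h => hb ?_⟩
    have h1 : (QuotientGroup.mk (μ b) : V ⧸ B) = 1 :=
      e.injective ((show e (QuotientGroup.mk (μ b)) = 1 from h).trans e.map_one.symm)
    have h2 : μ b ∈ B := (QuotientGroup.eq_one_iff _).mp h1
    obtain ⟨k, hk⟩ := hV b
    have h3 := hcop (a := (b : A)) (congrArg Subtype.val hk) (B := B.map V.subtype) ⟨_, h2, rfl⟩
    obtain ⟨b', hb', hbe⟩ := h3
    exact Subtype.ext hbe ▸ hb'

theorem main (S : Sylow p G) (h : (S : Subgroup G) ⊓ commutator G ≠ (S : Subgroup G) ⊓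
      ⁅normalizer ((S : Subgroup G) : Set G), normalizer ((S : Subgroup G) : Set G)⁆) :
    ∃ (P : Sylow p (Equiv.Perm (Fin (p ^ 2))))
      (f : ↥(S : Subgroup G) →* ↥(P : Subgroup (Equiv.Perm (Fin (p ^ 2))))), Function.Surjective f := by
  classical
  set S0 : Subgroup G := (S : Subgroup G) with hS0
  set N := normalizer (S0 : Set G) with hN
  have hSN : S0 ≤ N := le_normalizer
  haveI : Fintype (G ⧸ N) := Fintype.ofFinite _
  haveI : Finite (Abelianization N) := Finite.of_surjective _ (QuotientGroup.mk_surjective)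
  let Θ : N →* Abelianization N := Abelianization.of
  set τ := MonoidHom.transfer Θ with hτ
  set SN : Subgroup N := S0.subgroupOf N with hSNd
  have hSNi : ¬ p ∣ SN.index := by
    have := (S.subtype hSN).not_dvd_index
    rwa [Sylow.coe_subtype] at this
  set V := SN.map Θ with hV
  have hVp : IsPGroup p V := (S.2.comap_subtype).map _
  have hΘ : Function.Surjective Θ := QuotientGroup.mk_surjective
  have hVi : ¬ p ∣ V.index := fun hd => hSNi (hd.trans (SN.index_map_dvd hΘ))
  set U := S0.map τ with hU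
  have hUp : IsPGroup p U := S.2.map _
  have hlt : Nat.card U < Nat.card V := by
    by_contra hge
    apply h
    have e1 : ((Θ.comp (inclusion hSN))).ker = (⁅N, N⁆).subgroupOf S0 := by
      ext z
      rw [MonoidHom.mem_ker, mem_subgroupOf, ← map_subtype_commutator]
      constructor
      · intro hz
        exact ⟨⟨z, hSN z.2⟩, (QuotientGroup.eq_one_iff _).mp hz, rfl⟩
      · rintro ⟨w, hw, he⟩
        have : inclusion hSN z = w := Subtype.ext he.symm
        show Θ (inclusion hSN z) = 1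
        rw [this]
        exact (QuotientGroup.eq_one_iff _).mpr hw
    have e2 : V = (Θ.comp (inclusion hSN)).range := by
      rw [MonoidHom.range_comp, Subgroup.inclusion_range]
    have h1 : (commutator G).subgroupOf S0 ≤ (τ.comp S0.subtype).ker := fun z hz =>
      Abelianization.commutator_subset_ker τ hz
    have h2 : (⁅N, N⁆).subgroupOf S0 ≤ (commutator G).subgroupOf S0 := fun z hz =>
      (commutator_mono le_top le_top : ⁅N, N⁆ ≤ ⁅(⊤ : Subgroup G), ⊤⁆) hz
    have h3 : ((commutator G).subgroupOf S0).index ≥ (⁅N, N⁆.subgroupOf S0).index := by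
      calc (⁅N, N⁆.subgroupOf S0).index = Nat.card V := by rw [← e1, index_ker, ← e2]
        _ ≤ Nat.card U := not_lt.mp hge
        _ = (τ.comp S0.subtype).ker.index := by rw [index_ker, MonoidHom.range_comp, range_subtype]
        _ ≤ _ := Nat.le_of_dvd (Nat.pos_of_ne_zero index_ne_zero_of_finite) (index_dvd_of_le h1)
    have h4 : (⁅N, N⁆).subgroupOf S0 = (commutator G).subgroupOf S0 := by
      by_contra hne
      exact absurd (index_strictAnti (lt_of_le_of_ne h2 hne)) (not_lt.mpr h3)
    have := congrArg (Subgroup.map S0.subtype) h4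
    rw [subgroupOf_map_subtype, subgroupOf_map_subtype, inf_comm, inf_comm (commutator G)] at this
    exact this.symm
  obtain ⟨ψ, hψU, a, haV, hψa⟩ := exists_separating hVp hVi hUp hlt
  set θ := ψ.comp Θ with hθ
  obtain ⟨a', ha', rfl⟩ := haV
  haveI : Nonempty {y : G // y ∈ S0 ∧ ext' θ y ≠ 1} :=
    ⟨⟨(a' : G), ha', by rw [ext'_of_mem θ a'.2]; exact hψa⟩⟩
  obtain ⟨⟨s, hs1, hs2⟩, hsmin⟩ := Finite.exists_min
    (fun y : {y : G // y ∈ S0 ∧ ext' θ y ≠ 1} => orderOf (y : G))
  have hsmall : ∀ (g : G) (k : ℕ), 1 < k → k ∣ orderOf s → ext' θ (g⁻¹ * s ^ k * g) = 1 := by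
    intro g k hk hd
    by_contra hne
    have hmem : g⁻¹ * s ^ k * g ∈ N := by
      by_contra hm; exact hne (ext'_of_not_mem θ hm)
    have hS : g⁻¹ * s ^ k * g ∈ S0 := by
      haveI : SN.Normal := (normal_subgroupOf_iff_le_normalizer hSN).mpr le_rfl
      obtain ⟨i, hi⟩ := S.2 ⟨s ^ k, pow_mem hs1 k⟩
      have hi' : (g⁻¹ * s ^ k * g) ^ p ^ i = 1 := by
        have h' : (s ^ k) ^ p ^ i = 1 := congrArg Subtype.val hi
        rw [show g⁻¹ * s ^ k * g = g⁻¹ * s ^ k * g⁻¹⁻¹ by rw [inv_inv], conj_pow, h', mul_one,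
          mul_inv_cancel]
      set w : N := ⟨_, hmem⟩
      have hw : (QuotientGroup.mk w : N ⧸ SN) = 1 := by
        have hp1 : (QuotientGroup.mk w : N ⧸ SN) ^ p ^ i = 1 := by
          rw [← QuotientGroup.mk_pow, (show w ^ p ^ i = 1 from Subtype.ext hi'), QuotientGroup.mk_one]
        have hco : (p ^ i).Coprime (Nat.card (N ⧸ SN)) := by
          rw [← Subgroup.index_eq_card]
          exact (hp.out.coprime_iff_not_dvd.mpr hSNi).pow_left i
        exact orderOf_eq_one_iff.mp (Nat.eq_one_of_dvd_coprimes hco (orderOf_dvd_of_pow_eq_one hp1)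
          (orderOf_dvd_natCard _))
      exact mem_subgroupOf.mp ((QuotientGroup.eq_one_iff w).mp hw)
    have hle := hsmin ⟨_, hS, hne⟩
    have ho : orderOf (g⁻¹ * s ^ k * g) = orderOf (s ^ k) := by
      rw [← orderOf_injective (MulAut.conj g⁻¹).toMonoidHom (MulAut.conj g⁻¹).injective (s ^ k)]
      simp
    rw [show ((⟨_, hS, hne⟩ : {y : G // y ∈ S0 ∧ ext' θ y ≠ 1}) : G) = g⁻¹ * s ^ k * g from rfl, ho,
      orderOf_pow' _ (by omega), Nat.gcd_eq_right hd] at hle
    exact absurd hle (not_le.mpr (Nat.div_lt_self (orderOf_pos s) hk))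
  -- the orbit of `S` with nontrivial contribution
  let F : G ⧸ N → Multiplicative (ZMod p) := fun q => ext' θ (q.out⁻¹ * s * q.out)
  have hF : ∏ q, F q = 1 := by
    show ∏ q : G ⧸ N, ext' θ (q.out⁻¹ * s * q.out) = 1
    rw [← transfer_eq_prod θ s hsmall]
    have hcomp : MonoidHom.transfer θ s = ψ (τ s) := by
      simp [hτ, hθ, MonoidHom.transfer_def _ (default : N.LeftTransversal),
        Subgroup.leftTransversals.diff, map_prod]
    rw [hcomp]
    exact hψU _ (mem_map_of_mem _ hs1)
  let o : G ⧸ N → Quotient (orbitRel S0 (G ⧸ N)) := Quotient.mk''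
  haveI : Fintype (Quotient (orbitRel S0 (G ⧸ N))) := Fintype.ofFinite _
  set q1 : G ⧸ N := QuotientGroup.mk 1 with hq1
  have hfix1 : ∀ z : S0, z • q1 = q1 := fun z => by
    show (QuotientGroup.mk ((z : G) * 1) : G ⧸ N) = QuotientGroup.mk 1
    rw [QuotientGroup.eq, mul_one, mul_one]
    exact inv_mem (hSN z.2)
  have hfib1 : ∏ q with o q = o q1, F q = ext' θ s := by
    rw [Finset.prod_eq_single q1]
    · show ext' θ ((QuotientGroup.mk 1 : G ⧸ N).out⁻¹ * s * (QuotientGroup.mk 1 : G ⧸ N).out) = _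
      rw [ext'_rep, inv_one, one_mul, mul_one]
    · intro q hq hne
      have : q ∈ orbit S0 q1 := Quotient.eq''.mp (Finset.mem_filter.mp hq).2
      obtain ⟨z, hz⟩ := this
      exact absurd (hz.symm.trans (hfix1 z)) hne
    · simp
  obtain ⟨ω, hω1, hω⟩ : ∃ ω, ω ≠ o q1 ∧ ∏ q with o q = ω, F q ≠ 1 := by
    by_contra hno
    rw [← Finset.prod_fiberwise Finset.univ o F, Finset.prod_eq_single (o q1)
      (fun ω _ hne => not_not.mp fun hh => hno ⟨ω, hne, hh⟩) (fun hh => absurd (Finset.mem_univ _) hh),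
      hfib1] at hF
    exact hs2 hF
  obtain ⟨q, rfl⟩ := Quotient.mk''_surjective ω
  set g := q.out with hg
  set T := stabilizer S0 q with hT
  have hmemT : ∀ z : S0, z ∈ T ↔ g⁻¹ * z * g ∈ N := fun z => by
    rw [hT, mem_stabilizer_iff]
    conv_lhs => rw [← QuotientGroup.out_eq' q]
    show (QuotientGroup.mk ((z : G) * g) : G ⧸ N) = QuotientGroup.mk g ↔ _
    rw [QuotientGroup.eq, mul_inv_rev]
    constructor
    · intro hh
      have := inv_mem hh
      simpa [mul_assoc] using this
    · intro hh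
      have := inv_mem hh
      simpa [mul_assoc] using this
  have hTne : T ≠ ⊤ := by
    intro hT'
    apply hω1
    have hgN : g ∈ N := by
      have hsub : S0.map (MulAut.conj g⁻¹).toMonoidHom ≤ N := by
        rintro _ ⟨z, hz, rfl⟩
        have := (hmemT ⟨z, hz⟩).mp (hT' ▸ mem_top _)
        simpa using this
      have hle : S0.map (MulAut.conj g⁻¹).toMonoidHom ≤ S0 := by
        haveI hn : SN.Normal := (normal_subgroupOf_iff_le_normalizer hSN).mpr le_rfl
        haveI := Sylow.unique_of_normal (S.subtype hSN) (by rwa [Sylow.coe_subtype])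
        obtain ⟨Q, hQ⟩ := ((S.2.map _ : IsPGroup p (S0.map (MulAut.conj g⁻¹).toMonoidHom)).of_equiv
          (subgroupOfEquivOfLe hsub).symm : IsPGroup p _).exists_le_sylow
        rw [Subsingleton.elim Q (S.subtype hSN), Sylow.coe_subtype] at hQ
        intro w hw
        exact hQ (show (⟨w, hsub hw⟩ : N) ∈ (S0.map _).subgroupOf N from hw)
      have heq := eq_of_le_of_card_ge hle (card_map_of_injective (MulAut.conj g⁻¹).injective).ge
      have hginv : g⁻¹ ∈ N := by
        rw [hN, mem_normalizer_iff]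
        intro z
        constructor
        · intro hz
          rw [← heq]
          exact ⟨z, hz, rfl⟩
        · intro hz
          rw [← heq] at hz
          obtain ⟨z', hz', e⟩ := hz
          rwa [show z' = z from (MulAut.conj g⁻¹).injective e] at hz'
      exact inv_inv g ▸ inv_mem hginv
    show o q = o q1
    congr 1
    rw [← QuotientGroup.out_eq' q, hq1, QuotientGroup.eq, mul_one]
    exact inv_mem hgN
  let c : T →* N := MonoidHom.codRestrict
    ((MulAut.conj g⁻¹).toMonoidHom.comp (S0.subtype.comp T.subtype)) N fun z => by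
      simpa using (hmemT z).mp z.2
  set θ1 := θ.comp c with hθ1
  have hext : ∀ z : S0, ext' θ1 z = ext' θ (g⁻¹ * z * g) := fun z => by
    by_cases hz : z ∈ T
    · rw [ext'_of_mem θ1 hz, ext'_of_mem θ ((hmemT z).mp hz), hθ1, MonoidHom.comp_apply]
      congr 1
      exact Subtype.ext (by simp [c])
    · rw [ext'_of_not_mem θ1 hz, ext'_of_not_mem θ fun h' => hz ((hmemT z).mpr h')]
  haveI : Fintype (S0 ⧸ T) := Fintype.ofFinite _
  refine wreath S.2 hTne θ1 ⟨s, hs1⟩ (fun z k hk hd => ?_) ?_
  · rw [Subgroup.orderOf_mk] at hd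
    rw [hext, ← hsmall (z * g) k hk hd]
    congr 1
    simp [mul_assoc]
  · intro h1
    apply hω
    let e : (S0 ⧸ T) ≃ {r : G ⧸ N // o r = o q} :=
      (orbitEquivQuotientStabilizer S0 q).symm.trans
        (Equiv.subtypeEquivRight fun r => ⟨fun hr => Quotient.eq''.mpr hr, fun hr => Quotient.eq''.mp hr⟩)
    rw [Finset.prod_subtype (p := fun r => o r = o q) _ (by simp [o]) F, ← e.prod_comp, ← h1]
    refine Finset.prod_congr rfl fun z _ => ?_
    have he : ((e z) : G ⧸ N) = QuotientGroup.mk ((z.out : G) * g) := by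
      conv_lhs => rw [← QuotientGroup.out_eq' z]
      show (((orbitEquivQuotientStabilizer S0 q).symm (z.out : S0 ⧸ T)) : G ⧸ N) = _
      rw [orbitEquivQuotientStabilizer_symm_apply]
      conv_lhs => rw [← QuotientGroup.out_eq' q]
      rfl
    show ext' θ ((e z : G ⧸ N).out⁻¹ * s * (e z : G ⧸ N).out) = _
    rw [he, ext'_rep, hext]
    congr 1
    simp [mul_assoc]

end Cfsg.Lib.Misc.WreathTransfer
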