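import Cfsg.Agent.Components.Misc.PIrr
import Cfsg.Agent.InvolCalc.StronglyEmbedded
import Cfsg.Agent.Transfer.IndexPrimeTo
import Cfsg.Prelude.Def_LocalStructure

/-!
Y-minimal groups.
-/

set_option linter.style.haveILetI false
set_option linter.unusedSectionVars false

namespace Cfsg.Lib.YMin

open Subgroup
open scoped commutatorElement

universe u

variable {L : Type u} [Group L] [Finite L] {p : ℕ} [hp : Fact p.Prime]
variable {L₀ Y : Subgroup L}

theorem le_of_mem (hL₀ : IsCoatom L₀) (hY₀ : Y ≤ L₀) (hmin : Cfsg.IsMinimalOver Y) {X : Subgroup L}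
    (hX : X ≠ ⊤) (hYX : Y ≤ X) : X ≤ L₀ := by
  obtain ⟨-, M, -, huniq⟩ := hmin
  obtain ⟨M', hM', hle⟩ := (eq_top_or_exists_le_coatom X).resolve_left hX
  rw [huniq L₀ ⟨hL₀, hY₀⟩, ← huniq M' ⟨hM', hYX.trans hle⟩]
  exact hle

theorem eq_top_of_normal (hmin : Cfsg.IsMinimalOver Y) {X : Subgroup L} (hX : X.Normal) (hYX : Y ≤ X) : X = ⊤ :=
  top_le_iff.1 (hmin.1 ▸ normalClosure_le_normal (SetLike.coe_subset_coe.mpr hYX))

theorem normalizer_L0 (hL₀ : IsCoatom L₀) (hY₀ : Y ≤ L₀) (hmin : Cfsg.IsMinimalOver Y) :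
    normalizer (L₀ : Set L) = L₀ := by
  rcases hL₀.le_iff.1 le_normalizer with h | h
  · exact absurd (eq_top_of_normal hmin (normalizer_eq_top_iff.1 h) hY₀) hL₀.1
  · exact h

theorem basic (hL₀ : IsCoatom L₀) (T : Sylow p L₀) (hYT : Y ≤ (T : Subgroup L₀).map L₀.subtype)
    (hmin : Cfsg.IsMinimalOver Y) :
    normalizer (((T : Subgroup L₀).map L₀.subtype : Subgroup L) : Set L) ≤ L₀ ∧ Cfsg.pCore p L ≤ L₀ ∧
      (∃ P : Sylow p L, (P : Subgroup L) = (T : Subgroup L₀).map L₀.subtype) := by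
  set T' := (T : Subgroup L₀).map L₀.subtype
  have hY₀ : Y ≤ L₀ := hYT.trans (map_subtype_le _)
  have hN : normalizer (T' : Set L) ≤ L₀ := le_of_mem hL₀ hY₀ hmin (fun h => hL₀.1 (top_le_iff.1
    ((eq_top_of_normal hmin (normalizer_eq_top_iff.1 h) hYT).ge.trans (map_subtype_le _)))) (hYT.trans le_normalizer)
  obtain ⟨P, hP⟩ : ∃ P : Sylow p L, (P : Subgroup L) = T' := by
    refine Cfsg.Lib.StrongEmb.sylow_of_normalizer_le (T.2.map _) L₀ (map_subtype_le _) (fun Z hZ hTZ hZL => ?_) hN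
    have h1 : (T : Subgroup L₀) ≤ Z.subgroupOf L₀ := fun x hx => hTZ ⟨x, hx, rfl⟩
    show Z = (T : Subgroup L₀).map L₀.subtype
    rw [← T.3 hZ.comap_subtype h1]
    exact (map_subgroupOf_eq_of_le hZL).symm
  refine ⟨hN, ?_, P, hP⟩
  have := Cfsg.Lib.Coprime.pCore_le_sylow p P
  rw [hP] at this
  exact this.trans (map_subtype_le _)

/-- a supplement of a normal subgroup of `L₀` containing its Sylow subgroup is everything -/
theorem eq_top_of_sup (hL₀ : IsCoatom L₀) (T : Sylow p L) (hT₀ : (T : Subgroup L) ≤ L₀)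
    (hYT : Y ≤ (T : Subgroup L)) (hmin : Cfsg.IsMinimalOver Y) (N : Subgroup L) [N.Normal] (hN : N ≤ L₀)
    (X : Subgroup L) (hsup : N ⊔ X = ⊤) (hX : (T : Subgroup L) ⊓ N ≤ X) : X = ⊤ := by
  by_contra hne
  obtain ⟨A, hA⟩ := Cfsg.Lib.Transfer.exists_sylow_subgroupOf T N
  have hidx : ¬ p ∣ X.index := by
    have h2 := Cfsg.Lib.Transfer.relIndex_eq_relIndex_sup_of_normal X N
    rw [show X ⊔ N = ⊤ from sup_comm X N ▸ hsup, relIndex_top_right] at h2
    rw [← h2]
    have h4 : X.relIndex N ∣ (A : Subgroup N).index := by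
      show (X.subgroupOf N).index ∣ (A : Subgroup N).index
      refine index_dvd_of_le ?_
      rw [hA]
      exact fun x hx => hX (mem_inf.mpr ⟨hx, x.2⟩)
    exact fun hd => A.not_dvd_index (hd.trans h4)
  obtain ⟨S⟩ : Nonempty (Sylow p X) := inferInstance
  have hS : ¬ p ∣ ((S : Subgroup X).map X.subtype).index := by
    rw [index_map_of_injective _ X.subtype_injective, range_subtype]
    exact hp.out.not_dvd_mul S.not_dvd_index hidx
  obtain ⟨l, hl⟩ := MulAction.exists_smul_eq L T ((S.2.map X.subtype).toSylow hS)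
  obtain ⟨x, hx, n, hn, rfl⟩ := mem_sup_of_normal_right.1 ((sup_comm N X ▸ hsup).ge (mem_top l))
  have hTX : ∀ t ∈ (T : Subgroup L), n * t * n⁻¹ ∈ X := by
    intro t ht
    have h1 : (x * n) * t * (x * n)⁻¹ ∈ (S : Subgroup X).map X.subtype := by
      have : (x * n) * t * (x * n)⁻¹ ∈ (((x * n) • T : Sylow p L) : Subgroup L) := by
        rw [Cfsg.Lib.Transfer.sylow_smul_coe]
        exact ⟨t, ht, rfl⟩
      rw [hl] at this
      exact this
    have h2 := mul_mem (mul_mem (inv_mem hx) (map_subtype_le _ h1)) hx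
    rwa [show x⁻¹ * ((x * n) * t * (x * n)⁻¹) * x = n * t * n⁻¹ by group] at h2
  set X' := X.map (MulAut.conj n⁻¹).toMonoidHom
  have hX' : X' ≠ ⊤ := fun h => hne (eq_top_iff.2 fun w _ => by
    obtain ⟨z, hz, hzw⟩ := h.ge (mem_top (n⁻¹ * w * n))
    have hzw' : n⁻¹ * z * n = n⁻¹ * w * n := by simpa using hzw
    rwa [mul_left_cancel (mul_right_cancel hzw')] at hz)
  have hle : X' ≤ L₀ := le_of_mem hL₀ (hYT.trans hT₀) hmin hX' fun y hy =>
    ⟨n * y * n⁻¹, hTX y (hYT hy), by simp [mul_assoc]⟩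
  refine hL₀.1 (top_le_iff.1 (hsup.ge.trans (sup_le hN fun z hz => ?_)))
  have := mul_mem (mul_mem (hN hn) (hle ⟨z, hz, rfl⟩)) (inv_mem (hN hn))
  simpa [mul_assoc] using this

theorem sylow_inf_le_pCore (hL₀ : IsCoatom L₀) (T : Sylow p L) (hT₀ : (T : Subgroup L) ≤ L₀)
    (hYT : Y ≤ (T : Subgroup L)) (hmin : Cfsg.IsMinimalOver Y) (N : Subgroup L) [N.Normal] (hN : N ≤ L₀) :
    (T : Subgroup L) ⊓ N ≤ Cfsg.pCore p L := by
  obtain ⟨A, hA⟩ := Cfsg.Lib.Transfer.exists_sylow_subgroupOf T N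
  have h1 := Sylow.normalizer_sup_eq_top A
  have hmap : (A : Subgroup N).map N.subtype = (T : Subgroup L) ⊓ N := by rw [hA, subgroupOf_map_subtype]
  rw [hmap] at h1
  have h2 := eq_top_of_sup hL₀ T hT₀ hYT hmin N hN _ (by rwa [sup_comm]) le_normalizer
  exact Cfsg.Lib.PIrr.le_pCore' (hM := normalizer_eq_top_iff.1 h2) (T.2.to_le inf_le_left)

theorem structure_normal (hL₀ : IsCoatom L₀) (T : Sylow p L) (hT₀ : (T : Subgroup L) ≤ L₀)
    (hYT : Y ≤ (T : Subgroup L)) (hmin : Cfsg.IsMinimalOver Y) (N : Subgroup L) [hNn : N.Normal] (hN : N ≤ L₀) :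
    Cfsg.IsPClosed p N ∧ Group.IsNilpotent (N ⧸ Cfsg.pCore p N) ∧ (Nat.card (N ⧸ Cfsg.pCore p N)).Coprime p := by
  haveI : (Cfsg.pCore p L).Normal := Cfsg.Lib.Components.pCore_normal' p
  haveI : (Cfsg.pCore p N).Normal := Cfsg.Lib.Components.pCore_normal' p
  have hTN := sylow_inf_le_pCore hL₀ T hT₀ hYT hmin N hN
  have hcl : Cfsg.IsPClosed p N := (Cfsg.Lib.PIrr.isPClosed_iff T).2 hTN
  obtain ⟨A, hA⟩ := Cfsg.Lib.Transfer.exists_sylow_subgroupOf T N
  have hAcore : (A : Subgroup N) = Cfsg.pCore p N :=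
    le_antisymm (Cfsg.Lib.PIrr.le_pCore' (hM := hcl A) A.2) (Cfsg.Lib.Coprime.pCore_le_sylow p A)
  refine ⟨hcl, ?_, ?_⟩
  swap
  · have h : ¬ p ∣ (Cfsg.pCore p N).index := hAcore ▸ A.not_dvd_index
    rw [index_eq_card] at h
    exact (hp.out.coprime_iff_not_dvd.2 h).symm
  refine (isNilpotent_of_finite_tfae (G := N ⧸ Cfsg.pCore p N)).out 3 0 |>.1 ?_
  intro q hq Q
  set π := QuotientGroup.mk' (Cfsg.pCore p N)
  obtain ⟨R, hR⟩ := Sylow.mapSurjective_surjective (QuotientGroup.mk'_surjective (Cfsg.pCore p N)) q Q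
  subst hR
  set R' := ((R : Subgroup N) ⊔ Cfsg.pCore p N).map N.subtype
  haveI : R'.Normal := by
    refine normalizer_eq_top_iff.1 (eq_top_of_sup hL₀ T hT₀ hYT hmin N hN _ ?_ ?_)
    · refine eq_top_iff.2 ((Sylow.normalizer_sup_eq_top R).ge.trans (sup_le ?_ le_sup_left))
      refine le_trans (fun x hx => ?_) le_sup_right
      refine mem_normalizer_iff_map_conj_eq.2 ?_
      haveI : ((Cfsg.pCore p N).map N.subtype).Normal := by
        haveI := Sylow.characteristic_of_normal A (hcl A)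
        rw [← hAcore]
        exact ConjAct.normal_of_characteristic_of_normal
      simp only [R', Subgroup.map_sup]
      rw [mem_normalizer_iff_map_conj_eq.1 hx]
      congr 1
      exact mem_normalizer_iff_map_conj_eq.1 ((normalizer_eq_top_iff.2 inferInstance).ge (mem_top x))
    · refine le_trans ?_ le_normalizer
      intro x hx
      exact ⟨⟨x, (mem_inf.1 hx).2⟩, mem_sup_right (hAcore.le (hA.ge (mem_inf.1 hx).1)), rfl⟩
  have hRn : ((R : Subgroup N) ⊔ Cfsg.pCore p N).Normal := by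
    have h : R'.subgroupOf N = (R : Subgroup N) ⊔ Cfsg.pCore p N := comap_map_eq_self_of_injective N.subtype_injective _
    rw [← h]; infer_instance
  have h := Normal.map hRn π (QuotientGroup.mk'_surjective _)
  have e : ((R : Subgroup N) ⊔ Cfsg.pCore p N).map π = (R : Subgroup N).map π := by
    rw [Subgroup.map_sup, QuotientGroup.map_mk'_self, sup_bot_eq]
  rw [e] at h
  exact h

theorem core_eq_frattini (hL₀ : IsCoatom L₀) (T : Sylow p L) (hT₀ : (T : Subgroup L) ≤ L₀)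
    (hYT : Y ≤ (T : Subgroup L)) (hmin : Cfsg.IsMinimalOver Y) [(Cfsg.pCore p L).Normal] :
    Cfsg.pCore p L ≤ L₀.normalCore ∧
      (L₀.normalCore).map (QuotientGroup.mk' (Cfsg.pCore p L)) = frattini (L ⧸ Cfsg.pCore p L) := by
  set O := Cfsg.pCore p L
  set π := QuotientGroup.mk' O
  have hπ : Function.Surjective π := QuotientGroup.mk'_surjective O
  have hO₀ : O ≤ L₀ := (Cfsg.Lib.Coprime.pCore_le_sylow p T).trans hT₀
  have hOD : O ≤ L₀.normalCore := normal_le_normalCore.2 hO₀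
  have hπc : ∀ K : Subgroup L, O ≤ K → (K.map π).comap π = K := fun K hK => by
    rw [comap_map_eq, QuotientGroup.ker_mk', sup_eq_left.2 hK]
  refine ⟨hOD, le_antisymm ?_ ?_⟩
  · rw [frattini, Order.radical]
    refine le_iInf₂ fun M hM => ?_
    by_contra hle
    set M' := M.comap π
    have hne : ¬ L₀.normalCore ≤ M' := fun h => hle (map_le_iff_le_comap.2 h)
    have hM' : M' ≠ ⊤ := fun h => hM.1 (by rw [← map_comap_eq_self_of_surjective hπ M]; show M'.map π = ⊤; rw [h, map_top_of_surjective π hπ])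
    have hsup : L₀.normalCore ⊔ M' = ⊤ := by
      have hOM : O ≤ M' := fun x hx => by
        show π x ∈ M
        rw [show π x = 1 from (QuotientGroup.eq_one_iff x).2 hx]; exact one_mem M
      rw [← hπc (L₀.normalCore ⊔ M') (hOM.trans le_sup_right), hM.2 _ (lt_of_le_of_ne
        ((map_comap_eq_self_of_surjective hπ M).ge.trans (map_mono le_sup_right)) fun h => hne ?_), comap_top]
      calc L₀.normalCore ≤ L₀.normalCore ⊔ M' := le_sup_left
        _ = M' := by rw [← hπc (L₀.normalCore ⊔ M') (hOM.trans le_sup_right), ← h]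
    refine hM' (eq_top_of_sup hL₀ T hT₀ hYT hmin L₀.normalCore (normalCore_le L₀) M' hsup ?_)
    intro x hx
    show π x ∈ M
    rw [show π x = 1 from (QuotientGroup.eq_one_iff x).2
      (sylow_inf_le_pCore hL₀ T hT₀ hYT hmin L₀.normalCore (normalCore_le L₀) hx)]
    exact one_mem M
  · have hco : IsCoatom (L₀.map π) := by
      refine ⟨fun h => hL₀.1 ?_, fun K hK => ?_⟩
      · rw [← hπc L₀ hO₀, h, comap_top]
      · have h1 : L₀ < K.comap π := by
          rw [← hπc L₀ hO₀]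
          exact (comap_lt_comap_of_surjective hπ).2 hK
        rw [← map_comap_eq_self_of_surjective hπ K, hL₀.2 _ h1, map_top_of_surjective π hπ]
    rw [← map_comap_eq_self_of_surjective hπ (frattini (L ⧸ O))]
    refine map_mono (normal_le_normalCore.2 ?_)
    rw [← hπc L₀ hO₀]
    exact comap_mono (Order.radical_le_coatom hco)

end Cfsg.Lib.YMin
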